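import Mathlib
import Cfsg.Agent.Helper16.ModDefs

/-!
# (M-D) EXIST of the defect-one engine (board #4986, for helper16)

For a representation `τ` of `N ≤ G` on which a subgroup `P ≤ N` of order divisible by `p`
acts trivially (characteristic `p`), some irreducible representation of `G` admits an `N`-map
to `τ` that is not an `N`-trace.
-/

set_option autoImplicit false

namespace Cfsg.Agent.Helper97.ModExist

open Representation Cfsg.Agent.Helper16

universe u v

section TraceZero

variable {k : Type v} [Field k] {N : Type u} [Group N] [Fintype N]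
variable {T : Type*} [AddCommGroup T] [Module k T]

/-- if a subgroup of order divisible by the characteristic acts trivially, all traces vanish -/
theorem repTr_eq_zero_of_trivial (p : ℕ) [Fact p.Prime] [CharP k p] (P : Subgroup N)
    (hP : p ∣ Nat.card P) (τ : Representation k N T) (hτP : ∀ x ∈ P, τ x = 1)
    (β : T →ₗ[k] T) : repTr τ τ β = 0 := by
  classical
  have : Fintype P := Fintype.ofFinite P
  ext t
  rw [repTr_apply, LinearMap.zero_apply, ← (cosetProdEquiv P).sum_comp, Fintype.sum_prod_type]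
  have h1 : ∀ (q : N ⧸ P) (x : P),
      τ (cosetProdEquiv P (q, x)) (β (τ (cosetProdEquiv P (q, x))⁻¹ t)) =
        τ q.out (β (τ q.out⁻¹ t)) := by
    intro q x
    have e : (cosetProdEquiv P (q, x) : N) = q.out * (x : N) := rfl
    rw [e, map_mul, mul_inv_rev, map_mul, hτP x x.2, hτP _ (P.inv_mem x.2)]
    simp
  simp_rw [h1]
  simp only [Finset.sum_const, Finset.card_univ]
  have h2 : (Fintype.card P : k) = 0 := by
    rw [CharP.cast_eq_zero_iff k p, ← Nat.card_eq_fintype_card]
    exact hP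
  rw [← Finset.smul_sum, ← Nat.cast_smul_eq_nsmul k, h2, zero_smul]

theorem not_isRepTrace_id (p : ℕ) [Fact p.Prime] [CharP k p] (P : Subgroup N)
    (hP : p ∣ Nat.card P) [Nontrivial T] (τ : Representation k N T) (hτP : ∀ x ∈ P, τ x = 1) :
    ¬ IsRepTrace τ τ (LinearMap.id : T →ₗ[k] T) := by
  rintro ⟨β, hβ⟩
  rw [repTr_eq_zero_of_trivial p P hP τ hτP β] at hβ
  obtain ⟨t, ht⟩ := exists_ne (0 : T)
  apply ht
  have := LinearMap.congr_fun hβ t
  simpa using this.symm

end TraceZero


section Coind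

variable {k : Type v} [Field k] {G : Type u} [Group G]
variable (N : Subgroup G)
variable {T : Type u} [AddCommGroup T] [Module k T]
variable (τ : Representation k N T)

/-- evaluation at `1` on the coinduced module -/
def evalOne : coindV N.subtype τ →ₗ[k] T where
  toFun f := f.1 1
  map_add' _ _ := rfl
  map_smul' _ _ := rfl

theorem evalOne_comm (n : N) :
    evalOne N τ ∘ₗ ((coind N.subtype τ).comp N.subtype) n = τ n ∘ₗ evalOne N τ := by
  ext f
  show (f.1) (1 * (n : G)) = τ n (f.1 1)
  have := f.2 n 1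
  simpa using this

open Classical in
/-- the section of `evalOne` -/
noncomputable def sectOne : T →ₗ[k] coindV N.subtype τ where
  toFun t := ⟨fun g => if h : g ∈ N then τ ⟨g, h⟩ t else 0, by
    intro n g
    by_cases hg : g ∈ N
    · have hng : N.subtype n * g ∈ N := N.mul_mem n.2 hg
      simp only [dif_pos hng, dif_pos hg]
      have e : (⟨N.subtype n * g, hng⟩ : N) = n * ⟨g, hg⟩ := rfl
      rw [e, map_mul]
      rfl
    · have hng : N.subtype n * g ∉ N := by
        intro h
        apply hg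
        have := N.mul_mem (N.inv_mem n.2) h
        simpa using this
      simp only [dif_neg hng, dif_neg hg, map_zero]⟩
  map_add' a b := by
    apply Subtype.ext
    funext g
    by_cases hg : g ∈ N
    · simp [dif_pos hg]
    · simp [dif_neg hg]
  map_smul' c a := by
    apply Subtype.ext
    funext g
    by_cases hg : g ∈ N
    · simp [dif_pos hg]
    · simp [dif_neg hg]

theorem sectOne_apply_coe (t : T) (g : G) (hg : g ∈ N) :
    (sectOne N τ t).1 g = τ ⟨g, hg⟩ t := by
  classical
  show (if h : g ∈ N then τ ⟨g, h⟩ t else 0) = _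
  rw [dif_pos hg]

theorem sectOne_apply_not_mem (t : T) (g : G) (hg : g ∉ N) :
    (sectOne N τ t).1 g = 0 := by
  classical
  show (if h : g ∈ N then τ ⟨g, h⟩ t else 0) = _
  rw [dif_neg hg]

theorem evalOne_comp_sectOne : evalOne N τ ∘ₗ sectOne N τ = LinearMap.id := by
  ext t
  show (sectOne N τ t).1 1 = t
  rw [sectOne_apply_coe N τ t 1 N.one_mem]
  have : (⟨1, N.one_mem⟩ : N) = 1 := rfl
  rw [this, map_one]
  rfl

theorem sectOne_comm (n : N) :
    sectOne N τ ∘ₗ τ n = ((coind N.subtype τ).comp N.subtype) n ∘ₗ sectOne N τ := by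
  ext t g
  show (sectOne N τ (τ n t)).1 g = (sectOne N τ t).1 (g * (n : G))
  by_cases hg : g ∈ N
  · have hgn : g * (n : G) ∈ N := N.mul_mem hg n.2
    rw [sectOne_apply_coe N τ _ g hg, sectOne_apply_coe N τ _ _ hgn]
    have e : (⟨g * (n : G), hgn⟩ : N) = ⟨g, hg⟩ * n := rfl
    rw [e, map_mul]
    rfl
  · have hgn : g * (n : G) ∉ N := by
      intro h
      apply hg
      have := N.mul_mem h (N.inv_mem n.2)
      simpa using this
    rw [sectOne_apply_not_mem N τ _ g hg, sectOne_apply_not_mem N τ _ _ hgn]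

/-- evaluation at `1` is not an `N`-trace -/
theorem not_isRepTrace_evalOne [Fintype N] (p : ℕ) [Fact p.Prime] [CharP k p] (P : Subgroup N)
    (hP : p ∣ Nat.card P) [Nontrivial T] (hτP : ∀ x ∈ P, τ x = 1) :
    ¬ IsRepTrace ((coind N.subtype τ).comp N.subtype) τ (evalOne N τ) := by
  intro h
  have h1 := IsRepTrace.comp_right (τ := τ) h (sectOne N τ) (sectOne_comm N τ)
  rw [evalOne_comp_sectOne] at h1
  exact not_isRepTrace_id p P hP τ hτP h1

end Coind


section Induction

variable {k : Type v} [Field k] {G : Type u} [Group G] [Fintype G]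
variable (N : Subgroup G) [Fintype N]
variable {T : Type u} [AddCommGroup T] [Module k T]
variable (τ : Representation k N T)

omit [Fintype G] in
/-- descent along a composition series -/
theorem exists_irreducible_of_nonTrace (n : ℕ) :
    ∀ (Y : Type u) [AddCommGroup Y] [Module k Y] [FiniteDimensional k Y]
      (ρY : Representation k G Y) (ψ : Y →ₗ[k] T), Module.finrank k Y = n →
      (∀ m : N, ψ ∘ₗ ρY m = τ m ∘ₗ ψ) → ¬ IsRepTrace (ρY.comp N.subtype) τ ψ →
      ∃ (S : Type u) (_ : AddCommGroup S) (_ : Module k S) (_ : FiniteDimensional k S)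
        (ρ : Representation k G S), ρ.IsIrreducible ∧ ∃ ψ : S →ₗ[k] T,
          (∀ m : N, ψ ∘ₗ ρ m = τ m ∘ₗ ψ) ∧ ¬ IsRepTrace (ρ.comp N.subtype) τ ψ := by
  induction n using Nat.strong_induction_on with
  | _ n ih =>
  intro Y _ _ _ ρY ψ hn hψ hnt
  by_cases hirr : ρY.IsIrreducible
  · exact ⟨Y, inferInstance, inferInstance, inferInstance, ρY, hirr, ψ, hψ, hnt⟩
  -- `Y` is nontrivial
  have hYnt : Nontrivial Y := by
    by_contra hcon
    rw [not_nontrivial_iff_subsingleton] at hcon
    apply hnt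
    have : ψ = 0 := by
      ext y
      rw [Subsingleton.elim y 0, map_zero, LinearMap.zero_apply]
    rw [this]
    exact IsRepTrace.zero
  -- a proper nonzero subrepresentation
  obtain ⟨A, hAbot, hAtop⟩ : ∃ A : Subrepresentation ρY, A ≠ ⊥ ∧ A ≠ ⊤ := by
    by_contra hcon
    push Not at hcon
    apply hirr
    refine { exists_pair_ne := ⟨⊥, ⊤, ?_⟩, eq_bot_or_eq_top := fun A => ?_ }
    · intro h
      have h1 := congrArg Subrepresentation.toSubmodule h
      exact bot_ne_top (α := Submodule k Y) h1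
    · by_cases hA : A = ⊥
      · exact Or.inl hA
      · exact Or.inr (hcon A hA)
  set W : Submodule k Y := A.toSubmodule with hWdef
  have hW : ∀ g, W ≤ W.comap (ρY g) := fun g v hv => A.apply_mem_toSubmodule g hv
  have hWbot : W ≠ ⊥ := by
    intro h
    apply hAbot
    exact Subrepresentation.toSubmodule_injective h
  have hWtop : W ≠ ⊤ := by
    intro h
    apply hAtop
    exact Subrepresentation.toSubmodule_injective h
  set ρA : Representation k G W := ρY.subrepresentation W hW with hρA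
  set ψA : W →ₗ[k] T := ψ ∘ₗ W.subtype with hψA
  have hsub : ∀ g : G, W.subtype ∘ₗ ρA g = ρY g ∘ₗ W.subtype := by
    intro g
    ext w
    rfl
  have hψA_comm : ∀ m : N, ψA ∘ₗ ρA m = τ m ∘ₗ ψA := by
    intro m
    rw [hψA, LinearMap.comp_assoc, hsub, ← LinearMap.comp_assoc, hψ m, LinearMap.comp_assoc]
  have hlt1 : Module.finrank k W < n := by
    rw [← hn]
    exact Submodule.finrank_lt hWtop
  by_cases hA : IsRepTrace (ρA.comp N.subtype) τ ψA
  swap
  · exact ih _ hlt1 W ρA ψA rfl hψA_comm hA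
  -- `ψ` restricted to `W` is a trace: pass to the quotient
  obtain ⟨α, hα⟩ := hA
  obtain ⟨α', hα'⟩ := α.exists_extend
  set ψ' : Y →ₗ[k] T := ψ - repTr (ρY.comp N.subtype) τ α' with hψ'
  have hψ'_comm : ∀ m : N, ψ' ∘ₗ ρY m = τ m ∘ₗ ψ' := by
    intro m
    rw [hψ', LinearMap.sub_comp, LinearMap.comp_sub, hψ m]
    congr 1
    exact (repTr_comm (ρY.comp N.subtype) τ α' m).symm
  have hψ'W : ψ' ∘ₗ W.subtype = 0 := by
    rw [hψ', LinearMap.sub_comp]
    have h1 : repTr (ρY.comp N.subtype) τ α' ∘ₗ W.subtype =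
        repTr (ρA.comp N.subtype) τ (α' ∘ₗ W.subtype) :=
      repTr_comp_right (ρY.comp N.subtype) τ (ρA.comp N.subtype) α' W.subtype
        (fun m => hsub m)
    rw [h1, hα', hα, sub_self]
  have hle : W ≤ LinearMap.ker ψ' := by
    intro w hw
    rw [LinearMap.mem_ker]
    have := LinearMap.congr_fun hψ'W ⟨w, hw⟩
    simpa using this
  set ρQ : Representation k G (Y ⧸ W) := ρY.quotient W hW with hρQ
  set ψ'' : (Y ⧸ W) →ₗ[k] T := W.liftQ ψ' hle with hψ''
  have hmk : ∀ g : G, W.mkQ ∘ₗ ρY g = ρQ g ∘ₗ W.mkQ := by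
    intro g
    ext y
    rfl
  have hψ''mk : ψ'' ∘ₗ W.mkQ = ψ' := Submodule.liftQ_mkQ W ψ' hle
  have hψ''_comm : ∀ m : N, ψ'' ∘ₗ ρQ m = τ m ∘ₗ ψ'' := by
    intro m
    apply Submodule.linearMap_qext
    rw [LinearMap.comp_assoc, ← hmk, ← LinearMap.comp_assoc, hψ''mk, LinearMap.comp_assoc,
      hψ''mk, hψ'_comm m]
  have hψ''nt : ¬ IsRepTrace (ρQ.comp N.subtype) τ ψ'' := by
    intro h
    have h1 := IsRepTrace.comp_right (τ := ρY.comp N.subtype) h W.mkQ (fun m => hmk m)
    rw [hψ''mk] at h1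
    apply hnt
    have h2 : ψ = ψ' + repTr (ρY.comp N.subtype) τ α' := by
      rw [hψ']; abel
    rw [h2]
    exact h1.add ⟨α', rfl⟩
  have hlt2 : Module.finrank k (Y ⧸ W) < n := by
    have h1 := Submodule.finrank_quotient_add_finrank W
    have h2 : 0 < Module.finrank k W := by
      rw [Module.finrank_pos_iff]
      exact Submodule.nontrivial_iff_ne_bot.mpr hWbot
    omega
  exact ih _ hlt2 (Y ⧸ W) ρQ ψ'' rfl hψ''_comm hψ''nt

end Induction

/-- (M-D) EXIST -/
theorem exists_irreducible_nonTrace {k : Type v} [Field k] {G : Type u} [Group G] [Fintype G]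
    (p : ℕ) [Fact p.Prime] [CharP k p] (N : Subgroup G) [Fintype N] (P : Subgroup N)
    (hP : p ∣ Nat.card P) {T : Type u} [AddCommGroup T] [Module k T] [FiniteDimensional k T]
    [Nontrivial T] (τ : Representation k N T) (hτP : ∀ x ∈ P, τ x = 1) :
    ∃ (S : Type u) (_ : AddCommGroup S) (_ : Module k S) (_ : FiniteDimensional k S)
      (ρ : Representation k G S), ρ.IsIrreducible ∧ ∃ ψ : S →ₗ[k] T,
        (∀ n : N, ψ ∘ₗ ρ n = τ n ∘ₗ ψ) ∧
          ¬ Cfsg.Agent.Helper16.IsRepTrace (ρ.comp N.subtype) τ ψ :=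
  exists_irreducible_of_nonTrace N τ _ (coindV N.subtype τ) (coind N.subtype τ) (evalOne N τ) rfl
    (fun m => evalOne_comm N τ m) (not_isRepTrace_evalOne N τ p P hP hτP)

end Cfsg.Agent.Helper97.ModExist
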