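import Mathlib
import Cfsg.Agent.Helper24.OddOmega
import Cfsg.Agent.Helper53.Conj

/-!
helper97: tools for minimal nontrivial coprime actions (Hall–Higman reduction).
-/

set_option autoImplicit false

namespace Cfsg.Agent.Helper97

open scoped commutatorElement

variable {G : Type*} [Group G]

/-- An element normalizing `H₁` and `H₂` normalizes `⁅H₁, H₂⁆`. -/
theorem mem_normalizer_commutator {H₁ H₂ : Subgroup G} {b : G}
    (h1 : b ∈ Subgroup.normalizer (H₁ : Set G)) (h2 : b ∈ Subgroup.normalizer (H₂ : Set G)) :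
    b ∈ Subgroup.normalizer ((⁅H₁, H₂⁆ : Subgroup G) : Set G) := by
  have key : ∀ c : G, c ∈ Subgroup.normalizer (H₁ : Set G) → c ∈ Subgroup.normalizer (H₂ : Set G) →
      ∀ y ∈ ⁅H₁, H₂⁆, c * y * c⁻¹ ∈ ⁅H₁, H₂⁆ := by
    intro c hc1 hc2
    have : ⁅H₁, H₂⁆ ≤ (⁅H₁, H₂⁆).comap (MulAut.conj c).toMonoidHom := by
      rw [Subgroup.commutator_le]
      intro g₁ hg₁ g₂ hg₂
      rw [Subgroup.mem_comap, map_commutatorElement]
      apply Subgroup.commutator_mem_commutator
      · simpa [MulAut.conj_apply] using Helper24.conj_mem_of_mem_normalizer hc1 hg₁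
      · simpa [MulAut.conj_apply] using Helper24.conj_mem_of_mem_normalizer hc2 hg₂
    intro y hy
    have := this hy
    simpa [Subgroup.mem_comap, MulAut.conj_apply] using this
  apply Helper24.mem_normalizer_of_forall_conj_mem
  · exact key b h1 h2
  · intro y hy
    have := key b⁻¹ (Subgroup.inv_mem _ h1) (Subgroup.inv_mem _ h2) y hy
    simpa using this

/-- Coprime action with `P = [P, A]`: the fixed points of `A` on `P` lie in the derived subgroup
of `P`. -/
theorem inf_centralizer_le_commutator_of_commutator_eq [Finite G] {P A : Subgroup G}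
    (hAP : A ≤ Subgroup.normalizer (P : Set G)) (hcop : (Nat.card A).Coprime (Nat.card P))
    (hPA : ⁅P, A⁆ = P) : P ⊓ Subgroup.centralizer (A : Set G) ≤ ⁅P, P⁆ := by
  classical
  have : Fintype ↥A := Fintype.ofFinite _
  let φ : ↥A → (↥P ≃* ↥P) := fun a => Helper53.conjEquiv P (a : G) (hAP a.2)
  let F : ↥P →* Abelianization ↥P :=
    ∏ a : ↥A, (Abelianization.of).comp (φ a).toMonoidHom
  have hF : ∀ x : ↥P, F x = ∏ a : ↥A, Abelianization.of (φ a x) := by
    intro x
    simp [F]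
  have hinv : ∀ (b : ↥A) (x : ↥P), F (φ b x) = F x := by
    intro b x
    rw [hF, hF]
    have h1 : ∀ a : ↥A, φ a (φ b x) = φ (a * b) x := by
      intro a
      apply Subtype.ext
      simp only [φ, Helper53.conjEquiv_coe, Subgroup.coe_mul, mul_inv_rev]
      group
    simp_rw [h1]
    exact Fintype.prod_equiv (Equiv.mulRight b) _ _ (fun a => rfl)
  have hker : ⁅P, A⁆ ≤ (F.ker).map P.subtype := by
    rw [Subgroup.commutator_le]
    intro x hx a ha
    refine ⟨(⟨x, hx⟩ : ↥P) * φ ⟨a, ha⟩ (⟨x, hx⟩ : ↥P)⁻¹, ?_, ?_⟩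
    · show _ ∈ F.ker
      rw [MonoidHom.mem_ker, map_mul, hinv, map_inv, mul_inv_cancel]
    · simp only [Subgroup.coe_subtype, Subgroup.coe_mul, φ, Helper53.conjEquiv_coe,
        Subgroup.coe_inv, commutatorElement_def]
      group
  rw [hPA] at hker
  intro d hd
  have hdP : d ∈ P := hd.1
  have hdC : d ∈ Subgroup.centralizer (A : Set G) := hd.2
  rw [Subgroup.mem_centralizer_iff] at hdC
  obtain ⟨z, hz, hzd⟩ := hker hdP
  have hzd' : z = ⟨d, hdP⟩ := Subtype.ext hzd
  subst hzd'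
  replace hz : (⟨d, hdP⟩ : ↥P) ∈ F.ker := hz
  rw [MonoidHom.mem_ker, hF] at hz
  have hfix : ∀ a : ↥A, φ a ⟨d, hdP⟩ = ⟨d, hdP⟩ := by
    intro a
    apply Subtype.ext
    simp only [φ, Helper53.conjEquiv_coe]
    rw [hdC a a.2]
    group
  simp_rw [hfix] at hz
  rw [Finset.prod_const, Finset.card_univ, ← Nat.card_eq_fintype_card] at hz
  have h2 : (Abelianization.of (⟨d, hdP⟩ : ↥P)) ^ (Nat.card P) = 1 := by
    rw [← map_pow, pow_card_eq_one', map_one]
  have h3 : orderOf (Abelianization.of (⟨d, hdP⟩ : ↥P)) = 1 :=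
    Nat.eq_one_of_dvd_coprimes hcop (orderOf_dvd_of_pow_eq_one hz) (orderOf_dvd_of_pow_eq_one h2)
  rw [orderOf_eq_one_iff, ← MonoidHom.mem_ker, Abelianization.ker_of] at h3
  rw [← Subgroup.map_subtype_commutator]
  exact ⟨⟨d, hdP⟩, h3, rfl⟩

end Cfsg.Agent.Helper97
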