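import Mathlib
import Cfsg.Prelude.Def_Solvable
import Cfsg.Agent.Lib.Cores
import Cfsg.Agent.Helper24.OddOmega

/-!
helper97: the Fitting subgroup of a normal subgroup `N` of a finite solvable group `G` is the
intersection of `N` with the centralizers of the chief factors of `G`.
-/

set_option autoImplicit false

namespace Cfsg.Agent.Helper97

open Cfsg
open scoped commutatorElement

variable {G : Type*} [Group G]

/-- `U / V` is a chief factor of `G` (statement shape of S3766). -/
def IsChiefPair (U V : Subgroup G) : Prop :=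
  U.Normal ∧ V.Normal ∧ V < U ∧ ∀ W : Subgroup G, W.Normal → V ≤ W → W ≤ U → W = V ∨ W = U

/-- A nilpotent normal subgroup centralizes every chief factor. -/
theorem commutator_le_of_isChiefPair {U V F : Subgroup G} (h : IsChiefPair U V) [hF : F.Normal]
    (hnil : Group.IsNilpotent ↥F) : ⁅U, F⁆ ≤ V := by
  obtain ⟨hU, hV, hlt, hmin⟩ := h
  have hWn : (⁅U, F⁆ ⊔ V).Normal := inferInstance
  have hWU : ⁅U, F⁆ ⊔ V ≤ U := sup_le (Subgroup.commutator_le_left U F) hlt.le
  rcases hmin _ hWn le_sup_right hWU with h1 | h1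
  · exact h1 ▸ le_sup_left
  · exfalso
    obtain ⟨n, hn⟩ := (Subgroup.isNilpotent_iff_lowerCentralSeries F).mp hnil
    have hker : (QuotientGroup.mk' V).ker = V := QuotientGroup.ker_mk' V
    have hVbot : V.map (QuotientGroup.mk' V) = ⊥ := by
      rw [Subgroup.map_eq_bot_iff, hker]
    have hself : ⁅U.map (QuotientGroup.mk' V), F.map (QuotientGroup.mk' V)⁆ =
        U.map (QuotientGroup.mk' V) := by
      rw [← Subgroup.map_commutator]
      conv_rhs => rw [← h1]
      rw [Subgroup.map_sup, hVbot, sup_bot_eq]
    have key : ∀ k : ℕ, U.map (QuotientGroup.mk' V) ≤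
        (F.map (QuotientGroup.mk' V)).lowerCentralSeries k := by
      intro k
      induction k with
      | zero =>
        rw [Subgroup.lowerCentralSeries_zero, ← hself]
        have : (F.map (QuotientGroup.mk' V)).Normal :=
          hF.map _ (QuotientGroup.mk'_surjective V)
        exact Subgroup.commutator_le_right _ _
      | succ k ih =>
        rw [Subgroup.lowerCentralSeries_succ]
        calc U.map (QuotientGroup.mk' V)
            = ⁅U.map (QuotientGroup.mk' V), F.map (QuotientGroup.mk' V)⁆ := hself.symm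
          _ ≤ _ := Subgroup.commutator_mono ih le_rfl
    have h2 := key n
    rw [← Subgroup.map_lowerCentralSeries, hn, Subgroup.map_bot, le_bot_iff,
      Subgroup.map_eq_bot_iff, hker] at h2
    exact absurd (le_antisymm h2 hlt.le) (ne_of_gt hlt)

/-- In a nontrivial normal subgroup `B` of a finite group, there is a normal `V < B` such that
`B / V` is a chief factor. -/
theorem exists_isChiefPair [Finite G] {B : Subgroup G} (hB : B.Normal) (hne : B ≠ ⊥) :
    ∃ V : Subgroup G, IsChiefPair B V := by
  classical
  have hfin : {V : Subgroup G | V.Normal ∧ V < B}.Finite := Set.toFinite _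
  have hnonempty : ({V : Subgroup G | V.Normal ∧ V < B}).Nonempty :=
    ⟨⊥, Subgroup.normal_bot, bot_lt_iff_ne_bot.mpr hne⟩
  obtain ⟨V, hV, hmax⟩ := hfin.exists_maximal hnonempty
  refine ⟨V, hB, hV.1, hV.2, ?_⟩
  intro W hW hVW hWB
  by_cases hWB' : W = B
  · exact Or.inr hWB'
  · left
    have hmem : W ∈ {V : Subgroup G | V.Normal ∧ V < B} := ⟨hW, lt_of_le_of_ne hWB hWB'⟩
    exact le_antisymm (hmax hmem hVW) hVW

/-- If `A` centralizes all chief factors of `G` inside `B₀` then the lower central series of `A`
dies once it enters a normal subgroup `B ≤ B₀`. -/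
theorem exists_lowerCentralSeries_eq_bot [Finite G] {A B₀ : Subgroup G}
    (hA : ∀ U V : Subgroup G, IsChiefPair U V → U ≤ B₀ → ⁅U, A⁆ ≤ V) :
    ∀ (n : ℕ) (B : Subgroup G), Nat.card B ≤ n → B.Normal → B ≤ B₀ → ∀ m : ℕ,
      A.lowerCentralSeries m ≤ B → ∃ k, A.lowerCentralSeries (m + k) = ⊥ := by
  intro n
  induction n with
  | zero =>
    intro B hcard
    have : 0 < Nat.card B := Nat.card_pos
    omega
  | succ n ih =>
    intro B hcard hBn hBB₀ m hm
    by_cases hbot : B = ⊥
    · exact ⟨0, by rw [add_zero, ← le_bot_iff, ← hbot]; exact hm⟩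
    obtain ⟨V, hchief⟩ := exists_isChiefPair hBn hbot
    have h1 : ⁅B, A⁆ ≤ V := hA B V hchief hBB₀
    have h2 : A.lowerCentralSeries (m + 1) ≤ V := by
      rw [Subgroup.lowerCentralSeries_succ]
      exact (Subgroup.commutator_mono hm le_rfl).trans h1
    have hVcard : Nat.card V ≤ n := by
      have := Helper24.card_lt_of_lt hchief.2.2.1
      omega
    obtain ⟨k, hk⟩ := ih V hVcard hchief.2.1 (hchief.2.2.1.le.trans hBB₀) (m + 1) h2
    exact ⟨1 + k, by rw [← add_assoc]; exact hk⟩

section fitting

variable [Finite G]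

omit [Finite G] in
/-- The Fitting subgroup of a normal subgroup, as a subgroup of `G`, is normal in `G`. -/
theorem map_fittingSubgroup_normal (N : Subgroup G) [hN : N.Normal] :
    ((fittingSubgroup ↥N).map N.subtype).Normal := by
  have : (fittingSubgroup ↥N).Characteristic := Lib.fittingSubgroup_characteristic
  exact ConjAct.normal_of_characteristic_of_normal

theorem isNilpotent_map_fittingSubgroup' (N : Subgroup G) :
    Group.IsNilpotent ↥((fittingSubgroup ↥N).map N.subtype) := by
  have : Group.IsNilpotent ↥(fittingSubgroup ↥N) := Lib.isNilpotent_fittingSubgroup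
  exact Group.nilpotent_of_mulEquiv
    ((fittingSubgroup ↥N).equivMapOfInjective N.subtype N.subtype_injective)

omit [Finite G] in
/-- A nilpotent subgroup of `N` normalized by `N` lies in (the image of) `F(N)`. -/
theorem le_map_fittingSubgroup_of_normal {A N : Subgroup G} (hAN : A ≤ N) (hA : A.Normal)
    (hnil : Group.IsNilpotent ↥A) : A ≤ (fittingSubgroup ↥N).map N.subtype := by
  have hnorm : (A.subgroupOf N).Normal := Subgroup.normal_subgroupOf
  have hnil' : Group.IsNilpotent ↥(A.subgroupOf N) :=
    Group.nilpotent_of_mulEquiv (Subgroup.subgroupOfEquivOfLe hAN).symm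
  have := Lib.le_fittingSubgroup hnorm hnil'
  calc A = (A.subgroupOf N).map N.subtype := (Subgroup.map_subgroupOf_eq_of_le hAN).symm
    _ ≤ (fittingSubgroup ↥N).map N.subtype := Subgroup.map_mono this

/-- Main induction for S3766: a normal subgroup `A ≤ N` of the solvable group `G` centralizing all
chief factors of `G` below `F(N)` lies in `F(N)`. -/
theorem le_map_fittingSubgroup_of_centralizes_chief (hG : Group.IsSolvable G) (N : Subgroup G) :
    ∀ (n : ℕ) (A : Subgroup G), Nat.card A ≤ n → A.Normal → A ≤ N →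
      (∀ U V : Subgroup G, IsChiefPair U V → U ≤ (fittingSubgroup ↥N).map N.subtype → ⁅U, A⁆ ≤ V) →
      A ≤ (fittingSubgroup ↥N).map N.subtype := by
  intro n
  induction n with
  | zero =>
    intro A hcard
    have : 0 < Nat.card A := Nat.card_pos
    omega
  | succ n ih =>
    intro A hcard hAn hAN hAc
    by_cases hbot : A = ⊥
    · rw [hbot]; exact bot_le
    have hAA : ⁅A, A⁆ ≤ A := Subgroup.commutator_le_right A A
    have hlt : ⁅A, A⁆ < A := by
      refine lt_of_le_of_ne hAA ?_
      intro heq
      have : Group.IsPerfect A := Subgroup.isPerfect_iff.2 heq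
      have : Nontrivial A := (Subgroup.nontrivial_iff_ne_bot A).2 hbot
      exact Group.IsPerfect.not_isSolvable A inferInstance
    have hA'n : (⁅A, A⁆).Normal := Subgroup.commutator_normal A A
    have hA'F : ⁅A, A⁆ ≤ (fittingSubgroup ↥N).map N.subtype := by
      apply ih ⁅A, A⁆ _ hA'n (hAA.trans hAN)
      · intro U V hUV hU
        exact (Subgroup.commutator_mono le_rfl hAA).trans (hAc U V hUV hU)
      · have := Helper24.card_lt_of_lt hlt
        omega
    have h1 : A.lowerCentralSeries 1 ≤ ⁅A, A⁆ := by
      rw [Subgroup.lowerCentralSeries_succ, Subgroup.lowerCentralSeries_zero]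
    obtain ⟨k, hk⟩ := exists_lowerCentralSeries_eq_bot hAc (Nat.card ↥⁅A, A⁆) ⁅A, A⁆ le_rfl hA'n
      hA'F 1 h1
    have hnil : Group.IsNilpotent ↥A := (Subgroup.isNilpotent_iff_lowerCentralSeries A).mpr ⟨_, hk⟩
    exact le_map_fittingSubgroup_of_normal hAN hAn hnil

end fitting

end Cfsg.Agent.Helper97
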