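import Mathlib
import Cfsg.Agent.Helper29.Maschke

/-!
# Coprime action on a finite abelian `p`-group: indecomposability

Let the finite group `X` act on the finite abelian `p`-group `V`, with `#X` coprime to `p`.

* `exists_invariant_compl_in` : relative Maschke inside an invariant subgroup of exponent `p`.
* `exists_invariant_compl_mod` : relative Maschke for a section `T / T₀` of exponent `p`.
* `exists_compl_of_pure_top` : a subgroup `P` with `Ω_n(P) = P^p` in a group of exponent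
  `p ^ (n + 1)` has a complement.
* `irreducible_omega_of_indecomposable` : if `V` is `X`-indecomposable then `X` is irreducible on
  `Ω₁(V)`.
* `eq_omega_of_irreducible_omega` : if `X` is irreducible on `Ω₁(V)`, every invariant subgroup is
  some `Ω_i(V)`.
-/

set_option autoImplicit false

namespace Cfsg.Agent.Helper97

section

variable {X V : Type*} [Group X] [CommGroup V] [MulDistribMulAction X V]

/-- The restricted action on an invariant subgroup. -/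
@[reducible] def subAction (T : Subgroup V) (hT : ∀ x : X, ∀ a ∈ T, x • a ∈ T) :
    MulDistribMulAction X ↥T where
  smul x a := ⟨x • a.1, hT x a.1 a.2⟩
  one_smul a := Subtype.ext (one_smul X a.1)
  mul_smul x y a := Subtype.ext (mul_smul x y a.1)
  smul_mul x a b := Subtype.ext (smul_mul' x a.1 b.1)
  smul_one x := Subtype.ext (smul_one x)

/-- Relative Maschke: inside an invariant subgroup `T` of exponent `p`, every invariant subgroup
has an invariant complement. -/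
theorem exists_invariant_compl_in [Finite X] [Finite V] {p : ℕ} [Fact p.Prime]
    (hV : IsPGroup p V) (hcop : (Nat.card X).Coprime p)
    (T W : Subgroup V) (hT : ∀ x : X, ∀ a ∈ T, x • a ∈ T) (hTp : ∀ a ∈ T, a ^ p = 1)
    (hW : ∀ x : X, ∀ a ∈ W, x • a ∈ W) (hWT : W ≤ T) :
    ∃ K : Subgroup V, (∀ x : X, ∀ a ∈ K, x • a ∈ K) ∧ K ≤ T ∧ W ⊓ K = ⊥ ∧ W ⊔ K = T := by
  classical
  have hp : p.Prime := Fact.out
  let _ : MulDistribMulAction X ↥T := subAction T hT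
  have hsm : ∀ (x : X) (a : ↥T), ((x • a : ↥T) : V) = x • (a : V) := fun _ _ => rfl
  obtain ⟨U, hU1, hU2⟩ := Cfsg.Agent.Helper29.exists_compl_of_exponent_prime (V := ↥T) hp
    (fun a b => mul_comm a b) (fun a => Subtype.ext (by simpa using hTp a.1 a.2)) (W.subgroupOf T)
  have hcopT : (Nat.card X).Coprime (Nat.card ↥T) := by
    obtain ⟨k, hk⟩ := IsPGroup.iff_card.1 (hV.to_subgroup T)
    rw [hk]
    exact Nat.Coprime.pow_right _ hcop
  obtain ⟨K, hK1, hK2, hK3⟩ := Cfsg.Agent.Helper29.exists_invariant_compl (A := X) (V := ↥T)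
    (fun a b => mul_comm a b) hcopT (W.subgroupOf T) U
    (by
      intro x a ha
      rw [Subgroup.mem_subgroupOf] at ha ⊢
      rw [hsm]
      exact hW x _ ha) hU1 hU2
  refine ⟨K.map T.subtype, ?_, Subgroup.map_subtype_le K, ?_, ?_⟩
  · rintro x a ⟨k, hk, rfl⟩
    exact ⟨x • k, hK1 x k hk, rfl⟩
  · rw [eq_bot_iff]
    rintro a ⟨haW, k, hk, rfl⟩
    have h1 : k ∈ W.subgroupOf T ⊓ K := ⟨Subgroup.mem_subgroupOf.2 haW, hk⟩
    rw [hK2, Subgroup.mem_bot] at h1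
    rw [h1]
    exact one_mem _
  · have h1 : (W.subgroupOf T ⊔ K).map T.subtype = T := by
      rw [hK3, ← MonoidHom.range_eq_map, Subgroup.range_subtype]
    rw [Subgroup.map_sup, Subgroup.subgroupOf_map_subtype, inf_eq_left.2 hWT] at h1
    exact h1

/-- Relative Maschke for a section: if `T₀ ≤ K₀ ≤ T` are invariant and `T / T₀` has exponent `p`,
then `K₀ / T₀` has an invariant complement `M / T₀` in `T / T₀`. -/
theorem exists_invariant_compl_mod [Finite X] [Finite V] {p : ℕ} [Fact p.Prime]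
    (hV : IsPGroup p V) (hcop : (Nat.card X).Coprime p)
    (T T₀ K₀ : Subgroup V) (hT : ∀ x : X, ∀ a ∈ T, x • a ∈ T)
    (hT₀ : ∀ x : X, ∀ a ∈ T₀, x • a ∈ T₀) (hK₀ : ∀ x : X, ∀ a ∈ K₀, x • a ∈ K₀)
    (h1 : T₀ ≤ K₀) (h2 : K₀ ≤ T) (hTp : ∀ a ∈ T, a ^ p ∈ T₀) :
    ∃ M : Subgroup V, (∀ x : X, ∀ a ∈ M, x • a ∈ M) ∧ T₀ ≤ M ∧ M ≤ T ∧ M ⊓ K₀ ≤ T₀ ∧
      M ⊔ K₀ = T := by
  classical
  let _ : MulDistribMulAction X (V ⧸ T₀) := Cfsg.Agent.Helper29.quotientAction T₀ hT₀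
  have hsm : ∀ (x : X) (a : V), x • (a : V ⧸ T₀) = ((x • a : V) : V ⧸ T₀) := fun _ _ => rfl
  have hVq : IsPGroup p (V ⧸ T₀) := hV.to_quotient T₀
  set π : V →* V ⧸ T₀ := QuotientGroup.mk' T₀ with hπ
  have hπa : ∀ a : V, π a = (a : V ⧸ T₀) := fun _ => rfl
  obtain ⟨K, hK1, hK2, hK3, hK4⟩ := exists_invariant_compl_in (X := X) (V := V ⧸ T₀) hVq hcop
    (T.map π) (K₀.map π)
    (by
      rintro x _ ⟨a, ha, rfl⟩
      rw [hπa, hsm]
      exact ⟨x • a, hT x a ha, rfl⟩)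
    (by
      rintro _ ⟨a, ha, rfl⟩
      rw [← map_pow]
      exact (QuotientGroup.eq_one_iff _).2 (hTp a ha))
    (by
      rintro x _ ⟨a, ha, rfl⟩
      rw [hπa, hsm]
      exact ⟨x • a, hK₀ x a ha, rfl⟩)
    (Subgroup.map_mono h2)
  have hMT : K.comap π ≤ T := by
    intro a ha
    obtain ⟨t, ht, hta⟩ := hK2 (Subgroup.mem_comap.1 ha)
    have h3 : t⁻¹ * a ∈ T₀ := QuotientGroup.eq.1 hta
    have h4 : a = t * (t⁻¹ * a) := by rw [mul_inv_cancel_left]
    rw [h4]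
    exact T.mul_mem ht (h1.trans h2 h3)
  refine ⟨K.comap π, ?_, ?_, hMT, ?_, ?_⟩
  · intro x a ha
    rw [Subgroup.mem_comap] at ha ⊢
    rw [hπa, ← hsm]
    exact hK1 x _ ha
  · intro a ha
    rw [Subgroup.mem_comap, hπa, (QuotientGroup.eq_one_iff a).2 ha]
    exact one_mem _
  · rintro a ⟨haM, haK⟩
    have h3 : π a ∈ K₀.map π ⊓ K := ⟨⟨a, haK, rfl⟩, haM⟩
    rw [hK3, Subgroup.mem_bot] at h3
    exact (QuotientGroup.eq_one_iff a).1 h3
  · refine le_antisymm (sup_le hMT h2) ?_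
    intro t ht
    have h3 : π t ∈ K₀.map π ⊔ K := by rw [hK4]; exact ⟨t, ht, rfl⟩
    obtain ⟨_, ⟨w, hw, rfl⟩, k, hk, hwk⟩ := Subgroup.mem_sup.1 h3
    have h4 : w⁻¹ * t ∈ K.comap π := by
      rw [Subgroup.mem_comap, map_mul, map_inv, ← hwk, inv_mul_cancel_left]
      exact hk
    have h5 : t = (w⁻¹ * t) * w := by rw [mul_comm, mul_inv_cancel_left]
    rw [h5]
    exact Subgroup.mul_mem_sup h4 hw

end

/-- In a finite abelian group of exponent dividing `p ^ (n + 1)`, a subgroup `P` in which every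
element killed by `p ^ n` is a `p`-th power (of an element of `P`) has a complement. -/
theorem exists_compl_of_pure_top {V : Type*} [CommGroup V] [Finite V] {p : ℕ} [Fact p.Prime]
    (n : ℕ) (hexp : ∀ a : V, a ^ p ^ (n + 1) = 1) (P : Subgroup V)
    (hP : ∀ x ∈ P, x ^ p ^ n = 1 → ∃ y ∈ P, y ^ p = x) :
    ∃ C : Subgroup V, P ⊓ C = ⊥ ∧ P ⊔ C = ⊤ := by
  classical
  have hp : p.Prime := Fact.out
  obtain ⟨C, -, hC⟩ := Finite.exists_le_maximal (p := fun C : Subgroup V => P ⊓ C = ⊥)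
    (a := (⊥ : Subgroup V)) (by simp)
  refine ⟨C, hC.prop, ?_⟩
  by_contra htop
  obtain ⟨a, ha, hap⟩ : ∃ a : V, a ∉ P ⊔ C ∧ a ^ p ∈ P ⊔ C := by
    obtain ⟨v, hv⟩ : ∃ v : V, v ∉ P ⊔ C := by
      by_contra h
      push Not at h
      exact htop (eq_top_iff.2 fun x _ => h x)
    have hex : ∃ k, v ^ p ^ k ∈ P ⊔ C := ⟨n + 1, by rw [hexp]; exact one_mem _⟩
    have hk0 : Nat.find hex ≠ 0 := by
      intro h0
      have := Nat.find_spec hex
      rw [h0, pow_zero, pow_one] at this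
      exact hv this
    obtain ⟨k', hk'⟩ := Nat.exists_eq_succ_of_ne_zero hk0
    refine ⟨v ^ p ^ k', Nat.find_min hex (by omega : k' < Nat.find hex), ?_⟩
    have := Nat.find_spec hex
    rw [hk', Nat.succ_eq_add_one, pow_succ, pow_mul] at this
    exact this
  obtain ⟨x, hx, c, hc, hxc⟩ := Subgroup.mem_sup.1 hap
  have hx1 : x ^ p ^ n = 1 := by
    have h1 : (x * c) ^ p ^ n = 1 := by rw [hxc, ← pow_mul, ← pow_succ', hexp]
    rw [mul_pow] at h1
    have h2 : x ^ p ^ n ∈ P ⊓ C := by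
      refine Subgroup.mem_inf.2 ⟨pow_mem hx _, ?_⟩
      rw [eq_inv_of_mul_eq_one_left h1]
      exact C.inv_mem (C.pow_mem hc _)
    rw [hC.prop] at h2
    exact h2
  obtain ⟨y, hy, hyx⟩ := hP x hx hx1
  set a' := a * y⁻¹ with ha'
  have ha'p : a' ^ p = c := by
    rw [ha', mul_pow, inv_pow, hyx, ← hxc, mul_comm x c, mul_inv_cancel_right]
  have ha'n : a' ∉ P ⊔ C := by
    intro h
    apply ha
    have h1 : a = a' * y := by rw [ha', inv_mul_cancel_right]
    rw [h1]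
    exact mul_mem h (Subgroup.mem_sup_left hy)
  have hnew : P ⊓ (C ⊔ Subgroup.zpowers a') = ⊥ := by
    rw [eq_bot_iff]
    rintro z ⟨hzP, hzCa⟩
    obtain ⟨c', hc', w, hw, rfl⟩ := Subgroup.mem_sup.1 hzCa
    obtain ⟨k, rfl⟩ := Subgroup.mem_zpowers_iff.1 hw
    by_cases hpk : (p : ℤ) ∣ k
    · obtain ⟨m, rfl⟩ := hpk
      have h1 : a' ^ ((p : ℤ) * m) ∈ C := by
        rw [zpow_mul, zpow_natCast, ha'p]
        exact zpow_mem hc _
      have h2 : c' * a' ^ ((p : ℤ) * m) ∈ P ⊓ C := Subgroup.mem_inf.2 ⟨hzP, C.mul_mem hc' h1⟩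
      rwa [hC.prop] at h2
    · exfalso
      have h1 : a' ^ k ∈ P ⊔ C := by
        have h3 : a' ^ k = (c' * a' ^ k) * c'⁻¹ := by rw [mul_comm c', mul_inv_cancel_right]
        rw [h3]
        exact mul_mem (Subgroup.mem_sup_left hzP) (Subgroup.mem_sup_right (inv_mem hc'))
      have h2 : a' ^ (p : ℤ) ∈ P ⊔ C := by
        rw [zpow_natCast, ha'p]
        exact Subgroup.mem_sup_right hc
      have hcop : IsCoprime (p : ℤ) k :=
        (Nat.prime_iff_prime_int.1 hp).irreducible.coprime_iff_not_dvd.2 hpk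
      obtain ⟨u, v, huv⟩ := hcop
      apply ha'n
      have h3 : a' = (a' ^ (p : ℤ)) ^ u * (a' ^ k) ^ v := by
        rw [← zpow_mul, ← zpow_mul, ← zpow_add, mul_comm (p : ℤ) u, mul_comm k v, huv, zpow_one]
      rw [h3]
      exact mul_mem (zpow_mem h2 _) (zpow_mem h1 _)
  have hle : C ≤ C ⊔ Subgroup.zpowers a' := le_sup_left
  have h4 := hC.le_of_ge hnew hle
  exact ha'n (Subgroup.mem_sup_right (h4 (Subgroup.mem_sup_right (Subgroup.mem_zpowers a'))))

/-- If the finite abelian `p`-group `V` is indecomposable under the coprime action of `X`, then `X`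
acts irreducibly on `Ω₁(V)`: an invariant subgroup of exponent `p` is trivial or all of `Ω₁(V)`. -/
theorem irreducible_omega_of_indecomposable {X V : Type*} [Group X] [Finite X] [CommGroup V]
    [Finite V] [MulDistribMulAction X V] {p : ℕ} [Fact p.Prime] (hV : IsPGroup p V)
    (hcop : (Nat.card X).Coprime p)
    (hind : ∀ B C : Subgroup V, (∀ x : X, ∀ a ∈ B, x • a ∈ B) → (∀ x : X, ∀ a ∈ C, x • a ∈ C) →
      B ⊓ C = ⊥ → B ⊔ C = ⊤ → B = ⊥ ∨ C = ⊥)
    (B : Subgroup V) (hB : ∀ x : X, ∀ a ∈ B, x • a ∈ B) (hBp : ∀ b ∈ B, b ^ p = 1) :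
    B = ⊥ ∨ ∀ a : V, a ∈ B ↔ a ^ p = 1 := by
  classical
  have hp : p.Prime := Fact.out
  have hex : ∃ m, ∀ a : V, a ^ p ^ m = 1 := by
    obtain ⟨k, hk⟩ := IsPGroup.iff_card.1 hV
    exact ⟨k, fun a => by rw [← hk]; exact pow_card_eq_one'⟩
  by_cases htriv : Nat.find hex = 0
  · left
    have h0 := Nat.find_spec hex
    rw [htriv, pow_zero] at h0
    rw [eq_bot_iff]
    intro b _
    rw [Subgroup.mem_bot]
    simpa using h0 b
  obtain ⟨n, hn⟩ := Nat.exists_eq_succ_of_ne_zero htriv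
  have hexp : ∀ a : V, a ^ p ^ (n + 1) = 1 := by
    have := Nat.find_spec hex
    rwa [hn] at this
  have hnot : ¬ ∀ a : V, a ^ p ^ n = 1 := Nat.find_min hex (by omega)
  set pw : V →* V := powMonoidHom (p ^ n) with hpw
  have hpwa : ∀ a, pw a = a ^ p ^ n := fun _ => rfl
  have hpwsm : ∀ (x : X) (a : V), pw (x • a) = x • pw a := fun x a => by
    rw [hpwa, hpwa, smul_pow']
  have hVtop : pw.range ≠ ⊥ := by
    intro h
    apply hnot
    intro a
    have h1 : pw a ∈ pw.range := ⟨a, rfl⟩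
    rw [h, Subgroup.mem_bot] at h1
    exact h1
  have hVtopinv : ∀ x : X, ∀ a ∈ pw.range, x • a ∈ pw.range := by
    rintro x _ ⟨a, rfl⟩
    exact ⟨x • a, hpwsm x a⟩
  -- a minimal invariant subgroup of the top layer
  obtain ⟨U0, -, hU0⟩ := Finite.exists_le_minimal
    (p := fun U : Subgroup V => (∀ x : X, ∀ a ∈ U, x • a ∈ U) ∧ U ≠ ⊥ ∧ U ≤ pw.range)
    (a := pw.range) ⟨hVtopinv, hVtop, le_rfl⟩
  obtain ⟨hU0inv, hU0ne, hU0V⟩ := hU0.prop
  -- a minimal invariant subgroup covering `U0`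
  obtain ⟨P1, -, hP1⟩ := Finite.exists_le_minimal
    (p := fun Q : Subgroup V => (∀ x : X, ∀ a ∈ Q, x • a ∈ Q) ∧ U0 ≤ Q.map pw)
    (a := (⊤ : Subgroup V))
    ⟨fun _ _ _ => Subgroup.mem_top _, by rw [← MonoidHom.range_eq_map]; exact hU0V⟩
  obtain ⟨hP1inv, hP1U⟩ := hP1.prop
  have hP1a : P1.map pw ≤ U0 := by
    have hQ' : (∀ x : X, ∀ a ∈ P1 ⊓ U0.comap pw, x • a ∈ P1 ⊓ U0.comap pw) ∧
        U0 ≤ (P1 ⊓ U0.comap pw).map pw := by
      refine ⟨?_, ?_⟩
      · intro x a ha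
        obtain ⟨ha1, ha2⟩ := Subgroup.mem_inf.1 ha
        refine Subgroup.mem_inf.2 ⟨hP1inv x a ha1, ?_⟩
        rw [Subgroup.mem_comap, hpwsm]
        exact hU0inv x _ ha2
      · intro u hu
        obtain ⟨q, hq, rfl⟩ := hP1U hu
        exact ⟨q, Subgroup.mem_inf.2 ⟨hq, hu⟩, rfl⟩
    have h1 : P1 ≤ P1 ⊓ U0.comap pw := hP1.le_of_le hQ' inf_le_left
    rw [Subgroup.map_le_iff_le_comap]
    exact h1.trans inf_le_right
  have hP1b : ∀ x ∈ P1, x ^ p ^ n = 1 → ∃ y ∈ P1, y ^ p = x := by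
    set T₀ : Subgroup V := P1.map (powMonoidHom p) with hT₀
    set K₀ : Subgroup V := P1 ⊓ pw.ker with hK₀
    have h1 : T₀ ≤ K₀ := by
      rintro _ ⟨y, hy, rfl⟩
      refine Subgroup.mem_inf.2 ⟨P1.pow_mem hy p, ?_⟩
      rw [MonoidHom.mem_ker, hpwa]
      show (y ^ p) ^ p ^ n = 1
      rw [← pow_mul, ← pow_succ', hexp]
    have hT₀inv : ∀ x : X, ∀ a ∈ T₀, x • a ∈ T₀ := by
      rintro x _ ⟨y, hy, rfl⟩
      refine ⟨x • y, hP1inv x y hy, ?_⟩
      show (x • y) ^ p = x • y ^ p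
      rw [smul_pow']
    have hK₀inv : ∀ x : X, ∀ a ∈ K₀, x • a ∈ K₀ := by
      intro x a ha
      obtain ⟨ha1, ha2⟩ := Subgroup.mem_inf.1 ha
      refine Subgroup.mem_inf.2 ⟨hP1inv x a ha1, ?_⟩
      rw [MonoidHom.mem_ker] at ha2 ⊢
      rw [hpwsm, ha2, smul_one]
    obtain ⟨M, hMinv, hM1, hM2, hM3, hM4⟩ := exists_invariant_compl_mod hV hcop P1 T₀ K₀ hP1inv
      hT₀inv hK₀inv h1 inf_le_left (fun a ha => ⟨a, ha, rfl⟩)
    have hMF : U0 ≤ M.map pw := by
      have h2 : P1.map pw = M.map pw := by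
        rw [← hM4, Subgroup.map_sup]
        have h3 : K₀.map pw = ⊥ := by
          rw [eq_bot_iff]
          rintro _ ⟨a, ha, rfl⟩
          exact (Subgroup.mem_inf.1 ha).2
        rw [h3, sup_bot_eq]
      rw [← h2]
      exact hP1U
    have h3 : P1 ≤ M := hP1.le_of_le ⟨hMinv, hMF⟩ hM2
    intro x hx hx1
    have h4 : x ∈ M ⊓ K₀ :=
      Subgroup.mem_inf.2 ⟨h3 hx, Subgroup.mem_inf.2 ⟨hx, by rw [MonoidHom.mem_ker]; exact hx1⟩⟩
    obtain ⟨y, hy, hyx⟩ := hM3 h4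
    exact ⟨y, hy, hyx⟩
  -- `P1` is an invariant direct factor, hence everything
  obtain ⟨C, hC1, hC2⟩ := exists_compl_of_pure_top n hexp P1 hP1b
  have hcopV : (Nat.card X).Coprime (Nat.card V) := by
    obtain ⟨k, hk⟩ := IsPGroup.iff_card.1 hV
    rw [hk]
    exact Nat.Coprime.pow_right _ hcop
  obtain ⟨C', hC'inv, hC'1, hC'2⟩ := Cfsg.Agent.Helper29.exists_invariant_compl (A := X)
    (fun a b => mul_comm a b) hcopV P1 C hP1inv hC1 hC2
  have hP1ne : P1 ≠ ⊥ := by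
    intro h
    apply hU0ne
    rw [eq_bot_iff]
    refine hP1U.trans ?_
    rw [h, Subgroup.map_bot]
  have hP1top : P1 = ⊤ := by
    rcases hind P1 C' hP1inv hC'inv hC'1 hC'2 with h | h
    · exact absurd h hP1ne
    · rw [h, sup_bot_eq] at hC'2
      exact hC'2
  have hroot : ∀ x : V, x ^ p ^ n = 1 → ∃ y : V, y ^ p = x := by
    intro x hx
    obtain ⟨y, -, hy⟩ := hP1b x (by rw [hP1top]; trivial) hx
    exact ⟨y, hy⟩
  have hVU : pw.range ≤ U0 := by
    rw [MonoidHom.range_eq_map, ← hP1top]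
    exact hP1a
  have hΩ : ∀ a : V, a ^ p = 1 → a ∈ pw.range := by
    intro a ha
    have key : ∀ j, j ≤ n → ∃ b : V, b ^ p ^ j = a := by
      intro j
      induction j with
      | zero => intro _; exact ⟨a, by simp⟩
      | succ j ih =>
        intro hj
        obtain ⟨b, hb⟩ := ih (by omega)
        have hb1 : b ^ p ^ n = 1 := by
          have h1 : b ^ p ^ (j + 1) = 1 := by rw [pow_succ, pow_mul, hb, ha]
          obtain ⟨d, rfl⟩ := Nat.exists_eq_add_of_le hj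
          rw [pow_add, pow_mul, h1, one_pow]
        obtain ⟨c, hc⟩ := hroot b hb1
        exact ⟨c, by rw [pow_succ', pow_mul, hc, hb]⟩
    obtain ⟨b, hb⟩ := key n le_rfl
    exact ⟨b, hb⟩
  by_cases hBbot : B = ⊥
  · left; exact hBbot
  right
  have hBle : B ≤ pw.range := fun b hb => hΩ b (hBp b hb)
  have hU0B : U0 ≤ B := hU0.le_of_le ⟨hB, hBbot, hBle⟩ (hBle.trans hVU)
  intro a
  exact ⟨fun ha => hBp a ha, fun ha => hU0B (hVU (hΩ a ha))⟩

/-- If `X` acts irreducibly on `Ω₁(V)`, every invariant subgroup of the finite abelian `p`-group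
`V` is of the form `Ω_i(V)`. -/
theorem eq_omega_of_irreducible_omega {X V : Type*} [Group X] [CommGroup V] [Finite V]
    [MulDistribMulAction X V] {p : ℕ} [Fact p.Prime] (hV : IsPGroup p V)
    (hirr : ∀ B : Subgroup V, (∀ x : X, ∀ a ∈ B, x • a ∈ B) → (∀ b ∈ B, b ^ p = 1) →
      B = ⊥ ∨ ∀ a : V, a ∈ B ↔ a ^ p = 1)
    (B : Subgroup V) (hB : ∀ x : X, ∀ a ∈ B, x • a ∈ B) :
    ∃ i : ℕ, ∀ a : V, a ∈ B ↔ a ^ p ^ i = 1 := by
  classical
  have hex : ∃ m, ∀ b ∈ B, b ^ p ^ m = 1 := by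
    obtain ⟨k, hk⟩ := IsPGroup.iff_card.1 hV
    exact ⟨k, fun b _ => by rw [← hk]; exact pow_card_eq_one'⟩
  refine ⟨Nat.find hex, fun a => ⟨fun ha => Nat.find_spec hex a ha, ?_⟩⟩
  by_cases h0 : Nat.find hex = 0
  · intro ha
    rw [h0, pow_zero, pow_one] at ha
    rw [ha]
    exact one_mem _
  obtain ⟨i', hi'⟩ := Nat.exists_eq_succ_of_ne_zero h0
  have hnot : ¬ ∀ b ∈ B, b ^ p ^ i' = 1 := Nat.find_min hex (by omega)
  push Not at hnot
  obtain ⟨b0, hb0, hb0ne⟩ := hnot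
  set B1 : Subgroup V := B.map (powMonoidHom (p ^ i')) with hB1
  have hB1inv : ∀ x : X, ∀ a ∈ B1, x • a ∈ B1 := by
    rintro x _ ⟨b, hb, rfl⟩
    refine ⟨x • b, hB x b hb, ?_⟩
    show (x • b) ^ p ^ i' = x • b ^ p ^ i'
    rw [smul_pow']
  have hB1p : ∀ b ∈ B1, b ^ p = 1 := by
    rintro _ ⟨b, hb, rfl⟩
    show (b ^ p ^ i') ^ p = 1
    rw [← pow_mul, ← pow_succ]
    have := Nat.find_spec hex b hb
    rwa [hi'] at this
  have hB1ne : B1 ≠ ⊥ := by
    intro h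
    have h1 : b0 ^ p ^ i' ∈ B1 := ⟨b0, hb0, rfl⟩
    rw [h, Subgroup.mem_bot] at h1
    exact hb0ne h1
  have hΩ : ∀ a : V, a ∈ B1 ↔ a ^ p = 1 := (hirr B1 hB1inv hB1p).resolve_left hB1ne
  have key : ∀ j, j ≤ i' + 1 → ∀ a : V, a ^ p ^ j = 1 → a ∈ B := by
    intro j
    induction j with
    | zero =>
      intro _ a ha
      rw [pow_zero, pow_one] at ha
      rw [ha]
      exact one_mem _
    | succ j ih =>
      intro hj a ha
      have h1 : a ^ p ^ j ∈ B1 := by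
        rw [hΩ, ← pow_mul, ← pow_succ]
        exact ha
      obtain ⟨b, hb, hba⟩ := h1
      have hba' : b ^ p ^ i' = a ^ p ^ j := hba
      obtain ⟨d, hd⟩ := Nat.exists_eq_add_of_le (show j ≤ i' by omega)
      have hcB : b ^ p ^ d ∈ B := B.pow_mem hb _
      have hcj : (b ^ p ^ d) ^ p ^ j = a ^ p ^ j := by
        rw [← pow_mul, ← pow_add, add_comm, ← hd, hba']
      have h2 : (a * (b ^ p ^ d)⁻¹) ^ p ^ j = 1 := by
        rw [mul_pow, inv_pow, hcj, mul_inv_cancel]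
      have h3 := ih (by omega) _ h2
      have h4 : a = (a * (b ^ p ^ d)⁻¹) * b ^ p ^ d := by rw [inv_mul_cancel_right]
      rw [h4]
      exact B.mul_mem h3 hcB
  intro ha
  rw [hi'] at ha
  exact key (i' + 1) le_rfl a ha

end Cfsg.Agent.Helper97
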