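import Mathlib
import Cfsg.Agent.Helper96.StC.Roots

/-!
# (GC) of board #7221 (for helper96, S2092): where the commutator of two root elements of type `C`
lives
-/

set_option autoImplicit false
set_option linter.unusedSectionVars false

namespace Cfsg.Agent.Helper97.StC

open Cfsg.Agent.Helper96.StC

universe u v w

variable {K : Type u} [Field K] {D : Type v} [Group D] {ι : Type w} [DecidableEq ι]
  {X : ι ⊕ ι → ι ⊕ ι → K → D}

/-- the root elements whose root is a positive combination of `α` and `β` -/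
def commSet (X : ι ⊕ ι → ι ⊕ ι → K → D) (α β : ι → ℤ) : Set D :=
  {g | ∃ i j, i ≠ j ∧ (∃ c d : ℕ, 1 ≤ c ∧ 1 ≤ d ∧ rootVec i j = c • α + d • β) ∧
    ∃ t, g = X i j t}

theorem commSet_symm (α β : ι → ℤ) : commSet X α β = commSet X β α := by
  ext g
  constructor
  · rintro ⟨i, j, hij, ⟨c, d, hc, hd, h⟩, t, rfl⟩
    exact ⟨i, j, hij, ⟨d, c, hd, hc, by rw [h, add_comm]⟩, t, rfl⟩
  · rintro ⟨i, j, hij, ⟨c, d, hc, hd, h⟩, t, rfl⟩
    exact ⟨i, j, hij, ⟨d, c, hd, hc, by rw [h, add_comm]⟩, t, rfl⟩

theorem mem_of_add {α β : ι → ℤ} {i j : ι ⊕ ι} (hij : i ≠ j) (h : rootVec i j = α + β) (t : K) :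
    X i j t ∈ Subgroup.closure (commSet X α β) :=
  Subgroup.subset_closure ⟨i, j, hij, ⟨1, 1, le_refl 1, le_refl 1, by rw [one_smul, one_smul, h]⟩,
    t, rfl⟩

theorem mem_of_add_two {α β : ι → ℤ} {i j : ι ⊕ ι} (hij : i ≠ j)
    (h : rootVec i j = α + (β + β)) (t : K) :
    X i j t ∈ Subgroup.closure (commSet X α β) :=
  Subgroup.subset_closure ⟨i, j, hij, ⟨1, 2, le_refl 1, by norm_num, by
    rw [one_smul, two_smul, h]⟩, t, rfl⟩

theorem mem_of_two_add {α β : ι → ℤ} {i j : ι ⊕ ι} (hij : i ≠ j)
    (h : rootVec i j = (α + α) + β) (t : K) :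
    X i j t ∈ Subgroup.closure (commSet X α β) :=
  Subgroup.subset_closure ⟨i, j, hij, ⟨2, 1, by norm_num, le_refl 1, by
    rw [one_smul, two_smul, h]⟩, t, rfl⟩

/-- the case of a shared middle index -/
theorem comm_mem_core (hX : SpRel X) {p q s : ι ⊕ ι} (hpq : p ≠ q) (hqs : q ≠ s) (hps : p ≠ s)
    (a b : K) :
    X p q a * X q s b * (X p q a)⁻¹ * (X q s b)⁻¹ ∈
      Subgroup.closure (commSet X (rootVec p q) (rootVec q s)) := by
  by_cases h2 : q = bar p
  · -- the first root is long
    subst h2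
    have hps' : p ≠ bar s := by
      intro h
      apply hqs
      rw [h, bar_bar]
    rw [hX.r6 p s hps hps' a b]
    apply Subgroup.mul_mem
    · exact mem_of_add hps (rootVec_add p (bar p) s).symm _
    · refine mem_of_add_two (bar_ne s) ?_ _
      unfold rootVec
      rw [epsV_bar, epsV_bar]
      abel
  by_cases h1 : s = bar p
  · subst h1
    have hpq' : p ≠ bar q := by
      intro h
      apply h2
      rw [h, bar_bar]
    rw [hX.r5 p q hpq hpq' a b]
    exact mem_of_add (bar_ne p).symm (rootVec_add p q (bar p)).symm _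
  by_cases h3 : s = bar q
  · subst h3
    rw [hX.sym p q hpq h2 a]
    have hqp : q ≠ bar (bar p) := by rw [bar_bar]; exact hpq.symm
    have hr6 := hX.r6 q (bar p) h2 hqp b (-(eps K p q * a))
    rw [bar_bar] at hr6
    have hmem : X q (bar q) b * X (bar q) (bar p) (-(eps K p q * a)) * (X q (bar q) b)⁻¹ *
        (X (bar q) (bar p) (-(eps K p q * a)))⁻¹ ∈
        Subgroup.closure (commSet X (rootVec p q) (rootVec q (bar q))) := by
      rw [hr6]
      apply Subgroup.mul_mem
      · refine mem_of_add h2 ?_ _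
        unfold rootVec
        rw [epsV_bar, epsV_bar]
        abel
      · refine mem_of_two_add (bar_ne p).symm ?_ _
        unfold rootVec
        rw [epsV_bar, epsV_bar]
        abel
    have hinv := Subgroup.inv_mem _ hmem
    have heq : X (bar q) (bar p) (-(eps K p q * a)) * X q (bar q) b *
        (X (bar q) (bar p) (-(eps K p q * a)))⁻¹ * (X q (bar q) b)⁻¹ =
        (X q (bar q) b * X (bar q) (bar p) (-(eps K p q * a)) * (X q (bar q) b)⁻¹ *
        (X (bar q) (bar p) (-(eps K p q * a)))⁻¹)⁻¹ := by group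
    rw [heq]
    exact hinv
  · have hpq' : p ≠ bar q := by
      intro h
      apply h2
      rw [h, bar_bar]
    have hqs' : q ≠ bar s := by
      intro h
      apply h3
      rw [h, bar_bar]
    have hps' : p ≠ bar s := by
      intro h
      apply h1
      rw [h, bar_bar]
    rw [hX.mul p q s hpq hqs hps hpq' hqs' hps' a b]
    exact mem_of_add hps (rootVec_add p q s).symm _

/-- (GC) -/
theorem gen_comm (hX : SpRel X) {p q r s : ι ⊕ ι} (hpq : p ≠ q) (hrs : r ≠ s)
    (h1 : rootVec r s ≠ rootVec p q) (h2 : rootVec r s ≠ -rootVec p q) (a b : K) :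
    X p q a * X r s b * (X p q a)⁻¹ * (X r s b)⁻¹ ∈
      Subgroup.closure {g | ∃ i j, i ≠ j ∧
        (∃ c d : ℕ, 1 ≤ c ∧ 1 ≤ d ∧ rootVec i j = c • rootVec p q + d • rootVec r s) ∧
        ∃ t, g = X i j t} := by
  show X p q a * X r s b * (X p q a)⁻¹ * (X r s b)⁻¹ ∈
    Subgroup.closure (commSet X (rootVec p q) (rootVec r s))
  by_cases hqr : q = r
  · subst hqr
    have hps : p ≠ s := by
      rintro rfl
      exact h2 (rootVec_swap p q)
    exact comm_mem_core hX hpq hrs hps a b
  by_cases hps : p = s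
  · subst hps
    have hrq : r ≠ q := fun h => hqr h.symm
    have h3 := comm_mem_core hX hrs hpq hrq b a
    rw [commSet_symm] at h3
    have h4 := Subgroup.inv_mem _ h3
    have heq : X p q a * X r p b * (X p q a)⁻¹ * (X r p b)⁻¹ =
        (X r p b * X p q a * (X r p b)⁻¹ * (X p q a)⁻¹)⁻¹ := by group
    rw [heq]
    exact h4
  by_cases hqs : q = bar s
  · have hsr : s ≠ bar r := by
      rintro rfl
      apply hqr
      rw [hqs, bar_bar]
    rw [hX.sym r s hrs hsr b, ← rootVec_bar r s]
    have hq' : bar s = q := hqs.symm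
    rw [hq']
    have hqr' : q ≠ bar r := by
      intro h
      apply hrs
      apply bar_injective
      rw [← h, hqs]
    have hpr' : p ≠ bar r := by
      intro h
      apply h2
      rw [← rootVec_bar r s, hq', ← h]
      exact rootVec_swap p q
    exact comm_mem_core hX hpq hqr' hpr' a _
  by_cases hpr : p = bar r
  · have hbp : bar p = r := by rw [hpr, bar_bar]
    have hqp : q ≠ bar p := by rw [hbp]; exact hqr
    rw [hX.sym p q hpq hqp a, ← rootVec_bar p q, hbp]
    have hqr' : bar q ≠ r := by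
      intro h
      apply hpq
      rw [hpr, ← h, bar_bar]
    have hqs' : bar q ≠ s := by
      intro h
      apply hqs
      rw [← h, bar_bar]
    exact comm_mem_core hX hqr' hrs hqs' _ b
  · have hc := hX.comm p q r s hpq hrs hqr hqs hpr hps a b
    have heq : X p q a * X r s b * (X p q a)⁻¹ * (X r s b)⁻¹ = 1 := by
      rw [hc]
      group
    rw [heq]
    exact Subgroup.one_mem _

end Cfsg.Agent.Helper97.StC
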