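import Mathlib
import Cfsg.Agent.Helper52.DicksonSub

set_option autoImplicit false

/-!
# Dickson's lemma in the strong form needed for Glauberman's `Qd(p)` theorem

For a finite subgroup `Γ` of `SL₂(E)` (`E` algebraically closed of odd characteristic `p`) with more
than one Sylow `p`-subgroup, every element `s` of order `p` has two `Γ`-conjugates `x`, `y` with
`tr (x * y ^ j) = -2` for some `j`.  The proof follows `Helper52.DicksonSub` (which produces a copy
of `SL₂(p)`), keeping track of conjugacy.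
-/

namespace Cfsg.Agent.Helper97.QdDickson

open Matrix Cfsg.Agent.Helper46.Dk Cfsg.Agent.Helper46.IsCA Cfsg.Agent.Helper52.SL2Prime
  Cfsg.Agent.Helper52.DicksonPts Cfsg.Agent.Helper52.DicksonSub

variable {E : Type*} [Field E]

local notation "SL2" => Matrix.SpecialLinearGroup (Fin 2) E

variable {Γ : Type*} [Group Γ] {ρ : Γ →* Matrix.SpecialLinearGroup (Fin 2) E}

/-- two conjugates of `s` and a power with trace `-2` -/
def HasPair (ρ : Γ →* Matrix.SpecialLinearGroup (Fin 2) E) (s : Γ) : Prop :=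
  ∃ g₁ g₂ : Γ, ∃ j : ℕ, tr (ρ (g₁ * s * g₁⁻¹ * (g₂ * s * g₂⁻¹) ^ j)) = -2

theorem hasPair_conjRep {c : SL2} {s : Γ} (h : HasPair (conjRep ρ c) s) : HasPair ρ s := by
  obtain ⟨g₁, g₂, j, hj⟩ := h
  refine ⟨g₁, g₂, j, ?_⟩
  rw [conjRep_apply, tr_conj] at hj
  exact hj

/-- **pair lemma**: `ρ s = U(a)` and a conjugate `w` of `s` with `a * (ρ w)₁₀` a nonzero element of
the prime field. -/
theorem hasPair_of_pair (p : ℕ) [Fact p.Prime] [CharP E p] {s : Γ} {a : E} (hs : ρ s = uU a)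
    (w g : Γ) (hw : w = g * s * g⁻¹) (c : ZMod p) (hc : c ≠ 0)
    (hac : a * (ρ w).1 1 0 = iota p c) : HasPair ρ s := by
  refine ⟨g, 1, (-4 / c).val, ?_⟩
  have htr : (ρ w).1 0 0 + (ρ w).1 1 1 = 2 := by
    rw [hw, map_mul, map_mul, map_inv, hs]
    have := tr_conj (ρ g) (uU a)
    unfold tr at this
    rw [this]; simp only [uU, mk4_00, mk4_11]; norm_num
  have e1 : ρ (g * s * g⁻¹ * (1 * s * 1⁻¹) ^ (-4 / c).val) =
      ρ w * uU (((-4 / c).val : ℕ) * a) := by
    rw [map_mul, ← hw, map_pow, one_mul, inv_one, mul_one, hs, uU_pow]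
  rw [e1]
  unfold tr
  rw [mul_00, mul_11]
  simp only [uU, mk4_00, mk4_01, mk4_10, mk4_11]
  have e2 : (((-4 / c).val : ℕ) : E) * iota p c = -4 := by
    rw [← iota_eq_val, ← map_mul, div_mul_cancel₀ _ hc, map_neg]
    have : iota (E := E) p 4 = 4 := by
      have := iota_natCast (E := E) p 4
      simpa using this
    rw [this]
  linear_combination htr + e2 + (((-4 / c).val : ℕ) : E) * hac


/-- the case of a doubly transitive orbit -/
theorem hasPair_of_m_one [Finite Γ] (hinj : Function.Injective ρ) (h : Γ)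
    (h00 : (ρ h).1 0 0 = 0) (h10 : (ρ h).1 1 0 ≠ 0) (s : Γ)
    (lam : E) (hlam : lam ≠ 0) (hv : ρ (h * s * h⁻¹) = vV lam)
    (hidx : (Bg ρ).index = 1 + Nat.card (Qg ρ)) : HasPair ρ s := by
  have hbound : (pts ρ).ncard ≤ Nat.card (Qg ρ) := by
    have := ncard_pts_lt_index (ρ := ρ); omega
  have h0pts : (0 : E) ∈ pts ρ := mem_pts_of' h h10 (by rw [zero_mul, h00])
  set A' : Set E := (fun u : Qg ρ => (ρ u.1).1 0 1) '' Set.univ with hA'
  have hA'card : A'.ncard = Nat.card (Qg ρ) := by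
    rw [hA', Set.ncard_image_of_injective, Set.ncard_univ]
    intro u u' huu'
    apply Subtype.ext; apply hinj
    rw [eq_uU_of_mem_UU u.2, eq_uU_of_mem_UU u'.2]
    exact congrArg uU huu'
  have hA'sub : A' ⊆ pts ρ := by
    rintro z ⟨u, -, rfl⟩
    have := add_mem_pts h0pts (eq_uU_of_mem_UU u.2)
    rwa [zero_add] at this
  have hEq : A' = pts ρ :=
    Set.eq_of_subset_of_ncard_le hA'sub (by rw [hA'card]; exact hbound) pts_finite
  have hvpts : lam⁻¹ ∈ pts ρ := by
    have := inv_mem_pts_of_vV hv 1 (by rw [Nat.cast_one, one_mul]; exact hlam)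
    rwa [Nat.cast_one, one_mul] at this
  rw [← hEq] at hvpts
  obtain ⟨u₁, -, hu₁⟩ := hvpts
  have hρu₁ : ρ u₁.1 = uU lam⁻¹ := by
    rw [eq_uU_of_mem_UU u₁.2]; exact congrArg uU hu₁
  have hL : lam * lam⁻¹ = 1 := mul_inv_cancel₀ hlam
  -- the antidiagonal element
  set w : Γ := u₁.1 * (h * s * h⁻¹)⁻¹ * u₁.1 with hw
  have hdetw : (0 : E) * 0 - lam⁻¹ * (-lam) = 1 := by
    rw [zero_mul, zero_sub, mul_neg, neg_neg, inv_mul_cancel₀ hlam]
  have hρw : ρ w = mk4 0 lam⁻¹ (-lam) 0 hdetw := by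
    rw [hw, map_mul, map_mul, map_inv, hv, hρu₁, vV_inv]
    apply ext'
    · rw [mul_00, mul_00, mul_01]; simp only [uU, vV, mk4_00, mk4_01, mk4_10, mk4_11]
      linear_combination (-1 : E) * hL
    · rw [mul_01, mul_00, mul_01]; simp only [uU, vV, mk4_00, mk4_01, mk4_10, mk4_11]
      linear_combination (-lam⁻¹) * hL
    · rw [mul_10, mul_10, mul_11]; simp only [uU, vV, mk4_00, mk4_01, mk4_10, mk4_11]
      ring
    · rw [mul_11, mul_10, mul_11]; simp only [uU, vV, mk4_00, mk4_01, mk4_10, mk4_11]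
      linear_combination (-1 : E) * hL
  have hx₂ : ρ ((w * h) * s * (w * h)⁻¹) = uU (-lam⁻¹) := by
    have e : (w * h) * s * (w * h)⁻¹ = w * (h * s * h⁻¹) * w⁻¹ := by group
    rw [e, map_mul, map_mul, map_inv, hv, hρw]
    apply ext'
    · rw [conj_00]; simp only [uU, vV, mk4_00, mk4_01, mk4_10, mk4_11]
      linear_combination hL
    · rw [conj_01]; simp only [uU, vV, mk4_00, mk4_01, mk4_10, mk4_11]
      linear_combination (-lam⁻¹) * hL
    · rw [conj_10]; simp only [uU, vV, mk4_00, mk4_01, mk4_10, mk4_11]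
      ring
    · rw [conj_11]; simp only [uU, vV, mk4_00, mk4_01, mk4_10, mk4_11]
      linear_combination hL
  refine ⟨h, w * h, 4, ?_⟩
  rw [map_mul, map_pow, hv, hx₂, uU_pow]
  unfold tr
  rw [mul_00, mul_11]
  simp only [uU, vV, mk4_00, mk4_01, mk4_10, mk4_11]
  push_cast
  linear_combination (-4 : E) * hL


/-- the exceptional case: characteristic `3` and ten Sylow `3`-subgroups -/
theorem hasPair_of_m_three [Finite Γ] [Fact (Nat.Prime 3)] [CharP E 3]
    (hinj : Function.Injective ρ) (h : Γ) (h00 : (ρ h).1 0 0 = 0) (h10 : (ρ h).1 1 0 ≠ 0)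
    (u₀ : Γ) (a : E) (ha : a ≠ 0) (hu₀ : ρ u₀ = uU a)
    (lam : E) (hlam : lam ≠ 0) (hv : ρ (h * u₀ * h⁻¹) = vV lam)
    (hidx : (Bg ρ).index = 1 + 3 * 3) : HasPair ρ u₀ := by
  obtain ⟨v, hvdef⟩ : ∃ v : Γ, v = h * u₀ * h⁻¹ := ⟨_, rfl⟩
  rw [← hvdef] at hv
  obtain ⟨t, ht⟩ : ∃ t : E, t = a * lam := ⟨_, rfl⟩
  by_cases hex : ∃ c : ZMod 3, c ≠ 0 ∧ t = iota 3 c
  · obtain ⟨c, hc, htc⟩ := hex
    refine hasPair_of_pair 3 hu₀ v h hvdef c hc ?_
    rw [hv, ← htc, ht]; simp only [vV, mk4_10]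
  push Not at hex
  have h3 : (3 : E) = 0 := by exact_mod_cast CharP.cast_eq_zero E 3
  have ht0 : t ≠ 0 := by rw [ht]; exact mul_ne_zero ha hlam
  have ht1 : t ≠ 1 := by
    have := hex 1 one_ne_zero
    rwa [map_one] at this
  have ht2 : t ≠ -1 := by
    have := hex (-1) (neg_ne_zero.2 one_ne_zero)
    rwa [map_neg, map_one] at this
  have hT : t + 1 ≠ 0 := fun h0 => ht2 (eq_neg_of_add_eq_zero_left h0)
  have hbound : (pts ρ).ncard ≤ 9 := by
    have := ncard_pts_lt_index (ρ := ρ); omega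
  have h0pts : (0 : E) ∈ pts ρ := mem_pts_of' h h10 (by rw [zero_mul, h00])
  have hL : lam * lam⁻¹ = 1 := mul_inv_cancel₀ hlam
  -- the nine points
  set f : ZMod 3 × ZMod 3 → E := fun jk => iota 3 jk.1 * a + iota 3 jk.2 * lam⁻¹ with hf
  have hfinj : Function.Injective f := by
    rintro ⟨j, k⟩ ⟨j', k'⟩ hjk
    have hjk' : iota 3 j * a + iota 3 k * lam⁻¹ = iota 3 j' * a + iota 3 k' * lam⁻¹ := hjk
    have e : iota 3 (j - j') * t + iota (E := E) 3 (k - k') = 0 := by
      rw [map_sub, map_sub, ht]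
      linear_combination lam * hjk' - (iota 3 k - iota 3 k') * hL
    by_cases hJ : j - j' = 0
    · rw [hJ, map_zero, zero_mul, zero_add] at e
      have hK : k - k' = 0 := iota_injective 3 (by rw [e, map_zero])
      rw [sub_eq_zero] at hJ hK
      rw [hJ, hK]
    · exfalso
      have hιJ : iota (E := E) 3 (j - j') ≠ 0 := by
        intro h0; exact hJ (iota_injective 3 (by rw [h0, map_zero]))
      have htc : t = iota 3 (-(k - k') / (j - j')) := by
        rw [map_div₀, map_neg, eq_div_iff hιJ]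
        linear_combination e
      by_cases hc : -(k - k') / (j - j') = 0
      · rw [hc, map_zero] at htc; exact ht0 htc
      · exact hex _ hc htc
  set M : Set E := f '' Set.univ with hM
  have hMcard : M.ncard = 9 := by
    rw [hM, Set.ncard_image_of_injective _ hfinj, Set.ncard_univ, Nat.card_prod, Nat.card_zmod]
  have hMsub : M ⊆ pts ρ := by
    rintro _ ⟨⟨j, k⟩, -, rfl⟩
    show iota 3 j * a + iota 3 k * lam⁻¹ ∈ pts ρ
    have hk : iota 3 k * lam⁻¹ ∈ pts ρ := by
      by_cases hk0 : k = 0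
      · rw [hk0, map_zero, zero_mul]; exact h0pts
      · have hne : iota (E := E) 3 k⁻¹ ≠ 0 := by
          intro h0; exact inv_ne_zero hk0 (iota_injective 3 (by rw [h0, map_zero]))
        have := inv_mem_pts_of_vV hv (k⁻¹).val (by
          rw [← iota_eq_val]; exact mul_ne_zero hne hlam)
        rw [← iota_eq_val, mul_inv, ← map_inv₀, inv_inv] at this
        exact this
    have := add_nat_mul_mem_pts hu₀ hk j.val
    rwa [← iota_eq_val] at this
  have hEq : M = pts ρ :=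
    Set.eq_of_subset_of_ncard_le hMsub (by rw [hMcard]; exact hbound) pts_finite
  -- a tenth point
  have hγ := h10
  have hstar : a / (t + 1) ∈ pts ρ := by
    have e00 : (ρ (v * u₀ * h)).1 0 0 = a * (ρ h).1 1 0 := by
      rw [map_mul, map_mul, hv, hu₀, mul_00, mul_00, mul_01]
      simp only [uU, vV, mk4_00, mk4_01, mk4_10, mk4_11, h00]
      ring
    have e10 : (ρ (v * u₀ * h)).1 1 0 = (t + 1) * (ρ h).1 1 0 := by
      rw [map_mul, map_mul, hv, hu₀, mul_10, mul_10, mul_11]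
      simp only [uU, vV, mk4_00, mk4_01, mk4_10, mk4_11, h00, ht]
      ring
    apply mem_pts_of' (v * u₀ * h)
    · rw [e10]; exact mul_ne_zero hT hγ
    · rw [e00, e10]; field_simp
  rw [← hEq] at hstar
  obtain ⟨⟨j, k⟩, -, hjk⟩ := hstar
  have hjk' : (iota 3 j * a + iota 3 k * lam⁻¹) * (t + 1) = a := by
    have : f (j, k) = iota 3 j * a + iota 3 k * lam⁻¹ := rfl
    rw [← this, hjk]; field_simp
  have key : (iota 3 j * t + iota 3 k) * (t + 1) = t := by
    rw [ht] at hjk' ⊢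
    linear_combination lam * hjk' - iota 3 k * (a * lam + 1) * hL
  rw [iota_eq_val, iota_eq_val] at key
  have hjlt := ZMod.val_lt j
  have hklt := ZMod.val_lt k
  -- unipotent conjugates
  have hconjU : ∀ g : Γ,
      (ρ (g * u₀ * g⁻¹)).1 1 0 = -(a * (ρ g).1 1 0 ^ 2) := by
    intro g
    rw [map_mul, map_mul, map_inv, hu₀]
    rw [conj_10]; simp only [uU, mk4_00, mk4_01, mk4_10, mk4_11]; ring
  have hconjV : ∀ g : Γ,
      (ρ (g * v * g⁻¹)).1 1 0 = lam * (ρ g).1 1 1 ^ 2 := by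
    intro g
    rw [map_mul, map_mul, map_inv, hv]
    rw [conj_10]; simp only [vV, mk4_00, mk4_01, mk4_10, mk4_11]; ring
  generalize j.val = nj at key hjlt
  generalize k.val = nk at key hklt
  interval_cases nj <;> interval_cases nk
  · -- (0,0)
    exfalso; apply ht0; linear_combination -key
  · -- (0,1)
    exfalso; apply one_ne_zero (α := E); linear_combination key
  · -- (0,2)
    exfalso; apply ht1; push_cast at key; linear_combination key - h3
  · -- (1,0)
    exfalso; apply ht0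
    have : t ^ 2 = 0 := by push_cast at key; linear_combination key
    exact pow_eq_zero_iff (two_ne_zero) |>.1 this
  · -- (1,1)
    exfalso; apply ht1
    have : (t - 1) ^ 2 = 0 := by push_cast at key; linear_combination key - t * h3
    exact sub_eq_zero.1 (pow_eq_zero_iff (two_ne_zero) |>.1 this)
  · -- (1,2): t^2 = t + 1
    have hs : t ^ 2 = t + 1 := by push_cast at key; linear_combination key - (t + 1) * h3
    have h10w := hconjU (v * u₀ * v)
    have hg10 : (ρ (v * u₀ * v)).1 1 0 = lam * (t + 2) := by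
      rw [map_mul, map_mul, hv, hu₀, mul_10, mul_10, mul_11]
      simp only [uU, vV, mk4_00, mk4_01, mk4_10, mk4_11, ht]
      ring
    refine hasPair_of_pair 3 hu₀ _ (v * u₀ * v) rfl (-1) (neg_ne_zero.2 one_ne_zero) ?_
    rw [h10w, hg10, map_neg, map_one]
    have hs' : (a * lam) ^ 2 = a * lam + 1 := by rw [← ht]; exact hs
    rw [ht]
    linear_combination (-((a * lam) ^ 2 + 2 * (a * lam) + 1)) * hs' -
      ((a * lam) ^ 2 + 2 * (a * lam) + 1) * (a * lam) * h3
  · -- (2,0)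
    exfalso; apply ht1
    have h1 : t * (2 * t + 1) = 0 := by push_cast at key; linear_combination key
    rcases mul_eq_zero.1 h1 with h | h
    · exact absurd h ht0
    · linear_combination 2 * h - t * h3 - h3
  · -- (2,1): t^2 = -t + 1
    have hs : t ^ 2 = -t + 1 := by
      push_cast at key; linear_combination 2 * key - (t ^ 2 + t + 1) * h3
    have h10w := hconjU (v * u₀⁻¹ * v)
    have hg10 : (ρ (v * u₀⁻¹ * v)).1 1 0 = lam * (2 - t) := by
      rw [map_mul, map_mul, map_inv, hv, hu₀, uU_inv, mul_10, mul_10, mul_11]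
      simp only [uU, vV, mk4_00, mk4_01, mk4_10, mk4_11, ht]
      ring
    refine hasPair_of_pair 3 hu₀ _ (v * u₀⁻¹ * v) rfl (-1) (neg_ne_zero.2 one_ne_zero) ?_
    rw [h10w, hg10, map_neg, map_one]
    have hs' : (a * lam) ^ 2 = -(a * lam) + 1 := by rw [← ht]; exact hs
    rw [ht]
    linear_combination (-(a * lam) ^ 2 + 2 * (a * lam) - 1) * hs' -
      (-(a * lam) ^ 2 + 2 * (a * lam) - 1) * (a * lam) * h3
  · -- (2,2): t^2 = -1
    have hs : t ^ 2 = -1 := by
      push_cast at key; linear_combination 2 * key - (t ^ 2 + 2 * t + 1) * h3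
    have h10w := hconjV (v * u₀)
    have hg11 : (ρ (v * u₀)).1 1 1 = t + 1 := by
      rw [map_mul, hv, hu₀, mul_11]
      simp only [uU, vV, mk4_01, mk4_10, mk4_11, ht]
      ring
    have hconj : (v * u₀) * v * (v * u₀)⁻¹ = (v * u₀ * h) * u₀ * (v * u₀ * h)⁻¹ := by
      rw [hvdef]; group
    refine hasPair_of_pair 3 hu₀ _ (v * u₀ * h) hconj 1 one_ne_zero ?_
    rw [h10w, hg11, map_one]
    have hs' : (a * lam) ^ 2 = -1 := by rw [← ht]; exact hs
    rw [ht]
    linear_combination ((a * lam) + 2) * hs' - h3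

/-- the main theorem in a normalized frame: some `h` maps `∞` to `0` -/
theorem hasPair_normalized [Finite Γ] [IsAlgClosed E] (p : ℕ) [Fact p.Prime] [CharP E p]
    (hp : p ≠ 2) {x₀ : Γ} (hF : UniFrame ρ x₀) (hx₀ : ρ x₀ ∈ (UU : Subgroup SL2))
    (h : Γ) (h00 : (ρ h).1 0 0 = 0) : HasPair ρ x₀ := by
  have hinj := hF.inj
  obtain ⟨a, ha⟩ : ∃ a : E, a = (ρ x₀).1 0 1 := ⟨_, rfl⟩
  have hu₀ : ρ x₀ = uU a := by rw [ha]; exact eq_uU_of_mem_UU hx₀
  have ha0 : a ≠ 0 := by rw [ha]; exact hF.ne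
  have hdet := det' (ρ h)
  have h10 : (ρ h).1 1 0 ≠ 0 := by
    intro h0; rw [h00, h0] at hdet; simp at hdet
  obtain ⟨lam, hlam⟩ : ∃ lam : E, lam = -(a * (ρ h).1 1 0 ^ 2) := ⟨_, rfl⟩
  have hlam0 : lam ≠ 0 := by
    rw [hlam]; exact neg_ne_zero.2 (mul_ne_zero ha0 (pow_ne_zero 2 h10))
  have hv : ρ (h * x₀ * h⁻¹) = vV lam := by
    rw [map_mul, map_mul, map_inv, hu₀]
    apply ext'
    · rw [conj_00]; simp only [uU, vV, mk4_00, mk4_01, mk4_10, mk4_11, h00]
      rw [h00] at hdet; linear_combination hdet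
    · rw [conj_01]; simp only [uU, vV, mk4_00, mk4_01, mk4_10, mk4_11, h00]
      ring
    · rw [conj_10]; simp only [uU, vV, mk4_00, mk4_01, mk4_10, mk4_11, hlam]
      ring
    · rw [conj_11]; simp only [uU, vV, mk4_00, mk4_01, mk4_10, mk4_11, h00]
      rw [h00] at hdet; linear_combination hdet
  obtain ⟨m, hm, hcases⟩ := hF.num p
  have hidx : (Bg ρ).index = 1 + m * Nat.card (Qg ρ) := by rw [← hF.aOf_eq_index, hm]
  have hpdvd := hF.prime_dvd_card_Qg p
  have hm1 : m = 1 → HasPair ρ x₀ := by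
    intro h1
    rw [h1, one_mul] at hidx
    exact hasPair_of_m_one hinj h h00 h10 x₀ lam hlam0 hv hidx
  rcases hcases with h0 | ⟨h2, -⟩ | ⟨-, -, h1⟩ | ⟨-, h1, -⟩ | ⟨h3, -, hm3, -⟩
  · -- `m = 0`
    exfalso
    rw [h0, zero_mul, add_zero, Subgroup.index_eq_one] at hidx
    apply h10
    have : h ∈ Bg ρ := by rw [hidx]; trivial
    exact this
  · -- `p = 2`
    exfalso
    rw [h2] at hpdvd
    exact hp ((Nat.prime_dvd_prime_iff_eq Fact.out Nat.prime_two).1 hpdvd)
  · exact hm1 h1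
  · exact hm1 h1
  · -- `p = 3`, ten Sylow subgroups
    rw [h3] at hpdvd
    obtain rfl : p = 3 := (Nat.prime_dvd_prime_iff_eq Fact.out Nat.prime_three).1 hpdvd
    rw [h3, hm3] at hidx
    exact hasPair_of_m_three hinj h h00 h10 x₀ a ha0 hu₀ lam hlam0 hv hidx

theorem hasPair_of_uniFrame [Finite Γ] [IsAlgClosed E] (p : ℕ) [Fact p.Prime] [CharP E p]
    (hp : p ≠ 2) {x₀ : Γ} (hF : UniFrame ρ x₀) (hx₀ : ρ x₀ ∈ (UU : Subgroup SL2))
    (hB : Bg ρ ≠ ⊤) : HasPair ρ x₀ := by
  obtain ⟨h, hh⟩ : ∃ h : Γ, h ∉ Bg ρ := by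
    by_contra hcon
    push Not at hcon
    exact hB (eq_top_iff.2 fun g _ => hcon g)
  have h10 : (ρ h).1 1 0 ≠ 0 := hh
  set c : SL2 := uU (-((ρ h).1 0 0 / (ρ h).1 1 0)) with hc
  have hcU : c ∈ (UU : Subgroup SL2) := uU_mem_UU (-((ρ h).1 0 0 / (ρ h).1 1 0))
  have hF' := uniFrame_conj_UU hF hcU
  have hcomm : c * ρ x₀ * c⁻¹ = ρ x₀ := by
    have := PU_commute (UU_le_PU hcU) hF.mem
    rw [this]; group
  apply hasPair_conjRep (c := c)
  apply hasPair_normalized p hp hF' (by rw [conjRep_apply, hcomm]; exact hx₀) h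
  rw [conjRep_apply, conj_00]
  simp only [hc, uU, mk4_00, mk4_01, mk4_10, mk4_11]
  field_simp
  ring

/-- **Dickson's lemma, strong form (abstract)**. -/
theorem hasPair_of_sylow [Finite Γ] [IsAlgClosed E] (p : ℕ) [Fact p.Prime] [CharP E p]
    (hp : p ≠ 2) (hinj : Function.Injective ρ) (hS : 1 < Nat.card (Sylow p Γ))
    (x₀ : Γ) (hx₀p : x₀ ^ p = 1) (hx₀1 : x₀ ≠ 1) : HasPair ρ x₀ := by
  obtain ⟨c, hc⟩ := exists_conj_mem_BB (ρ x₀)
  have hinj' := conjRep_injective ρ c hinj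
  have hx₀p' : (conjRep ρ c x₀) ^ (p ^ 1) = 1 := by
    rw [pow_one, ← map_pow, hx₀p, map_one]
  have hUU : conjRep ρ c x₀ ∈ (UU : Subgroup SL2) :=
    mem_UU_of_pow_char p (by rw [conjRep_apply]; exact hc) 1 hx₀p'
  have hF : UniFrame (conjRep ρ c) x₀ := by
    refine ⟨hinj', UU_le_PU hUU, ?_⟩
    intro h0
    have h1 : conjRep ρ c x₀ = 1 := by rw [eq_uU_of_mem_UU hUU, h0, uU_zero]
    exact hx₀1 (hinj' (by rw [h1, map_one]))
  apply hasPair_conjRep (c := c)
  apply hasPair_of_uniFrame p hp hF hUU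
  intro hB
  have hall : ∀ P : Sylow p Γ, (P : Subgroup Γ) = Qg (conjRep ρ c) := by
    intro P
    have hle : (P : Subgroup Γ) ≤ Qg (conjRep ρ c) := by
      intro g hg
      obtain ⟨k, hk⟩ := P.2 ⟨g, hg⟩
      have hk' : g ^ (p ^ k) = 1 := by
        have := congrArg Subtype.val hk
        simpa using this
      have hgB : conjRep ρ c g ∈ (BB : Subgroup SL2) := by
        have : g ∈ Bg (conjRep ρ c) := by rw [hB]; trivial
        exact this
      rw [mem_Qg]
      exact mem_UU_of_pow_char p hgB k (by rw [← map_pow, hk', map_one])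
    exact (P.is_maximal' (isPGroup_Qg hinj' p) hle).symm
  have hsub : Subsingleton (Sylow p Γ) :=
    ⟨fun P Q => Sylow.ext (by rw [hall P, hall Q])⟩
  have := Finite.card_le_one_iff_subsingleton.2 hsub
  omega


/-- **Dickson's lemma, strong form, over a finite field.** -/
theorem dickson_pair_finite (p : ℕ) [Fact p.Prime] (hp : p ≠ 2)
    (K : Type*) [Field K] [Finite K] [CharP K p]
    (L : Subgroup (Matrix.SpecialLinearGroup (Fin 2) K)) (s : Matrix.SpecialLinearGroup (Fin 2) K)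
    (hsL : s ∈ L) (hsp : s ^ p = 1) (hs1 : s ≠ 1) (hS : 1 < Nat.card (Sylow p L)) :
    ∃ g₁ ∈ L, ∃ g₂ ∈ L, ∃ j : ℕ,
      Matrix.trace ((g₁ * s * g₁⁻¹ * (g₂ * s * g₂⁻¹) ^ j :
        Matrix.SpecialLinearGroup (Fin 2) K) : Matrix (Fin 2) (Fin 2) K) = -2 := by
  have hCharE : CharP (AlgebraicClosure K) p :=
    charP_of_injective_algebraMap (algebraMap K (AlgebraicClosure K)).injective p
  set ι : K →+* AlgebraicClosure K := algebraMap K (AlgebraicClosure K) with hι
  set ρ : ↥L →* Matrix.SpecialLinearGroup (Fin 2) (AlgebraicClosure K) :=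
    (Matrix.SpecialLinearGroup.map ι).comp L.subtype with hρ
  have hρapp : ∀ (x : ↥L) (i j : Fin 2), (ρ x).1 i j = ι (x.1.1 i j) := fun x i j => rfl
  have hinj : Function.Injective ρ := by
    intro x y hxy
    apply Subtype.ext
    apply Subtype.ext
    ext i j
    apply ι.injective
    rw [← hρapp, ← hρapp, hxy]
  have hfinL : Finite ↥L := by
    have : Finite (Matrix (Fin 2) (Fin 2) K) := inferInstance
    have : Finite (Matrix.SpecialLinearGroup (Fin 2) K) := Subtype.finite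
    exact Subtype.finite
  obtain ⟨g₁, g₂, j, hj⟩ := hasPair_of_sylow (ρ := ρ) p hp hinj hS ⟨s, hsL⟩
    (Subtype.ext (by rw [Subgroup.coe_pow, Subgroup.coe_one]; exact hsp))
    (fun h => hs1 (congrArg Subtype.val h))
  refine ⟨g₁.1, g₁.2, g₂.1, g₂.2, j, ?_⟩
  apply ι.injective
  unfold tr at hj
  rw [hρapp, hρapp, ← map_add] at hj
  rw [Matrix.trace_fin_two, map_neg, map_ofNat]
  exact hj

end Cfsg.Agent.Helper97.QdDickson
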