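import Mathlib

/-! (K2)+(K2t) for helper99's S6000 farm (#8930): involutions in `M₄(F)`, `char F ≠ 2, 3`:
the characteristic polynomial is determined by the trace, and the trace is `4, 2, 0, -2, -4`. -/

set_option autoImplicit false

namespace Cfsg.Agent.Helper97.P4

open Matrix Polynomial

variable {F : Type*} [Field F]

/-- the characteristic polynomial of an involution -/
theorem invol_charpoly (h2 : (2 : F) ≠ 0) (y : Matrix (Fin 4) (Fin 4) F) (hy : y * y = 1) :
    ∃ a : ℕ, a ≤ 4 ∧ y.charpoly = (X - C (1 : F)) ^ a * (X - C (-1 : F)) ^ (4 - a) ∧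
      (a = 4 → y = 1) ∧ (a = 0 → y = -1) := by
  classical
  set f : Module.End F (Fin 4 → F) := Matrix.toLin' y with hf
  have hfv : ∀ v, f v = y *ᵥ v := fun v => by rw [hf, Matrix.toLin'_apply]
  have hyy : ∀ v : Fin 4 → F, y *ᵥ (y *ᵥ v) = v := by
    intro v; rw [Matrix.mulVec_mulVec, hy, Matrix.one_mulVec]
  -- semisimple
  have hsq : Squarefree (X ^ 2 - C (1 : F)) := by
    have h2' : ((2 : ℕ) : F) ≠ 0 := by exact_mod_cast h2
    exact (separable_X_pow_sub_C (1 : F) h2' one_ne_zero).squarefree
  have hff : f ^ 2 = 1 := by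
    rw [hf, ← Matrix.toLin'_pow, sq, hy, Matrix.toLin'_one]; rfl
  have hae : aeval f (X ^ 2 - C (1 : F)) = 0 := by simp [hff]
  have hss : f.IsSemisimple := Module.End.isSemisimple_of_squarefree_aeval_eq_zero hsq hae
  have hmult : ∀ μ : F, f.charpoly.rootMultiplicity μ = Module.finrank F (f.eigenspace μ) := by
    intro μ
    rw [← LinearMap.finrank_maxGenEigenspace_eq,
      hss.isFinitelySemisimple.maxGenEigenspace_eq_eigenspace μ]
  have hcp : f.charpoly = y.charpoly := by rw [hf, Matrix.charpoly_toLin']
  -- complementary eigenspaces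
  have hcompl : IsCompl (f.eigenspace 1) (f.eigenspace (-1)) := by
    constructor
    · rw [Submodule.disjoint_def]
      intro v h1 h2v
      rw [Module.End.mem_eigenspace_iff] at h1 h2v
      have h : (2 : F) • v = 0 := by
        have : v = -v := by
          have h3 := h1.symm.trans h2v
          simpa using h3
        rw [two_smul]
        nth_rewrite 1 [this]
        simp
      rcases smul_eq_zero.mp h with h | h
      · exact absurd h h2
      · exact h
    · rw [codisjoint_iff, eq_top_iff]
      intro v _
      have hv : v = (2 : F)⁻¹ • (v + y *ᵥ v) + (2 : F)⁻¹ • (v - y *ᵥ v) := by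
        rw [← smul_add, add_add_sub_cancel, ← two_smul F v, smul_smul, inv_mul_cancel₀ h2,
          one_smul]
      rw [hv]
      apply Submodule.add_mem_sup
      · rw [Module.End.mem_eigenspace_iff, hfv, Matrix.mulVec_smul, Matrix.mulVec_add, hyy,
          one_smul, add_comm]
      · rw [Module.End.mem_eigenspace_iff, hfv, Matrix.mulVec_smul, Matrix.mulVec_sub, hyy,
          smul_smul, mul_comm, ← smul_smul, neg_one_smul, neg_sub]
  have hsum := Submodule.finrank_add_eq_of_isCompl hcompl
  rw [Module.finrank_fintype_fun_eq_card, Fintype.card_fin] at hsum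
  set a := Module.finrank F (f.eigenspace 1) with ha
  set b := Module.finrank F (f.eigenspace (-1)) with hb
  have hb4 : b = 4 - a := by omega
  refine ⟨a, by omega, ?_, ?_, ?_⟩
  · -- the characteristic polynomial
    rw [← hcp, ← hb4]
    have hd1 : (X - C (1 : F)) ^ a ∣ f.charpoly := by
      rw [ha, ← hmult 1]; exact pow_rootMultiplicity_dvd _ _
    have hd2 : (X - C (-1 : F)) ^ b ∣ f.charpoly := by
      rw [hb, ← hmult (-1)]; exact pow_rootMultiplicity_dvd _ _
    have hcop : IsCoprime ((X - C (1 : F)) ^ a) ((X - C (-1 : F)) ^ b) := by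
      apply IsCoprime.pow
      apply isCoprime_X_sub_C_of_isUnit_sub
      have : (1 : F) - -1 = 2 := by ring
      rw [this]
      exact isUnit_iff_ne_zero.mpr h2
    have hd := hcop.mul_dvd hd1 hd2
    have hm1 : ((X - C (1 : F)) ^ a * (X - C (-1 : F)) ^ b).Monic :=
      ((monic_X_sub_C _).pow _).mul ((monic_X_sub_C _).pow _)
    have hdeg : f.charpoly.natDegree ≤ ((X - C (1 : F)) ^ a * (X - C (-1 : F)) ^ b).natDegree := by
      rw [((monic_X_sub_C (1 : F)).pow a).natDegree_mul ((monic_X_sub_C (-1 : F)).pow b),
        (monic_X_sub_C (1 : F)).natDegree_pow, (monic_X_sub_C (-1 : F)).natDegree_pow,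
        natDegree_X_sub_C, natDegree_X_sub_C, LinearMap.charpoly_natDegree,
        Module.finrank_fintype_fun_eq_card, Fintype.card_fin]
      omega
    exact eq_of_monic_of_dvd_of_natDegree_le hm1 (LinearMap.charpoly_monic f) hd hdeg
  · -- `a = 4`
    intro ha4
    have htop : f.eigenspace 1 = ⊤ := by
      apply Submodule.eq_top_of_finrank_eq
      rw [← ha, ha4, Module.finrank_fintype_fun_eq_card, Fintype.card_fin]
    have hall : ∀ v : Fin 4 → F, y *ᵥ v = v := by
      intro v
      have hv : v ∈ f.eigenspace 1 := by rw [htop]; exact Submodule.mem_top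
      rw [Module.End.mem_eigenspace_iff, hfv, one_smul] at hv
      exact hv
    apply Matrix.toLin'.injective
    apply LinearMap.ext
    intro v
    rw [Matrix.toLin'_apply, hall v, Matrix.toLin'_one]; rfl
  · -- `a = 0`
    intro ha0
    have htop : f.eigenspace (-1) = ⊤ := by
      apply Submodule.eq_top_of_finrank_eq
      rw [← hb, hb4, ha0, Module.finrank_fintype_fun_eq_card, Fintype.card_fin]
    have hall : ∀ v : Fin 4 → F, y *ᵥ v = -v := by
      intro v
      have hv : v ∈ f.eigenspace (-1) := by rw [htop]; exact Submodule.mem_top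
      rw [Module.End.mem_eigenspace_iff, hfv, neg_one_smul] at hv
      exact hv
    apply Matrix.toLin'.injective
    apply LinearMap.ext
    intro v
    rw [Matrix.toLin'_apply, hall v, map_neg, Matrix.toLin'_one]; rfl

/-- the trace of an involution in terms of the multiplicity of the eigenvalue `1` -/
theorem invol_trace_eq (y : Matrix (Fin 4) (Fin 4) F) (a : ℕ) (ha : a ≤ 4)
    (hch : y.charpoly = (X - C (1 : F)) ^ a * (X - C (-1 : F)) ^ (4 - a)) :
    Matrix.trace y = 2 * (a : F) - 4 := by
  rw [Matrix.trace_eq_neg_charpoly_nextCoeff, hch,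
    ((monic_X_sub_C (1 : F)).pow a).nextCoeff_mul ((monic_X_sub_C (-1 : F)).pow (4 - a)),
    (monic_X_sub_C (1 : F)).nextCoeff_pow, (monic_X_sub_C (-1 : F)).nextCoeff_pow,
    nextCoeff_X_sub_C, nextCoeff_X_sub_C]
  have h4 : ((4 - a : ℕ) : F) = 4 - (a : F) := by
    rw [Nat.cast_sub ha]; norm_num
  simp only [nsmul_eq_mul, h4]
  ring

/-- (K2t) -/
theorem invol_trace (h2 : (2 : F) ≠ 0) (y : Matrix (Fin 4) (Fin 4) F) (hy : y * y = 1) :
    (Matrix.trace y = 4 ∧ y = 1) ∨ Matrix.trace y = 2 ∨ Matrix.trace y = 0 ∨ Matrix.trace y = -2 ∨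
      (Matrix.trace y = -4 ∧ y = -1) := by
  obtain ⟨a, ha, hch, h4, h0⟩ := invol_charpoly h2 y hy
  have htr := invol_trace_eq y a ha hch
  interval_cases a
  · right; right; right; right
    exact ⟨by rw [htr]; norm_num, h0 rfl⟩
  · right; right; right; left
    rw [htr]; norm_num
  · right; right; left
    rw [htr]; norm_num
  · right; left
    rw [htr]; norm_num
  · left
    exact ⟨by rw [htr]; norm_num, h4 rfl⟩

/-- (K2) -/
theorem invol_class (h2 : (2 : F) ≠ 0) (h3 : (3 : F) ≠ 0) (y z : Matrix (Fin 4) (Fin 4) F)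
    (hy : y * y = 1) (hz : z * z = 1) (htr : Matrix.trace y = Matrix.trace z) :
    y.charpoly = z.charpoly := by
  obtain ⟨a, ha, hcha, -, -⟩ := invol_charpoly h2 y hy
  obtain ⟨b, hb, hchb, -, -⟩ := invol_charpoly h2 z hz
  have htra := invol_trace_eq y a ha hcha
  have htrb := invol_trace_eq z b hb hchb
  have hab : (a : F) = (b : F) := by
    have h : 2 * (a : F) - 4 = 2 * (b : F) - 4 := by rw [← htra, ← htrb, htr]
    have h' : (2 : F) * ((a : F) - (b : F)) = 0 := by linear_combination h
    rcases mul_eq_zero.mp h' with h'' | h''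
    · exact absurd h'' h2
    · exact sub_eq_zero.mp h''
  have h4 : (4 : F) ≠ 0 := by
    have : (4 : F) = 2 * 2 := by norm_num
    rw [this]; exact mul_ne_zero h2 h2
  have h1 : (1 : F) ≠ 0 := one_ne_zero
  have hab' : a = b := by
    interval_cases a <;> interval_cases b <;> first
      | rfl
      | (exfalso; push_cast at hab; first
          | exact h1 (by linear_combination hab)
          | exact h1 (by linear_combination -hab)
          | exact h2 (by linear_combination hab)
          | exact h2 (by linear_combination -hab)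
          | exact h3 (by linear_combination hab)
          | exact h3 (by linear_combination -hab)
          | exact h4 (by linear_combination hab)
          | exact h4 (by linear_combination -hab))
  rw [hcha, hchb, hab']

end Cfsg.Agent.Helper97.P4
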