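import Mathlib
import Cfsg.Agent.Helper52.BCTDa
import Cfsg.Agent.Helper52.BCTDb

/-! (TDc) for helper99's S2362 farm (#9932).  First a black-box form
(`eq_one_or_neg_one_of_commute_of`: the conclusions of the pieces (TDa) `sq_ne_zero_of_isometry` and
(TDb) `exists_coeffs_of_commute` for `N = Y - 1` are explicit hypotheses), then the verbatim (TDc)
`eq_one_or_neg_one_of_commute`, using helper52's landed (TDa), (TDb). -/

set_option autoImplicit false

namespace Cfsg.Agent.Helper97.BC

open Module Polynomial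

variable {F : Type*} [Field F] {U : Type*} [AddCommGroup U] [Module F U] [FiniteDimensional F U]

/-- a nilpotent endomorphism of a three-dimensional space has cube zero -/
theorem pow_three_eq_zero_of_isNilpotent (hU : finrank F U = 3) (N : Module.End F U)
    (hN : IsNilpotent N) : N ^ 3 = 0 := by
  have h1 := IsNilpotent.charpoly_eq_X_pow_finrank hN
  have h2 := LinearMap.aeval_self_charpoly N
  rw [h1, hU] at h2
  simpa using h2

/-- (TDc), with the conclusions of (TDa), (TDb) as hypotheses -/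
theorem eq_one_or_neg_one_of_commute_of (p : ℕ) [Fact p.Prime] [CharP F p] (hp2 : p ≠ 2)
    (Q : QuadraticForm F U) (hU : finrank F U = 3)
    (hnd : ∀ x : U, (∀ y, QuadraticMap.polar Q x y = 0) → x = 0)
    (Y S : Module.End F U) (hYS : Commute Y S) (hY : ∀ x, Q (Y x) = Q x)
    (hS : ∀ x, Q (S x) = Q x) (hYp : Y ^ p = 1) (hY1 : Y ≠ 1) (m : ℕ) (hm : m.Coprime p)
    (hSm : S ^ m = 1)
    (hTDa : (Y - 1) ^ 2 ≠ 0)
    (hTDb : (Y - 1) ^ 3 = 0 → Commute S (Y - 1) →
      ∃ a b c : F, S = a • (1 : Module.End F U) + b • (Y - 1) + c • (Y - 1) ^ 2) :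
    S = 1 ∨ S = -1 := by
  have _ := hY
  have _ := hY1
  have _ := hTDa
  have hpp : p.Prime := Fact.out
  have hp3 : 3 ≤ p := by
    have := hpp.two_le
    omega
  have hUnt : Nontrivial U := Module.nontrivial_of_finrank_pos (R := F) (by rw [hU]; norm_num)
  have hcharP : CharP (Module.End F U) p :=
    charP_of_injective_algebraMap (algebraMap F (Module.End F U)).injective p
  -- `N = Y - 1` is nilpotent
  set N : Module.End F U := Y - 1 with hNdef
  have hNp : N ^ p = 0 := by
    rw [hNdef, sub_pow_char_of_commute p (Commute.one_right Y), hYp, one_pow, sub_self]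
  have hN3 : N ^ 3 = 0 := pow_three_eq_zero_of_isNilpotent hU N ⟨p, hNp⟩
  have hSN : Commute S N := (hYS.symm).sub_right (Commute.one_right S)
  obtain ⟨a, b, c, hSabc⟩ := hTDb hN3 hSN
  -- `S ^ p` is a scalar
  set ν : Module.End F U := b • N + c • N ^ 2 with hν
  have hνN : ν = N * (b • (1 : Module.End F U) + c • N) := by
    rw [hν, mul_add, mul_smul_comm, mul_one, mul_smul_comm, sq]
  have hcomm : Commute N (b • (1 : Module.End F U) + c • N) :=
    ((Commute.one_right N).smul_right b).add_right ((Commute.refl N).smul_right c)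
  have hν3 : ν ^ 3 = 0 := by
    rw [hνN, hcomm.mul_pow, hN3, zero_mul]
  have hνp : ν ^ p = 0 := by
    have : p = 3 + (p - 3) := by omega
    rw [this, pow_add, hν3, zero_mul]
  have hSν : S = a • (1 : Module.End F U) + ν := by
    rw [hSabc, hν, add_assoc]
  have hcomm2 : Commute (a • (1 : Module.End F U)) ν := (Commute.one_left ν).smul_left a
  have hSp : S ^ p = (a ^ p) • (1 : Module.End F U) := by
    rw [hSν, add_pow_char_of_commute p hcomm2, hνp, add_zero, _root_.smul_pow, one_pow]
  -- `S` is a scalar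
  have hscalar : ∃ l : F, S = l • (1 : Module.End F U) := by
    rcases Nat.lt_or_ge m 2 with hm2 | hm2
    · have hm1 : m = 1 := by
        rcases Nat.eq_zero_or_pos m with h0 | h0
        · rw [h0, Nat.coprime_zero_left] at hm
          exact absurd hm hpp.one_lt.ne'
        · omega
      rw [hm1, pow_one] at hSm
      exact ⟨1, by rw [hSm, one_smul]⟩
    · obtain ⟨t, -, ht⟩ := Nat.exists_mul_mod_eq_one_of_coprime (k := m) (n := p) hm.symm
        (by omega)
      have h1 : p * t = m * (p * t / m) + 1 := by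
        have := Nat.div_add_mod (p * t) m
        rw [ht] at this
        exact this.symm
      have h2 : S ^ (p * t) = S := by
        rw [h1, pow_succ, pow_mul, hSm, one_pow, one_mul]
      refine ⟨(a ^ p) ^ t, ?_⟩
      rw [← h2, pow_mul, hSp, _root_.smul_pow, one_pow]
  obtain ⟨l, hl⟩ := hscalar
  -- `l ^ 2 = 1`
  have hQne : ∃ x : U, Q x ≠ 0 := by
    by_contra hcon
    push Not at hcon
    obtain ⟨x, hx⟩ := exists_ne (0 : U)
    apply hx
    apply hnd x
    intro y
    rw [QuadraticMap.polar, hcon, hcon, hcon]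
    simp
  obtain ⟨x, hx⟩ := hQne
  have h3 := hS x
  rw [hl, LinearMap.smul_apply, Module.End.one_apply, QuadraticMap.map_smul] at h3
  have h4 : l * l = 1 := by
    have h5 : (l * l - 1) * Q x = 0 := by
      rw [sub_mul, one_mul, ← smul_eq_mul (l * l), h3, sub_self]
    rcases mul_eq_zero.mp h5 with h6 | h6
    · exact sub_eq_zero.mp h6
    · exact absurd h6 hx
  rcases mul_self_eq_one_iff.mp h4 with h5 | h5
  · left
    rw [hl, h5, one_smul]
  · right
    rw [hl, h5, neg_smul, one_smul]

/-- (TDc) a semisimple isometry commuting with a non-trivial unipotent isometry is `±1` -/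
theorem eq_one_or_neg_one_of_commute (p : ℕ) [Fact p.Prime] [CharP F p] (hp2 : p ≠ 2)
    (Q : QuadraticForm F U) (hU : finrank F U = 3)
    (hnd : ∀ x : U, (∀ y, QuadraticMap.polar Q x y = 0) → x = 0)
    (Y S : Module.End F U) (hYS : Commute Y S) (hY : ∀ x, Q (Y x) = Q x)
    (hS : ∀ x, Q (S x) = Q x) (hYp : Y ^ p = 1) (hY1 : Y ≠ 1) (m : ℕ) (hm : m.Coprime p)
    (hSm : S ^ m = 1) : S = 1 ∨ S = -1 := by
  have h2 : (2 : F) ≠ 0 := by
    intro h
    have h2' : ((2 : ℕ) : F) = 0 := by exact_mod_cast h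
    rw [CharP.cast_eq_zero_iff F p] at h2'
    have hpp : p.Prime := Fact.out
    exact hp2 ((Nat.prime_dvd_prime_iff_eq hpp Nat.prime_two).mp h2')
  have hTDa := Cfsg.Agent.Helper52.BC.sq_ne_zero_of_isometry Q hU h2 hnd Y hY hY1
  exact eq_one_or_neg_one_of_commute_of p hp2 Q hU hnd Y S hYS hY hS hYp hY1 m hm hSm hTDa
    (fun h3 hc => Cfsg.Agent.Helper52.BC.exists_coeffs_of_commute hU (Y - 1) S hTDa h3 hc)

end Cfsg.Agent.Helper97.BC
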