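import Mathlib
import Cfsg.Agent.Helper13.QFEDefs

/-! (L0) for helper13's S5977/S5978 farm (#8823): a quadratic extension `L = F(s)`, `s² = δ`, of a
finite field `F`, for a nonsquare `δ`. -/

set_option autoImplicit false

namespace Cfsg.Agent.Helper97.QFEL0

open Matrix Polynomial
open Cfsg.Agent.Helper13.QFE

universe u

variable {F : Type u} [Field F]

/-- (L0) -/
theorem exists_qext [Fintype F] (δ : F) (hδ : ¬ IsSquare δ) :
    ∃ (L : Type u) (_ : Field L) (_ : Algebra F L) (_ : Fintype L) (s : L), QExt F L δ s := by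
  classical
  have hirr : Irreducible (X ^ 2 - C δ : F[X]) := by
    rw [X_pow_sub_C_irreducible_iff_of_prime Nat.prime_two]
    intro b hb
    exact hδ ⟨b, by rw [← hb, sq]⟩
  have : Fact (Irreducible (X ^ 2 - C δ : F[X])) := ⟨hirr⟩
  have hne : (X ^ 2 - C δ : F[X]) ≠ 0 := hirr.ne_zero
  have hfr : Module.finrank F (AdjoinRoot (X ^ 2 - C δ : F[X])) = 2 := by
    rw [(AdjoinRoot.powerBasis hne).finrank, AdjoinRoot.powerBasis_dim, natDegree_X_pow_sub_C]
  have : Module.Finite F (AdjoinRoot (X ^ 2 - C δ : F[X])) :=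
    (AdjoinRoot.powerBasis hne).finite
  have : Finite (AdjoinRoot (X ^ 2 - C δ : F[X])) := Module.finite_of_finite F
  refine ⟨AdjoinRoot (X ^ 2 - C δ : F[X]), inferInstance, inferInstance, Fintype.ofFinite _,
    AdjoinRoot.root _, hfr, ?_⟩
  have h := AdjoinRoot.eval₂_root (X ^ 2 - C δ : F[X])
  simp only [eval₂_sub, eval₂_pow, eval₂_X, eval₂_C, sub_eq_zero] at h
  rw [← sq, h]
  rfl

end Cfsg.Agent.Helper97.QFEL0
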