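import Mathlib

/-! (RANK) for helper13's S5977/S5978 farm (#8823): for a matrix `y` with `y ^ r = 1`, `r ≠ 0` in
`F`, and `charpoly y = (X - 1) ^ k * g` with `(X - 1) ∤ g`, the rank of `y - 1` is `deg g`. -/

set_option autoImplicit false

namespace Cfsg.Agent.Helper97.QFERANK

open Matrix Polynomial

universe u

variable {F : Type u} [Field F]

/-- (RANK) -/
theorem rank_sub_one_of_charpoly {κ : Type} [Fintype κ] [DecidableEq κ] (y : Matrix κ κ F)
    (r : ℕ) (hr : (r : F) ≠ 0) (hyr : y ^ r = 1) (k : ℕ) (g : F[X])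
    (hch : y.charpoly = (X - 1) ^ k * g) (hg : ¬ (X - 1 : F[X]) ∣ g) :
    (y - 1).rank = g.natDegree := by
  classical
  set f : Module.End F (κ → F) := Matrix.toLin' y with hf
  -- `f ^ r = 1`
  have hfr : f ^ r = 1 := by
    have h1 : f ^ r = Matrix.toLin' (y ^ r) := by
      exact (map_pow (Matrix.toLinAlgEquiv' (R := F) (n := κ)) y r).symm
    rw [h1, hyr, Matrix.toLin'_one]; rfl
  -- semisimple
  have hsq : Squarefree (X ^ r - C (1 : F)) :=
    (separable_X_pow_sub_C (1 : F) hr one_ne_zero).squarefree
  have hae : aeval f (X ^ r - C (1 : F)) = 0 := by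
    simp [hfr]
  have hss : f.IsSemisimple := Module.End.isSemisimple_of_squarefree_aeval_eq_zero hsq hae
  have hgen : f.maxGenEigenspace 1 = f.eigenspace 1 :=
    hss.isFinitelySemisimple.maxGenEigenspace_eq_eigenspace 1
  -- multiplicity
  have hcp : f.charpoly = (X - 1) ^ k * g := by
    rw [hf, Matrix.charpoly_toLin', hch]
  have hne : (X - 1 : F[X]) ^ k * g ≠ 0 := by
    rw [← hch]; exact (Matrix.charpoly_monic y).ne_zero
  have hroot : ¬ IsRoot g 1 := by
    intro h
    apply hg
    have := dvd_iff_isRoot.mpr h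
    simpa using this
  have hmult : f.charpoly.rootMultiplicity 1 = k := by
    rw [hcp, rootMultiplicity_mul hne, rootMultiplicity_eq_zero hroot, add_zero]
    have := rootMultiplicity_X_sub_C_pow (1 : F) k
    simpa using this
  have hfin : Module.finrank F (f.eigenspace 1) = k := by
    rw [← hgen, LinearMap.finrank_maxGenEigenspace_eq, hmult]
  -- the eigenspace is the kernel of `toLin' (y - 1)`
  have hker : f.eigenspace 1 = LinearMap.ker (Matrix.toLin' (y - 1)) := by
    ext v
    rw [Module.End.mem_eigenspace_iff, LinearMap.mem_ker, hf]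
    simp only [Matrix.toLin'_apply, Matrix.sub_mulVec, Matrix.one_mulVec, one_smul, sub_eq_zero]
  -- rank-nullity
  have hrn := LinearMap.finrank_range_add_finrank_ker (Matrix.toLin' (y - 1))
  rw [← hker, hfin] at hrn
  have hrank : (y - 1).rank = Module.finrank F (LinearMap.range (Matrix.toLin' (y - 1))) := by
    rw [Matrix.rank, Matrix.toLin'_apply']
  have hdeg : Fintype.card κ = k + g.natDegree := by
    have h1 := Matrix.charpoly_natDegree_eq_dim y
    rw [hch] at h1
    have hg0 : g ≠ 0 := right_ne_zero_of_mul hne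
    have hx : ((X - 1 : F[X]) ^ k) ≠ 0 := left_ne_zero_of_mul hne
    rw [natDegree_mul hx hg0, natDegree_pow] at h1
    have h2 : (X - 1 : F[X]).natDegree = 1 := by
      have := natDegree_X_sub_C (1 : F)
      simpa using this
    rw [h2, mul_one] at h1
    exact h1.symm
  rw [Module.finrank_fintype_fun_eq_card] at hrn
  omega

end Cfsg.Agent.Helper97.QFERANK
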