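import Mathlib
import Cfsg.Agent.Helper5.OmBN.Defs

/-!
# Pieces (MEMC0) + (C0SQ) of helper5's S2549 farm: the conjugation of the middle plane
-/

set_option autoImplicit false
set_option linter.unusedSimpArgs false

namespace Cfsg.Agent.Helper97.OmBN

open Matrix Cfsg.Agent.Helper5.OmBN

variable {F : Type*} [Field F] {m : ℕ} {α β : F}

/-- (MEMC0) the conjugation of the middle plane is an isometry, and an involution -/
theorem c0Mat_isO : IsO α β (c0Mat (m := m) α) := by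
  classical
  have hc21 : (c2 : Fin (2 * m + 2)) ≠ c1 := fun h => c1_ne_c2 h.symm
  have hlc1 : ∀ i : Fin m, (c1 : Fin (2 * m + 2)) ≠ lo i := fun i h => lo_ne_c1 i h.symm
  have hlc2 : ∀ i : Fin m, (c2 : Fin (2 * m + 2)) ≠ lo i := fun i h => lo_ne_c2 i h.symm
  have hhc1 : ∀ i : Fin m, (c1 : Fin (2 * m + 2)) ≠ hi i := fun i h => hi_ne_c1 i h.symm
  have hhc2 : ∀ i : Fin m, (c2 : Fin (2 * m + 2)) ≠ hi i := fun i h => hi_ne_c2 i h.symm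
  have hhl : ∀ i j : Fin m, hi i ≠ lo j := fun i j h => lo_ne_hi j i h.symm
  have hlo : ∀ i j : Fin m, (lo i : Fin (2 * m + 2)) = lo j ↔ i = j :=
    fun i j => lo_injective.eq_iff
  have hhi : ∀ i j : Fin m, (hi i : Fin (2 * m + 2)) = hi j ↔ i = j :=
    fun i j => hi_injective.eq_iff
  refine ⟨?_, ?_⟩
  · intro s
    rcases pos_cases s with ⟨k, rfl⟩ | ⟨k, rfl⟩ | rfl | rfl
    · simp [c0Mat_apply, qd, Nf, lo_ne_c1, lo_ne_c2, hi_ne_c1, hi_ne_c2, lo_ne_hi, hhl, hlc1, hlc2,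
        hhc1, hhc2, c1_ne_c2, hc21]
    · simp [c0Mat_apply, qd, Nf, lo_ne_c1, lo_ne_c2, hi_ne_c1, hi_ne_c2, lo_ne_hi, hhl, hlc1, hlc2,
        hhc1, hhc2, c1_ne_c2, hc21]
    · simp [c0Mat_apply, qd, Nf, lo_ne_c1, lo_ne_c2, hi_ne_c1, hi_ne_c2, lo_ne_hi, hhl, hlc1, hlc2,
        hhc1, hhc2, c1_ne_c2, hc21]
    · simp [c0Mat_apply, qd, Nf, lo_ne_c1, lo_ne_c2, hi_ne_c1, hi_ne_c2, lo_ne_hi, hhl, hlc1, hlc2,
        hhc1, hhc2, c1_ne_c2, hc21]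
      ring
  · intro r s
    rcases pos_cases r with ⟨k, rfl⟩ | ⟨k, rfl⟩ | rfl | rfl <;>
    rcases pos_cases s with ⟨l, rfl⟩ | ⟨l, rfl⟩ | rfl | rfl <;>
    simp [c0Mat_apply, Jm, Nb, rev_lo, rev_hi, rev_c1, rev_c2, lo_ne_c1, lo_ne_c2, hi_ne_c1,
      hi_ne_c2, lo_ne_hi, hhl, hlc1, hlc2, hhc1, hhc2, c1_ne_c2, hc21, hlo, hhi,
      Finset.sum_add_distrib] <;> (try ring)

/-- (C0SQ) -/
theorem c0Mat_mul_self : c0Mat (m := m) α * c0Mat α = 1 := by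
  classical
  have hc21 : (c2 : Fin (2 * m + 2)) ≠ c1 := fun h => c1_ne_c2 h.symm
  have hlc1 : ∀ i : Fin m, (c1 : Fin (2 * m + 2)) ≠ lo i := fun i h => lo_ne_c1 i h.symm
  have hlc2 : ∀ i : Fin m, (c2 : Fin (2 * m + 2)) ≠ lo i := fun i h => lo_ne_c2 i h.symm
  have hhc1 : ∀ i : Fin m, (c1 : Fin (2 * m + 2)) ≠ hi i := fun i h => hi_ne_c1 i h.symm
  have hhc2 : ∀ i : Fin m, (c2 : Fin (2 * m + 2)) ≠ hi i := fun i h => hi_ne_c2 i h.symm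
  have hhl : ∀ i j : Fin m, hi i ≠ lo j := fun i j h => lo_ne_hi j i h.symm
  have hlo : ∀ i j : Fin m, (lo i : Fin (2 * m + 2)) = lo j ↔ i = j :=
    fun i j => lo_injective.eq_iff
  have hhi : ∀ i j : Fin m, (hi i : Fin (2 * m + 2)) = hi j ↔ i = j :=
    fun i j => hi_injective.eq_iff
  ext i j
  rw [Matrix.mul_apply, sum_split]
  rcases pos_cases i with ⟨k, rfl⟩ | ⟨k, rfl⟩ | rfl | rfl <;>
  rcases pos_cases j with ⟨l, rfl⟩ | ⟨l, rfl⟩ | rfl | rfl <;>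
  simp [c0Mat_apply, Matrix.one_apply, lo_ne_c1, lo_ne_c2, hi_ne_c1,
    hi_ne_c2, lo_ne_hi, hhl, hlc1, hlc2, hhc1, hhc2, c1_ne_c2, hc21, hlo, hhi,
    Finset.sum_add_distrib]

end Cfsg.Agent.Helper97.OmBN
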