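import Mathlib
import Cfsg.Agent.Helper5.OmBN.Defs

/-!
# Pieces (MEMROT) + (ROTMUL) + (ROTONE) of helper5's S2549 farm: the rotations of the middle plane
-/

set_option autoImplicit false
set_option linter.unusedSimpArgs false

namespace Cfsg.Agent.Helper97.OmBN

open Matrix Cfsg.Agent.Helper5.OmBN

variable {F : Type*} [Field F] {m : ℕ} {α β : F}

/-- (MEMROT) the rotations of norm one are isometries -/
theorem rotMat_isO (x y : F) (h : Nf α β x y = 1) : IsO α β (rotMat (m := m) α β x y) := by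
  classical
  have hc21 : (c2 : Fin (2 * m + 2)) ≠ c1 := fun h => c1_ne_c2 h.symm
  have hlc1 : ∀ i : Fin m, (c1 : Fin (2 * m + 2)) ≠ lo i := fun i h => lo_ne_c1 i h.symm
  have hlc2 : ∀ i : Fin m, (c2 : Fin (2 * m + 2)) ≠ lo i := fun i h => lo_ne_c2 i h.symm
  have hhc1 : ∀ i : Fin m, (c1 : Fin (2 * m + 2)) ≠ hi i := fun i h => hi_ne_c1 i h.symm
  have hhc2 : ∀ i : Fin m, (c2 : Fin (2 * m + 2)) ≠ hi i := fun i h => hi_ne_c2 i h.symm
  have hhl : ∀ i j : Fin m, hi i ≠ lo j := fun i j h => lo_ne_hi j i h.symm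
  have hlo : ∀ i j : Fin m, (lo i : Fin (2 * m + 2)) = lo j ↔ i = j :=
    fun i j => lo_injective.eq_iff
  have hhi : ∀ i j : Fin m, (hi i : Fin (2 * m + 2)) = hi j ↔ i = j :=
    fun i j => hi_injective.eq_iff
  unfold Nf at h
  refine ⟨?_, ?_⟩
  · intro s
    rcases pos_cases s with ⟨k, rfl⟩ | ⟨k, rfl⟩ | rfl | rfl <;>
    simp [rotMat_apply, qd, Nf, lo_ne_c1, lo_ne_c2, hi_ne_c1, hi_ne_c2, lo_ne_hi, hhl, hlc1, hlc2,
        hhc1, hhc2, c1_ne_c2, hc21]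
    · linear_combination h
    · linear_combination β * h
  · intro r s
    rcases pos_cases r with ⟨k, rfl⟩ | ⟨k, rfl⟩ | rfl | rfl <;>
    rcases pos_cases s with ⟨l, rfl⟩ | ⟨l, rfl⟩ | rfl | rfl <;>
    simp [rotMat_apply, Jm, Nb, rev_lo, rev_hi, rev_c1, rev_c2, lo_ne_c1, lo_ne_c2, hi_ne_c1,
      hi_ne_c2, lo_ne_hi, hhl, hlc1, hlc2, hhc1, hhc2, c1_ne_c2, hc21, hlo, hhi,
      Finset.sum_add_distrib]
    · linear_combination 2 * h
    · linear_combination α * h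
    · linear_combination α * h
    · linear_combination 2 * β * h

/-- (ROTMUL) -/
theorem rotMat_mul (x y x' y' : F) :
    rotMat (m := m) α β x y * rotMat α β x' y' =
      rotMat α β (x * x' - β * y * y') (x * y' + y * x' + α * y * y') := by
  classical
  have hc21 : (c2 : Fin (2 * m + 2)) ≠ c1 := fun h => c1_ne_c2 h.symm
  have hlc1 : ∀ i : Fin m, (c1 : Fin (2 * m + 2)) ≠ lo i := fun i h => lo_ne_c1 i h.symm
  have hlc2 : ∀ i : Fin m, (c2 : Fin (2 * m + 2)) ≠ lo i := fun i h => lo_ne_c2 i h.symm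
  have hhc1 : ∀ i : Fin m, (c1 : Fin (2 * m + 2)) ≠ hi i := fun i h => hi_ne_c1 i h.symm
  have hhc2 : ∀ i : Fin m, (c2 : Fin (2 * m + 2)) ≠ hi i := fun i h => hi_ne_c2 i h.symm
  have hhl : ∀ i j : Fin m, hi i ≠ lo j := fun i j h => lo_ne_hi j i h.symm
  have hlo : ∀ i j : Fin m, (lo i : Fin (2 * m + 2)) = lo j ↔ i = j :=
    fun i j => lo_injective.eq_iff
  have hhi : ∀ i j : Fin m, (hi i : Fin (2 * m + 2)) = hi j ↔ i = j :=
    fun i j => hi_injective.eq_iff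
  ext i j
  rw [Matrix.mul_apply, sum_split]
  rcases pos_cases i with ⟨k, rfl⟩ | ⟨k, rfl⟩ | rfl | rfl <;>
  rcases pos_cases j with ⟨l, rfl⟩ | ⟨l, rfl⟩ | rfl | rfl <;>
  simp [rotMat_apply, lo_ne_c1, lo_ne_c2, hi_ne_c1,
    hi_ne_c2, lo_ne_hi, hhl, hlc1, hlc2, hhc1, hhc2, c1_ne_c2, hc21, hlo, hhi,
    Finset.sum_add_distrib] <;> (try ring)

/-- (ROTONE) -/
theorem rotMat_one : rotMat (m := m) α β 1 0 = 1 := by
  classical
  have hc21 : (c2 : Fin (2 * m + 2)) ≠ c1 := fun h => c1_ne_c2 h.symm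
  ext i j
  rw [rotMat_apply, Matrix.one_apply]
  by_cases h1 : i = c1 ∧ j = c1
  · rw [if_pos h1, if_pos (h1.1.trans h1.2.symm)]
  · rw [if_neg h1]
    by_cases h2 : i = c1 ∧ j = c2
    · rw [if_pos h2, if_neg (by rw [h2.1, h2.2]; exact c1_ne_c2)]; ring
    · rw [if_neg h2]
      by_cases h3 : i = c2 ∧ j = c1
      · rw [if_pos h3, if_neg (by rw [h3.1, h3.2]; exact hc21)]
      · rw [if_neg h3]
        by_cases h4 : i = c2 ∧ j = c2
        · rw [if_pos h4, if_pos (h4.1.trans h4.2.symm)]; ring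
        · rw [if_neg h4]

end Cfsg.Agent.Helper97.OmBN
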