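import Mathlib
import Cfsg.Agent.Helper13.USubDefs
import Cfsg.Agent.Helper13.SubInvD

/-!
# (U2a) for S5982 (helper97 for helper13, board #7436): in odd characteristic an element of
`SL_n(F)` whose square is the scalar `w²` is `SL`-conjugate into the similarity group of the
standard hermitian form.
-/

set_option autoImplicit false
set_option linter.unusedSectionVars false
set_option linter.unusedVariables false

namespace Cfsg.Agent.Helper97.USubU2a

open Matrix Polynomial Cfsg Cfsg.Geo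
open Cfsg.Agent.Helper13.SubInv (dmat exists_conj_dmat)
open Cfsg.Agent.Helper13.USub

variable {F : Type*} [Field F] {n : ℕ}

/-- if `2 ≠ 0` in a field of `q₀ ^ 2` elements then `q₀` is odd -/
theorem odd_of_two_ne_zero [Fintype F] (q₀ : ℕ) (hF : Fintype.card F = q₀ ^ 2)
    (h2 : (2 : F) ≠ 0) : Odd q₀ := by
  by_contra hodd
  rw [Nat.not_odd_iff_even] at hodd
  apply h2
  obtain ⟨p, hp⟩ := CharP.exists F
  obtain ⟨k, hpk, hk⟩ := FiniteField.card F p
  have h2q : 2 ∣ q₀ ^ 2 := Dvd.dvd.pow (even_iff_two_dvd.1 hodd) two_ne_zero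
  rw [← hF, hk] at h2q
  have h2p : 2 ∣ p := Nat.Prime.dvd_of_dvd_pow Nat.prime_two h2q
  have hp2 : p = 2 := ((Nat.prime_dvd_prime_iff_eq Nat.prime_two hpk).1 h2p).symm
  subst hp2
  have := CharP.cast_eq_zero F 2
  simpa using this

/-- `w • dmat` is a similitude of the standard hermitian form (`q₀` odd) -/
theorem smul_dmat_mem_SimH (q₀ : ℕ) (hq : Odd q₀) (y : GL (Fin n) F) (w : F) (hw : w ≠ 0) (t : ℕ)
    (hy : (y : Matrix (Fin n) (Fin n) F) = w • dmat n t F) :
    y ∈ SimH n F q₀ := by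
  refine ⟨Units.mk0 (w ^ (q₀ + 1)) (pow_ne_zero _ hw), ?_⟩
  intro a b
  rw [hy, Units.val_mk0]
  unfold Cfsg.hermForm
  rw [Finset.mul_sum]
  apply Finset.sum_congr rfl
  intro i _
  have hmv : ∀ c : Fin n → F, ((w • dmat n t F) *ᵥ c) i =
      w * ((if (i : ℕ) < t then (-1 : F) else 1) * c i) := by
    intro c
    rw [Matrix.smul_mulVec, Pi.smul_apply, smul_eq_mul]
    unfold dmat
    rw [Matrix.mulVec_diagonal]
  rw [hmv a, hmv b]
  have hev : Even (q₀ + 1) := Odd.add_one hq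
  split_ifs with h
  · have h1 : ((-1 : F)) * (-1 : F) ^ q₀ = 1 := by
      rw [← pow_succ', Even.neg_one_pow hev]
    rw [mul_pow, mul_pow, pow_succ]
    linear_combination (w ^ q₀ * w * a i * b i ^ q₀) * h1
  · rw [one_mul, one_mul, mul_pow, pow_succ]
    ring

/-- (U2a) `q` odd, square scalar -/
theorem conj_of_sq_square [Fintype F] (q₀ : ℕ) (hF : Fintype.card F = q₀ ^ 2) (h2 : (2 : F) ≠ 0)
    (hn : 0 < n) (x : GL (Fin n) F) (hx : x ∈ SLs n F) (w : F)
    (hxw : ((x ^ 2 : GL (Fin n) F) : Matrix (Fin n) (Fin n) F) =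
      (w * w) • (1 : Matrix (Fin n) (Fin n) F)) :
    ∃ g ∈ SLs n F, g⁻¹ * x * g ∈ SimH n F q₀ := by
  classical
  have hq : Odd q₀ := odd_of_two_ne_zero q₀ hF h2
  have : Nonempty (Fin n) := ⟨⟨0, hn⟩⟩
  have hz0 : w * w ≠ 0 := by
    intro h0
    rw [h0, zero_smul] at hxw
    have hdet := Matrix.GeneralLinearGroup.det_ne_zero (x ^ 2)
    rw [hxw, Matrix.det_zero] at hdet
    exact hdet rfl
  have hw0 : w ≠ 0 := fun h => hz0 (by rw [h, mul_zero])
  set X : Matrix (Fin n) (Fin n) F := (x : Matrix (Fin n) (Fin n) F) with hX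
  have hXX : X * X = (w * w) • (1 : Matrix (Fin n) (Fin n) F) := by
    rw [← hxw, pow_two, Units.val_mul]
  have hYY : (w⁻¹ • X) * (w⁻¹ • X) = 1 := by
    rw [Matrix.smul_mul, Matrix.mul_smul, smul_smul, hXX, smul_smul]
    have : w⁻¹ * w⁻¹ * (w * w) = 1 := by field_simp
    rw [this, one_smul]
  obtain ⟨t, P, hPdet, hP⟩ := exists_conj_dmat h2 hn (w⁻¹ • X) hYY
  have hPmem : P ∈ SLs n F := by
    change P ∈ (Matrix.GeneralLinearGroup.det : GL (Fin n) F →* Fˣ).ker
    rw [MonoidHom.mem_ker]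
    apply Units.ext
    rw [Matrix.GeneralLinearGroup.val_det_apply, Units.val_one]
    exact hPdet
  refine ⟨P, hPmem, ?_⟩
  have e3 : (P⁻¹ : GL (Fin n) F).val * X * P.val = w • dmat n t F := by
    rw [← hP, Matrix.mul_smul, Matrix.smul_mul, smul_smul, mul_inv_cancel₀ hw0, one_smul]
  apply smul_dmat_mem_SimH q₀ hq _ w hw0 t
  rw [Units.val_mul, Units.val_mul]
  exact e3

end Cfsg.Agent.Helper97.USubU2a
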