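import Mathlib
import Cfsg.Agent.Helper5.SuBN.Defs

/-! (STEP2I) for helper5's S2546 farm (#9140): reduction step, last nonzero coordinate `A` in the
second half, root of kind I.  Also the common lemmas on `sMat`, `xMat` acting on vectors. -/

set_option autoImplicit false

namespace Cfsg.Agent.Helper97.SuBNSTEP2I

open Matrix Cfsg.Agent.Helper5.SuBN

variable {F : Type*} [Field F] {n : ℕ} {σ : F →+* F}

/-- the action of `sMat c k` on a vector -/
theorem sMat_mulVec (c : F) (k : Fin (n / 2)) (w : Fin n → F) (i : Fin n) :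
    (sMat c k *ᵥ w) i = sSign c k (sPerm k i) * w (sPerm k i) := by
  simp only [Matrix.mulVec, dotProduct, sMat_apply]
  rw [Finset.sum_eq_single (sPerm k i)]
  · rw [sPerm_sPerm, if_pos rfl]
  · intro j _ hj
    rw [if_neg, zero_mul]
    intro h
    apply hj
    rw [h, sPerm_sPerm]
  · intro h; exact absurd (Finset.mem_univ _) h

/-- the product of `sMat c k` with a matrix -/
theorem sMat_mul_apply (c : F) (k : Fin (n / 2)) (M : Matrix (Fin n) (Fin n) F) (a b : Fin n) :
    (sMat c k * M) a b = sSign c k (sPerm k a) * M (sPerm k a) b := by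
  rw [Matrix.mul_apply]
  simp only [sMat_apply]
  rw [Finset.sum_eq_single (sPerm k a)]
  · rw [sPerm_sPerm, if_pos rfl]
  · intro j _ hj
    rw [if_neg, zero_mul]
    intro h
    apply hj
    rw [h, sPerm_sPerm]
  · intro h; exact absurd (Finset.mem_univ _) h

/-- the action of `xMat σ k t u` on a vector -/
theorem xMat_mulVec (k : Fin (n / 2)) (t u : F) (w : Fin n → F) (i : Fin n) :
    (xMat σ k t u *ᵥ w) i = w i + (if ia k = i then t * w (ib k) else 0)
      - (if Fin.rev (ib k) = i then σ t * w (Fin.rev (ia k)) else 0)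
      + (if ia k = i then u * w (Fin.rev (ia k)) else 0) := by
  unfold xMat
  rw [Matrix.add_mulVec, Matrix.sub_mulVec, Matrix.add_mulVec, Matrix.one_mulVec,
    Matrix.smul_mulVec, Matrix.smul_mulVec, Matrix.smul_mulVec,
    Matrix.single_mulVec_eq, Matrix.single_mulVec_eq, Matrix.single_mulVec_eq]
  simp only [Pi.add_apply, Pi.sub_apply, Pi.smul_apply, Pi.single_apply, smul_eq_mul, one_mul,
    mul_ite, mul_one, mul_zero]
  have e1 : (i = ia k) = (ia k = i) := propext eq_comm
  have e2 : (i = Fin.rev (ib k)) = (Fin.rev (ib k) = i) := propext eq_comm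
  simp only [e1, e2]

/-- `xMat` with `u = 0` (kind I), or any parameters, is upper triangular -/
theorem xMat_upper (k : Fin (n / 2)) (t u : F) (a b : Fin n) (hba : b < a) :
    xMat σ k t u a b = 0 := by
  rw [xMat_apply]
  have hk := k.2
  have h1 : ¬ a = b := fun h => by rw [h] at hba; exact lt_irrefl _ hba
  have h2 : ¬ (ia k = a ∧ ib k = b) := by
    rintro ⟨h, h'⟩
    rw [← h, ← h', Fin.lt_def, val_ia, val_ib] at hba
    omega
  have h3 : ¬ (Fin.rev (ib k) = a ∧ Fin.rev (ia k) = b) := by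
    rintro ⟨h, h'⟩
    rw [← h, ← h', Fin.lt_def, val_rev, val_rev, val_ia, val_ib] at hba
    omega
  have h4 : ¬ (ia k = a ∧ Fin.rev (ia k) = b) := by
    rintro ⟨h, h'⟩
    rw [← h, ← h', Fin.lt_def, val_rev, val_ia] at hba
    omega
  rw [if_neg h1, if_neg h2, if_neg h3, if_neg h4]
  simp

/-- membership of `s * x` in `B ⊔ N` -/
theorem mul_mem_sup_BN (c : F) (k : Fin (n / 2)) (t u : F) (s x : UG n σ)
    (hs : mat s = sMat c k) (hx : mat x = xMat σ k t u) : s * x ∈ Bsub n σ ⊔ Nsub n σ c := by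
  have hxB : x ∈ Bsub n σ := by
    rw [mem_Bsub_iff]
    intro a b hba
    rw [hx]
    exact xMat_upper k t u a b hba
  have hsN : s ∈ Nsub n σ c := by
    apply Subgroup.mem_sup_left
    apply Subgroup.subset_closure
    exact ⟨k, hs⟩
  rw [sup_comm]
  exact Subgroup.mul_mem_sup hsN hxB

/-- kind I: `sPerm k` fixes the positions outside `k, k+1, n-2-k, n-1-k` -/
theorem sPerm_fix_I (k : Fin (n / 2)) (hI : 2 * k.val + 3 < n) (p : Fin n) (h1 : p.val ≠ k.val)
    (h2 : p.val ≠ k.val + 1) (h3 : p.val ≠ n - 2 - k.val) (h4 : p.val ≠ n - 1 - k.val) :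
    sPerm k p = p := by
  apply Fin.ext
  rw [val_sPerm, if_pos hI, if_neg h1, if_neg h2, if_neg h3, if_neg h4]

/-- kind I: `sPerm k` sends the position `n-1-k` to `n-2-k` -/
theorem val_sPerm_last_I (k : Fin (n / 2)) (hI : 2 * k.val + 3 < n) (p : Fin n)
    (hp : p.val = n - 1 - k.val) : (sPerm k p).val = n - 2 - k.val := by
  have h1 : p.val ≠ k.val := by omega
  have h2 : p.val ≠ k.val + 1 := by omega
  have h3 : p.val ≠ n - 2 - k.val := by omega
  rw [val_sPerm, if_pos hI, if_neg h1, if_neg h2, if_neg h3, if_pos hp]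

/-- (STEP2I) -/
theorem step_second_I (hσ : ∀ x, σ (σ x) = x)
    (hX : ∀ (k : Fin (n / 2)) (t u : F), Param σ k t u → IsUJ σ (xMat σ k t u))
    (c : F) (hS : ∀ k : Fin (n / 2), IsUJ σ (sMat c k))
    (j A : ℕ) (hA : A + j ≤ n - 1) (hAn : A < n) (hI : 2 * (n - 1 - A) + 3 < n) (v : Fin n → F)
    (hvA : ∀ a : Fin n, A < a.val → v a = 0) (a : Fin n) (ha : a.val = A) (hva : v a ≠ 0) :
    ∃ h ∈ Bsub n σ ⊔ Nsub n σ c, Fixj j h ∧ ∀ a : Fin n, A ≤ a.val → (mat h *ᵥ v) a = 0 := by
  have hkn : n - 1 - A < n / 2 := by omega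
  obtain ⟨k, hkv⟩ : ∃ k : Fin (n / 2), k.val = n - 1 - A := ⟨⟨n - 1 - A, hkn⟩, rfl⟩
  have hIk : 2 * k.val + 3 < n := by rw [hkv]; exact hI
  have hAk : A = n - 1 - k.val := by omega
  have hjk : j ≤ k.val := by omega
  have hA1 : A - 1 < n := by omega
  obtain ⟨a', ha'⟩ : ∃ a' : Fin n, a'.val = A - 1 := ⟨⟨A - 1, hA1⟩, rfl⟩
  obtain ⟨t, ht⟩ : ∃ t : F, t = σ (v a' / v a) := ⟨_, rfl⟩
  have hσt : σ t = v a' / v a := by rw [ht, hσ]
  have hP : Param σ k t 0 := by
    unfold Param
    rw [if_pos hIk]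
  obtain ⟨x, hx⟩ := exists_of_isUJ (hX k t 0 hP)
  obtain ⟨s, hs⟩ := exists_of_isUJ (hS k)
  have hsign : ∀ i : Fin n, sSign c k i = 1 := by
    intro i
    unfold sSign
    rw [if_pos hIk]
  refine ⟨s * x, mul_mem_sup_BN c k t 0 s x hs hx, ?_, ?_⟩
  · -- the first `j` columns
    intro p b hb
    rw [mat_mul, hs, hx, sMat_mul_apply, hsign, one_mul, xMat_apply]
    have hbn := b.2
    have h2 : ¬ (ia k = sPerm k p ∧ ib k = b) := by
      rintro ⟨-, h'⟩
      rw [eq_iff_val_eq, val_ib] at h'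
      omega
    have h3 : ¬ (Fin.rev (ib k) = sPerm k p ∧ Fin.rev (ia k) = b) := by
      rintro ⟨-, h'⟩
      rw [eq_iff_val_eq, val_rev, val_ia] at h'
      omega
    have h4 : ¬ (ia k = sPerm k p ∧ Fin.rev (ia k) = b) := by
      rintro ⟨-, h'⟩
      rw [eq_iff_val_eq, val_rev, val_ia] at h'
      omega
    rw [if_neg h2, if_neg h3, if_neg h4, add_zero, sub_zero, add_zero]
    have hfix : sPerm k b = b :=
      sPerm_fix_I k hIk b (by omega) (by omega) (by omega) (by omega)
    by_cases hpb : p = b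
    · rw [if_pos hpb, if_pos (by rw [hpb]; exact hfix)]
    · rw [if_neg hpb, if_neg]
      intro h
      apply hpb
      rw [← sPerm_sPerm k p, h, hfix]
  · -- the coordinates `≥ A`
    intro p hp
    rw [mat_mul, ← Matrix.mulVec_mulVec, hs, hx, sMat_mulVec, hsign, one_mul, xMat_mulVec]
    have hpn := p.2
    rw [zero_mul]
    have h4 : (if ia k = sPerm k p then (0 : F) else 0) = 0 := by split_ifs <;> rfl
    rw [h4, add_zero]
    by_cases hpA : p.val = A
    · -- `p = a`
      have hsp : (sPerm k p).val = n - 2 - k.val := val_sPerm_last_I k hIk p (by omega)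
      have h2 : ¬ (ia k = sPerm k p) := by
        intro h'
        rw [eq_iff_val_eq, val_ia, hsp] at h'
        omega
      have h3 : Fin.rev (ib k) = sPerm k p := by
        rw [eq_iff_val_eq, val_rev, val_ib, hsp]
        omega
      have h5 : sPerm k p = a' := by
        rw [eq_iff_val_eq, hsp, ha']
        omega
      have h6 : Fin.rev (ia k) = a := by
        rw [eq_iff_val_eq, val_rev, val_ia, ha]
        omega
      rw [if_neg h2, add_zero, if_pos h3, h5, h6, hσt, div_mul_cancel₀ _ hva, sub_self]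
    · have hpA' : A < p.val := lt_of_le_of_ne hp (fun h => hpA h.symm)
      have h5 : sPerm k p = p :=
        sPerm_fix_I k hIk p (by omega) (by omega) (by omega) (by omega)
      have h2 : ¬ (ia k = sPerm k p) := by
        intro h'
        rw [h5, eq_iff_val_eq, val_ia] at h'
        omega
      have h3 : ¬ (Fin.rev (ib k) = sPerm k p) := by
        intro h'
        rw [h5, eq_iff_val_eq, val_rev, val_ib] at h'
        omega
      rw [if_neg h2, add_zero, if_neg h3, h5, hvA p hpA', sub_zero]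

end Cfsg.Agent.Helper97.SuBNSTEP2I
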