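import Mathlib
import Cfsg.Agent.Helper5.SuBN.Defs
import Cfsg.Agent.Helper97.SuBNSTEP2I

/-! (STEP2II) for helper5's S2546 farm (#9141): reduction step, `n = 2k+2`, `A = k+1`, root of
kind II. -/

set_option autoImplicit false

namespace Cfsg.Agent.Helper97.SuBNSTEP2II

open Matrix Cfsg.Agent.Helper5.SuBN Cfsg.Agent.Helper97.SuBNSTEP2I

variable {F : Type*} [Field F] {n : ℕ} {σ : F →+* F}

/-- kinds II, III: `sPerm k` fixes the positions outside `k, n-1-k` -/
theorem sPerm_fix_II (k : Fin (n / 2)) (hI : ¬ 2 * k.val + 3 < n) (p : Fin n) (h1 : p.val ≠ k.val)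
    (h4 : p.val ≠ n - 1 - k.val) : sPerm k p = p := by
  apply Fin.ext
  rw [val_sPerm, if_neg hI, if_neg h1, if_neg h4]

/-- kinds II, III: `sPerm k` sends the position `n-1-k` to `k` -/
theorem val_sPerm_last_II (k : Fin (n / 2)) (hI : ¬ 2 * k.val + 3 < n) (p : Fin n)
    (hp : p.val = n - 1 - k.val) : (sPerm k p).val = k.val := by
  have hk := k.2
  have h1 : p.val ≠ k.val := by omega
  rw [val_sPerm, if_neg hI, if_neg h1, if_pos hp]

/-- (STEP2II) -/
theorem step_second_II (hσ : ∀ x, σ (σ x) = x)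
    (hX : ∀ (k : Fin (n / 2)) (t u : F), Param σ k t u → IsUJ σ (xMat σ k t u))
    (c : F) (hS : ∀ k : Fin (n / 2), IsUJ σ (sMat c k))
    (j A : ℕ) (hA : A + j ≤ n - 1) (hAn : A < n) (hII : 2 * (n - 1 - A) + 2 = n) (v : Fin n → F)
    (hv : hermJ σ v v = 0)
    (hvA : ∀ a : Fin n, A < a.val → v a = 0) (a : Fin n) (ha : a.val = A) (hva : v a ≠ 0) :
    ∃ h ∈ Bsub n σ ⊔ Nsub n σ c, Fixj j h ∧ ∀ a : Fin n, A ≤ a.val → (mat h *ᵥ v) a = 0 := by
  have _ := hσ
  have hkn : n - 1 - A < n / 2 := by omega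
  obtain ⟨k, hkv⟩ : ∃ k : Fin (n / 2), k.val = n - 1 - A := ⟨⟨n - 1 - A, hkn⟩, rfl⟩
  have hIk : ¬ 2 * k.val + 3 < n := by rw [hkv]; omega
  have hIIk : 2 * k.val + 2 = n := by rw [hkv]; exact hII
  have hAk : A = k.val + 1 := by omega
  have hjk : j ≤ k.val := by omega
  -- the positions
  have hreva : Fin.rev (ia k) = a := by
    rw [eq_iff_val_eq, val_rev, val_ia, ha]; omega
  have hrevb : Fin.rev (ib k) = ia k := by
    rw [eq_iff_val_eq, val_rev, val_ib, val_ia]; omega
  have hiba : ib k = a := by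
    rw [eq_iff_val_eq, val_ib, ha]; omega
  have hane : ia k ≠ a := by
    intro h; rw [eq_iff_val_eq, val_ia, ha] at h; omega
  -- the isotropy relation
  have hE : v (ia k) * σ (v a) + v a * σ (v (ia k)) = 0 := by
    have hsum : hermJ σ v v = v (ia k) * σ (v (Fin.rev (ia k))) + v a * σ (v (Fin.rev a)) := by
      unfold hermJ
      apply Finset.sum_eq_add (ia k) a hane
      · intro i _ hi
        have hi1 : i.val ≠ k.val := fun h => hi.1 (by rw [eq_iff_val_eq, val_ia]; exact h)
        have hi2 : i.val ≠ A := fun h => hi.2 (by rw [eq_iff_val_eq, ha]; exact h)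
        have hin := i.2
        rcases lt_or_gt_of_ne hi2 with hlt | hgt
        · have hr : A < (Fin.rev i).val := by rw [val_rev]; omega
          rw [hvA _ hr, map_zero, mul_zero]
        · rw [hvA i hgt, zero_mul]
      · intro h; exact absurd (Finset.mem_univ _) h
      · intro h; exact absurd (Finset.mem_univ _) h
    have hra : Fin.rev a = ia k := by rw [← hreva, Fin.rev_rev]
    rw [hv, hreva, hra] at hsum
    exact hsum.symm
  have hσa : σ (v a) ≠ 0 := (map_ne_zero_iff σ σ.injective).mpr hva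
  obtain ⟨u, hu⟩ : ∃ u : F, u = -(v (ia k)) / v a := ⟨_, rfl⟩
  have huv : v (ia k) + u * v a = 0 := by
    rw [hu, div_mul_cancel₀ _ hva, add_neg_cancel]
  have hP : Param σ k 0 u := by
    unfold Param
    rw [if_neg hIk, if_pos hIIk]
    refine ⟨rfl, ?_⟩
    rw [hu, map_div₀, map_neg]
    field_simp
    linear_combination (-1 : F) * hE
  obtain ⟨x, hx⟩ := exists_of_isUJ (hX k 0 u hP)
  obtain ⟨s, hs⟩ := exists_of_isUJ (hS k)
  refine ⟨s * x, mul_mem_sup_BN c k 0 u s x hs hx, ?_, ?_⟩
  · -- the first `j` columns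
    intro p b hb
    rw [mat_mul, hs, hx, sMat_mul_apply, xMat_apply]
    have hbn := b.2
    have h2 : ¬ (ia k = sPerm k p ∧ ib k = b) := by
      rintro ⟨-, h'⟩
      rw [eq_iff_val_eq, val_ib] at h'
      omega
    have h3 : ¬ (Fin.rev (ib k) = sPerm k p ∧ Fin.rev (ia k) = b) := by
      rintro ⟨-, h'⟩
      rw [eq_iff_val_eq, val_rev, val_ia] at h'
      omega
    have h4 : ¬ (ia k = sPerm k p ∧ Fin.rev (ia k) = b) := by
      rintro ⟨-, h'⟩
      rw [eq_iff_val_eq, val_rev, val_ia] at h'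
      omega
    rw [if_neg h2, if_neg h3, if_neg h4, add_zero, sub_zero, add_zero]
    have hfix : sPerm k b = b := sPerm_fix_II k hIk b (by omega) (by omega)
    by_cases hpb : p = b
    · rw [if_pos hpb, if_pos (by rw [hpb]; exact hfix), mul_one, hpb, hfix]
      unfold sSign
      rw [if_neg hIk, if_pos hIIk, if_neg, if_neg]
      · intro h; rw [eq_iff_val_eq, val_ib] at h; omega
      · intro h; rw [eq_iff_val_eq, val_ia] at h; omega
    · rw [if_neg hpb, if_neg, mul_zero]
      intro h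
      apply hpb
      rw [← sPerm_sPerm k p, h, hfix]
  · -- the coordinates `≥ A`
    intro p hp
    rw [mat_mul, ← Matrix.mulVec_mulVec, hs, hx, sMat_mulVec, xMat_mulVec]
    have hpn := p.2
    rw [zero_mul, map_zero, zero_mul]
    have h40 : (if ia k = sPerm k p then (0 : F) else 0) = 0 := by split_ifs <;> rfl
    have h41 : (if Fin.rev (ib k) = sPerm k p then (0 : F) else 0) = 0 := by split_ifs <;> rfl
    rw [h40, h41, add_zero, sub_zero]
    by_cases hpA : p.val = A
    · have hsp : sPerm k p = ia k := by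
        rw [eq_iff_val_eq, val_ia]
        exact val_sPerm_last_II k hIk p (by omega)
      rw [hsp, if_pos rfl, hreva, huv, mul_zero]
    · have hpA' : A < p.val := lt_of_le_of_ne hp (fun h => hpA h.symm)
      have h5 : sPerm k p = p := sPerm_fix_II k hIk p (by omega) (by omega)
      have h2 : ¬ (ia k = sPerm k p) := by
        intro h'
        rw [h5, eq_iff_val_eq, val_ia] at h'
        omega
      rw [if_neg h2, add_zero, h5, hvA p hpA', mul_zero]

end Cfsg.Agent.Helper97.SuBNSTEP2II
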