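import Mathlib

set_option autoImplicit false

/-!
# Two quadratic generators of a linear group (Gorenstein 3.8.1, first half)

`main_induction`: a finite `K`-representation of a group generated by two elements acting
quadratically, whose image is not a `p`-group, and such that the `p'`-part of the order of the
product of the generators divides `q - 1`, yields a homomorphism to `SL₂(K)` whose image is not a
`p`-group.
-/

namespace Cfsg.Agent.Helper97.QuadPair

open Polynomial

/-- In a finite field `K` with `q` elements, `X ^ k - 1` splits when `k ∣ q - 1`. -/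
theorem splits_X_pow_sub_one {K : Type*} [Field K] [Fintype K] {k : ℕ}
    (hk : k ∣ Fintype.card K - 1) : (X ^ k - 1 : K[X]).Splits := by
  classical
  have hq : 1 < Fintype.card K := Fintype.one_lt_card
  have hsplit : (X ^ Fintype.card K - X : K[X]).Splits := by
    rw [splits_iff_card_roots, FiniteField.roots_X_pow_card_sub_X,
      FiniteField.X_pow_card_sub_X_natDegree_eq K hq]
    simp
  have hne : (X ^ Fintype.card K - X : K[X]) ≠ 0 := FiniteField.X_pow_card_sub_X_ne_zero K hq
  refine hsplit.of_dvd hne ?_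
  obtain ⟨m, hm⟩ := hk
  have h1 : (X ^ k - 1 : K[X]) ∣ (X ^ k) ^ m - 1 ^ m := sub_dvd_pow_sub_pow _ _ _
  have h2 : (X ^ Fintype.card K - X : K[X]) = X * ((X ^ k) ^ m - 1 ^ m) := by
    rw [← pow_mul, ← hm, one_pow, mul_sub, mul_one, ← pow_succ']
    congr 2
    omega
  rw [h2]
  exact Dvd.dvd.mul_left h1 _

/-- An endomorphism of a nonzero finite-dimensional space over a finite field of characteristic
`p` whose order is `p ^ e * k` with `k ∣ q - 1` has an eigenvector over `K`. -/
theorem exists_eigenvector {K : Type*} [Field K] [Fintype K] {p : ℕ} [Fact p.Prime] [CharP K p]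
    {M : Type*} [AddCommGroup M] [Module K M] [FiniteDimensional K M] [Nontrivial M]
    (f : Module.End K M) {e k : ℕ} (hk : k ∣ Fintype.card K - 1) (hf : f ^ (p ^ e * k) = 1) :
    ∃ (μ : K) (w : M), w ≠ 0 ∧ f w = μ • w := by
  have hk0 : k ≠ 0 := by
    rintro rfl
    have hq : 1 < Fintype.card K := Fintype.one_lt_card
    have := Nat.eq_zero_of_zero_dvd hk
    omega
  have hsp : ((X ^ k - 1 : K[X]) ^ (p ^ e)).Splits := (splits_X_pow_sub_one hk).pow _
  have heq : ((X ^ k - 1 : K[X]) ^ (p ^ e)) = X ^ (p ^ e * k) - 1 := by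
    rw [sub_pow_char_pow, one_pow, ← pow_mul, mul_comm]
  have hne : (X ^ (p ^ e * k) - 1 : K[X]) ≠ 0 := by
    apply Polynomial.X_pow_sub_C_ne_zero (a := (1 : K))
    have := (Fact.out : p.Prime).pos
    positivity
  have hdvd : minpoly K f ∣ X ^ (p ^ e * k) - 1 := by
    apply minpoly.dvd
    simp [hf]
  have hsplit : (minpoly K f).Splits := by
    rw [heq] at hsp
    exact hsp.of_dvd hne hdvd
  have hint : IsIntegral K f := Algebra.IsIntegral.isIntegral f
  have hdeg : (minpoly K f).degree ≠ 0 := by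
    have := minpoly.degree_pos hint
    exact ne_of_gt this
  obtain ⟨μ, hμ⟩ := hsplit.exists_eval_eq_zero hdeg
  have hev : f.HasEigenvalue μ := Module.End.hasEigenvalue_of_isRoot hμ
  obtain ⟨w, hw⟩ := hev.exists_hasEigenvector
  exact ⟨μ, w, hw.2, hw.apply_eq_smul⟩

section basic

variable {K : Type*} [Field K] {M : Type*} [AddCommGroup M] [Module K M]

/-- `f` acts quadratically: `(f - 1)^2 = 0`. -/
def Quad (f : Module.End K M) : Prop := ∀ m : M, f (f m - m) = f m - m

theorem Quad.sub_one_sq {f : Module.End K M} (hf : Quad (K := K) f) : (f - 1) * (f - 1) = 0 := by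
  ext m
  have := hf m
  simp only [Module.End.mul_apply, LinearMap.sub_apply, Module.End.one_apply, LinearMap.zero_apply]
  rw [map_sub] at this ⊢
  rw [this]; abel

theorem pow_eq_of_sq_zero (u : Module.End K M) (hu : u * u = 0) (n : ℕ) :
    (1 + u) ^ n = 1 + n • u := by
  induction n with
  | zero => simp
  | succ n ih =>
    rw [pow_succ, ih, mul_add, mul_one, add_mul, one_mul, smul_mul_assoc, hu, smul_zero, add_zero,
      succ_nsmul]
    abel

theorem Quad.pow_char {f : Module.End K M} (hf : Quad (K := K) f) (p : ℕ) [CharP K p] :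
    f ^ p = 1 := by
  have h1 : f = 1 + (f - 1) := by abel
  rw [h1, pow_eq_of_sq_zero _ hf.sub_one_sq]
  have : (p : ℕ) • (f - 1) = 0 := by
    rw [← Nat.cast_smul_eq_nsmul K, CharP.cast_eq_zero, zero_smul]
  rw [this, add_zero]

/-- if `(f-1)^2 = 0` and `g` is a left inverse of `f` then `g m = 2 m - f m`. -/
theorem Quad.inv_apply {f g : Module.End K M} (hf : Quad (K := K) f) (hgf : g * f = 1) (m : M) :
    g m = m + m - f m := by
  have h1 : f (f m) = f m + f m - m := by
    have := hf m
    rw [map_sub] at this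
    rw [sub_eq_iff_eq_add] at this
    rw [this]; abel
  have h2 : ∀ z, g (f z) = z := fun z => by
    have := congrArg (fun h : Module.End K M => h z) hgf
    simpa using this
  have h3 := congrArg g h1
  rw [h2, map_sub, map_add, h2] at h3
  rw [h3]; abel

end basic

section rep

variable {K : Type*} [Field K] {Γ : Type*} [Group Γ] {M : Type*} [AddCommGroup M] [Module K M]

/-- The image of the representation is a `p`-group. -/
def PImage (p : ℕ) (ρ : Representation K Γ M) : Prop := ∀ γ : Γ, ∃ j : ℕ, ρ (γ ^ (p ^ j)) = 1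

theorem invariant_of_gens (ρ : Representation K Γ M) {x y : Γ}
    (hgen : Subgroup.closure {x, y} = ⊤) (hx : Quad (ρ x)) (hy : Quad (ρ y))
    (U : Submodule K M) (hUx : ∀ m ∈ U, ρ x m ∈ U) (hUy : ∀ m ∈ U, ρ y m ∈ U) :
    ∀ g : Γ, U ≤ U.comap (ρ g) := by
  let T : Subgroup Γ :=
    { carrier := {g | (∀ m ∈ U, ρ g m ∈ U) ∧ (∀ m ∈ U, ρ g⁻¹ m ∈ U)}
      one_mem' := by simp
      mul_mem' := by
        rintro g h ⟨hg1, hg2⟩ ⟨hh1, hh2⟩
        refine ⟨fun m hm => ?_, fun m hm => ?_⟩
        · rw [map_mul]; exact hg1 _ (hh1 _ hm)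
        · rw [mul_inv_rev, map_mul]; exact hh2 _ (hg2 _ hm)
      inv_mem' := by
        rintro g ⟨hg1, hg2⟩
        exact ⟨hg2, by simpa using hg1⟩ }
  have hinv : ∀ z : Γ, Quad (ρ z) → (∀ m ∈ U, ρ z m ∈ U) → z ∈ T := by
    intro z hz hUz
    refine ⟨hUz, fun m hm => ?_⟩
    have hgf : ρ z⁻¹ * ρ z = 1 := by rw [← map_mul, inv_mul_cancel, map_one]
    rw [hz.inv_apply hgf m]
    exact U.sub_mem (U.add_mem hm hm) (hUz m hm)
  have hT : T = ⊤ := by
    rw [eq_top_iff, ← hgen, Subgroup.closure_le]
    rintro z (rfl | rfl)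
    · exact hinv _ hx hUx
    · exact hinv _ hy hUy
  intro g m hm
  have : g ∈ T := by rw [hT]; trivial
  exact this.1 m hm

theorem quad_sub (ρ : Representation K Γ M) (U : Submodule K M) (h : ∀ g : Γ, U ≤ U.comap (ρ g))
    {x : Γ} (hx : Quad (ρ x)) : Quad ((ρ.subrepresentation U h) x) := by
  rintro ⟨m, hm⟩
  apply Subtype.ext
  simpa using hx m

theorem quad_quot (ρ : Representation K Γ M) (U : Submodule K M) (h : ∀ g : Γ, U ≤ U.comap (ρ g))
    {x : Γ} (hx : Quad (ρ x)) : Quad ((ρ.quotient U h) x) := by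
  intro q
  obtain ⟨m, rfl⟩ := Submodule.Quotient.mk_surjective U q
  have := hx m
  simp only [Representation.quotient_apply, Submodule.mapQ_apply]
  rw [← Submodule.Quotient.mk_sub, Submodule.mapQ_apply, this]

theorem pImage_of_sub_quot {p : ℕ} [CharP K p] (ρ : Representation K Γ M) (U : Submodule K M)
    (h : ∀ g : Γ, U ≤ U.comap (ρ g))
    (h1 : PImage p (ρ.subrepresentation U h)) (h2 : PImage p (ρ.quotient U h)) : PImage p ρ := by
  intro γ
  obtain ⟨j1, hj1⟩ := h1 γ
  obtain ⟨j2, hj2⟩ := h2 γ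
  set δ := γ ^ (p ^ (j1 + j2)) with hδ
  have hδ1 : δ = (γ ^ (p ^ j1)) ^ (p ^ j2) := by rw [hδ, pow_add, pow_mul]
  have hδ2 : δ = (γ ^ (p ^ j2)) ^ (p ^ j1) := by rw [hδ, pow_add, mul_comm, pow_mul]
  have e1 : (ρ.subrepresentation U h) δ = 1 := by rw [hδ1, map_pow, hj1, one_pow]
  have e2 : (ρ.quotient U h) δ = 1 := by rw [hδ2, map_pow, hj2, one_pow]
  have hq : Quad (ρ δ) := by
    intro m
    have hmem : ρ δ m - m ∈ U := by
      have := congrArg (fun f : Module.End K (M ⧸ U) => f (Submodule.Quotient.mk m)) e2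
      simp only [Representation.quotient_apply, Submodule.mapQ_apply, Module.End.one_apply] at this
      rw [← sub_eq_zero, ← Submodule.Quotient.mk_sub, Submodule.Quotient.mk_eq_zero] at this
      exact this
    have := congrArg (fun f : Module.End K U => (f ⟨ρ δ m - m, hmem⟩ : M)) e1
    simpa using this
  refine ⟨j1 + j2 + 1, ?_⟩
  rw [pow_succ, pow_mul, map_pow, ← hδ]
  exact hq.pow_char p

/-- the determinant of a representation generated by two quadratic elements is trivial -/
theorem det_eq_one {p : ℕ} [Fact p.Prime] [CharP K p] (ρ : Representation K Γ M) {x y : Γ}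
    (hgen : Subgroup.closure {x, y} = ⊤) (hx : Quad (ρ x)) (hy : Quad (ρ y)) (g : Γ) :
    LinearMap.det (ρ g) = 1 := by
  let D : Γ →* K := (LinearMap.det : (M →ₗ[K] M) →* K).comp ρ
  have hone : ∀ z : Γ, Quad (ρ z) → z ∈ D.ker := by
    intro z hz
    rw [MonoidHom.mem_ker]
    have h1 : (D z) ^ p = 1 := by
      show (LinearMap.det (ρ z)) ^ p = 1
      rw [← map_pow, hz.pow_char p, map_one]
    have h2 : (D z - 1) ^ p = 0 := by rw [sub_pow_char, h1, one_pow, sub_self]
    exact sub_eq_zero.1 ((pow_eq_zero_iff (Fact.out : p.Prime).ne_zero).1 h2)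
  have hT : D.ker = ⊤ := by
    rw [eq_top_iff, ← hgen, Subgroup.closure_le]
    rintro z (rfl | rfl)
    · exact hone _ hx
    · exact hone _ hy
  have : g ∈ D.ker := by rw [hT]; trivial
  exact MonoidHom.mem_ker.1 this

/-- a two-dimensional representation generated by quadratic elements gives a hom to `SL₂` -/
theorem exists_hom_of_basis {p : ℕ} [Fact p.Prime] [CharP K p] (ρ : Representation K Γ M) {x y : Γ}
    (hgen : Subgroup.closure {x, y} = ⊤) (hx : Quad (ρ x)) (hy : Quad (ρ y))
    (B : Module.Basis (Fin 2) K M) (hnp : ¬ PImage p ρ) :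
    ∃ φ : Γ →* Matrix.SpecialLinearGroup (Fin 2) K, ¬ IsPGroup p φ.range := by
  have hdet : ∀ g : Γ, (LinearMap.toMatrix B B (ρ g)).det = 1 := by
    intro g
    rw [LinearMap.det_toMatrix]
    exact det_eq_one ρ hgen hx hy g
  let toSL : Γ → Matrix.SpecialLinearGroup (Fin 2) K :=
    fun g => (⟨LinearMap.toMatrix B B (ρ g), hdet g⟩ : Matrix.SpecialLinearGroup (Fin 2) K)
  have htoSL : ∀ g, (toSL g : Matrix (Fin 2) (Fin 2) K) = LinearMap.toMatrix B B (ρ g) :=
    fun g => rfl
  let φ : Γ →* Matrix.SpecialLinearGroup (Fin 2) K :=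
    { toFun := toSL
      map_one' := by
        apply Matrix.SpecialLinearGroup.ext
        intro i j
        rw [htoSL, map_one, Matrix.SpecialLinearGroup.coe_one]
        have : LinearMap.toMatrix B B (1 : Module.End K M) = 1 := LinearMap.toMatrix_one B
        rw [this]
      map_mul' := by
        intro g h
        apply Matrix.SpecialLinearGroup.ext
        intro i j
        rw [Matrix.SpecialLinearGroup.coe_mul, htoSL, htoSL, htoSL, map_mul]
        have : LinearMap.toMatrix B B (ρ g * ρ h) =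
            LinearMap.toMatrix B B (ρ g) * LinearMap.toMatrix B B (ρ h) :=
          LinearMap.toMatrix_mul B _ _
        rw [this] }
  have hφ : ∀ g, (φ g : Matrix (Fin 2) (Fin 2) K) = LinearMap.toMatrix B B (ρ g) := fun g => rfl
  refine ⟨φ, fun hP => hnp ?_⟩
  intro γ
  obtain ⟨j, hj⟩ := hP ⟨φ γ, γ, rfl⟩
  refine ⟨j, ?_⟩
  have h1 : φ (γ ^ (p ^ j)) = 1 := by
    have := congrArg Subtype.val hj
    simpa using this
  have h2 : LinearMap.toMatrix B B (ρ (γ ^ (p ^ j))) = 1 := by
    rw [← hφ, h1, Matrix.SpecialLinearGroup.coe_one]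
  have h3 : LinearMap.toMatrix B B (ρ (γ ^ (p ^ j))) = LinearMap.toMatrix B B 1 := by
    rw [h2]; exact (LinearMap.toMatrix_one B).symm
  exact (LinearMap.toMatrix B B).injective h3


theorem span_pair_invariant (f : Module.End K M) {w w' : M}
    (h1 : f w ∈ Submodule.span K {w, w'}) (h2 : f w' ∈ Submodule.span K {w, w'}) :
    ∀ m ∈ Submodule.span K ({w, w'} : Set M), f m ∈ Submodule.span K ({w, w'} : Set M) := by
  have : (Submodule.span K ({w, w'} : Set M)).map f ≤ Submodule.span K ({w, w'} : Set M) := by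
    rw [Submodule.map_span_le]
    rintro m (rfl | rfl)
    · exact h1
    · exact h2
  intro m hm
  exact this (Submodule.mem_map_of_mem hm)

theorem irreducible_case [Fintype K] {p : ℕ} [Fact p.Prime] [CharP K p] [Finite M]
    (ρ : Representation K Γ M) {x y : Γ}
    (hgen : Subgroup.closure {x, y} = ⊤) (hx : Quad (ρ x)) (hy : Quad (ρ y))
    {e k : ℕ} (hk : k ∣ Fintype.card K - 1) (hxy : (x * y) ^ (p ^ e * k) = 1)
    (hirr : ∀ U : Submodule K M, (∀ m ∈ U, ρ x m ∈ U) → (∀ m ∈ U, ρ y m ∈ U) → U = ⊥ ∨ U = ⊤)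
    (hnp : ¬ PImage p ρ) :
    ∃ φ : Γ →* Matrix.SpecialLinearGroup (Fin 2) K, ¬ IsPGroup p φ.range := by
  have hnt : Nontrivial M := by
    by_contra hnt
    rw [not_nontrivial_iff_subsingleton] at hnt
    apply hnp
    intro γ
    refine ⟨0, ?_⟩
    ext m
    exact Subsingleton.elim _ _
  have hfd : FiniteDimensional K M := Module.Finite.of_finite
  have hf : (ρ (x * y)) ^ (p ^ e * k) = 1 := by rw [← map_pow, hxy, map_one]
  obtain ⟨μ, w, hw0, hw⟩ := exists_eigenvector (p := p) (ρ (x * y)) hk hf
  have hμ : μ ≠ 0 := by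
    rintro rfl
    rw [zero_smul] at hw
    apply hw0
    have : ρ (x * y)⁻¹ (ρ (x * y) w) = w := by
      rw [← Module.End.mul_apply, ← map_mul, inv_mul_cancel, map_one, Module.End.one_apply]
    rw [← this, hw, map_zero]
  set w' : M := ρ x w - w with hw'
  have hxw : ρ x w = w + w' := by rw [hw']; abel
  have hxw' : ρ x w' = w' := hx w
  have hyw : ρ y w = μ • w - μ • w' := by
    have h1 : ρ x (ρ y w) = μ • w := by
      rw [← Module.End.mul_apply, ← map_mul]; exact hw
    have hgf : ρ x⁻¹ * ρ x = 1 := by rw [← map_mul, inv_mul_cancel, map_one]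
    have h2 : ρ x⁻¹ (ρ x (ρ y w)) = ρ y w := by
      rw [← Module.End.mul_apply, hgf, Module.End.one_apply]
    rw [← h2, h1, hx.inv_apply hgf, map_smul, hxw]
    module
  have hyw' : μ • ρ y w' = (μ - 1) • ρ y w - (μ - 1) • w + μ • w' := by
    have h1 := hy w
    have h2 : ρ y w - w = (μ - 1) • w - μ • w' := by rw [hyw]; module
    rw [h2, map_sub, map_smul, map_smul] at h1
    rw [eq_sub_iff_add_eq] at h1
    rw [← h1]
    module
  set U : Submodule K M := Submodule.span K {w, w'} with hU
  have hwU : w ∈ U := Submodule.subset_span (by simp)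
  have hw'U : w' ∈ U := Submodule.subset_span (by simp)
  have hUx : ∀ m ∈ U, ρ x m ∈ U := by
    apply span_pair_invariant
    · rw [hxw]; exact U.add_mem hwU hw'U
    · rw [hxw']; exact hw'U
  have hywU : ρ y w ∈ U := by
    rw [hyw]; exact U.sub_mem (U.smul_mem _ hwU) (U.smul_mem _ hw'U)
  have hUy : ∀ m ∈ U, ρ y m ∈ U := by
    apply span_pair_invariant
    · exact hywU
    · have : ρ y w' = μ⁻¹ • ((μ - 1) • ρ y w - (μ - 1) • w + μ • w') := by
        rw [← hyw', smul_smul, inv_mul_cancel₀ hμ, one_smul]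
      rw [this]
      exact U.smul_mem _ (U.add_mem (U.sub_mem (U.smul_mem _ hywU) (U.smul_mem _ hwU))
        (U.smul_mem _ hw'U))
  have hUtop : U = ⊤ := by
    rcases hirr U hUx hUy with h | h
    · exfalso
      rw [h] at hwU
      exact hw0 ((Submodule.mem_bot K).1 hwU)
    · exact h
  by_cases hw'0 : w' = 0
  · exfalso
    apply hnp
    have hμ1 : μ = 1 := by
      have h1 := hy w
      rw [hyw, hw'0, smul_zero, sub_zero] at h1
      have h2 : (μ - 1) • (μ - 1) • w = 0 := by
        rw [map_sub, map_smul, hyw, hw'0, smul_zero, sub_zero] at h1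
        rw [← sub_eq_zero] at h1
        rw [← h1]; module
      rw [smul_smul, smul_eq_zero] at h2
      rcases h2 with h2 | h2
      · have := mul_self_eq_zero.1 h2
        exact sub_eq_zero.1 this
      · exact absurd h2 hw0
    have hker : ρ.ker = ⊤ := by
      rw [eq_top_iff, ← hgen, Subgroup.closure_le]
      rintro z (rfl | rfl)
      · rw [SetLike.mem_coe, MonoidHom.mem_ker]
        apply LinearMap.ext_on hUtop
        rintro m (hm | hm)
        · rw [hm, hxw, hw'0, add_zero, Module.End.one_apply]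
        · rw [Set.mem_singleton_iff.1 hm, hxw', Module.End.one_apply]
      · rw [SetLike.mem_coe, MonoidHom.mem_ker]
        apply LinearMap.ext_on hUtop
        rintro m (hm | hm)
        · rw [hm, hyw, hw'0, smul_zero, sub_zero, hμ1, one_smul, Module.End.one_apply]
        · rw [Set.mem_singleton_iff.1 hm, hw'0, map_zero, Module.End.one_apply]
    intro γ
    refine ⟨0, ?_⟩
    have : γ ^ p ^ 0 ∈ ρ.ker := by rw [hker]; trivial
    exact MonoidHom.mem_ker.1 this
  · have hli : LinearIndependent K ![w, w'] := by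
      rw [LinearIndependent.pair_iff]
      intro s t hst
      have h1 : ρ x (s • w + t • w') - (s • w + t • w') = 0 := by rw [hst, map_zero, sub_zero]
      rw [map_add, map_smul, map_smul, hxw, hxw'] at h1
      have h2 : s • w' = 0 := by rw [← h1]; module
      have hs : s = 0 := by
        rcases smul_eq_zero.1 h2 with h | h
        · exact h
        · exact absurd h hw'0
      rw [hs, zero_smul, zero_add] at hst
      have ht : t = 0 := by
        rcases smul_eq_zero.1 hst with h | h
        · exact h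
        · exact absurd h hw'0
      exact ⟨hs, ht⟩
    have hspan : ⊤ ≤ Submodule.span K (Set.range ![w, w']) := by
      have : Set.range ![w, w'] = {w, w'} := by
        ext z
        simp only [Set.mem_range, Set.mem_insert_iff, Set.mem_singleton_iff]
        constructor
        · rintro ⟨i, rfl⟩
          fin_cases i
          · left; rfl
          · right; rfl
        · rintro (rfl | rfl)
          · exact ⟨0, rfl⟩
          · exact ⟨1, rfl⟩
      rw [this, ← hU, hUtop]
    exact exists_hom_of_basis ρ hgen hx hy (Module.Basis.mk hli hspan) hnp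

theorem main_induction [Fintype K] {p : ℕ} [Fact p.Prime] [CharP K p] {x y : Γ}
    (hgen : Subgroup.closure {x, y} = ⊤)
    {e k : ℕ} (hk : k ∣ Fintype.card K - 1) (hxy : (x * y) ^ (p ^ e * k) = 1) (n : ℕ) :
    ∀ (M : Type*) [AddCommGroup M] [Module K M] [Finite M] (ρ : Representation K Γ M),
      Nat.card M ≤ n → Quad (ρ x) → Quad (ρ y) → ¬ PImage p ρ →
      ∃ φ : Γ →* Matrix.SpecialLinearGroup (Fin 2) K, ¬ IsPGroup p φ.range := by
  induction n with
  | zero =>
    intro M _ _ _ ρ hcard
    have := Nat.card_pos (α := M)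
    omega
  | succ n ih =>
    intro M _ _ _ ρ hcard hx hy hnp
    by_cases hirr : ∀ U : Submodule K M, (∀ m ∈ U, ρ x m ∈ U) → (∀ m ∈ U, ρ y m ∈ U) →
        U = ⊥ ∨ U = ⊤
    · exact irreducible_case ρ hgen hx hy hk hxy hirr hnp
    · push Not at hirr
      obtain ⟨U, hUx, hUy, hU0, hU1⟩ := hirr
      have h := invariant_of_gens ρ hgen hx hy U hUx hUy
      have hlt1 : Nat.card U < Nat.card M := by
        obtain ⟨z, hz⟩ : ∃ z : M, z ∉ U := by
          by_contra hcon
          push Not at hcon
          exact hU1 (eq_top_iff.2 fun z _ => hcon z)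
        exact Finite.card_subtype_lt hz
      have hfq : Finite (M ⧸ U) :=
        Finite.of_surjective _ (Submodule.Quotient.mk_surjective U)
      have hlt2 : Nat.card (M ⧸ U) < Nat.card M := by
        rw [Submodule.card_eq_card_quotient_mul_card U]
        have hnt : Nontrivial U := by
          rw [Submodule.nontrivial_iff_ne_bot]; exact hU0
        have h1 : 1 < Nat.card U := Finite.one_lt_card
        have h2 : 0 < Nat.card (M ⧸ U) := Nat.card_pos
        nlinarith
      by_cases h1 : PImage p (ρ.subrepresentation U h)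
      · by_cases h2 : PImage p (ρ.quotient U h)
        · exact absurd (pImage_of_sub_quot ρ U h h1 h2) hnp
        · exact ih (M ⧸ U) (ρ.quotient U h) (by omega) (quad_quot ρ U h hx) (quad_quot ρ U h hy) h2
      · exact ih U (ρ.subrepresentation U h) (by omega) (quad_sub ρ U h hx) (quad_sub ρ U h hy) h1

end rep


section linear

variable {K : Type*} [Field K] [Fintype K] {p : ℕ} [Fact p.Prime] [CharP K p]
  {W : Type*} [AddCommGroup W] [Module K W] [Finite W]

/-- **Two quadratic generators map to `SL₂`** (linear group form). -/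
theorem exists_hom_SL2 (H : Subgroup (W ≃ₗ[K] W)) (a b : W ≃ₗ[K] W)
    (hH : H = Subgroup.closure {a, b}) (ha : ∀ w : W, a (a w - w) = a w - w)
    (hb : ∀ w : W, b (b w - w) = b w - w) (hnp : ¬ IsPGroup p H) {e k : ℕ}
    (hord : (a * b) ^ (p ^ e * k) = 1) (hk : k ∣ Fintype.card K - 1) :
    ∃ φ : H →* Matrix.SpecialLinearGroup (Fin 2) K, ¬ IsPGroup p φ.range := by
  subst hH
  set H := Subgroup.closure ({a, b} : Set (W ≃ₗ[K] W)) with hH
  have haH : a ∈ H := Subgroup.subset_closure (by simp)
  have hbH : b ∈ H := Subgroup.subset_closure (by simp)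
  let ρ : Representation K H W :=
    { toFun := fun h => ((h : W ≃ₗ[K] W) : W →ₗ[K] W)
      map_one' := rfl
      map_mul' := fun _ _ => rfl }
  have hρ : ∀ (h : H) (w : W), ρ h w = (h : W ≃ₗ[K] W) w := fun _ _ => rfl
  have hgen : Subgroup.closure ({(⟨a, haH⟩ : H), ⟨b, hbH⟩} : Set H) = ⊤ := by
    have h1 := Subgroup.closure_closure_coe_preimage (k := ({a, b} : Set (W ≃ₗ[K] W)))
    have h2 : ((↑) : H → (W ≃ₗ[K] W)) ⁻¹' ({a, b} : Set (W ≃ₗ[K] W)) =
        ({(⟨a, haH⟩ : H), ⟨b, hbH⟩} : Set H) := by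
      ext z
      simp only [Set.mem_preimage, Set.mem_insert_iff, Set.mem_singleton_iff, Subtype.ext_iff]
    rw [← h2]
    exact h1
  have hxy : ((⟨a, haH⟩ : H) * ⟨b, hbH⟩) ^ (p ^ e * k) = 1 := by
    apply Subtype.ext
    simpa using hord
  have hnpI : ¬ PImage p ρ := by
    intro hP
    apply hnp
    intro h
    obtain ⟨j, hj⟩ := hP h
    refine ⟨j, ?_⟩
    apply Subtype.ext
    apply LinearEquiv.toLinearMap_injective
    exact hj
  exact main_induction hgen hk hxy (Nat.card W) W ρ le_rfl (fun w => ha w) (fun w => hb w) hnpI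

end linear

end Cfsg.Agent.Helper97.QuadPair
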