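import Mathlib
import Cfsg.Agent.Helper97.QuadPair

set_option autoImplicit false

namespace Cfsg.Agent.Helper97.QuadLin

open Cfsg.Agent.Helper97.QuadPair
open scoped TensorProduct

theorem quad_of_sq_zero {K : Type*} [Field K] {M : Type*} [AddCommGroup M] [Module K M]
    {f : Module.End K M} (h : (f - 1) * (f - 1) = 0) : Quad f := by
  intro m
  have := congrArg (fun g : Module.End K M => g m) h
  simp only [Module.End.mul_apply, LinearMap.sub_apply, Module.End.one_apply,
    LinearMap.zero_apply] at this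
  rw [sub_eq_zero] at this
  rw [map_sub] at this ⊢
  exact this

/-- Linearization: a group acting faithfully on a finite elementary abelian `p`-group, generated by
two elements acting quadratically, not a `p`-group, maps to some `SL₂(K)` with non-`p`-group image. -/
theorem exists_hom_SL2_of_action_aux {A : Type*} [CommGroup A] [Finite A] {p : ℕ} [Fact p.Prime]
    [Module (ZMod p) (Additive A)] {Γ : Type*} [Group Γ] (θ : Γ →* MulAut A)
    (hθ : Function.Injective θ) (x y : Γ) (hgen : Subgroup.closure {x, y} = ⊤)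
    (hx : ∀ v : A, θ x (θ x v / v) = θ x v / v) (hy : ∀ v : A, θ y (θ y v / v) = θ y v / v)
    (hnp : ¬ IsPGroup p Γ) :
    ∃ (K : Type) (_ : Field K) (_ : Fintype K) (_ : CharP K p)
      (φ : Γ →* Matrix.SpecialLinearGroup (Fin 2) K),
      ¬ IsPGroup p φ.range ∧ x ^ p = 1 ∧ y ^ p = 1 := by
  classical
  have hpp : p.Prime := Fact.out
  have : Finite Γ := Finite.of_injective θ hθ
  -- the `ZMod p`-linear action
  let ρ₀ : Γ →* Module.End (ZMod p) (Additive A) :=
    { toFun := fun γ => AddMonoidHom.toZModLinearMap p (MonoidHom.toAdditive (θ γ).toMonoidHom)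
      map_one' := by
        apply LinearMap.ext
        intro v
        obtain ⟨v, rfl⟩ := Additive.ofMul.surjective v
        rw [Module.End.one_apply, AddMonoidHom.coe_toZModLinearMap, map_one]
        rfl
      map_mul' := by
        intro γ δ
        apply LinearMap.ext
        intro v
        obtain ⟨v, rfl⟩ := Additive.ofMul.surjective v
        rw [Module.End.mul_apply, AddMonoidHom.coe_toZModLinearMap,
          AddMonoidHom.coe_toZModLinearMap, AddMonoidHom.coe_toZModLinearMap, map_mul]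
        rfl }
  have hρ₀ : ∀ (γ : Γ) (v : A), ρ₀ γ (Additive.ofMul v) = Additive.ofMul (θ γ v) := fun _ _ => rfl
  have hρ₀inj : ∀ γ : Γ, ρ₀ γ = 1 → γ = 1 := by
    intro γ h
    apply hθ
    rw [map_one]
    ext v
    have := congrArg (fun f : Module.End (ZMod p) (Additive A) => f (Additive.ofMul v)) h
    simp only [hρ₀, Module.End.one_apply] at this
    exact Additive.ofMul.injective this
  have hq₀ : ∀ z : Γ, (∀ v : A, θ z (θ z v / v) = θ z v / v) → (ρ₀ z - 1) * (ρ₀ z - 1) = 0 := by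
    intro z hz
    apply LinearMap.ext
    intro v
    obtain ⟨v, rfl⟩ := Additive.ofMul.surjective v
    simp only [Module.End.mul_apply, LinearMap.sub_apply, Module.End.one_apply,
      LinearMap.zero_apply, hρ₀]
    rw [← ofMul_div, hρ₀, hz v, sub_self]
  -- order of `x * y`
  have hN0 : orderOf (x * y) ≠ 0 := (orderOf_pos (x * y)).ne'
  obtain ⟨e, k, hpk, hNk⟩ := Nat.exists_eq_pow_mul_and_not_dvd hN0 p hpp.ne_one
  have hk0 : k ≠ 0 := by
    rintro rfl
    exact hpk (dvd_zero p)
  have hcop : Nat.Coprime p k := (Nat.Prime.coprime_iff_not_dvd hpp).2 hpk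
  set m := Nat.totient k with hm
  have hm0 : m ≠ 0 := (Nat.totient_pos.2 (Nat.pos_of_ne_zero hk0)).ne'
  have hkdvd : k ∣ p ^ m - 1 := by
    have h1 : p ^ m ≡ 1 [MOD k] := Nat.ModEq.pow_totient hcop
    exact (Nat.modEq_iff_dvd' (Nat.one_le_pow _ _ hpp.pos)).1 h1.symm
  -- the field
  let K := GaloisField p m
  let _ : Fintype K := Fintype.ofFinite K
  have hcardK : Fintype.card K = p ^ m := by
    rw [← Nat.card_eq_fintype_card]; exact GaloisField.card p m hm0
  have hk : k ∣ Fintype.card K - 1 := by rw [hcardK]; exact hkdvd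
  have hxy : (x * y) ^ (p ^ e * k) = 1 := by rw [← hNk]; exact pow_orderOf_eq_one _
  -- the base-changed representation
  let bc : Module.End (ZMod p) (Additive A) →* Module.End K (K ⊗[ZMod p] Additive A) :=
    (Module.End.baseChangeHom (ZMod p) K (Additive A) : _ →* _)
  have hbc : ∀ f, bc f = LinearMap.baseChange K f := fun _ => rfl
  have hbcinj : Function.Injective bc := by
    intro f g hfg
    exact LinearMap.baseChangeHom_injective (R := ZMod p) (S := K) (M := Additive A)
      (N := Additive A) hfg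
  let ρ : Representation K Γ (K ⊗[ZMod p] Additive A) := bc.comp ρ₀
  have hρ : ∀ γ, ρ γ = bc (ρ₀ γ) := fun _ => rfl
  have hquad : ∀ z : Γ, (∀ v : A, θ z (θ z v / v) = θ z v / v) → Quad (ρ z) := by
    intro z hz
    apply quad_of_sq_zero
    have h1 := hq₀ z hz
    have h2 : bc ((ρ₀ z - 1) * (ρ₀ z - 1)) = 0 := by
      rw [h1]
      exact map_zero (Module.End.baseChangeHom (ZMod p) K (Additive A))
    have h3 : bc ((ρ₀ z - 1) * (ρ₀ z - 1)) = (ρ z - 1) * (ρ z - 1) := by
      rw [hρ]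
      show (Module.End.baseChangeHom (ZMod p) K (Additive A)) ((ρ₀ z - 1) * (ρ₀ z - 1)) =
        ((Module.End.baseChangeHom (ZMod p) K (Additive A)) (ρ₀ z) - 1) *
          ((Module.End.baseChangeHom (ZMod p) K (Additive A)) (ρ₀ z) - 1)
      rw [map_mul, map_sub, map_one]
    rw [← h3, h2]
  have hnpI : ¬ PImage p ρ := by
    intro hP
    apply hnp
    intro γ
    obtain ⟨j, hj⟩ := hP γ
    refine ⟨j, hρ₀inj _ ?_⟩
    apply hbcinj
    rw [← hρ, hj]
    exact (map_one bc).symm
  have : Finite (K ⊗[ZMod p] Additive A) := Module.finite_of_finite K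
  obtain ⟨φ, hφ⟩ := main_induction hgen hk hxy (Nat.card (K ⊗[ZMod p] Additive A))
    (K ⊗[ZMod p] Additive A) ρ le_rfl (hquad x hx) (hquad y hy) hnpI
  have hpow : ∀ z : Γ, (∀ v : A, θ z (θ z v / v) = θ z v / v) → z ^ p = 1 := by
    intro z hz
    apply hρ₀inj
    rw [map_pow]
    exact (quad_of_sq_zero (hq₀ z hz)).pow_char p
  exact ⟨K, inferInstance, inferInstance, inferInstance, φ, hφ, hpow x hx, hpow y hy⟩

theorem exists_hom_SL2_of_action {A : Type*} [CommGroup A] [Finite A] {p : ℕ} [Fact p.Prime]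
    (hA : ∀ v : A, v ^ p = 1) {Γ : Type*} [Group Γ] (θ : Γ →* MulAut A)
    (hθ : Function.Injective θ) (x y : Γ) (hgen : Subgroup.closure {x, y} = ⊤)
    (hx : ∀ v : A, θ x (θ x v / v) = θ x v / v) (hy : ∀ v : A, θ y (θ y v / v) = θ y v / v)
    (hnp : ¬ IsPGroup p Γ) :
    ∃ (K : Type) (_ : Field K) (_ : Fintype K) (_ : CharP K p)
      (φ : Γ →* Matrix.SpecialLinearGroup (Fin 2) K),
      ¬ IsPGroup p φ.range ∧ x ^ p = 1 ∧ y ^ p = 1 := by
  let _ : Module (ZMod p) (Additive A) := AddCommGroup.zmodModule (n := p) (by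
    intro v
    obtain ⟨v, rfl⟩ := Additive.ofMul.surjective v
    rw [← ofMul_pow, hA]; rfl)
  exact exists_hom_SL2_of_action_aux θ hθ x y hgen hx hy hnp

section subgroups

open scoped IsMulCommutative commutatorElement

variable {G : Type*} [Group G] [Finite G] {p : ℕ} [Fact p.Prime]

omit [Finite G] in
/-- the quadratic-action hypothesis, elementwise -/
theorem conj_comm_eq_of_quadratic (V : Subgroup G) (a : G)
    (ha : ⁅⁅V, Subgroup.zpowers a⁆, Subgroup.zpowers a⁆ = ⊥) (v : G) (hv : v ∈ V) :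
    a * (a * v * a⁻¹ * v⁻¹) * a⁻¹ = a * v * a⁻¹ * v⁻¹ := by
  have h1 : ⁅a, v⁆ ∈ ⁅V, Subgroup.zpowers a⁆ := by
    rw [Subgroup.commutator_comm]
    exact Subgroup.commutator_mem_commutator (Subgroup.mem_zpowers a) hv
  have h2 : ⁅a, ⁅a, v⁆⁆ ∈ ⁅⁅V, Subgroup.zpowers a⁆, Subgroup.zpowers a⁆ := by
    rw [Subgroup.commutator_comm]
    exact Subgroup.commutator_mem_commutator (Subgroup.mem_zpowers a) h1
  rw [ha, Subgroup.mem_bot] at h2
  simp only [commutatorElement_def] at h2
  exact mul_inv_eq_one.1 h2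

/-- **Subgroup form**: `H = ⟨a, b⟩` acting faithfully on an elementary abelian `p`-subgroup `V`,
with `a`, `b` quadratic and `H` not a `p`-group, maps to some `SL₂(K)` with non-`p`-group image;
moreover `a ^ p = b ^ p = 1`. -/
theorem exists_hom_SL2_of_subgroups (V H : Subgroup G) (hVc : IsMulCommutative V)
    (hVp : ∀ v ∈ V, v ^ p = 1) (hHV : H ≤ Subgroup.normalizer (V : Set G))
    (hf : H ⊓ Subgroup.centralizer (V : Set G) = ⊥) (a b : G) (hab : H = Subgroup.closure {a, b})
    (ha : ⁅⁅V, Subgroup.zpowers a⁆, Subgroup.zpowers a⁆ = ⊥)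
    (hb : ⁅⁅V, Subgroup.zpowers b⁆, Subgroup.zpowers b⁆ = ⊥) (hnp : ¬ IsPGroup p H) :
    ∃ (K : Type) (_ : Field K) (_ : Fintype K) (_ : CharP K p)
      (φ : H →* Matrix.SpecialLinearGroup (Fin 2) K) (x y : H),
      (x : G) = a ∧ (y : G) = b ∧ Subgroup.closure {x, y} = ⊤ ∧
      ¬ IsPGroup p φ.range ∧ x ^ p = 1 ∧ y ^ p = 1 := by
  subst hab
  set H := Subgroup.closure ({a, b} : Set G) with hH
  have haH : a ∈ H := Subgroup.subset_closure (by simp)
  have hbH : b ∈ H := Subgroup.subset_closure (by simp)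
  let θ : H →* MulAut V := V.normalizerMonoidHom.comp (Subgroup.inclusion hHV)
  have hθa : ∀ (h : H) (v : V), ((θ h v : V) : G) = (h : G) * v * (h : G)⁻¹ := fun _ _ => rfl
  have hθ : Function.Injective θ := by
    rw [injective_iff_map_eq_one]
    intro h hh
    have h1 : (h : G) ∈ H ⊓ Subgroup.centralizer (V : Set G) := by
      refine Subgroup.mem_inf.2 ⟨h.2, ?_⟩
      rw [Subgroup.mem_centralizer_iff]
      intro v hv
      have := congrArg (fun f : MulAut V => ((f ⟨v, hv⟩ : V) : G)) hh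
      simp only [hθa, MulAut.one_apply] at this
      calc v * (h : G) = ((h : G) * v * (h : G)⁻¹) * h := by rw [this]
        _ = h * v := by group
    rw [hf, Subgroup.mem_bot] at h1
    exact Subtype.ext h1
  have hgen : Subgroup.closure ({(⟨a, haH⟩ : H), ⟨b, hbH⟩} : Set H) = ⊤ := by
    have h1 := Subgroup.closure_closure_coe_preimage (k := ({a, b} : Set G))
    have h2 : ((↑) : H → G) ⁻¹' ({a, b} : Set G) = ({(⟨a, haH⟩ : H), ⟨b, hbH⟩} : Set H) := by
      ext z
      simp only [Set.mem_preimage, Set.mem_insert_iff, Set.mem_singleton_iff, Subtype.ext_iff]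
    rw [← h2]
    exact h1
  have hq : ∀ (z : H), ⁅⁅V, Subgroup.zpowers (z : G)⁆, Subgroup.zpowers (z : G)⁆ = ⊥ →
      ∀ v : V, θ z (θ z v / v) = θ z v / v := by
    intro z hz v
    apply Subtype.ext
    rw [hθa, Subgroup.coe_div, hθa, div_eq_mul_inv]
    exact conj_comm_eq_of_quadratic V z hz v v.2
  obtain ⟨K, iF, iFt, iC, φ, h1, h2, h3⟩ :=
    exists_hom_SL2_of_action (A := V) (p := p) (fun v => Subtype.ext (hVp v v.2)) θ hθ
      ⟨a, haH⟩ ⟨b, hbH⟩ hgen (hq ⟨a, haH⟩ ha) (hq ⟨b, hbH⟩ hb) hnp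
  exact ⟨K, iF, iFt, iC, φ, ⟨a, haH⟩, ⟨b, hbH⟩, rfl, rfl, hgen, h1, h2, h3⟩

end subgroups

end Cfsg.Agent.Helper97.QuadLin
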