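import Mathlib
import Cfsg.Agent.Helper37.SL2Sylow2

set_option autoImplicit false

/-!
# Subgroups of `SL₂(K)` generated by `p`-elements (odd characteristic `p`)

`isPGroup_of_gens`: a subgroup of `SL₂(K)` (`K` a finite field of odd characteristic `p`) generated
by elements of order dividing `p`, one of whose Sylow `2`-subgroups is commutative, is a `p`-group.
No use of Dickson's theorem.
-/

namespace Cfsg.Agent.Helper97.SL2Odd

open Matrix

variable {F : Type*} [Field F]

theorem mat_commute_aux (g x y : Matrix (Fin 2) (Fin 2) F) (hb : g 0 1 ≠ 0)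
    (hx : x * g = g * x) (hy : y * g = g * y) : x * y = y * x := by
  have hx00 := congrFun (congrFun hx 0) 0
  have hx01 := congrFun (congrFun hx 0) 1
  have hy00 := congrFun (congrFun hy 0) 0
  have hy01 := congrFun (congrFun hy 0) 1
  simp only [Matrix.mul_apply, Fin.sum_univ_two] at hx00 hx01 hy00 hy01
  ext i j
  fin_cases i <;> fin_cases j <;> simp only [Matrix.mul_apply, Fin.sum_univ_two, Fin.zero_eta,
    Fin.mk_one, Fin.isValue]
  · apply mul_left_cancel₀ hb
    linear_combination (-(x 0 1)) * hy00 + (y 0 1) * hx00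
  · apply mul_left_cancel₀ hb
    linear_combination (y 0 1) * hx01 - (x 0 1) * hy01
  · apply mul_left_cancel₀ hb
    apply mul_left_cancel₀ hb
    linear_combination (g 0 0 - g 1 1) * (-(y 0 1)) * hx00 + (g 0 0 - g 1 1) * (x 0 1) * hy00 +
      (g 0 1) * (x 1 0) * hy01 - (g 0 1) * (y 1 0) * hx01
  · apply mul_left_cancel₀ hb
    linear_combination (-(y 0 1)) * hx00 + (x 0 1) * hy00

/-- Two matrices commuting with a non-scalar `2 × 2` matrix commute. -/
theorem mat_commute_of_commute_nonscalar (g x y : Matrix (Fin 2) (Fin 2) F)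
    (hg : g 0 1 ≠ 0 ∨ g 1 0 ≠ 0 ∨ g 0 0 ≠ g 1 1)
    (hx : x * g = g * x) (hy : y * g = g * y) : x * y = y * x := by
  by_cases hb : g 0 1 ≠ 0
  · exact mat_commute_aux g x y hb hx hy
  by_cases hc : g 1 0 ≠ 0
  · have h := mat_commute_aux gᵀ yᵀ xᵀ (by simpa using hc)
      (by rw [← Matrix.transpose_mul, ← Matrix.transpose_mul, hy])
      (by rw [← Matrix.transpose_mul, ← Matrix.transpose_mul, hx])
    rw [← Matrix.transpose_mul, ← Matrix.transpose_mul] at h
    exact Matrix.transpose_injective h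
  push Not at hb hc
  have had : g 0 0 ≠ g 1 1 := by
    rcases hg with h | h | h
    · exact absurd hb h
    · exact absurd hc h
    · exact h
  have had' : g 0 0 - g 1 1 ≠ 0 := sub_ne_zero.2 had
  have hx01 := congrFun (congrFun hx 0) 1
  have hx10 := congrFun (congrFun hx 1) 0
  have hy01 := congrFun (congrFun hy 0) 1
  have hy10 := congrFun (congrFun hy 1) 0
  simp only [Matrix.mul_apply, Fin.sum_univ_two, hb, hc] at hx01 hx10 hy01 hy10
  have hx2 : x 0 1 = 0 := by
    apply mul_left_cancel₀ had'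
    linear_combination -hx01
  have hx3 : x 1 0 = 0 := by
    apply mul_left_cancel₀ had'
    linear_combination hx10
  have hy2 : y 0 1 = 0 := by
    apply mul_left_cancel₀ had'
    linear_combination -hy01
  have hy3 : y 1 0 = 0 := by
    apply mul_left_cancel₀ had'
    linear_combination hy10
  ext i j
  fin_cases i <;> fin_cases j <;> simp only [Matrix.mul_apply, Fin.sum_univ_two, Fin.zero_eta,
    Fin.mk_one, Fin.isValue, hx2, hx3, hy2, hy3] <;> ring

theorem adj2 (Y : Matrix (Fin 2) (Fin 2) F) : adjugate Y = trace Y • (1 : Matrix (Fin 2) (Fin 2) F) - Y := by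
  rw [Matrix.adjugate_fin_two, Matrix.trace_fin_two]
  ext i j
  fin_cases i <;> fin_cases j <;> simp

theorem ch2 (X : Matrix (Fin 2) (Fin 2) F) :
    X * X = trace X • X - det X • (1 : Matrix (Fin 2) (Fin 2) F) := by
  rw [Matrix.trace_fin_two, Matrix.det_fin_two]
  ext i j
  fin_cases i <;> fin_cases j <;> simp [Matrix.mul_apply, Fin.sum_univ_two] <;> ring

theorem det_sub2 (X Y : Matrix (Fin 2) (Fin 2) F) :
    det (X - Y) = det X + det Y - trace (adjugate Y * X) := by
  rw [Matrix.adjugate_fin_two, Matrix.trace_fin_two, Matrix.det_fin_two, Matrix.det_fin_two,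
    Matrix.det_fin_two]
  simp [Matrix.mul_apply, Fin.sum_univ_two]
  ring

theorem det_sub_adj2 (X Y : Matrix (Fin 2) (Fin 2) F) :
    det (X - adjugate Y) = det X + det Y - trace (Y * X) := by
  rw [Matrix.adjugate_fin_two, Matrix.trace_fin_two, Matrix.det_fin_two, Matrix.det_fin_two,
    Matrix.det_fin_two]
  simp [Matrix.mul_apply, Fin.sum_univ_two]
  ring

/-- commuting elements of `SL₂` with the same trace: `y⁻¹x` or `yx` has trace `2`. -/
theorem trace_two_of_commute (x y : SpecialLinearGroup (Fin 2) F) (hc : x * y = y * x)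
    (ht : trace (x : Matrix (Fin 2) (Fin 2) F) = trace (y : Matrix (Fin 2) (Fin 2) F)) :
    trace ((y⁻¹ * x : SpecialLinearGroup (Fin 2) F) : Matrix (Fin 2) (Fin 2) F) = 2 ∨
      trace ((y * x : SpecialLinearGroup (Fin 2) F) : Matrix (Fin 2) (Fin 2) F) = 2 := by
  set X : Matrix (Fin 2) (Fin 2) F := (x : Matrix (Fin 2) (Fin 2) F) with hX
  set Y : Matrix (Fin 2) (Fin 2) F := (y : Matrix (Fin 2) (Fin 2) F) with hY
  have hdX : det X = 1 := x.2
  have hdY : det Y = 1 := y.2
  have hc' : X * Y = Y * X := by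
    have := congrArg (fun z : SpecialLinearGroup (Fin 2) F => (z : Matrix (Fin 2) (Fin 2) F)) hc
    simpa using this
  have h0 : (X - Y) * (X - adjugate Y) = 0 := by
    have h1 : (X - Y) * (X - adjugate Y) = X * X - X * adjugate Y - Y * X + Y * adjugate Y := by
      noncomm_ring
    rw [h1, Matrix.mul_adjugate, hdY, adj2, mul_sub, Matrix.mul_smul, mul_one, ch2 X, hdX, ht, hc']
    abel
  have h1 : det (X - Y) * det (X - adjugate Y) = 0 := by
    rw [← Matrix.det_mul, h0, Matrix.det_zero]
  rw [det_sub2, det_sub_adj2, hdX, hdY] at h1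
  rcases mul_eq_zero.1 h1 with h | h
  · left
    rw [Matrix.SpecialLinearGroup.coe_mul, Matrix.SpecialLinearGroup.coe_inv]
    linear_combination -h
  · right
    rw [Matrix.SpecialLinearGroup.coe_mul]
    linear_combination -h

/-- an element of `SL₂` of trace `2` in characteristic `p` has order dividing `p`. -/
theorem pow_char_eq_one_of_trace_two (p : ℕ) [CharP F p] (z : SpecialLinearGroup (Fin 2) F)
    (hz : trace (z : Matrix (Fin 2) (Fin 2) F) = 2) : z ^ p = 1 := by
  set Z : Matrix (Fin 2) (Fin 2) F := (z : Matrix (Fin 2) (Fin 2) F) with hZ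
  have hch : Z * Z = (2 : F) • Z - 1 := by
    have := ch2 Z
    rw [hz, show det Z = 1 from z.2, one_smul] at this
    exact this
  have hpow : ∀ n : ℕ, Z ^ n = (n : F) • Z - ((n : F) - 1) • (1 : Matrix (Fin 2) (Fin 2) F) := by
    intro n
    induction n with
    | zero => simp
    | succ n ih =>
      rw [pow_succ, ih, sub_mul, Matrix.smul_mul, Matrix.smul_mul, one_mul, hch]
      push_cast
      module
  apply Subtype.ext
  rw [Matrix.SpecialLinearGroup.coe_pow, hpow p, CharP.cast_eq_zero, Matrix.SpecialLinearGroup.coe_one]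
  simp

/-- a "scalar" element of `SL₂` squares to one -/
theorem sq_eq_one_of_scalar (g : SpecialLinearGroup (Fin 2) F)
    (h1 : (g : Matrix (Fin 2) (Fin 2) F) 0 1 = 0) (h2 : (g : Matrix (Fin 2) (Fin 2) F) 1 0 = 0)
    (h3 : (g : Matrix (Fin 2) (Fin 2) F) 0 0 = (g : Matrix (Fin 2) (Fin 2) F) 1 1) : g * g = 1 := by
  have hd : det (g : Matrix (Fin 2) (Fin 2) F) = 1 := g.2
  rw [Matrix.det_fin_two, h1, h2, ← h3] at hd
  apply Subtype.ext
  rw [Matrix.SpecialLinearGroup.coe_mul, Matrix.SpecialLinearGroup.coe_one]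
  ext i j
  fin_cases i <;> fin_cases j <;> simp [Matrix.mul_apply, Fin.sum_univ_two, h1, h2, ← h3] <;>
    linear_combination hd

theorem trace_conj (h y : SpecialLinearGroup (Fin 2) F) :
    trace ((h * y * h⁻¹ : SpecialLinearGroup (Fin 2) F) : Matrix (Fin 2) (Fin 2) F) =
      trace (y : Matrix (Fin 2) (Fin 2) F) := by
  rw [Matrix.SpecialLinearGroup.coe_mul, Matrix.trace_mul_comm, ← Matrix.SpecialLinearGroup.coe_mul,
    ← mul_assoc, inv_mul_cancel, one_mul]

/-- if `h` of odd order conjugates `y` to an element commuting with `y`, and the only trace-2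
elements among `y⁻¹ (h y h⁻¹)`, `y (h y h⁻¹)` are trivial, then `h` centralizes `y`. -/
theorem conj_eq_self (h y : SpecialLinearGroup (Fin 2) F) (hodd : Odd (orderOf h))
    (hc : (h * y * h⁻¹) * y = y * (h * y * h⁻¹))
    (hz1 : trace ((y⁻¹ * (h * y * h⁻¹) : SpecialLinearGroup (Fin 2) F) :
      Matrix (Fin 2) (Fin 2) F) = 2 → y⁻¹ * (h * y * h⁻¹) = 1)
    (hz2 : trace ((y * (h * y * h⁻¹) : SpecialLinearGroup (Fin 2) F) :
      Matrix (Fin 2) (Fin 2) F) = 2 → y * (h * y * h⁻¹) = 1) :
    h * y * h⁻¹ = y := by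
  rcases trace_two_of_commute (h * y * h⁻¹) y hc (trace_conj h y) with h1 | h1
  · have := hz1 h1
    rw [inv_mul_eq_one] at this
    exact this.symm
  · have h2 := hz2 h1
    -- h y h⁻¹ = y⁻¹
    have h3 : h * y * h⁻¹ = y⁻¹ := (eq_inv_of_mul_eq_one_right h2)
    have h4 : Commute (h ^ 2) y := by
      have : h ^ 2 * y * (h ^ 2)⁻¹ = y := by
        have e : h ^ 2 * y * (h ^ 2)⁻¹ = h * (h * y * h⁻¹) * h⁻¹ := by
          rw [pow_two, _root_.mul_inv_rev]; group
        rw [e, h3]
        have e2 : h * y⁻¹ * h⁻¹ = (h * y * h⁻¹)⁻¹ := by group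
        rw [e2, h3, inv_inv]
      exact (mul_inv_eq_iff_eq_mul.1 this)
    obtain ⟨m, hm⟩ := hodd
    have h5 : h = (h ^ 2) ^ (m + 1) := by
      rw [← pow_mul, show 2 * (m + 1) = orderOf h + 1 by omega, pow_succ, pow_orderOf_eq_one,
        one_mul]
    have h6 : Commute h y := by
      rw [h5]; exact h4.pow_left _
    rw [h6.eq, mul_inv_cancel_right]

/-- a group generated by elements of order dividing `p` has no proper normal subgroup of index
coprime to `p`. -/
theorem eq_top_of_gens_of_coprime_index {G : Type*} [Group G] [Finite G] {p : ℕ}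
    (gens : Set G) (hgen : Subgroup.closure gens = ⊤) (hgp : ∀ s ∈ gens, s ^ p = 1)
    (N : Subgroup G) [N.Normal] (hN : (N.index).Coprime p) : N = ⊤ := by
  rw [eq_top_iff, ← hgen, Subgroup.closure_le]
  intro s hs
  have h1 : (QuotientGroup.mk' N s) ^ p = 1 := by rw [← map_pow, hgp s hs, map_one]
  have h2 : (QuotientGroup.mk' N s) ^ N.index = 1 := by
    rw [Subgroup.index_eq_card]; exact pow_card_eq_one'
  have h3 := pow_gcd_eq_one.2 ⟨h2, h1⟩
  rw [Nat.Coprime.gcd_eq_one hN, pow_one] at h3
  exact (QuotientGroup.eq_one_iff s).1 h3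

/-- Burnside + generation by `p`-elements: a Sylow `r`-subgroup (`r ≠ p`) with `N(R) ≤ C(R)` is
trivial. -/
theorem sylow_eq_bot_of_gens {G : Type*} [Group G] [Finite G] {p r : ℕ} [Fact p.Prime]
    [Fact r.Prime] (hrp : r ≠ p)
    (gens : Set G) (hgen : Subgroup.closure gens = ⊤) (hgp : ∀ s ∈ gens, s ^ p = 1)
    (R : Sylow r G) (hR : Subgroup.normalizer (R : Set G) ≤ Subgroup.centralizer (R : Set G)) :
    (R : Subgroup G) = ⊥ := by
  have hc := MonoidHom.ker_transferSylow_isComplement' R hR
  have hidx : (MonoidHom.transferSylow R hR).ker.index = Nat.card R := hc.symm.index_eq_card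
  obtain ⟨k, hk⟩ := R.2.exists_card_eq
  have hcop : ((MonoidHom.transferSylow R hR).ker.index).Coprime p := by
    rw [hidx, hk]
    apply Nat.Coprime.pow_left
    exact (Nat.coprime_primes (Fact.out : r.Prime) (Fact.out : p.Prime)).2 hrp
  have htop := eq_top_of_gens_of_coprime_index gens hgen hgp _ hcop
  rw [htop, Subgroup.index_top] at hidx
  exact (Subgroup.card_eq_one).1 hidx.symm


section main

variable {K : Type*} [Field K] [Fintype K] {p : ℕ} [Fact p.Prime] [CharP K p]

omit [Fintype K] in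
theorem two_ne_zero_of_char (hp2 : p ≠ 2) : (2 : K) ≠ 0 := by
  intro h
  have h' : ((2 : ℕ) : K) = 0 := by exact_mod_cast h
  rw [CharP.cast_eq_zero_iff K p] at h'
  exact hp2 ((Nat.prime_dvd_prime_iff_eq (Fact.out : p.Prime) Nat.prime_two).1 h')

omit [Fintype K] [Fact p.Prime] in
/-- in a subgroup `L` of `SL₂(K)`, an `r`-element (`r ≠ p`) of trace two is trivial -/
theorem eq_one_of_trace_two {r : ℕ} (hrp : Nat.Coprime r p) (z : SpecialLinearGroup (Fin 2) K)
    {k : ℕ} (hz : z ^ (r ^ k) = 1)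
    (ht : trace (z : Matrix (Fin 2) (Fin 2) K) = 2) : z = 1 := by
  have h1 := pow_char_eq_one_of_trace_two p z ht
  have h3 := pow_gcd_eq_one.2 ⟨hz, h1⟩
  rw [Nat.Coprime.gcd_eq_one (Nat.Coprime.pow_left k hrp), pow_one] at h3
  exact h3

theorem isPGroup_of_gens (hp2 : p ≠ 2) (L : Subgroup (SpecialLinearGroup (Fin 2) K))
    (gens : Set L) (hgen : Subgroup.closure gens = ⊤) (hgp : ∀ s ∈ gens, s ^ p = 1)
    (T : Sylow 2 L) (hT : IsMulCommutative T) : IsPGroup p L := by
  classical
  have h2 : (2 : K) ≠ 0 := two_ne_zero_of_char hp2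
  have hpp : p.Prime := Fact.out
  -- `L` has odd order
  have hodd : ¬ 2 ∣ Nat.card L := by
    intro hdvd
    have hU : Cfsg.Agent.Helper73.UniqueOrderP 2 T :=
      ((Cfsg.Agent.Helper37.SL2Q.uniqueOrderP h2).subgroup L).subgroup T
    have hcyc : IsCyclic T :=
      Cfsg.Agent.Helper73.isCyclic_of_comm_of_uniqueOrderP T.isPGroup'
        (fun a b => hT.is_comm.comm a b) hU
    have hmin : (Nat.card L).minFac = 2 := (Nat.minFac_eq_two_iff _).2 hdvd
    have hNC := IsCyclic.normalizer_le_centralizer hmin hcyc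
    have := sylow_eq_bot_of_gens (p := p) (r := 2) (Ne.symm hp2) gens hgen hgp T hNC
    exact T.ne_bot_of_dvd_card hdvd this
  have hoddL : ∀ h : L, Odd (orderOf (h : SpecialLinearGroup (Fin 2) K)) := by
    intro h
    rw [← Nat.not_even_iff_odd, even_iff_two_dvd]
    intro h2dvd
    apply hodd
    rw [Subgroup.orderOf_coe] at h2dvd
    exact h2dvd.trans (orderOf_dvd_natCard h)
  -- no other prime divides the order
  have key : ∀ r : ℕ, r.Prime → r ≠ p → ¬ r ∣ Nat.card L := by
    intro r hr hrp hdvd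
    have := Fact.mk hr
    have hr2 : r ≠ 2 := by rintro rfl; exact hodd hdvd
    have hcop : Nat.Coprime r p := (Nat.coprime_primes hr hpp).2 hrp
    let R : Sylow r L := default
    have hRne : (R : Subgroup L) ≠ ⊥ := R.ne_bot_of_dvd_card hdvd
    have : Nontrivial (R : Subgroup L) := (Subgroup.nontrivial_iff_ne_bot _).2 hRne
    have : Nontrivial (Subgroup.center (R : Subgroup L)) := IsPGroup.center_nontrivial R.isPGroup'
    obtain ⟨g, hg1⟩ := exists_ne (1 : Subgroup.center (R : Subgroup L))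
    -- every element of `R` is an `r`-element of `SL₂`
    have hRpow : ∀ y : L, y ∈ R → ∃ k : ℕ, (y : SpecialLinearGroup (Fin 2) K) ^ (r ^ k) = 1 := by
      intro y hy
      obtain ⟨k, hk⟩ := R.isPGroup' ⟨y, hy⟩
      refine ⟨k, ?_⟩
      have := congrArg (fun z : (R : Subgroup L) => ((z : L) : SpecialLinearGroup (Fin 2) K)) hk
      simpa using this
    have hRsq : ∀ y : L, y ∈ R → (y : SpecialLinearGroup (Fin 2) K) *
        (y : SpecialLinearGroup (Fin 2) K) = 1 → y = 1 := by
      intro y hy hyy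
      obtain ⟨k, hk⟩ := hRpow y hy
      have h3 := pow_gcd_eq_one.2 ⟨hk, (by rw [pow_two]; exact hyy :
        (y : SpecialLinearGroup (Fin 2) K) ^ 2 = 1)⟩
      have hc2 : Nat.Coprime r 2 := (Nat.coprime_primes hr Nat.prime_two).2 hr2
      rw [Nat.Coprime.gcd_eq_one (Nat.Coprime.pow_left k hc2), pow_one] at h3
      exact Subtype.ext h3
    set g' : L := ((g : (R : Subgroup L)) : L) with hg'
    have hg'R : g' ∈ R := (g : (R : Subgroup L)).2
    have hg'1 : g' ≠ 1 := by
      intro h
      apply hg1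
      apply Subtype.ext
      apply Subtype.ext
      exact h
    have hg'c : ∀ y : L, y ∈ R → y * g' = g' * y := by
      intro y hy
      have := (Subgroup.mem_center_iff.1 g.2) ⟨y, hy⟩
      have := congrArg (fun z : (R : Subgroup L) => (z : L)) this
      simpa using this
    -- `g'` is non-scalar
    have hns : ((g' : SpecialLinearGroup (Fin 2) K) : Matrix (Fin 2) (Fin 2) K) 0 1 ≠ 0 ∨
        ((g' : SpecialLinearGroup (Fin 2) K) : Matrix (Fin 2) (Fin 2) K) 1 0 ≠ 0 ∨
        ((g' : SpecialLinearGroup (Fin 2) K) : Matrix (Fin 2) (Fin 2) K) 0 0 ≠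
          ((g' : SpecialLinearGroup (Fin 2) K) : Matrix (Fin 2) (Fin 2) K) 1 1 := by
      by_contra hcon
      push Not at hcon
      exact hg'1 (hRsq g' hg'R (sq_eq_one_of_scalar _ hcon.1 hcon.2.1 hcon.2.2))
    -- `R` is commutative
    have hRcomm : ∀ y₁ y₂ : L, y₁ ∈ R → y₂ ∈ R → y₁ * y₂ = y₂ * y₁ := by
      intro y₁ y₂ h₁ h₂
      have e1 : ((y₁ : SpecialLinearGroup (Fin 2) K) : Matrix (Fin 2) (Fin 2) K) *
          ((g' : SpecialLinearGroup (Fin 2) K) : Matrix (Fin 2) (Fin 2) K) =
          ((g' : SpecialLinearGroup (Fin 2) K) : Matrix (Fin 2) (Fin 2) K) *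
          ((y₁ : SpecialLinearGroup (Fin 2) K) : Matrix (Fin 2) (Fin 2) K) := by
        have := congrArg (fun z : L => ((z : SpecialLinearGroup (Fin 2) K) :
          Matrix (Fin 2) (Fin 2) K)) (hg'c y₁ h₁)
        simpa using this
      have e2 : ((y₂ : SpecialLinearGroup (Fin 2) K) : Matrix (Fin 2) (Fin 2) K) *
          ((g' : SpecialLinearGroup (Fin 2) K) : Matrix (Fin 2) (Fin 2) K) =
          ((g' : SpecialLinearGroup (Fin 2) K) : Matrix (Fin 2) (Fin 2) K) *
          ((y₂ : SpecialLinearGroup (Fin 2) K) : Matrix (Fin 2) (Fin 2) K) := by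
        have := congrArg (fun z : L => ((z : SpecialLinearGroup (Fin 2) K) :
          Matrix (Fin 2) (Fin 2) K)) (hg'c y₂ h₂)
        simpa using this
      have e3 := mat_commute_of_commute_nonscalar _ _ _ hns e1 e2
      apply Subtype.ext
      apply Subtype.ext
      simpa using e3
    -- `N(R) ≤ C(R)`
    have hNC : Subgroup.normalizer ((R : Subgroup L) : Set L) ≤
        Subgroup.centralizer ((R : Subgroup L) : Set L) := by
      intro h hh
      rw [Subgroup.mem_centralizer_iff]
      intro y hy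
      have hy' : h * y * h⁻¹ ∈ (R : Subgroup L) := (Subgroup.mem_normalizer_iff.1 hh y).1 hy
      have hc := hRcomm _ _ hy' hy
      have hyinv : y⁻¹ ∈ (R : Subgroup L) := inv_mem hy
      have key1 : (h : SpecialLinearGroup (Fin 2) K) * (y : SpecialLinearGroup (Fin 2) K) *
          (h : SpecialLinearGroup (Fin 2) K)⁻¹ = (y : SpecialLinearGroup (Fin 2) K) := by
        apply conj_eq_self _ _ (hoddL h)
        · have := congrArg (fun z : L => (z : SpecialLinearGroup (Fin 2) K)) hc
          simpa using this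
        · intro ht
          obtain ⟨k, hk⟩ := hRpow (y⁻¹ * (h * y * h⁻¹)) (mul_mem hyinv hy')
          exact eq_one_of_trace_two hcop _ (by simpa using hk) ht
        · intro ht
          obtain ⟨k, hk⟩ := hRpow (y * (h * y * h⁻¹)) (mul_mem hy hy')
          exact eq_one_of_trace_two hcop _ (by simpa using hk) ht
      have key2 : h * y * h⁻¹ = y := by
        apply Subtype.ext
        simpa using key1
      calc y * h = (h * y * h⁻¹) * h := by rw [key2]
        _ = h * y := by group
    exact hRne (sylow_eq_bot_of_gens (p := p) (r := r) hrp gens hgen hgp R hNC)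
  -- conclude
  have hcard : Nat.card L = p ^ (Nat.card L).primeFactorsList.length := by
    apply Nat.eq_prime_pow_of_unique_prime_dvd Nat.card_pos.ne'
    intro r hr hdvd
    by_contra hne
    exact key r hr hne hdvd
  exact IsPGroup.of_card hcard

end main

end Cfsg.Agent.Helper97.SL2Odd
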