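import Mathlib
import Cfsg.Agent.Helper97.QuadLin
import Cfsg.Agent.Helper97.SL2Odd

set_option autoImplicit false

/-!
# Two quadratic generators: non-`p`-group forces non-abelian Sylow `2`-subgroups (Gorenstein 3.8.1)
-/

namespace Cfsg.Agent.Helper97.QuadSylow

open scoped commutatorElement

variable {G : Type*} [Group G] [Finite G] {p : ℕ} [Fact p.Prime]

/-- `H = ⟨a, b⟩` faithful on an elementary abelian `p`-subgroup `V` (`p` odd), `a`, `b` quadratic,
and some Sylow `2`-subgroup of `H` commutative: then `H` is a `p`-group. -/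
theorem isPGroup_of_quadratic_pair (hp : p ≠ 2) (V H : Subgroup G) (hVc : IsMulCommutative V)
    (hVp : ∀ v ∈ V, v ^ p = 1) (hHV : H ≤ Subgroup.normalizer (V : Set G))
    (hf : H ⊓ Subgroup.centralizer (V : Set G) = ⊥) (a b : G) (hab : H = Subgroup.closure {a, b})
    (ha : ⁅⁅V, Subgroup.zpowers a⁆, Subgroup.zpowers a⁆ = ⊥)
    (hb : ⁅⁅V, Subgroup.zpowers b⁆, Subgroup.zpowers b⁆ = ⊥)
    (T : Sylow 2 H) (hT : IsMulCommutative T) : IsPGroup p H := by
  by_contra hnp
  obtain ⟨K, iF, iFt, iC, φ, x, y, -, -, hgen, h1, hx, hy⟩ :=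
    Cfsg.Agent.Helper97.QuadLin.exists_hom_SL2_of_subgroups V H hVc hVp hHV hf a b hab ha hb hnp
  have hsurj : Function.Surjective φ.rangeRestrict := φ.rangeRestrict_surjective
  let gens : Set φ.range := {φ.rangeRestrict x, φ.rangeRestrict y}
  have hgens : Subgroup.closure gens = ⊤ := by
    have h2 : gens = φ.rangeRestrict '' ({x, y} : Set H) := by
      simp only [gens, Set.image_insert_eq, Set.image_singleton]
    rw [h2, ← MonoidHom.map_closure, hgen, ← MonoidHom.range_eq_map,
      MonoidHom.range_eq_top.2 hsurj]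
  have hgp : ∀ s ∈ gens, s ^ p = 1 := by
    rintro s (rfl | rfl)
    · rw [← map_pow, hx, map_one]
    · rw [← map_pow, hy, map_one]
  let T' : Sylow 2 φ.range := T.mapSurjective hsurj
  have hT' : IsMulCommutative T' := by
    have : ((T' : Subgroup φ.range)) = (T : Subgroup H).map φ.rangeRestrict :=
      Sylow.coe_mapSurjective hsurj T
    rw [show IsMulCommutative T' ↔ IsMulCommutative ((T' : Subgroup φ.range)) from Iff.rfl, this]
    exact Subgroup.map_isMulCommutative _ _
  exact h1 (Cfsg.Agent.Helper97.SL2Odd.isPGroup_of_gens hp φ.range gens hgens hgp T' hT')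

end Cfsg.Agent.Helper97.QuadSylow
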