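import Mathlib
import Cfsg.Agent.Helper97.QuadSylow
import Cfsg.Agent.S0199

set_option autoImplicit false

/-!
# Quadratic elements lie in `O_p` when Sylow `2`-subgroups are abelian (Gorenstein 3.8.3-type)
-/

namespace Cfsg.Agent.Helper97.QuadStable

open scoped commutatorElement Pointwise

variable {G : Type*} [Group G]

/-- a `2`-subgroup inside `H` is commutative when a Sylow `2`-subgroup of `H` is -/
theorem comm_of_two_subgroup [Finite G] (H : Subgroup G) (T : Sylow 2 H) (hT : IsMulCommutative T)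
    (Q : Subgroup G) (hQH : Q ≤ H) (hQ : IsPGroup 2 Q) : ∀ x ∈ Q, ∀ y ∈ Q, x * y = y * x := by
  have hQ' : IsPGroup 2 (Q.subgroupOf H) := hQ.comap_subtype
  obtain ⟨P, hP⟩ := hQ'.exists_le_sylow
  obtain ⟨g, hg⟩ := MulAction.exists_smul_eq H T P
  have hmem : ∀ z : H, z ∈ (P : Subgroup H) ↔ g⁻¹ * z * g ∈ (T : Subgroup H) := by
    intro z
    rw [← hg, Sylow.smul_def, Sylow.pointwise_smul_def,
      Subgroup.mem_pointwise_smul_iff_inv_smul_mem]
    simp [MulAut.smul_def]
  intro x hx y hy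
  have hx' : (⟨x, hQH hx⟩ : H) ∈ (P : Subgroup H) := hP (Subgroup.mem_subgroupOf.2 hx)
  have hy' : (⟨y, hQH hy⟩ : H) ∈ (P : Subgroup H) := hP (Subgroup.mem_subgroupOf.2 hy)
  have h1 := (hmem _).1 hx'
  have h2 := (hmem _).1 hy'
  have h3 := hT.is_comm.comm ⟨_, h1⟩ ⟨_, h2⟩
  have h4 := congrArg (fun z : (T : Subgroup H) => ((z : H) : G)) h3
  simp only [Subgroup.coe_mul, InvMemClass.coe_inv] at h4
  have h5 : (g : G)⁻¹ * (x * y) * g = (g : G)⁻¹ * (y * x) * g := by
    calc (g : G)⁻¹ * (x * y) * g = ((g : G)⁻¹ * x * g) * ((g : G)⁻¹ * y * g) := by group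
      _ = ((g : G)⁻¹ * y * g) * ((g : G)⁻¹ * x * g) := h4
      _ = (g : G)⁻¹ * (y * x) * g := by group
  exact mul_left_cancel (mul_right_cancel h5)

/-- conjugating a quadratic element by an element normalizing `V` -/
theorem quadratic_conj (V : Subgroup G) (a g : G) (hg : g ∈ Subgroup.normalizer (V : Set G))
    (ha : ⁅⁅V, Subgroup.zpowers a⁆, Subgroup.zpowers a⁆ = ⊥) :
    ⁅⁅V, Subgroup.zpowers (g * a * g⁻¹)⁆, Subgroup.zpowers (g * a * g⁻¹)⁆ = ⊥ := by
  have hV : V.map (MulAut.conj g).toMonoidHom = V := by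
    ext x
    rw [Subgroup.mem_map_equiv]
    have := (Subgroup.mem_normalizer_iff.1 (inv_mem hg) x)
    rw [this]
    simp [MulAut.conj_symm_apply]
  have hz : (Subgroup.zpowers a).map (MulAut.conj g).toMonoidHom =
      Subgroup.zpowers (g * a * g⁻¹) := by
    rw [MonoidHom.map_zpowers]
    rfl
  have := congrArg (Subgroup.map (MulAut.conj g).toMonoidHom) ha
  rw [Subgroup.map_commutator, Subgroup.map_commutator, hV, hz, Subgroup.map_bot] at this
  exact this

/-- **Key theorem.** `p` odd, `H` acting faithfully on the elementary abelian `p`-subgroup `V`,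
`a ∈ H` quadratic, and a Sylow `2`-subgroup of `H` commutative: then `a` lies in a normal
`p`-subgroup of `H`. -/
theorem exists_normal_pSubgroup_of_quadratic [Finite G] {p : ℕ} [Fact p.Prime] (hp : p ≠ 2)
    (V H : Subgroup G) (hVc : IsMulCommutative V) (hVp : ∀ v ∈ V, v ^ p = 1)
    (hHV : H ≤ Subgroup.normalizer (V : Set G))
    (hf : H ⊓ Subgroup.centralizer (V : Set G) = ⊥) (a : G) (haH : a ∈ H)
    (hq : ⁅⁅V, Subgroup.zpowers a⁆, Subgroup.zpowers a⁆ = ⊥)
    (T : Sylow 2 H) (hT : IsMulCommutative T) :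
    ∃ N : Subgroup H, N.Normal ∧ IsPGroup p N ∧ (⟨a, haH⟩ : H) ∈ N := by
  set a' : H := ⟨a, haH⟩ with ha'
  -- every pair of conjugates generates a `p`-group
  have hpair : ∀ g : H, IsPGroup p (Subgroup.closure ({a, (g : G) * a * (g : G)⁻¹} : Set G)) := by
    intro g
    set b : G := (g : G) * a * (g : G)⁻¹ with hb
    have hbH : b ∈ H := H.mul_mem (H.mul_mem g.2 haH) (H.inv_mem g.2)
    set Hg : Subgroup G := Subgroup.closure ({a, b} : Set G) with hHg
    have hHgH : Hg ≤ H := by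
      rw [hHg, Subgroup.closure_le]
      rintro z (rfl | rfl)
      · exact haH
      · exact hbH
    have hf' : Hg ⊓ Subgroup.centralizer (V : Set G) = ⊥ := by
      rw [eq_bot_iff, ← hf]
      exact inf_le_inf_right _ hHgH
    let T₁ : Sylow 2 Hg := default
    have hT₁ : IsMulCommutative T₁ := by
      refine ⟨⟨fun x y => ?_⟩⟩
      have hQ : IsPGroup 2 ((T₁ : Subgroup Hg).map Hg.subtype) := T₁.2.map _
      have hQH : (T₁ : Subgroup Hg).map Hg.subtype ≤ H :=
        (Subgroup.map_subtype_le _).trans hHgH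
      have := comm_of_two_subgroup H T hT _ hQH hQ (x : Hg) (Subgroup.mem_map_of_mem _ x.2)
        (y : Hg) (Subgroup.mem_map_of_mem _ y.2)
      apply Subtype.ext
      apply Subtype.ext
      exact this
    exact Cfsg.Agent.Helper97.QuadSylow.isPGroup_of_quadratic_pair hp V Hg hVc hVp
      (hHgH.trans hHV) hf' a b rfl hq (quadratic_conj V a g (hHV g.2) hq) T₁ hT₁
  have hX : ∀ g : H, IsPGroup p ↥(Subgroup.zpowers a' ⊔
      (Subgroup.zpowers a').map (MulAut.conj g).toMonoidHom) := by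
    intro g
    have h1 : IsPGroup p ((Subgroup.closure ({a, (g : G) * a * (g : G)⁻¹} : Set G)).subgroupOf H) :=
      (hpair g).comap_subtype
    refine h1.to_le (sup_le ?_ ?_)
    · rw [Subgroup.zpowers_le, Subgroup.mem_subgroupOf]
      exact Subgroup.subset_closure (by simp [ha'])
    · rw [MonoidHom.map_zpowers, Subgroup.zpowers_le, Subgroup.mem_subgroupOf]
      exact Subgroup.subset_closure (by simp [ha'])
  have hX0 : IsPGroup p (Subgroup.zpowers a') := by
    refine (hX 1).to_le le_sup_left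
  obtain ⟨N, hN1, hN2, hN3⟩ := Cfsg.Agent.S0199.result (Subgroup.zpowers a') hX0 hX
  exact ⟨N, hN1, hN2, hN3 (Subgroup.mem_zpowers a')⟩

end Cfsg.Agent.Helper97.QuadStable
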