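import Cfsg.Agent.Helper97.Cov2P7U2

/-!
# Piece (U4) of helper43's S2500 farm (part 7): a unipotent element `u` of `Sp₆` with
`(u - 1)⁴ = 0 ≠ (u - 1)³` stabilises a non-degenerate plane

The plane is the orthogonal complement of the non-degenerate 4-space spanned by a Jordan chain
`x, Nx, N²x, N³x` (`N = u - 1`) with `B(x, N³x) ≠ 0`.
-/

set_option autoImplicit false

namespace Cfsg.Agent.Helper97.Cov2.P7

open Matrix Cfsg.Agent.Helper43.Cov2.P7 Cfsg.Agent.Helper13

variable {F : Type*} [Field F]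

/-- the symplectic form of `F⁶` as a Mathlib bilinear form -/
noncomputable def sympBilin (F : Type*) [Field F] : LinearMap.BilinForm F (V6 F) :=
  LinearMap.mk₂ F (fun x y => Cfsg.sympForm 3 F x y) sympForm_add_left
    (fun c x y => sympForm_smul_left c x y) sympForm_add_right
    (fun c x y => sympForm_smul_right c x y)

theorem sympBilin_apply (x y : V6 F) : sympBilin F x y = Cfsg.sympForm 3 F x y := rfl

theorem sympBilin_isRefl : (sympBilin F).IsRefl := by
  intro x y h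
  rw [sympBilin_apply] at h ⊢
  rw [sympForm_swap, h, neg_zero]

/-- the form of a combination of four vectors against a vector -/
theorem sympForm_comb4 (x0 x1 x2 x3 v : V6 F) (a : Fin 4 → F) :
    Cfsg.sympForm 3 F (∑ i, a i • (![x0, x1, x2, x3] : Fin 4 → V6 F) i) v
      = a 0 * Cfsg.sympForm 3 F x0 v + a 1 * Cfsg.sympForm 3 F x1 v
        + a 2 * Cfsg.sympForm 3 F x2 v + a 3 * Cfsg.sympForm 3 F x3 v := by
  rw [Fin.sum_univ_four]
  simp only [sympForm_add_left, sympForm_smul_left]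
  rfl

/-- the Gram matrix of a "Jordan chain" quadruple is invertible -/
theorem gram4_key (x0 x1 x2 x3 : V6 F)
    (g03 : Cfsg.sympForm 3 F x0 x3 ≠ 0) (g12 : Cfsg.sympForm 3 F x1 x2 ≠ 0)
    (g13 : Cfsg.sympForm 3 F x1 x3 = 0) (g23 : Cfsg.sympForm 3 F x2 x3 = 0)
    (a : Fin 4 → F)
    (h : ∀ j, Cfsg.sympForm 3 F (∑ i, a i • (![x0, x1, x2, x3] : Fin 4 → V6 F) i)
      ((![x0, x1, x2, x3] : Fin 4 → V6 F) j) = 0) : ∀ i, a i = 0 := by
  have e3 := h 3
  have e2 := h 2
  have e1 := h 1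
  have e0 := h 0
  rw [sympForm_comb4] at e0 e1 e2 e3
  simp only [Matrix.cons_val_zero, Matrix.cons_val_one, Matrix.cons_val_two, Matrix.cons_val_three,
    Matrix.head_cons, Matrix.tail_cons] at e0 e1 e2 e3
  have s10 : Cfsg.sympForm 3 F x1 x0 = - Cfsg.sympForm 3 F x0 x1 := sympForm_swap _ _
  have s20 : Cfsg.sympForm 3 F x2 x0 = - Cfsg.sympForm 3 F x0 x2 := sympForm_swap _ _
  have s30 : Cfsg.sympForm 3 F x3 x0 = - Cfsg.sympForm 3 F x0 x3 := sympForm_swap _ _
  have s21 : Cfsg.sympForm 3 F x2 x1 = - Cfsg.sympForm 3 F x1 x2 := sympForm_swap _ _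
  have s31 : Cfsg.sympForm 3 F x3 x1 = - Cfsg.sympForm 3 F x1 x3 := sympForm_swap _ _
  have s32 : Cfsg.sympForm 3 F x3 x2 = - Cfsg.sympForm 3 F x2 x3 := sympForm_swap _ _
  rw [sympForm_self, s10, s20, s30] at e0
  rw [sympForm_self, s21, s31, g13] at e1
  rw [sympForm_self, s32, g23] at e2
  rw [sympForm_self, g13, g23] at e3
  have a0 : a 0 = 0 := by
    have : a 0 * Cfsg.sympForm 3 F x0 x3 = 0 := by linear_combination e3
    exact (mul_eq_zero.1 this).resolve_right g03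
  rw [a0] at e0 e1 e2
  have a1 : a 1 = 0 := by
    have : a 1 * Cfsg.sympForm 3 F x1 x2 = 0 := by linear_combination e2
    exact (mul_eq_zero.1 this).resolve_right g12
  rw [a1] at e0 e1
  have a2 : a 2 = 0 := by
    have : a 2 * Cfsg.sympForm 3 F x1 x2 = 0 := by linear_combination -e1
    exact (mul_eq_zero.1 this).resolve_right g12
  rw [a2] at e0
  have a3 : a 3 = 0 := by
    have : a 3 * Cfsg.sympForm 3 F x0 x3 = 0 := by linear_combination -e0
    exact (mul_eq_zero.1 this).resolve_right g03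
  intro i
  fin_cases i
  · exact a0
  · exact a1
  · exact a2
  · exact a3

/-- a matrix preserving the orthogonal complement of a non-degenerate "Jordan chain" 4-space
stabilises a non-degenerate plane -/
theorem fixesPlane_of_chain4 (g : M6 F) (x0 x1 x2 x3 : V6 F)
    (g03 : Cfsg.sympForm 3 F x0 x3 ≠ 0) (g12 : Cfsg.sympForm 3 F x1 x2 ≠ 0)
    (g13 : Cfsg.sympForm 3 F x1 x3 = 0) (g23 : Cfsg.sympForm 3 F x2 x3 = 0)
    (hg : ∀ v : V6 F, Cfsg.sympForm 3 F x0 v = 0 → Cfsg.sympForm 3 F x1 v = 0 →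
      Cfsg.sympForm 3 F x2 v = 0 → Cfsg.sympForm 3 F x3 v = 0 →
      Cfsg.sympForm 3 F x0 (g *ᵥ v) = 0 ∧ Cfsg.sympForm 3 F x1 (g *ᵥ v) = 0 ∧
      Cfsg.sympForm 3 F x2 (g *ᵥ v) = 0 ∧ Cfsg.sympForm 3 F x3 (g *ᵥ v) = 0) :
    FixesPlane g := by
  classical
  set xs : Fin 4 → V6 F := ![x0, x1, x2, x3] with hxs
  set C : Submodule F (V6 F) := Submodule.span F (Set.range xs) with hC
  set P : Submodule F (V6 F) := (sympBilin F).orthogonal C with hP
  -- membership in `P`
  have hmemP : ∀ v : V6 F, v ∈ P ↔ (Cfsg.sympForm 3 F x0 v = 0 ∧ Cfsg.sympForm 3 F x1 v = 0 ∧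
      Cfsg.sympForm 3 F x2 v = 0 ∧ Cfsg.sympForm 3 F x3 v = 0) := by
    intro v
    rw [hP, LinearMap.BilinForm.mem_orthogonal_iff]
    constructor
    · intro h
      have h' : ∀ j, Cfsg.sympForm 3 F (xs j) v = 0 := fun j =>
        h (xs j) (Submodule.subset_span (Set.mem_range_self j))
      exact ⟨h' 0, h' 1, h' 2, h' 3⟩
    · rintro ⟨h0, h1, h2, h3⟩ n hn
      obtain ⟨a, rfl⟩ := (Submodule.mem_span_range_iff_exists_fun F).1 hn
      show Cfsg.sympForm 3 F _ v = 0
      rw [hxs, sympForm_comb4, h0, h1, h2, h3]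
      ring
  -- `C` and `P` are disjoint
  have hdisj : Disjoint C P := by
    rw [Submodule.disjoint_def]
    intro c hc hcP
    obtain ⟨a, rfl⟩ := (Submodule.mem_span_range_iff_exists_fun F).1 hc
    have ha : ∀ i, a i = 0 := by
      apply gram4_key x0 x1 x2 x3 g03 g12 g13 g23 a
      intro j
      rw [sympForm_swap]
      have := (LinearMap.BilinForm.mem_orthogonal_iff.1 hcP) (xs j)
        (Submodule.subset_span (Set.mem_range_self j))
      rw [sympBilin_apply] at this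
      rw [← hxs, this, neg_zero]
    simp [ha]
  -- independence
  have hli : LinearIndependent F xs := by
    rw [Fintype.linearIndependent_iff]
    intro a ha
    apply gram4_key x0 x1 x2 x3 g03 g12 g13 g23 a
    intro j
    rw [← hxs, ha, sympForm_zero_left]
  have hfC : Module.finrank F C = 4 := by
    rw [hC, finrank_span_eq_card hli, Fintype.card_fin]
  have hcompl : IsCompl C P :=
    (LinearMap.BilinForm.isCompl_orthogonal_iff_disjoint sympBilin_isRefl).2 hdisj
  have hfP : Module.finrank F P = 2 := by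
    have h1 := Submodule.finrank_add_eq_of_isCompl hcompl
    have h2 : Module.finrank F (V6 F) = 6 := by
      rw [Module.finrank_fintype_fun_eq_card, Fintype.card_sum, Fintype.card_fin]
    omega
  -- a non-zero vector of `P`
  have hPne : P ≠ ⊥ := by
    intro h
    rw [h, finrank_bot] at hfP
    omega
  obtain ⟨x, hxP, hx0⟩ := Submodule.exists_mem_ne_zero_of_ne_bot hPne
  obtain ⟨w, hw⟩ := sympForm_nondeg_left (m := 3) hx0
  have hwtop : w ∈ C ⊔ P := by
    rw [hcompl.sup_eq_top]; exact Submodule.mem_top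
  obtain ⟨c, hc, y, hyP, rfl⟩ := Submodule.mem_sup.1 hwtop
  have hcx : Cfsg.sympForm 3 F c x = 0 := LinearMap.BilinForm.mem_orthogonal_iff.1 hxP c hc
  rw [sympForm_add_left, hcx, zero_add] at hw
  have hxy : Cfsg.sympForm 3 F x y ≠ 0 := by
    rw [sympForm_swap]; exact neg_ne_zero.2 hw
  -- `x, y` span `P`
  have hli2 : LinearIndependent F ![x, y] := by
    rw [LinearIndependent.pair_iff]
    intro s t hst
    have e1 : Cfsg.sympForm 3 F (s • x + t • y) y = 0 := by rw [hst, sympForm_zero_left]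
    have e2 : Cfsg.sympForm 3 F (s • x + t • y) x = 0 := by rw [hst, sympForm_zero_left]
    rw [sympForm_add_left, sympForm_smul_left, sympForm_smul_left, sympForm_self] at e1 e2
    constructor
    · have : s * Cfsg.sympForm 3 F x y = 0 := by linear_combination e1
      exact (mul_eq_zero.1 this).resolve_right hxy
    · have : t * Cfsg.sympForm 3 F y x = 0 := by linear_combination e2
      exact (mul_eq_zero.1 this).resolve_right hw
  have hspan : Submodule.span F (Set.range ![x, y]) = P := by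
    apply Submodule.eq_of_le_of_finrank_eq
    · rw [Submodule.span_le]
      rintro _ ⟨i, rfl⟩
      fin_cases i
      · exact hxP
      · exact hyP
    · rw [finrank_span_eq_card hli2, hfP, Fintype.card_fin]
  have hmem : ∀ v ∈ P, ∃ a b : F, v = a • x + b • y := by
    intro v hv
    rw [← hspan] at hv
    obtain ⟨a, ha⟩ := (Submodule.mem_span_range_iff_exists_fun F).1 hv
    refine ⟨a 0, a 1, ?_⟩
    rw [← ha, Fin.sum_univ_two]
    rfl
  have hinv : ∀ v ∈ P, g *ᵥ v ∈ P := by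
    intro v hv
    obtain ⟨h0, h1, h2, h3⟩ := (hmemP v).1 hv
    exact (hmemP _).2 (hg v h0 h1 h2 h3)
  exact ⟨x, y, hxy, hmem _ (hinv x hxP), hmem _ (hinv y hyP)⟩

/-- (U4) -/
theorem fixesPlane_of_pow_four (h2 : (2 : F) ≠ 0) (u : Sp6 F) (h : ((u : M6 F) - 1) ^ 4 = 0)
    (h3 : ((u : M6 F) - 1) ^ 3 ≠ 0) : FixesPlane (u : M6 F) := by
  set N : M6 F := (u : M6 F) - 1 with hN
  have hN4 : ∀ z : V6 F, N *ᵥ (N *ᵥ (N *ᵥ (N *ᵥ z))) = 0 := by
    intro z
    simp only [Matrix.mulVec_mulVec]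
    have e : N * (N * (N * N)) = N ^ 4 := by simp only [pow_succ', pow_zero, mul_one]
    rw [e, h, Matrix.zero_mulVec]
  -- the adjoint of `N`
  have hadj : ∀ x y : V6 F, Cfsg.sympForm 3 F (N *ᵥ x) y =
      - Cfsg.sympForm 3 F x (N *ᵥ y) + Cfsg.sympForm 3 F x (N *ᵥ (N *ᵥ y))
        - Cfsg.sympForm 3 F x (N *ᵥ (N *ᵥ (N *ᵥ y))) := by
    intro x y
    have e0 := N_rel u x y
    have e1 := N_rel u x (N *ᵥ y)
    have e2 := N_rel u x (N *ᵥ (N *ᵥ y))
    have e3 := N_rel u x (N *ᵥ (N *ᵥ (N *ᵥ y)))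
    rw [← hN] at e0 e1 e2 e3
    rw [hN4, sympForm_zero_right, sympForm_zero_right] at e3
    linear_combination e0 - e1 + e2 - e3
  -- the symmetric form `B(x, N³ y)`
  have hsymm : ∀ x y : V6 F, Cfsg.sympForm 3 F x (N *ᵥ (N *ᵥ (N *ᵥ y)))
      = Cfsg.sympForm 3 F y (N *ᵥ (N *ᵥ (N *ᵥ x))) := by
    intro x y
    rw [sympForm_swap y]
    simp only [hadj, hN4, Matrix.mulVec_zero, sympForm_zero_right]
    ring
  -- it is not zero
  obtain ⟨y, hy⟩ : ∃ y : V6 F, N *ᵥ (N *ᵥ (N *ᵥ y)) ≠ 0 := by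
    by_contra hcon
    push Not at hcon
    apply h3
    apply matrix_eq_of_mulVec
    intro z
    have hz := hcon z
    simp only [Matrix.mulVec_mulVec] at hz
    have e : N * (N * N) = N ^ 3 := by simp only [pow_succ', pow_zero, mul_one]
    rw [← e, hz, Matrix.zero_mulVec]
  obtain ⟨x, hx⟩ := sympForm_nondeg_left (m := 3) hy
  obtain ⟨z, hz⟩ := exists_diag_ne_zero h2
    (fun a b => Cfsg.sympForm 3 F a (N *ᵥ (N *ᵥ (N *ᵥ b))))
    (by
      intro a b
      simp only [Matrix.mulVec_add, sympForm_add_left, sympForm_add_right]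
      ring)
    hsymm x y hx
  -- the chain
  have g12 : Cfsg.sympForm 3 F (N *ᵥ z) (N *ᵥ (N *ᵥ z))
      = - Cfsg.sympForm 3 F z (N *ᵥ (N *ᵥ (N *ᵥ z))) := by
    simp only [hadj, hN4, Matrix.mulVec_zero, sympForm_zero_right]
    ring
  have g13 : Cfsg.sympForm 3 F (N *ᵥ z) (N *ᵥ (N *ᵥ (N *ᵥ z))) = 0 := by
    simp only [hadj, hN4, Matrix.mulVec_zero, sympForm_zero_right]
    ring
  have g23 : Cfsg.sympForm 3 F (N *ᵥ (N *ᵥ z)) (N *ᵥ (N *ᵥ (N *ᵥ z))) = 0 := by
    simp only [hadj, hN4, Matrix.mulVec_zero, sympForm_zero_right]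
    ring
  refine fixesPlane_of_chain4 (u : M6 F) z (N *ᵥ z) (N *ᵥ (N *ᵥ z)) (N *ᵥ (N *ᵥ (N *ᵥ z)))
    hz (by rw [g12]; exact neg_ne_zero.2 hz) g13 g23 ?_
  intro v h0 h1 h2' h3'
  have huv : (u : M6 F) *ᵥ v = v + N *ᵥ v := by
    rw [hN, Matrix.sub_mulVec, Matrix.one_mulVec]; abel
  -- `B(N^j z, N v) = 0`, from the top down
  have k3 : Cfsg.sympForm 3 F (N *ᵥ (N *ᵥ (N *ᵥ z))) (N *ᵥ v) = 0 := by
    have e := N_rel u (N *ᵥ (N *ᵥ (N *ᵥ z))) v
    rw [← hN, hN4, sympForm_zero_left, sympForm_zero_left] at e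
    linear_combination e
  have k2 : Cfsg.sympForm 3 F (N *ᵥ (N *ᵥ z)) (N *ᵥ v) = 0 := by
    have e := N_rel u (N *ᵥ (N *ᵥ z)) v
    rw [← hN, h3', k3] at e
    linear_combination e
  have k1 : Cfsg.sympForm 3 F (N *ᵥ z) (N *ᵥ v) = 0 := by
    have e := N_rel u (N *ᵥ z) v
    rw [← hN, h2', k2] at e
    linear_combination e
  have k0 : Cfsg.sympForm 3 F z (N *ᵥ v) = 0 := by
    have e := N_rel u z v
    rw [← hN, h1, k1] at e
    linear_combination e
  rw [huv]
  simp only [sympForm_add_right, h0, h1, h2', h3', k0, k1, k2, k3, add_zero, and_self]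

end Cfsg.Agent.Helper97.Cov2.P7
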