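import Mathlib
import Cfsg.Agent.Helper21.A6Defs
import Cfsg.Agent.Helper60.S3S3K2

/-!
# (K1) and (K3) of board #7061 (for helper21, S3341): integer vectors of norm 2 and 3
-/

set_option autoImplicit false

namespace Cfsg.Agent.Helper97.A6

open Finset Cfsg.Agent.Helper21.A6

variable {ι : Type*} [Fintype ι]

/-- the entries of an integer vector of norm `2` are `0, 1, -1` -/
theorem norm2_pm (f : ι → ℤ) (hf : ∑ i, f i ^ 2 = 2) (i : ι) : f i = 0 ∨ f i = 1 ∨ f i = -1 := by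
  have h1 : f i ^ 2 ≤ ∑ j, f j ^ 2 :=
    Finset.single_le_sum (f := fun j => f j ^ 2) (fun j _ => sq_nonneg _) (Finset.mem_univ i)
  rw [hf] at h1
  have h2 : -1 ≤ f i := by nlinarith
  have h3 : f i ≤ 1 := by nlinarith
  omega

/-- the support of an integer vector of norm `2` has two elements -/
theorem norm2_card_support (f : ι → ℤ) (hf : ∑ i, f i ^ 2 = 2) :
    (Finset.univ.filter (fun i => f i ≠ 0)).card = 2 := by
  have h : ∀ i, f i ^ 2 = if f i ≠ 0 then 1 else 0 := by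
    intro i
    rcases norm2_pm f hf i with h | h | h <;> rw [h] <;> norm_num
  have h2 : ∑ i, f i ^ 2 = ((Finset.univ.filter (fun i => f i ≠ 0)).card : ℤ) := by
    rw [Finset.sum_congr rfl (fun i _ => h i), Finset.sum_boole]
  rw [hf] at h2
  exact_mod_cast h2.symm

/-- (K1) -/
theorem shape2 : Shape2Stmt ι := by
  classical
  intro c hc
  obtain ⟨i, j, hij, hs⟩ := Finset.card_eq_two.mp (norm2_card_support c hc)
  have hmem : ∀ l, c l ≠ 0 ↔ l = i ∨ l = j := by
    intro l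
    have : l ∈ Finset.univ.filter (fun i => c i ≠ 0) ↔ l ∈ ({i, j} : Finset ι) := by rw [hs]
    simpa using this
  have hpm : ∀ l, c l ≠ 0 → c l = 1 ∨ c l = -1 := by
    intro l hl
    rcases norm2_pm c hc l with h | h | h
    · exact absurd h hl
    · exact Or.inl h
    · exact Or.inr h
  refine ⟨i, j, hij, hpm i ((hmem i).mpr (Or.inl rfl)), hpm j ((hmem j).mpr (Or.inr rfl)), ?_⟩
  intro l hli hlj
  by_contra hl
  rcases (hmem l).mp hl with h | h
  · exact hli h
  · exact hlj h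

/-- (K3) -/
theorem shape3 : Shape3Stmt ι := by
  classical
  intro f hf
  obtain ⟨k₁, k₂, k₃, h12, h13, h23, hs⟩ :=
    Finset.card_eq_three.mp (Cfsg.Agent.Helper60.S3S3.k2_card_support f hf)
  have hmem : ∀ l, f l ≠ 0 ↔ l = k₁ ∨ l = k₂ ∨ l = k₃ := by
    intro l
    have : l ∈ Finset.univ.filter (fun i => f i ≠ 0) ↔ l ∈ ({k₁, k₂, k₃} : Finset ι) := by rw [hs]
    simpa using this
  have hpm : ∀ l, f l ≠ 0 → f l = 1 ∨ f l = -1 := by
    intro l hl
    rcases Cfsg.Agent.Helper60.S3S3.k2_pm f hf l with h | h | h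
    · exact absurd h hl
    · exact Or.inl h
    · exact Or.inr h
  refine ⟨k₁, k₂, k₃, h12, h13, h23, hpm k₁ ((hmem k₁).mpr (Or.inl rfl)),
    hpm k₂ ((hmem k₂).mpr (Or.inr (Or.inl rfl))), hpm k₃ ((hmem k₃).mpr (Or.inr (Or.inr rfl))), ?_⟩
  intro l hl1 hl2 hl3
  by_contra hl
  rcases (hmem l).mp hl with h | h | h
  · exact hl1 h
  · exact hl2 h
  · exact hl3 h

end Cfsg.Agent.Helper97.A6
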