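import Mathlib
import Cfsg.Agent.Helper21.A6Defs

/-!
# (K2c) and (K4c) of board #7061 (for helper21, S3341): the two numerical cores
-/

set_option autoImplicit false

namespace Cfsg.Agent.Helper97.A6

open Cfsg.Agent.Helper21.A6

/-- (K2c) -/
theorem numeric2 : Numeric2Stmt := by
  intro D dφ e η he hη hD hdφ h1 h2
  have hDq : (0 : ℚ) < D := by exact_mod_cast hD
  have hdq : (1 : ℚ) < dφ := by exact_mod_cast hdφ
  have hdq0 : (0 : ℚ) < dφ := by linarith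
  rcases he with rfl | rfl <;> rcases hη with rfl | rfl
  · -- `e = 1`, `η = 1`
    have hD' : (D : ℤ) = 1 + dφ := by linarith
    have hDq' : (D : ℚ) = 1 + dφ := by exact_mod_cast hD'
    rw [hDq'] at h2
    have h3 : (1 : ℚ) + dφ ≠ 0 := by linarith
    have h4 : (dφ : ℚ) ≠ 0 := by linarith
    push_cast at h2
    field_simp at h2
    nlinarith
  · -- `e = 1`, `η = -1`
    push_cast at h2
    have h3 : (0 : ℚ) < 1 / dφ := by positivity
    have h4 : (0 : ℚ) < 4 / D := by positivity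
    have h5 : (1 : ℚ) + 1 / dφ - 4 * (-1) / D = 1 + 1 / dφ + 4 / D := by ring
    linarith
  · -- `e = -1`, `η = 1`
    omega
  · -- `e = -1`, `η = -1`
    push_cast at h2
    have h3 : (1 : ℚ) / dφ < 1 := (div_lt_one hdq0).mpr hdq
    have h4 : (0 : ℚ) < 4 / D := by positivity
    have h5 : (1 : ℚ) + (-1) / dφ - 4 * (-1) / D = 1 - 1 / dφ + 4 / D := by ring
    linarith

/-- bounds for a term `e / d` with `d ≡ e (mod 9)`, `d > 1` -/
theorem term_bounds (d : ℕ) (e : ℤ) (he : e = 1 ∨ e = -1) (hd : 1 < d)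
    (h9 : ∃ k : ℤ, (d : ℤ) + 8 * e = 9 * k) :
    (-1 / 8 : ℚ) ≤ (e : ℚ) / (d : ℚ) ∧ (e : ℚ) / (d : ℚ) ≤ 1 / 10 ∧
      ((e : ℚ) / (d : ℚ) = -1 / 8 ∨ (-1 / 17 : ℚ) ≤ (e : ℚ) / (d : ℚ)) := by
  obtain ⟨k, hk⟩ := h9
  rcases he with rfl | rfl
  · have hd10 : 10 ≤ d := by omega
    have hdq : (10 : ℚ) ≤ d := by exact_mod_cast hd10
    have h1 : (0 : ℚ) < 1 / d := by positivity
    have h2 : (1 : ℚ) / d ≤ 1 / 10 := one_div_le_one_div_of_le (by norm_num) hdq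
    push_cast
    refine ⟨by linarith, h2, Or.inr (by linarith)⟩
  · have hd8 : d = 8 ∨ 17 ≤ d := by omega
    push_cast
    have h0 : ((-1 : ℚ)) / d = -(1 / d) := by ring
    rw [h0]
    rcases hd8 with rfl | hd17
    · norm_num
    · have hdq : (17 : ℚ) ≤ d := by exact_mod_cast hd17
      have h1 : (0 : ℚ) < 1 / d := by positivity
      have h2 : (1 : ℚ) / d ≤ 1 / 17 := one_div_le_one_div_of_le (by norm_num) hdq
      refine ⟨by linarith, by linarith, Or.inr (by linarith)⟩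

/-- bounds for the term `2 σ / D` with `D ≡ 4 σ (mod 9)` -/
theorem sigma_bounds (D : ℕ) (σ : ℤ) (hσ : σ = 1 ∨ σ = -1) (hD : 0 < D)
    (h9 : ∃ k : ℤ, (D : ℤ) - 4 * σ = 9 * k) :
    (-2 / 5 : ℚ) ≤ 2 * (σ : ℚ) / (D : ℚ) ∧ 2 * (σ : ℚ) / (D : ℚ) ≤ 1 / 2 ∧
      (0 < 2 * (σ : ℚ) / (D : ℚ) ∨ 2 * (σ : ℚ) / (D : ℚ) = -2 / 5 ∨
        (-1 / 7 : ℚ) ≤ 2 * (σ : ℚ) / (D : ℚ)) := by
  obtain ⟨k, hk⟩ := h9
  rcases hσ with rfl | rfl
  · have hD4 : 4 ≤ D := by omega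
    have hdq : (4 : ℚ) ≤ D := by exact_mod_cast hD4
    push_cast
    have h0 : (2 : ℚ) * 1 / D = 2 * (1 / D) := by ring
    rw [h0]
    have h1 : (0 : ℚ) < 1 / D := by positivity
    have h2 : (1 : ℚ) / D ≤ 1 / 4 := one_div_le_one_div_of_le (by norm_num) hdq
    refine ⟨by linarith, by linarith, Or.inl (by linarith)⟩
  · have hD5 : D = 5 ∨ 14 ≤ D := by omega
    push_cast
    have h0 : (2 : ℚ) * (-1) / D = -(2 * (1 / D)) := by ring
    rw [h0]
    rcases hD5 with rfl | hD14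
    · norm_num
    · have hdq : (14 : ℚ) ≤ D := by exact_mod_cast hD14
      have h1 : (0 : ℚ) < 1 / D := by positivity
      have h2 : (1 : ℚ) / D ≤ 1 / 14 := one_div_le_one_div_of_le (by norm_num) hdq
      refine ⟨by linarith, by linarith, Or.inr (Or.inr (by linarith))⟩

/-- (K4c) -/
theorem numeric4 : Numeric4Stmt := by
  intro D d₁ d₂ d₃ n σ e₁ e₂ e₃ hσ he₁ he₂ he₃ hD hd₁ hd₂ hd₃ h9D h91 h92 h93 hn heq
  obtain ⟨hs1, hs2, hs3⟩ := sigma_bounds D σ hσ hD h9D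
  obtain ⟨ha1, ha2, ha3⟩ := term_bounds d₁ e₁ he₁ hd₁ h91
  obtain ⟨hb1, hb2, hb3⟩ := term_bounds d₂ e₂ he₂ hd₂ h92
  obtain ⟨hc1, hc2, hc3⟩ := term_bounds d₃ e₃ he₃ hd₃ h93
  have hn0 : 0 < n := by omega
  have hnq : (0 : ℚ) < n := by exact_mod_cast hn0
  obtain ⟨L, hL⟩ : ∃ L : ℚ, L = (1 : ℚ) + 2 * (σ : ℚ) / (D : ℚ) + (e₁ : ℚ) / (d₁ : ℚ)
      + (e₂ : ℚ) / (d₂ : ℚ) + (e₃ : ℚ) / (d₃ : ℚ) := ⟨_, rfl⟩
  rw [← hL] at heq
  have hLn : L * (36 * (n : ℚ)) = 162 := by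
    rw [heq]
    field_simp
  have hlo : (9 / 40 : ℚ) ≤ L := by rw [hL]; linarith
  have hhi : L ≤ (9 / 5 : ℚ) := by rw [hL]; linarith
  have hn20 : (n : ℚ) ≤ 20 := by
    have := mul_le_mul_of_nonneg_right hlo (by positivity : (0 : ℚ) ≤ 36 * (n : ℚ))
    linarith
  have hn3 : (5 / 2 : ℚ) ≤ n := by
    have := mul_le_mul_of_nonneg_right hhi (by positivity : (0 : ℚ) ≤ 36 * (n : ℚ))
    linarith
  have hn20' : n ≤ 20 := by exact_mod_cast hn20
  have hn3' : 3 ≤ n := by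
    by_contra h
    push Not at h
    have : (n : ℚ) ≤ 2 := by exact_mod_cast (by omega : n ≤ 2)
    linarith
  have hcases : n = 10 ∨ n = 19 := by omega
  rcases hcases with h | h
  · exact h
  · exfalso
    subst h
    have hL19 : L = 9 / 38 := by
      have : L * (36 * ((19 : ℕ) : ℚ)) = 162 := hLn
      push_cast at this
      linarith
    rw [hL] at hL19
    rcases hs3 with hs | hs | hs
    · linarith
    · rcases ha3 with ha | ha <;> rcases hb3 with hb | hb <;> rcases hc3 with hc | hc <;> linarith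
    · linarith

end Cfsg.Agent.Helper97.A6
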