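import Mathlib

/-!
# (W9) of board #5260 (for helper21, S3797): coprime action, `[Y, A] ∩ C(A) ≤ Y'`
-/

set_option autoImplicit false

namespace Cfsg.Agent.Helper97.THW9

open Subgroup

/-- the norm-map argument: `[Y, A] ∩ C(A) ≤ Y'` for a coprime action -/
theorem commutator_inf_centralizer_le_commutator {G : Type*} [Group G] [Finite G]
    (Y A : Subgroup G) (hAY : A ≤ normalizer (Y : Set G))
    (hcop : (Nat.card A).Coprime (Nat.card Y)) :
    ⁅Y, A⁆ ⊓ centralizer (A : Set G) ≤ ⁅Y, Y⁆ := by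
  classical
  have : Fintype A := Fintype.ofFinite A
  -- the conjugation action of `A` on `Y`
  let θ : A →* MulAut Y := Y.normalizerMonoidHom.comp (Subgroup.inclusion hAY)
  have hθ : ∀ (a : A) (y : Y), ((θ a y : Y) : G) = (a : G) * (y : G) * (a : G)⁻¹ := by
    intro a y
    rfl
  -- the norm map
  let f : Y →* Abelianization Y :=
    ∏ a : A, (Abelianization.of.comp (θ a).toMonoidHom)
  have hf : ∀ y : Y, f y = ∏ a : A, Abelianization.of (θ a y) := by
    intro y
    simp only [f, MonoidHom.finsetProd_apply]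
    rfl
  have hfθ : ∀ (b : A) (y : Y), f (θ b y) = f y := by
    intro b y
    rw [hf, hf]
    rw [← Equiv.prod_comp (Equiv.mulRight b) (fun a => Abelianization.of (θ a y))]
    apply Finset.prod_congr rfl
    intro a _
    simp only [Equiv.coe_mulRight, map_mul]
    rfl
  -- `f` kills `[Y, A]`
  have hker : ⁅Y, A⁆ ≤ f.ker.map Y.subtype := by
    rw [Subgroup.commutator_le]
    intro y0 hy0 b hb
    refine ⟨(⟨y0, hy0⟩ : Y) * θ ⟨b, hb⟩ (⟨y0, hy0⟩ : Y)⁻¹, ?_, ?_⟩
    · rw [SetLike.mem_coe, MonoidHom.mem_ker, map_mul, hfθ, ← map_mul, mul_inv_cancel, map_one]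
    · simp only [Subgroup.subtype_apply, Subgroup.coe_mul, hθ, Subgroup.coe_inv,
        commutatorElement_def]
      group
  intro y hy
  obtain ⟨hyc, hyA⟩ := hy
  obtain ⟨y', hy'ker, hy'⟩ := hker hyc
  rw [SetLike.mem_coe, MonoidHom.mem_ker] at hy'ker
  have hy'y : (y' : G) = y := hy'
  -- `f y' = of y' ^ |A|`
  have hfix : ∀ a : A, θ a y' = y' := by
    intro a
    apply Subtype.ext
    rw [hθ, hy'y]
    have := (Subgroup.mem_centralizer_iff.mp hyA) (a : G) a.2
    rw [this, mul_inv_cancel_right]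
  have h1 : Abelianization.of y' ^ Nat.card A = 1 := by
    rw [← hy'ker, hf]
    simp only [hfix, Finset.prod_const, Finset.card_univ, Nat.card_eq_fintype_card]
  have h2 : Abelianization.of y' ^ Nat.card Y = 1 := by
    rw [← map_pow, pow_card_eq_one', map_one]
  have h3 : Abelianization.of y' = 1 := by
    have := pow_gcd_eq_one.mpr ⟨h1, h2⟩
    rwa [Nat.Coprime.gcd_eq_one hcop, pow_one] at this
  have h4 : y' ∈ commutator Y := by
    rw [← Abelianization.ker_of]
    exact h3
  have h5 : (commutator Y).map Y.subtype = ⁅Y, Y⁆ := by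
    rw [_root_.commutator_def, Subgroup.map_commutator, ← MonoidHom.range_eq_map, Subgroup.range_subtype]
  rw [← h5, ← hy'y]
  exact ⟨y', h4, rfl⟩

set_option linter.unusedVariables false in
/-- (W9) (the hypotheses `hVY`, `hAV` are not needed) -/
theorem commutator_inf_centralizer_le {G : Type*} [Group G] [Finite G] (Y V A : Subgroup G)
    (hVY : V ≤ Y) (hYV : ⁅Y, Y⁆ ≤ V) (hAY : A ≤ normalizer (Y : Set G))
    (hAV : A ≤ normalizer (V : Set G))
    (hcop : (Nat.card A).Coprime (Nat.card Y)) :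
    ⁅Y, A⁆ ⊓ centralizer (A : Set G) ≤ V :=
  (commutator_inf_centralizer_le_commutator Y A hAY hcop).trans hYV

end Cfsg.Agent.Helper97.THW9
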