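import Mathlib
import Cfsg.Agent.Helper97.THW9
import Cfsg.Agent.Helper21.THDefs2

/-!
# (E4) of board #5557 (for helper21, S3797 Thompson): the decomposition `Y = ∏ [Y, A i]`
-/

set_option autoImplicit false

namespace Cfsg.Agent.Helper97.THE4

open Subgroup
open scoped commutatorElement

variable {G : Type*} [Group G]

/-- membership in the normalizer from one-sided conjugation-closure of a whole subgroup -/
theorem le_normalizer_of_conj {W K : Subgroup G} (h : ∀ w ∈ W, ∀ k ∈ K, w * k * w⁻¹ ∈ K) :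
    W ≤ normalizer (K : Set G) := by
  intro w hw
  rw [mem_normalizer_iff]
  intro k
  constructor
  · exact h w hw k
  · intro hk
    have := h w⁻¹ (W.inv_mem hw) _ hk
    simpa [mul_assoc] using this

theorem conj_mem_of_le {W K : Subgroup G} (h : W ≤ normalizer (K : Set G)) {w k : G} (hw : w ∈ W)
    (hk : k ∈ K) : w * k * w⁻¹ ∈ K :=
  (mem_normalizer_iff.mp (h hw) k).mp hk

/-- the commutator of two `W`-invariant subgroups is `W`-invariant -/
theorem le_normalizer_comm {W A B : Subgroup G} (hA : W ≤ normalizer (A : Set G))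
    (hB : W ≤ normalizer (B : Set G)) : W ≤ normalizer ((⁅A, B⁆ : Subgroup G) : Set G) := by
  apply le_normalizer_of_conj
  intro x hx c hc
  have h1 : A.map (MulAut.conj x).toMonoidHom ≤ A := by
    rintro _ ⟨a, ha, rfl⟩
    exact conj_mem_of_le hA hx ha
  have h2 : B.map (MulAut.conj x).toMonoidHom ≤ B := by
    rintro _ ⟨b, hb, rfl⟩
    exact conj_mem_of_le hB hx hb
  have h3 : x * c * x⁻¹ ∈ (⁅A, B⁆).map (MulAut.conj x).toMonoidHom := ⟨c, hc, rfl⟩
  rw [Subgroup.map_commutator] at h3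
  exact Subgroup.commutator_mono h1 h2 h3

/-- a supremum of `W`-invariant subgroups is `W`-invariant -/
theorem le_normalizer_iSup {ι : Sort*} {W : Subgroup G} (K : ι → Subgroup G)
    (h : ∀ i, W ≤ normalizer (K i : Set G)) : W ≤ normalizer ((⨆ i, K i : Subgroup G) : Set G) := by
  apply le_normalizer_of_conj
  intro w hw k hk
  refine Subgroup.iSup_induction K (C := fun k => w * k * w⁻¹ ∈ ⨆ i, K i) hk ?_ ?_ ?_
  · intro i y hy
    exact (le_iSup K i) (conj_mem_of_le (h i) hw hy)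
  · simp
  · intro a b ha hb
    have : w * (a * b) * w⁻¹ = (w * a * w⁻¹) * (w * b * w⁻¹) := by group
    rw [this]
    exact Subgroup.mul_mem _ ha hb

/-- `⁅Y, A⁆ ≤ Y` when `A` normalizes `Y` -/
theorem comm_le_left {Y A : Subgroup G} (hA : A ≤ normalizer (Y : Set G)) : ⁅Y, A⁆ ≤ Y := by
  rw [Subgroup.commutator_le]
  intro y hy a ha
  have : ⁅y, a⁆ = y * (a * y⁻¹ * a⁻¹) := by
    rw [commutatorElement_def]; group
  rw [this]
  exact Y.mul_mem hy (conj_mem_of_le hA ha (Y.inv_mem hy))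

variable [Finite G]

/-- the generic form of (E4) -/
theorem family_props_gen (Y U V : Subgroup G) {ι : Type*} (A : ι → Subgroup G)
    (hUY : U ≤ normalizer (Y : Set G)) (hYY : ⁅Y, Y⁆ ≤ V) (hcomm : ⁅Y, U⁆ = Y)
    (hUV : U ≤ centralizer (V : Set G)) (hcop : (Nat.card U).Coprime (Nat.card Y))
    (hAU : ∀ i, A i ≤ U) (hAn : ∀ i, U ≤ normalizer (A i : Set G))
    (hsup : U = ⨆ i, A i)
    (hcent : ∀ i j, i ≠ j → A i ≤ centralizer ((⁅Y, A j⁆ : Subgroup G) : Set G)) :
    (∀ i j, i ≠ j → ⁅Y, A i⁆ ≤ centralizer ((⁅Y, A j⁆ : Subgroup G) : Set G)) ∧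
    (Y = ⨆ i, ⁅Y, A i⁆) ∧
    (∀ i, ⁅Y, A i⁆ ⊓ ((⨆ j ∈ {j : ι | j ≠ i}, ⁅Y, A j⁆) ⊔ V) ≤ V) := by
  have hAY : ∀ i, A i ≤ normalizer (Y : Set G) := fun i => (hAU i).trans hUY
  have hYi : ∀ i, ⁅Y, A i⁆ ≤ Y := fun i => comm_le_left (hAY i)
  refine ⟨?_, ?_, ?_⟩
  · -- (1) three subgroups lemma
    intro i j hij
    rw [← Subgroup.commutator_eq_bot_iff_le_centralizer]
    apply Subgroup.commutator_commutator_eq_bot_of_rotate
    · have : ⁅A i, ⁅Y, A j⁆⁆ = ⊥ :=
        Subgroup.commutator_eq_bot_iff_le_centralizer.mpr (hcent i j hij)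
      rw [this, Subgroup.commutator_bot_left]
    · have h1 : ⁅⁅Y, A j⁆, Y⁆ ≤ V := (Subgroup.commutator_mono (hYi j) le_rfl).trans hYY
      have h2 : ⁅V, A i⁆ = ⊥ := by
        rw [Subgroup.commutator_eq_bot_iff_le_centralizer, Subgroup.le_centralizer_iff]
        exact (hAU i).trans hUV
      exact le_bot_iff.mp ((Subgroup.commutator_mono h1 le_rfl).trans h2.le)
  · -- (2)
    apply le_antisymm
    · set N : Subgroup G := ⨆ i, ⁅Y, A i⁆ with hN
      have hUN : U ≤ normalizer (N : Set G) :=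
        le_normalizer_iSup _ (fun i => le_normalizer_comm hUY (hAn i))
      have key : ∀ u ∈ (⨆ i, A i : Subgroup G), u ∈ U ∧ ∀ y ∈ Y, ⁅y, u⁆ ∈ N := by
        intro u hu
        refine Subgroup.iSup_induction A (C := fun u => u ∈ U ∧ ∀ y ∈ Y, ⁅y, u⁆ ∈ N) hu ?_ ?_ ?_
        · intro i a ha
          refine ⟨hAU i ha, fun y hy => ?_⟩
          exact (le_iSup (fun i => ⁅Y, A i⁆) i) (Subgroup.commutator_mem_commutator hy ha)
        · refine ⟨U.one_mem, fun y _ => ?_⟩
          rw [commutatorElement_one_right]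
          exact N.one_mem
        · rintro a b ⟨haU, ha⟩ ⟨hbU, hb⟩
          refine ⟨U.mul_mem haU hbU, fun y hy => ?_⟩
          have : ⁅y, a * b⁆ = ⁅y, a⁆ * (a * ⁅y, b⁆ * a⁻¹) := by
            simp only [commutatorElement_def]; group
          rw [this]
          exact N.mul_mem (ha y hy) (conj_mem_of_le hUN haU (hb y hy))
      conv_lhs => rw [← hcomm]
      rw [Subgroup.commutator_le]
      intro y hy u hu
      rw [hsup] at hu
      exact (key u hu).2 y hy
    · exact iSup_le hYi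
  · -- (3)
    intro i g hg
    obtain ⟨hg1, hg2⟩ := hg
    have hB : ((⨆ j ∈ {j : ι | j ≠ i}, ⁅Y, A j⁆) ⊔ V : Subgroup G) ≤ centralizer (A i : Set G) := by
      apply sup_le
      · apply iSup_le
        intro j
        apply iSup_le
        intro hj
        rw [Subgroup.le_centralizer_iff]
        exact hcent i j (Ne.symm hj)
      · rw [Subgroup.le_centralizer_iff]
        exact (hAU i).trans hUV
    have hcop' : (Nat.card (A i)).Coprime (Nat.card Y) :=
      Nat.Coprime.coprime_dvd_left (Subgroup.card_dvd_of_le (hAU i)) hcop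
    exact hYY (Cfsg.Agent.Helper97.THW9.commutator_inf_centralizer_le_commutator Y (A i) (hAY i) hcop'
      ⟨hg1, hB hg2⟩)


open Cfsg.Agent.Helper21.TH in
/-- (E4) -/
theorem family_props.{u} {G : Type u} [Group G] [Finite G] {P V X D U R Y : Subgroup G}
    (h : YCfg P V X D U R Y) {ι : Type u}
    (A : ι → Subgroup G) (hAU : ∀ i, A i ≤ U) (hAn : ∀ i, U ≤ normalizer (A i : Set G))
    (hsup : U = ⨆ i, A i)
    (hcent : ∀ i j, i ≠ j → A i ≤ centralizer ((⁅Y, A j⁆ : Subgroup G) : Set G)) :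
    (∀ i j, i ≠ j → ⁅Y, A i⁆ ≤ centralizer ((⁅Y, A j⁆ : Subgroup G) : Set G)) ∧
    (Y = ⨆ i, ⁅Y, A i⁆) ∧
    (∀ i, ⁅Y, A i⁆ ⊓ ((⨆ j ∈ {j : ι | j ≠ i}, ⁅Y, A j⁆) ⊔ V) ≤ V) := by
  have hY2 : IsPGroup 2 Y := h.z.hP.to_le h.hYP
  obtain ⟨k, hk⟩ := IsPGroup.iff_card.mp hY2
  have hcop : (Nat.card U).Coprime (Nat.card Y) := by
    rw [hk]
    exact Nat.Coprime.pow_right k (Nat.coprime_two_right.mpr h.z.m.hUodd)
  exact family_props_gen Y U V A h.hUY h.hYY h.hcomm h.z.hUV hcop hAU hAn hsup hcent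

end Cfsg.Agent.Helper97.THE4
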