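import Mathlib
import Cfsg.Prelude.Def_LocalEven
import Cfsg.Prelude.Def_PLocal
import Cfsg.Agent.Helper46.QdOver
import Cfsg.Agent.Helper46.QdChar
import Cfsg.Agent.S5299

set_option autoImplicit false
set_option linter.unusedSimpArgs false

/-!
# A natural `SL₂(p)`-section gives a `Qd(p)`-section

`B ≤ G` an abelian `p`-subgroup (`p` odd) normalized by `Γ ≤ G`, `φ : Γ → SL₂(𝔽_p)` onto,
`π : B → 𝔽_p²` onto, additive and equivariant.  Then `Qd(p)` is involved in `G`.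
-/

namespace Cfsg.Agent.Helper97.QdGraph

open Matrix Cfsg Cfsg.Agent.Helper46

section aff

variable {F : Type*} [Field F]

/-- the affine map `x ↦ A x + v` as an element of `Qd(F)` -/
def qdAff (v : Fin 2 → F) (A : Matrix.SpecialLinearGroup (Fin 2) F) : ↥(qdOver F) :=
  qdTrans v * qdLiftHom A

theorem entF_qdAff (v : Fin 2 → F) (A : Matrix.SpecialLinearGroup (Fin 2) F) (i j : Fin 3) :
    entF (qdAff v A) i j =
      (!![A.1 0 0, A.1 0 1, v 0; A.1 1 0, A.1 1 1, v 1; 0, 0, 1] : Matrix (Fin 3) (Fin 3) F) i j := by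
  unfold qdAff
  rw [entF_mul]
  show entF (qdTrans v) i 0 * entF (qdLift A) 0 j + entF (qdTrans v) i 1 * entF (qdLift A) 1 j +
    entF (qdTrans v) i 2 * entF (qdLift A) 2 j = _
  simp only [entF_qdTrans, entF_qdLift]
  fin_cases i <;> fin_cases j <;> simp

theorem qdAff_mul (v v' : Fin 2 → F) (A A' : Matrix.SpecialLinearGroup (Fin 2) F) :
    qdAff v A * qdAff v' A' = qdAff (v + A.1 *ᵥ v') (A * A') := by
  apply entF_ext
  intro i j
  rw [entF_mul]
  simp only [entF_qdAff]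
  fin_cases i <;> fin_cases j <;>
    simp [Matrix.SpecialLinearGroup.coe_mul, Matrix.mul_apply, Matrix.mulVec, dotProduct,
      Fin.sum_univ_two] <;> ring

theorem qdAff_zero_one : qdAff (0 : Fin 2 → F) 1 = 1 := by
  apply entF_ext
  intro i j
  rw [entF_qdAff, entF_one]
  fin_cases i <;> fin_cases j <;> simp

theorem exists_eq_qdAff (g : ↥(qdOver F)) : ∃ v A, g = qdAff v A := by
  refine ⟨![entF g 0 2, entF g 1 2], qdBlock g, ?_⟩
  obtain ⟨l0, l1, l2⟩ := entF_last g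
  apply entF_ext
  intro i j
  rw [entF_qdAff, qdBlock_val]
  fin_cases i <;> fin_cases j <;> simp [l0, l1, l2]

end aff

section main

variable {G : Type*} [Group G] [Finite G] {p : ℕ} [hp : Fact p.Prime]

omit [Finite G] in
theorem qd_eq_qdOver : Cfsg.qd p = Cfsg.qdOver (ZMod p) :=
  (qd_eq_affSub p).trans (qdOver_eq_affSub (ZMod p)).symm

theorem eq_one_of_mulVec_eq {R : Type*} [CommRing R] (M : Matrix (Fin 2) (Fin 2) R)
    (h : ∀ v : Fin 2 → R, M *ᵥ v = v) : M = 1 := by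
  apply Matrix.toLin'.injective
  apply LinearMap.ext
  intro v
  rw [Matrix.toLin'_apply, h, Matrix.toLin'_one, LinearMap.id_apply]

theorem two_ne_zero_zmod (hp2 : p ≠ 2) : (2 : ZMod p) ≠ 0 := by
  intro h
  have h' : ((2 : ℕ) : ZMod p) = 0 := by exact_mod_cast h
  rw [ZMod.natCast_eq_zero_iff] at h'
  exact hp2 ((Nat.prime_dvd_prime_iff_eq hp.out Nat.prime_two).1 h')

/-- **A natural `SL₂(p)`-section gives a `Qd(p)`-section.** -/
theorem involves_qd_of_natural (hp2 : p ≠ 2)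
    (B Γ : Subgroup G) (hBp : IsPGroup p B) (hBc : ∀ b ∈ B, ∀ b' ∈ B, b * b' = b' * b)
    (hΓB : ∀ γ ∈ Γ, ∀ b ∈ B, γ * b * γ⁻¹ ∈ B)
    (φ : Γ →* Matrix.SpecialLinearGroup (Fin 2) (ZMod p)) (hφ : Function.Surjective φ)
    (π : B → (Fin 2 → ZMod p)) (hπs : Function.Surjective π)
    (hπm : ∀ b b' : B, π (b * b') = π b + π b')
    (hπe : ∀ (γ : Γ) (b b' : B), (b' : G) = (γ : G) * b * (γ : G)⁻¹ →
      π b' = (φ γ : Matrix (Fin 2) (Fin 2) (ZMod p)) *ᵥ π b) :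
    Cfsg.Involves ↥(Cfsg.qd p) G := by
  classical
  have h2 : (2 : ZMod p) ≠ 0 := two_ne_zero_zmod hp2
  have hπ1 : π 1 = 0 := by
    have := hπm 1 1
    rw [mul_one] at this
    exact left_eq_add.1 this
  have hπinv : ∀ b : B, π b⁻¹ = -π b := by
    intro b
    have := hπm b b⁻¹
    rw [mul_inv_cancel, hπ1] at this
    exact (neg_eq_of_add_eq_zero_right this.symm).symm
  set c : Matrix.SpecialLinearGroup (Fin 2) (ZMod p) := -1 with hc
  have hc2 : c * c = 1 := by rw [hc]; simp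
  have hcc : ∀ g : Matrix.SpecialLinearGroup (Fin 2) (ZMod p), g * c = c * g := by
    intro g; rw [hc]; simp
  have hcv : ∀ v : Fin 2 → ZMod p, (c : Matrix (Fin 2) (Fin 2) (ZMod p)) *ᵥ v = -v := by
    intro v
    rw [hc, Matrix.SpecialLinearGroup.coe_neg, Matrix.SpecialLinearGroup.coe_one,
      Matrix.neg_mulVec, Matrix.one_mulVec]
  have hcpow : ∀ m : ℕ, Odd m → c ^ m = c := by
    rintro m ⟨k, rfl⟩
    rw [pow_succ, pow_mul, pow_two, hc2, one_pow, one_mul]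
  have hczp : ∀ s ∈ Subgroup.zpowers c, s = 1 ∨ s = c := by
    rintro s ⟨k, rfl⟩
    rcases Int.emod_two_eq_zero_or_one k with hk | hk
    · left
      obtain ⟨j, hj⟩ : (2 : ℤ) ∣ k := Int.dvd_of_emod_eq_zero hk
      show c ^ k = 1
      rw [hj, _root_.zpow_mul, zpow_ofNat, pow_two, hc2, _root_.one_zpow]
    · right
      have hk' : k = 2 * (k / 2) + 1 := by omega
      show c ^ k = c
      rw [hk', _root_.zpow_add, _root_.zpow_mul, zpow_ofNat, pow_two, hc2, _root_.one_zpow, one_mul, zpow_one]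
  -- the preimage of the centre
  let Z₀ : Subgroup Γ := (Subgroup.zpowers c).comap φ
  have hZ₀n : Z₀.Normal := by
    refine ⟨fun n hn g => ?_⟩
    show φ (g * n * g⁻¹) ∈ Subgroup.zpowers c
    have hn' : φ n ∈ Subgroup.zpowers c := hn
    rw [map_mul, map_mul, map_inv]
    rcases hczp _ hn' with h | h
    · rw [h, mul_one, mul_inv_cancel]; exact Subgroup.one_mem _
    · rw [h, hcc, mul_assoc, mul_inv_cancel, mul_one]; exact Subgroup.mem_zpowers c
  -- a `2`-element `t` lifting `c`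
  obtain ⟨z, hz⟩ := hφ c
  have hzord : orderOf z ≠ 0 := (orderOf_pos z).ne'
  obtain ⟨a, m, hm, hzam⟩ := Nat.exists_eq_two_pow_mul_odd hzord
  set t : Γ := z ^ m with ht
  have htφ : φ t = c := by rw [ht, map_pow, hz, hcpow m hm]
  have ht2 : t ^ (2 ^ a) = 1 := by
    rw [ht, ← pow_mul, mul_comm, ← hzam, pow_orderOf_eq_one]
  have htZ : t ∈ Z₀ := by
    show φ t ∈ Subgroup.zpowers c
    rw [htφ]; exact Subgroup.mem_zpowers c
  have hP0 : IsPGroup 2 (Subgroup.zpowers (⟨t, htZ⟩ : Z₀)) := by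
    rintro ⟨_, k, rfl⟩
    refine ⟨a, ?_⟩
    apply Subtype.ext
    apply Subtype.ext
    simp only [Subgroup.coe_pow, Subgroup.coe_zpow, Subgroup.coe_one]
    rw [← zpow_natCast, ← _root_.zpow_mul, mul_comm, _root_.zpow_mul, zpow_natCast, ht2, _root_.one_zpow]
  obtain ⟨P, hP⟩ := hP0.exists_le_sylow
  set T' : Subgroup Γ := (P : Subgroup Z₀).map Z₀.subtype with hT'
  have htT : t ∈ T' := ⟨⟨t, htZ⟩, hP (Subgroup.mem_zpowers _), rfl⟩
  have hT2 : IsPGroup 2 T' := P.2.map _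
  set Γ₂ : Subgroup Γ := Subgroup.normalizer (T' : Set Γ) with hΓ₂
  have hfr : Γ₂ ⊔ Z₀ = ⊤ := Sylow.normalizer_sup_eq_top P
  have htΓ₂ : t ∈ Γ₂ := Subgroup.le_normalizer htT
  -- `φ` is onto on `Γ₂`
  have hsurj₂ : ∀ s, ∃ γ ∈ Γ₂, φ γ = s := by
    intro s
    obtain ⟨γ₀, rfl⟩ := hφ s
    have hmem : γ₀ ∈ ((Γ₂ ⊔ Z₀ : Subgroup Γ) : Set Γ) := by rw [hfr]; trivial
    rw [Subgroup.mul_normal] at hmem
    obtain ⟨n, hn, z', hz', rfl⟩ := Set.mem_mul.1 hmem
    have hz'' : φ z' ∈ Subgroup.zpowers c := hz'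
    rcases hczp _ hz'' with h | h
    · exact ⟨n, hn, by rw [map_mul, h, mul_one]⟩
    · exact ⟨n * t, Γ₂.mul_mem hn htΓ₂, by rw [map_mul, map_mul, h, htφ]⟩
  -- elements of `Γ₂` inside `B`
  have hkey : ∀ γ : Γ, γ ∈ Γ₂ → ∀ hγB : (γ : G) ∈ B, φ γ = 1 ∧ π ⟨γ, hγB⟩ = 0 := by
    intro γ hγ hγB
    have h1 : φ γ = 1 := by
      apply Subtype.ext
      rw [Matrix.SpecialLinearGroup.coe_one]
      apply eq_one_of_mulVec_eq
      intro v
      obtain ⟨b, rfl⟩ := hπs v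
      have hcomm : (b : G) = (γ : G) * b * (γ : G)⁻¹ := by
        rw [hBc _ hγB _ b.2, mul_assoc, mul_inv_cancel, mul_one]
      exact (hπe γ b b hcomm).symm
    refine ⟨h1, ?_⟩
    -- `γ` commutes with `t`
    set d : Γ := γ * t * γ⁻¹ * t⁻¹ with hd
    have hdT : d ∈ T' := by
      have h3 : γ * t * γ⁻¹ ∈ T' := (Subgroup.mem_normalizer_iff.1 hγ t).1 htT
      exact T'.mul_mem h3 (T'.inv_mem htT)
    have hdB : (d : G) ∈ B := by
      have h3 : (t : G) * (γ : G)⁻¹ * (t : G)⁻¹ ∈ B := hΓB t t.2 _ (B.inv_mem hγB)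
      have h4 : (d : G) = (γ : G) * ((t : G) * (γ : G)⁻¹ * (t : G)⁻¹) := by
        rw [hd]
        simp only [Subgroup.coe_mul, Subgroup.coe_inv]
        group
      rw [h4]
      exact B.mul_mem hγB h3
    have hd1 : d = 1 := by
      obtain ⟨k, hk⟩ := hT2 ⟨d, hdT⟩
      obtain ⟨j, hj⟩ := hBp ⟨(d : G), hdB⟩
      have hk' : d ^ 2 ^ k = 1 := by
        have := congrArg Subtype.val hk
        simpa using this
      have hj' : d ^ p ^ j = 1 := by
        have := congrArg Subtype.val hj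
        apply Subtype.ext
        simpa using this
      have hcop : Nat.Coprime (2 ^ k) (p ^ j) := by
        apply Nat.Coprime.pow
        rw [Nat.coprime_comm, Nat.Prime.coprime_iff_not_dvd hp.out]
        intro h
        exact hp2 ((Nat.prime_dvd_prime_iff_eq hp.out Nat.prime_two).1 h)
      have h5 : orderOf d ∣ 1 := by
        rw [← Nat.Coprime.gcd_eq_one hcop]
        exact Nat.dvd_gcd (orderOf_dvd_of_pow_eq_one hk') (orderOf_dvd_of_pow_eq_one hj')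
      exact orderOf_eq_one_iff.1 (Nat.dvd_one.1 h5)
    have hcomm : (γ : G) = (t : G) * (γ : G) * (t : G)⁻¹ := by
      have h3 : γ * t = t * γ := by
        have : d * (t * γ) = γ * t := by rw [hd]; group
        rw [hd1, one_mul] at this
        exact this.symm
      have h4 : γ = t * γ * t⁻¹ := by rw [← h3]; group
      have := congrArg (fun g : Γ => (g : G)) h4
      simpa using this
    have h6 := hπe t ⟨γ, hγB⟩ ⟨γ, hγB⟩ hcomm
    rw [htφ, hcv] at h6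
    have h7 : (2 : ZMod p) • π ⟨γ, hγB⟩ = 0 := by
      rw [two_smul]
      nth_rewrite 1 [h6]
      exact neg_add_cancel _
    rcases smul_eq_zero.1 h7 with h | h
    · exact absurd h h2
    · exact h
  -- the graph subgroup
  let Q := ↥(Cfsg.qdOver (ZMod p))
  let S : Set (G × Q) := {x | ∃ (b : B) (γ : Γ), γ ∈ Γ₂ ∧ x.1 = (b : G) * (γ : G) ∧
    x.2 = qdAff (π b) (φ γ)}
  have hS1 : (1 : G × Q) ∈ S := by
    refine ⟨1, 1, Γ₂.one_mem, by simp, ?_⟩
    rw [hπ1, map_one, qdAff_zero_one]; rfl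
  have hSmul : ∀ x y, x ∈ S → y ∈ S → x * y ∈ S := by
    rintro x y ⟨b, γ, hγ, hx1, hx2⟩ ⟨b', γ', hγ', hy1, hy2⟩
    have hb'' : (γ : G) * b' * (γ : G)⁻¹ ∈ B := hΓB γ γ.2 b' b'.2
    refine ⟨b * ⟨_, hb''⟩, γ * γ', Γ₂.mul_mem hγ hγ', ?_, ?_⟩
    · rw [Prod.fst_mul, hx1, hy1]
      simp only [Subgroup.coe_mul]
      group
    · rw [Prod.snd_mul, hx2, hy2, qdAff_mul, hπm, map_mul, hπe γ b' ⟨_, hb''⟩ rfl]
  let W : Subgroup (G × Q) := subgroupOfMulClosed S hS1 hSmul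
  have hWmem : ∀ x, x ∈ W ↔ x ∈ S := fun x => Iff.rfl
  have hW1 : ∀ x ∈ W, x.1 = 1 → x.2 = 1 := by
    rintro x ⟨b, γ, hγ, hx1, hx2⟩ hx
    rw [hx1] at hx
    have hγb : (γ : G) = (b : G)⁻¹ := (inv_eq_of_mul_eq_one_right hx).symm
    have hγB : (γ : G) ∈ B := by rw [hγb]; exact B.inv_mem b.2
    obtain ⟨h1, h3⟩ := hkey γ hγ hγB
    have hb : b = (⟨γ, hγB⟩ : B)⁻¹ := by
      apply Subtype.ext
      rw [Subgroup.coe_inv]
      show (b : G) = (γ : G)⁻¹
      rw [hγb, inv_inv]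
    rw [hx2, h1, hb, hπinv, h3, neg_zero, qdAff_zero_one]
  let p₁ : W →* G := (MonoidHom.fst G Q).comp W.subtype
  let p₂ : W →* Q := (MonoidHom.snd G Q).comp W.subtype
  have hp₁ : Function.Injective p₁ := by
    rw [injective_iff_map_eq_one]
    intro x hx
    have h1 : (x : G × Q).1 = 1 := hx
    have h3 : (x : G × Q).2 = 1 := hW1 x x.2 h1
    apply Subtype.ext
    exact Prod.ext h1 h3
  have hp₂ : Function.Surjective p₂ := by
    intro q
    obtain ⟨v, A, rfl⟩ := exists_eq_qdAff q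
    obtain ⟨b, rfl⟩ := hπs v
    obtain ⟨γ, hγ, rfl⟩ := hsurj₂ A
    exact ⟨⟨((b : G) * (γ : G), qdAff (π b) (φ γ)), ⟨b, γ, hγ, rfl, rfl⟩⟩, rfl⟩
  obtain ⟨K, R, hn, ⟨e⟩⟩ := Cfsg.Agent.S5299.involves_of_inj_surj p₁ hp₁ p₂ hp₂
  exact ⟨K, R, hn, ⟨e.trans (MulEquiv.subgroupCongr (qd_eq_qdOver (p := p)).symm)⟩⟩

end main

end Cfsg.Agent.Helper97.QdGraph
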