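import Mathlib
import Cfsg.Agent.Helper97.QuadPair

set_option autoImplicit false

/-!
# The natural `SL₂`-section of a module for two quadratic generators whose product has eigenvalue `-1`

`Γ = ⟨x, y⟩` acts on the `K`-space `M` (`2 ≠ 0` in `K`), `x` and `y` act quadratically and `xy` has an
eigenvector with eigenvalue `-1`.  Then there are a `Γ`-invariant subspace `N ≤ M`, a homomorphism
`φ : Γ → SL₂(K)` with `φ x = [1 0; 1 1]`, `φ y = [-1 -4; 1 3]`, and a surjective linear map
`π : N → K²` with `π (g n) = φ g • π n`.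
-/

namespace Cfsg.Agent.Helper97.QdNat

open Matrix Cfsg.Agent.Helper97.QuadPair

section rep

variable {K : Type*} [Field K] {Γ : Type*} [Group Γ] {M : Type*} [AddCommGroup M] [Module K M]

/-- the determinant is trivial on a group generated by two elements of determinant one -/
theorem det_eq_one_of_gens (ρ : Representation K Γ M) {x y : Γ}
    (hgen : Subgroup.closure {x, y} = ⊤) (hx : LinearMap.det (ρ x) = 1)
    (hy : LinearMap.det (ρ y) = 1) (g : Γ) : LinearMap.det (ρ g) = 1 := by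
  let D : Γ →* K := (LinearMap.det : (M →ₗ[K] M) →* K).comp ρ
  have hT : D.ker = ⊤ := by
    rw [eq_top_iff, ← hgen, Subgroup.closure_le]
    rintro z (rfl | rfl)
    · exact MonoidHom.mem_ker.2 hx
    · exact MonoidHom.mem_ker.2 hy
  have : g ∈ D.ker := by rw [hT]; trivial
  exact MonoidHom.mem_ker.1 this

/-- a two-dimensional representation with trivial determinant, in coordinates -/
theorem exists_hom_of_basis_det (ρ : Representation K Γ M) (B : Module.Basis (Fin 2) K M)
    (hdet : ∀ g : Γ, LinearMap.det (ρ g) = 1) :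
    ∃ φ : Γ →* Matrix.SpecialLinearGroup (Fin 2) K,
      ∀ g, (φ g : Matrix (Fin 2) (Fin 2) K) = LinearMap.toMatrix B B (ρ g) := by
  have hdet' : ∀ g : Γ, (LinearMap.toMatrix B B (ρ g)).det = 1 := by
    intro g
    rw [LinearMap.det_toMatrix]
    exact hdet g
  let toSL : Γ → Matrix.SpecialLinearGroup (Fin 2) K :=
    fun g => (⟨LinearMap.toMatrix B B (ρ g), hdet' g⟩ : Matrix.SpecialLinearGroup (Fin 2) K)
  have htoSL : ∀ g, (toSL g : Matrix (Fin 2) (Fin 2) K) = LinearMap.toMatrix B B (ρ g) :=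
    fun g => rfl
  refine ⟨{ toFun := toSL, map_one' := ?_, map_mul' := ?_ }, fun g => rfl⟩
  · apply Matrix.SpecialLinearGroup.ext
    intro i j
    rw [htoSL, map_one, Matrix.SpecialLinearGroup.coe_one]
    have : LinearMap.toMatrix B B (1 : Module.End K M) = 1 := LinearMap.toMatrix_one B
    rw [this]
  · intro g h
    apply Matrix.SpecialLinearGroup.ext
    intro i j
    rw [Matrix.SpecialLinearGroup.coe_mul, htoSL, htoSL, htoSL, map_mul]
    have : LinearMap.toMatrix B B (ρ g * ρ h) =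
        LinearMap.toMatrix B B (ρ g) * LinearMap.toMatrix B B (ρ h) :=
      LinearMap.toMatrix_mul B _ _
    rw [this]

/-- **Irreducible case**: the module is the natural module. -/
theorem natural_of_irreducible (h2 : (2 : K) ≠ 0) (ρ : Representation K Γ M) {x y : Γ}
    (hgen : Subgroup.closure {x, y} = ⊤) (hx : Quad (ρ x)) (hy : Quad (ρ y))
    (hirr : ∀ U : Submodule K M, (∀ m ∈ U, ρ x m ∈ U) → (∀ m ∈ U, ρ y m ∈ U) → U = ⊥ ∨ U = ⊤)
    {w : M} (hw0 : w ≠ 0) (hw : ρ (x * y) w = -w) :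
    ∃ (φ : Γ →* Matrix.SpecialLinearGroup (Fin 2) K) (π : M ≃ₗ[K] (Fin 2 → K)),
      (∀ g m, π (ρ g m) = (φ g : Matrix (Fin 2) (Fin 2) K) *ᵥ π m) ∧
      (φ x : Matrix (Fin 2) (Fin 2) K) = !![1, 0; 1, 1] ∧
      (φ y : Matrix (Fin 2) (Fin 2) K) = !![-1, -4; 1, 3] := by
  set w' : M := ρ x w - w with hw'
  have hxw : ρ x w = w + w' := by rw [hw']; abel
  have hxw' : ρ x w' = w' := hx w
  have hyw : ρ y w = -w + w' := by
    have h1 : ρ x (ρ y w) = -w := by
      rw [← Module.End.mul_apply, ← map_mul]; exact hw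
    have hgf : ρ x⁻¹ * ρ x = 1 := by rw [← map_mul, inv_mul_cancel, map_one]
    have h3 : ρ x⁻¹ (ρ x (ρ y w)) = ρ y w := by
      rw [← Module.End.mul_apply, hgf, Module.End.one_apply]
    rw [← h3, h1, hx.inv_apply hgf, map_neg, hxw]
    abel
  have hyw' : ρ y w' = (-4 : K) • w + (3 : K) • w' := by
    have h1 := hy w
    have e : ρ y w - w = (-2 : K) • w + w' := by rw [hyw]; module
    rw [e, map_add, map_smul, hyw] at h1
    -- h1 : -2 • (-w + w') + ρ y w' = -2 • w + w'
    have : ρ y w' = (-2 : K) • w + w' - (-2 : K) • (-w + w') := by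
      rw [← h1]; abel
    rw [this]; module
  set U : Submodule K M := Submodule.span K {w, w'} with hU
  have hwU : w ∈ U := Submodule.subset_span (by simp)
  have hw'U : w' ∈ U := Submodule.subset_span (by simp)
  have hUx : ∀ m ∈ U, ρ x m ∈ U := by
    apply span_pair_invariant
    · rw [hxw]; exact U.add_mem hwU hw'U
    · rw [hxw']; exact hw'U
  have hUy : ∀ m ∈ U, ρ y m ∈ U := by
    apply span_pair_invariant
    · rw [hyw]; exact U.add_mem (U.neg_mem hwU) hw'U
    · rw [hyw']; exact U.add_mem (U.smul_mem _ hwU) (U.smul_mem _ hw'U)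
  have hUtop : U = ⊤ := by
    rcases hirr U hUx hUy with h | h
    · exfalso
      rw [h] at hwU
      exact hw0 ((Submodule.mem_bot K).1 hwU)
    · exact h
  have hw'0 : w' ≠ 0 := by
    intro h0
    have h1 := hy w
    rw [hyw, h0, add_zero] at h1
    -- ρ y (-w - w) = -w - w
    have h3 : ρ y (-w - w) = (2 : K) • w := by
      rw [map_sub, map_neg, hyw, h0, add_zero]; module
    rw [h3] at h1
    have h4 : (4 : K) • w = 0 := by
      have : (2 : K) • w - (-w - w) = (4 : K) • w := by module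
      rw [← this, h1, sub_self]
    rcases smul_eq_zero.1 h4 with h | h
    · have : (2 : K) * 2 = 0 := by rw [← h]; norm_num
      rcases mul_eq_zero.1 this with h5 | h5 <;> exact h2 h5
    · exact hw0 h
  have hli : LinearIndependent K ![w, w'] := by
    rw [LinearIndependent.pair_iff]
    intro s t hst
    have h1 : ρ x (s • w + t • w') - (s • w + t • w') = 0 := by rw [hst, map_zero, sub_zero]
    rw [map_add, map_smul, map_smul, hxw, hxw'] at h1
    have h3 : s • w' = 0 := by rw [← h1]; module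
    have hs : s = 0 := by
      rcases smul_eq_zero.1 h3 with h | h
      · exact h
      · exact absurd h hw'0
    rw [hs, zero_smul, zero_add] at hst
    have ht : t = 0 := by
      rcases smul_eq_zero.1 hst with h | h
      · exact h
      · exact absurd h hw'0
    exact ⟨hs, ht⟩
  have hspan : ⊤ ≤ Submodule.span K (Set.range ![w, w']) := by
    have : Set.range ![w, w'] = {w, w'} := by
      ext z
      simp only [Set.mem_range, Set.mem_insert_iff, Set.mem_singleton_iff]
      constructor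
      · rintro ⟨i, rfl⟩
        fin_cases i
        · left; rfl
        · right; rfl
      · rintro (rfl | rfl)
        · exact ⟨0, rfl⟩
        · exact ⟨1, rfl⟩
    rw [this, ← hU, hUtop]
  set B : Module.Basis (Fin 2) K M := Module.Basis.mk hli hspan with hB
  have hB0 : B 0 = w := by rw [hB, Module.Basis.mk_apply]; rfl
  have hB1 : B 1 = w' := by rw [hB, Module.Basis.mk_apply]; rfl
  have hrw : B.repr w = Finsupp.single 0 1 := by rw [← hB0, Module.Basis.repr_self]
  have hrw' : B.repr w' = Finsupp.single 1 1 := by rw [← hB1, Module.Basis.repr_self]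
  have hmx : LinearMap.toMatrix B B (ρ x) = !![1, 0; 1, 1] := by
    ext i j
    rw [LinearMap.toMatrix_apply]
    fin_cases j
    · show (B.repr (ρ x (B 0))) i = _
      rw [hB0, hxw, map_add, hrw, hrw']
      fin_cases i <;> simp
    · show (B.repr (ρ x (B 1))) i = _
      rw [hB1, hxw', hrw']
      fin_cases i <;> simp
  have hmy : LinearMap.toMatrix B B (ρ y) = !![-1, -4; 1, 3] := by
    ext i j
    rw [LinearMap.toMatrix_apply]
    fin_cases j
    · show (B.repr (ρ y (B 0))) i = _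
      rw [hB0, hyw, map_add, map_neg, hrw, hrw']
      fin_cases i <;> simp
    · show (B.repr (ρ y (B 1))) i = _
      rw [hB1, hyw', map_add, map_smul, map_smul, hrw, hrw']
      fin_cases i <;> simp
  have hdx : LinearMap.det (ρ x) = 1 := by
    rw [← LinearMap.det_toMatrix B, hmx, Matrix.det_fin_two_of]; ring
  have hdy : LinearMap.det (ρ y) = 1 := by
    rw [← LinearMap.det_toMatrix B, hmy, Matrix.det_fin_two_of]; ring
  obtain ⟨φ, hφ⟩ := exists_hom_of_basis_det ρ B (det_eq_one_of_gens ρ hgen hdx hdy)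
  refine ⟨φ, B.equivFun, ?_, ?_, ?_⟩
  · intro g m
    rw [hφ]
    have := LinearMap.toMatrix_mulVec_repr B B (ρ g) m
    rw [Module.Basis.equivFun_apply, Module.Basis.equivFun_apply]
    exact this.symm
  · rw [hφ, hmx]
  · rw [hφ, hmy]

/-- **Cyclic case**: a module generated by an eigenvector of `xy` for the eigenvalue `-1` maps onto
the natural module. -/
theorem natural_of_cyclic [Finite M] (h2 : (2 : K) ≠ 0) (ρ : Representation K Γ M) {x y : Γ}
    (hgen : Subgroup.closure {x, y} = ⊤) (hx : Quad (ρ x)) (hy : Quad (ρ y))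
    {w : M} (hw0 : w ≠ 0) (hw : ρ (x * y) w = -w)
    (hcyc : ∀ U : Submodule K M, (∀ g : Γ, U ≤ U.comap (ρ g)) → w ∈ U → U = ⊤) :
    ∃ (φ : Γ →* Matrix.SpecialLinearGroup (Fin 2) K) (π : M →ₗ[K] (Fin 2 → K)),
      Function.Surjective π ∧
      (∀ g m, π (ρ g m) = (φ g : Matrix (Fin 2) (Fin 2) K) *ᵥ π m) ∧
      (φ x : Matrix (Fin 2) (Fin 2) K) = !![1, 0; 1, 1] ∧
      (φ y : Matrix (Fin 2) (Fin 2) K) = !![-1, -4; 1, 3] := by
  let S : Set (Submodule K M) := {U | (∀ g : Γ, U ≤ U.comap (ρ g)) ∧ w ∉ U}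
  have hSne : S.Nonempty := ⟨⊥, fun g => bot_le, fun h => hw0 ((Submodule.mem_bot K).1 h)⟩
  obtain ⟨U₂, hU₂S, hU₂max⟩ := Set.Finite.exists_maximalFor (fun U : Submodule K M => U) S
    (Set.toFinite S) hSne
  obtain ⟨hU₂inv, hwU₂⟩ := hU₂S
  set ρq := ρ.quotient U₂ hU₂inv with hρq
  have hqw0 : (Submodule.Quotient.mk w : M ⧸ U₂) ≠ 0 := by
    rw [Ne, Submodule.Quotient.mk_eq_zero]; exact hwU₂
  have hqw : ρq (x * y) (Submodule.Quotient.mk w) = -(Submodule.Quotient.mk w) := by
    rw [hρq, Representation.quotient_apply, Submodule.mapQ_apply, hw, Submodule.Quotient.mk_neg]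
  have hirr : ∀ U : Submodule K (M ⧸ U₂), (∀ m ∈ U, ρq x m ∈ U) → (∀ m ∈ U, ρq y m ∈ U) →
      U = ⊥ ∨ U = ⊤ := by
    intro U hUx hUy
    have hUinv := invariant_of_gens ρq hgen (quad_quot ρ U₂ hU₂inv hx) (quad_quot ρ U₂ hU₂inv hy)
      U hUx hUy
    set U₃ : Submodule K M := U.comap U₂.mkQ with hU₃
    have hU₃inv : ∀ g : Γ, U₃ ≤ U₃.comap (ρ g) := by
      intro g m hm
      rw [Submodule.mem_comap, hU₃, Submodule.mem_comap, Submodule.mkQ_apply]
      have := hUinv g hm
      rw [Submodule.mem_comap, Submodule.mkQ_apply, hρq, Representation.quotient_apply,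
        Submodule.mapQ_apply] at this
      exact this
    have hle : U₂ ≤ U₃ := by
      intro m hm
      rw [hU₃, Submodule.mem_comap, Submodule.mkQ_apply, (Submodule.Quotient.mk_eq_zero U₂).2 hm]
      exact U.zero_mem
    by_cases hwU₃ : w ∈ U₃
    · right
      have htop := hcyc U₃ hU₃inv hwU₃
      rw [eq_top_iff]
      intro q _
      obtain ⟨m, rfl⟩ := Submodule.Quotient.mk_surjective U₂ q
      have : m ∈ U₃ := by rw [htop]; trivial
      exact this
    · left
      have hU₃S : U₃ ∈ S := ⟨hU₃inv, hwU₃⟩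
      have heq : U₃ ≤ U₂ := hU₂max hU₃S hle
      rw [eq_bot_iff]
      intro q hq
      obtain ⟨m, rfl⟩ := Submodule.Quotient.mk_surjective U₂ q
      have : m ∈ U₃ := hq
      rw [Submodule.mem_bot, Submodule.Quotient.mk_eq_zero]
      exact heq this
  obtain ⟨φ, π, hπ, hφx, hφy⟩ := natural_of_irreducible h2 ρq hgen
    (quad_quot ρ U₂ hU₂inv hx) (quad_quot ρ U₂ hU₂inv hy) hirr hqw0 hqw
  refine ⟨φ, π.toLinearMap.comp U₂.mkQ, ?_, ?_, hφx, hφy⟩
  · exact π.surjective.comp (Submodule.mkQ_surjective U₂)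
  · intro g m
    have := hπ g (Submodule.Quotient.mk m)
    rw [hρq, Representation.quotient_apply, Submodule.mapQ_apply] at this
    exact this

/-- **General case**: a section of the module is the natural module. -/
theorem exists_natural_section [Finite M] (h2 : (2 : K) ≠ 0) (ρ : Representation K Γ M) {x y : Γ}
    (hgen : Subgroup.closure {x, y} = ⊤) (hx : Quad (ρ x)) (hy : Quad (ρ y))
    {w : M} (hw0 : w ≠ 0) (hw : ρ (x * y) w = -w) :
    ∃ (φ : Γ →* Matrix.SpecialLinearGroup (Fin 2) K) (N : Submodule K M)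
      (hN : ∀ g : Γ, N ≤ N.comap (ρ g)) (π : N →ₗ[K] (Fin 2 → K)),
      Function.Surjective π ∧
      (∀ g (n : N), π (ρ.subrepresentation N hN g n) = (φ g : Matrix (Fin 2) (Fin 2) K) *ᵥ π n) ∧
      (φ x : Matrix (Fin 2) (Fin 2) K) = !![1, 0; 1, 1] ∧
      (φ y : Matrix (Fin 2) (Fin 2) K) = !![-1, -4; 1, 3] := by
  set N : Submodule K M := sInf {U | (∀ g : Γ, U ≤ U.comap (ρ g)) ∧ w ∈ U} with hNdef
  have hN : ∀ g : Γ, N ≤ N.comap (ρ g) := by
    intro g m hm
    rw [Submodule.mem_comap, hNdef, Submodule.mem_sInf]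
    intro U hU
    have : m ∈ U := (Submodule.mem_sInf.1 hm) U hU
    exact hU.1 g this
  have hwN : w ∈ N := by
    rw [hNdef, Submodule.mem_sInf]
    intro U hU
    exact hU.2
  set ρN := ρ.subrepresentation N hN with hρN
  have hρNcoe : ∀ g (n : N), ((ρN g n : N) : M) = ρ g n := fun g n => rfl
  have hw0' : (⟨w, hwN⟩ : N) ≠ 0 := by
    intro h
    exact hw0 (congrArg Subtype.val h)
  have hw' : ρN (x * y) ⟨w, hwN⟩ = -(⟨w, hwN⟩ : N) := by
    apply Subtype.ext
    rw [hρNcoe]
    exact hw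
  have hcyc : ∀ U : Submodule K N, (∀ g : Γ, U ≤ U.comap (ρN g)) → (⟨w, hwN⟩ : N) ∈ U →
      U = ⊤ := by
    intro U hUinv hwU
    set U' : Submodule K M := U.map N.subtype with hU'
    have hU'inv : ∀ g : Γ, U' ≤ U'.comap (ρ g) := by
      rintro g _ ⟨n, hn, rfl⟩
      rw [Submodule.mem_comap]
      refine ⟨ρN g n, hUinv g hn, ?_⟩
      rfl
    have hwU' : w ∈ U' := ⟨⟨w, hwN⟩, hwU, rfl⟩
    have hle : N ≤ U' := sInf_le ⟨hU'inv, hwU'⟩
    rw [eq_top_iff]
    intro n _
    obtain ⟨n', hn', hnn'⟩ := hle n.2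
    have : n' = n := Subtype.ext hnn'
    rw [← this]; exact hn'
  obtain ⟨φ, π, hπs, hπ, hφx, hφy⟩ := natural_of_cyclic h2 ρN hgen
    (quad_sub ρ N hN hx) (quad_sub ρ N hN hy) hw0' hw' hcyc
  exact ⟨φ, N, hN, π, hπs, hπ, hφx, hφy⟩

end rep

end Cfsg.Agent.Helper97.QdNat
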