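import Mathlib

set_option autoImplicit false

/-!
# `SL₂(𝔽_p)` is generated by `[1 0; 1 1]` and `[-1 -4; 1 3]` (`p` odd)
-/

namespace Cfsg.Agent.Helper97.QdSL2

open Matrix

section gen

variable {K : Type*} [Field K]

/-- upper unitriangular element of `SL₂` -/
def uU (x : K) : SpecialLinearGroup (Fin 2) K := ⟨!![1, x; 0, 1], by simp [det_fin_two_of]⟩

/-- lower unitriangular element of `SL₂` -/
def lL (y : K) : SpecialLinearGroup (Fin 2) K := ⟨!![1, 0; y, 1], by simp [det_fin_two_of]⟩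

@[simp] theorem uU_val (x : K) : (uU x : Matrix (Fin 2) (Fin 2) K) = !![1, x; 0, 1] := rfl

@[simp] theorem lL_val (x : K) : (lL x : Matrix (Fin 2) (Fin 2) K) = !![1, 0; x, 1] := rfl

theorem uU_mul (x y : K) : uU x * uU y = uU (x + y) := by
  ext i j
  simp only [Matrix.SpecialLinearGroup.coe_mul]
  fin_cases i <;> fin_cases j <;> simp [Matrix.mul_apply, Fin.sum_univ_two, add_comm]

theorem lL_mul (x y : K) : lL x * lL y = lL (x + y) := by
  ext i j
  simp only [Matrix.SpecialLinearGroup.coe_mul]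
  fin_cases i <;> fin_cases j <;> simp [Matrix.mul_apply, Fin.sum_univ_two, add_comm]

theorem uU_zero : uU (0 : K) = 1 := by
  ext i j
  fin_cases i <;> fin_cases j <;> simp

theorem lL_zero : lL (0 : K) = 1 := by
  ext i j
  fin_cases i <;> fin_cases j <;> simp

theorem uU_pow (x : K) (n : ℕ) : uU x ^ n = uU (n * x) := by
  induction n with
  | zero => simp [uU_zero]
  | succ n ih => rw [pow_succ, ih, uU_mul]; congr 1; push_cast; ring

theorem lL_pow (x : K) (n : ℕ) : lL x ^ n = lL (n * x) := by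
  induction n with
  | zero => simp [lL_zero]
  | succ n ih => rw [pow_succ, ih, lL_mul]; congr 1; push_cast; ring

theorem sl2_decomp (M : SpecialLinearGroup (Fin 2) K) (hc : (M : Matrix (Fin 2) (Fin 2) K) 1 0 ≠ 0) :
    M = uU (((M : Matrix (Fin 2) (Fin 2) K) 0 0 - 1) / (M : Matrix (Fin 2) (Fin 2) K) 1 0) *
      lL ((M : Matrix (Fin 2) (Fin 2) K) 1 0) *
      uU (((M : Matrix (Fin 2) (Fin 2) K) 1 1 - 1) / (M : Matrix (Fin 2) (Fin 2) K) 1 0) := by
  have hdet := M.det_coe
  rw [det_fin_two] at hdet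
  ext i j
  simp only [Matrix.SpecialLinearGroup.coe_mul]
  generalize (M : Matrix (Fin 2) (Fin 2) K) = N at *
  fin_cases i <;> fin_cases j <;>
    simp [Matrix.mul_apply, Fin.sum_univ_two] <;> field_simp
  all_goals first | ring1 | linear_combination -hdet

/-- a subgroup of `SL₂(K)` containing all unitriangular matrices is everything. -/
theorem eq_top_of_unitriangular (H : Subgroup (SpecialLinearGroup (Fin 2) K))
    (hU : ∀ x : K, uU x ∈ H) (hL : ∀ x : K, lL x ∈ H) : H = ⊤ := by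
  rw [eq_top_iff]
  intro M _
  have key : ∀ M : SpecialLinearGroup (Fin 2) K, (M : Matrix (Fin 2) (Fin 2) K) 1 0 ≠ 0 →
      M ∈ H := by
    intro M hc
    rw [sl2_decomp M hc]
    exact H.mul_mem (H.mul_mem (hU _) (hL _)) (hU _)
  by_cases hc : (M : Matrix (Fin 2) (Fin 2) K) 1 0 = 0
  · have hdet := M.det_coe
    rw [det_fin_two, hc, mul_zero, sub_zero] at hdet
    have ha : (M : Matrix (Fin 2) (Fin 2) K) 0 0 ≠ 0 := by
      intro h0; rw [h0, zero_mul] at hdet; exact zero_ne_one hdet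
    have h1 : ((lL 1 * M : SpecialLinearGroup (Fin 2) K) : Matrix (Fin 2) (Fin 2) K) 1 0 ≠ 0 := by
      simp only [Matrix.SpecialLinearGroup.coe_mul]
      simp [Matrix.mul_apply, Fin.sum_univ_two, hc, ha]
    have h2 := key (lL 1 * M) h1
    have h3 : M = (lL 1)⁻¹ * (lL 1 * M) := by group
    rw [h3]
    exact H.mul_mem (H.inv_mem (hL 1)) h2
  · exact key M hc

end gen

section zmod

variable {p : ℕ} [hp : Fact p.Prime]

/-- every element of `ZMod p` is a natural-number multiple of a given unit. -/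
theorem exists_nat_mul_eq (c : ZMod p) (hc : c ≠ 0) (t : ZMod p) : ∃ n : ℕ, (n : ZMod p) * c = t := by
  refine ⟨(t * c⁻¹).val, ?_⟩
  rw [ZMod.natCast_val, ZMod.cast_id', id, mul_assoc, inv_mul_cancel₀ hc, mul_one]

/-- **Generation.** A homomorphism to `SL₂(𝔽_p)` (`p` odd) whose image contains `[1 0; 1 1]` and
`[-1 -4; 1 3]` is surjective. -/
theorem surjective_of_images (hp2 : p ≠ 2) {Γ : Type*} [Group Γ]
    (φ : Γ →* SpecialLinearGroup (Fin 2) (ZMod p)) (x y : Γ)
    (hx : (φ x : Matrix (Fin 2) (Fin 2) (ZMod p)) = !![1, 0; 1, 1])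
    (hy : (φ y : Matrix (Fin 2) (Fin 2) (ZMod p)) = !![-1, -4; 1, 3]) :
    Function.Surjective φ := by
  have h2 : (2 : ZMod p) ≠ 0 := by
    intro h
    have h' : ((2 : ℕ) : ZMod p) = 0 := by exact_mod_cast h
    rw [ZMod.natCast_eq_zero_iff] at h'
    exact hp2 ((Nat.prime_dvd_prime_iff_eq hp.out Nat.prime_two).1 h')
  have h8 : (8 : ZMod p) ≠ 0 := by
    have : (8 : ZMod p) = 2 * 2 * 2 := by norm_num
    rw [this]
    exact mul_ne_zero (mul_ne_zero h2 h2) h2
  have hxl : φ x = lL 1 := by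
    apply Subtype.ext
    rw [hx, lL_val]
  have hxy : (φ (x * y)) ^ 2 = uU 8 := by
    apply Matrix.SpecialLinearGroup.ext
    intro i j
    rw [map_mul, Matrix.SpecialLinearGroup.coe_pow, Matrix.SpecialLinearGroup.coe_mul, hx, hy, uU_val, pow_two]
    fin_cases i <;> fin_cases j <;> simp [Matrix.mul_apply, Fin.sum_univ_two] <;> ring
  rw [← MonoidHom.range_eq_top]
  apply eq_top_of_unitriangular
  · intro t
    obtain ⟨n, hn⟩ := exists_nat_mul_eq (8 : ZMod p) h8 t
    rw [← hn, ← uU_pow, ← hxy]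
    exact Subgroup.pow_mem _ (Subgroup.pow_mem _ (MonoidHom.mem_range.2 ⟨x * y, rfl⟩) _) _
  · intro t
    obtain ⟨n, hn⟩ := exists_nat_mul_eq (1 : ZMod p) one_ne_zero t
    rw [← hn, ← lL_pow, ← hxl]
    exact Subgroup.pow_mem _ (MonoidHom.mem_range.2 ⟨x, rfl⟩) _

end zmod

end Cfsg.Agent.Helper97.QdSL2
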