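import Mathlib
import Cfsg.Agent.Helper97.QuadPair
import Cfsg.Agent.Helper97.QuadLin
import Cfsg.Agent.Helper97.QdNat

set_option autoImplicit false

/-!
# Two quadratic generators: the homomorphism to `SL₂(K)` remembers eigenvalues

A strengthening of `QuadPair.main_induction` / `QuadLin.exists_hom_SL2_of_action`: the homomorphism
`φ : Γ → SL₂(K)` comes from a section of the module, so if `φ γ` has the eigenvalue `-1` then so has
`γ` on the module.
-/

namespace Cfsg.Agent.Helper97.QuadEig

open Cfsg.Agent.Helper97.QuadPair Cfsg.Agent.Helper97.QdNat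
open scoped TensorProduct

section rep

variable {K : Type*} [Field K] {Γ : Type*} [Group Γ] {M : Type*} [AddCommGroup M] [Module K M]

/-- `f` has no eigenvector for the eigenvalue `-1`. -/
def NoNeg (f : Module.End K M) : Prop := ∀ m : M, f m = -m → m = 0

theorem irreducible_basis [Fintype K] {p : ℕ} [Fact p.Prime] [CharP K p] [Finite M]
    (ρ : Representation K Γ M) {x y : Γ}
    (hgen : Subgroup.closure {x, y} = ⊤) (hx : Quad (ρ x)) (hy : Quad (ρ y))
    {e k : ℕ} (hk : k ∣ Fintype.card K - 1) (hxy : (x * y) ^ (p ^ e * k) = 1)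
    (hirr : ∀ U : Submodule K M, (∀ m ∈ U, ρ x m ∈ U) → (∀ m ∈ U, ρ y m ∈ U) → U = ⊥ ∨ U = ⊤)
    (hnp : ¬ PImage p ρ) :
    Nonempty (Module.Basis (Fin 2) K M) := by
  have hnt : Nontrivial M := by
    by_contra hnt
    rw [not_nontrivial_iff_subsingleton] at hnt
    apply hnp
    intro γ
    refine ⟨0, ?_⟩
    ext m
    exact Subsingleton.elim _ _
  have hfd : FiniteDimensional K M := Module.Finite.of_finite
  have hf : (ρ (x * y)) ^ (p ^ e * k) = 1 := by rw [← map_pow, hxy, map_one]
  obtain ⟨μ, w, hw0, hw⟩ := exists_eigenvector (p := p) (ρ (x * y)) hk hf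
  have hμ : μ ≠ 0 := by
    rintro rfl
    rw [zero_smul] at hw
    apply hw0
    have : ρ (x * y)⁻¹ (ρ (x * y) w) = w := by
      rw [← Module.End.mul_apply, ← map_mul, inv_mul_cancel, map_one, Module.End.one_apply]
    rw [← this, hw, map_zero]
  set w' : M := ρ x w - w with hw'
  have hxw : ρ x w = w + w' := by rw [hw']; abel
  have hxw' : ρ x w' = w' := hx w
  have hyw : ρ y w = μ • w - μ • w' := by
    have h1 : ρ x (ρ y w) = μ • w := by
      rw [← Module.End.mul_apply, ← map_mul]; exact hw
    have hgf : ρ x⁻¹ * ρ x = 1 := by rw [← map_mul, inv_mul_cancel, map_one]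
    have h2 : ρ x⁻¹ (ρ x (ρ y w)) = ρ y w := by
      rw [← Module.End.mul_apply, hgf, Module.End.one_apply]
    rw [← h2, h1, hx.inv_apply hgf, map_smul, hxw]
    module
  have hyw' : μ • ρ y w' = (μ - 1) • ρ y w - (μ - 1) • w + μ • w' := by
    have h1 := hy w
    have h2 : ρ y w - w = (μ - 1) • w - μ • w' := by rw [hyw]; module
    rw [h2, map_sub, map_smul, map_smul] at h1
    rw [eq_sub_iff_add_eq] at h1
    rw [← h1]
    module
  set U : Submodule K M := Submodule.span K {w, w'} with hU
  have hwU : w ∈ U := Submodule.subset_span (by simp)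
  have hw'U : w' ∈ U := Submodule.subset_span (by simp)
  have hUx : ∀ m ∈ U, ρ x m ∈ U := by
    apply span_pair_invariant
    · rw [hxw]; exact U.add_mem hwU hw'U
    · rw [hxw']; exact hw'U
  have hywU : ρ y w ∈ U := by
    rw [hyw]; exact U.sub_mem (U.smul_mem _ hwU) (U.smul_mem _ hw'U)
  have hUy : ∀ m ∈ U, ρ y m ∈ U := by
    apply span_pair_invariant
    · exact hywU
    · have : ρ y w' = μ⁻¹ • ((μ - 1) • ρ y w - (μ - 1) • w + μ • w') := by
        rw [← hyw', smul_smul, inv_mul_cancel₀ hμ, one_smul]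
      rw [this]
      exact U.smul_mem _ (U.add_mem (U.sub_mem (U.smul_mem _ hywU) (U.smul_mem _ hwU))
        (U.smul_mem _ hw'U))
  have hUtop : U = ⊤ := by
    rcases hirr U hUx hUy with h | h
    · exfalso
      rw [h] at hwU
      exact hw0 ((Submodule.mem_bot K).1 hwU)
    · exact h
  by_cases hw'0 : w' = 0
  · exfalso
    apply hnp
    have hμ1 : μ = 1 := by
      have h1 := hy w
      rw [hyw, hw'0, smul_zero, sub_zero] at h1
      have h2 : (μ - 1) • (μ - 1) • w = 0 := by
        rw [map_sub, map_smul, hyw, hw'0, smul_zero, sub_zero] at h1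
        rw [← sub_eq_zero] at h1
        rw [← h1]; module
      rw [smul_smul, smul_eq_zero] at h2
      rcases h2 with h2 | h2
      · have := mul_self_eq_zero.1 h2
        exact sub_eq_zero.1 this
      · exact absurd h2 hw0
    have hker : ρ.ker = ⊤ := by
      rw [eq_top_iff, ← hgen, Subgroup.closure_le]
      rintro z (rfl | rfl)
      · rw [SetLike.mem_coe, MonoidHom.mem_ker]
        apply LinearMap.ext_on hUtop
        rintro m (hm | hm)
        · rw [hm, hxw, hw'0, add_zero, Module.End.one_apply]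
        · rw [Set.mem_singleton_iff.1 hm, hxw', Module.End.one_apply]
      · rw [SetLike.mem_coe, MonoidHom.mem_ker]
        apply LinearMap.ext_on hUtop
        rintro m (hm | hm)
        · rw [hm, hyw, hw'0, smul_zero, sub_zero, hμ1, one_smul, Module.End.one_apply]
        · rw [Set.mem_singleton_iff.1 hm, hw'0, map_zero, Module.End.one_apply]
    intro γ
    refine ⟨0, ?_⟩
    have : γ ^ p ^ 0 ∈ ρ.ker := by rw [hker]; trivial
    exact MonoidHom.mem_ker.1 this
  · have hli : LinearIndependent K ![w, w'] := by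
      rw [LinearIndependent.pair_iff]
      intro s t hst
      have h1 : ρ x (s • w + t • w') - (s • w + t • w') = 0 := by rw [hst, map_zero, sub_zero]
      rw [map_add, map_smul, map_smul, hxw, hxw'] at h1
      have h2 : s • w' = 0 := by rw [← h1]; module
      have hs : s = 0 := by
        rcases smul_eq_zero.1 h2 with h | h
        · exact h
        · exact absurd h hw'0
      rw [hs, zero_smul, zero_add] at hst
      have ht : t = 0 := by
        rcases smul_eq_zero.1 hst with h | h
        · exact h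
        · exact absurd h hw'0
      exact ⟨hs, ht⟩
    have hspan : ⊤ ≤ Submodule.span K (Set.range ![w, w']) := by
      have : Set.range ![w, w'] = {w, w'} := by
        ext z
        simp only [Set.mem_range, Set.mem_insert_iff, Set.mem_singleton_iff]
        constructor
        · rintro ⟨i, rfl⟩
          fin_cases i
          · left; rfl
          · right; rfl
        · rintro (rfl | rfl)
          · exact ⟨0, rfl⟩
          · exact ⟨1, rfl⟩
      rw [this, ← hU, hUtop]
    exact ⟨Module.Basis.mk hli hspan⟩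
theorem noNeg_sub (ρ : Representation K Γ M) (U : Submodule K M) (h : ∀ g : Γ, U ≤ U.comap (ρ g))
    {γ : Γ} (hγ : NoNeg (ρ γ)) : NoNeg ((ρ.subrepresentation U h) γ) := by
  rintro ⟨m, hm⟩ hmm
  have h1 : ρ γ m = -m := congrArg Subtype.val hmm
  exact Subtype.ext (hγ m h1)

theorem noNeg_quot [Finite M] (ρ : Representation K Γ M) (U : Submodule K M)
    (h : ∀ g : Γ, U ≤ U.comap (ρ g)) {γ : Γ} (hγ : NoNeg (ρ γ)) : NoNeg ((ρ.quotient U h) γ) := by
  intro q hq
  obtain ⟨m, rfl⟩ := Submodule.Quotient.mk_surjective U q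
  rw [Representation.quotient_apply, Submodule.mapQ_apply, ← Submodule.Quotient.mk_neg,
    Submodule.Quotient.eq] at hq
  -- hq : ρ γ m - -m ∈ U
  let g : U → U := fun u => ⟨ρ γ u + u, U.add_mem (h γ u.2) u.2⟩
  have hginj : Function.Injective g := by
    intro u v huv
    have h1 : ρ γ (u : M) + u = ρ γ (v : M) + v := congrArg Subtype.val huv
    have h2 : ρ γ ((u : M) - v) = -((u : M) - v) := by
      rw [map_sub]
      have : ρ γ (u : M) - ρ γ (v : M) = (ρ γ (u : M) + u) - (ρ γ (v : M) + v) - (u - v) := by abel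
      rw [this, h1]; abel
    have h3 := hγ _ h2
    exact Subtype.ext (sub_eq_zero.1 h3)
  have hgsurj : Function.Surjective g := Finite.surjective_of_injective hginj
  obtain ⟨u, hu⟩ := hgsurj ⟨ρ γ m - -m, hq⟩
  have h1 : ρ γ (u : M) + u = ρ γ m - -m := congrArg Subtype.val hu
  have h2 : ρ γ ((u : M) - m) = -((u : M) - m) := by
    rw [map_sub]
    have : ρ γ (u : M) - ρ γ m = (ρ γ (u : M) + u) - (ρ γ m - -m) - (u - m) := by abel
    rw [this, h1]; abel
  have h3 := hγ _ h2
  have h4 : (u : M) = m := sub_eq_zero.1 h3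
  rw [Submodule.Quotient.mk_eq_zero, ← h4]
  exact u.2

theorem main_induction_eig [Fintype K] {p : ℕ} [Fact p.Prime] [CharP K p] {x y : Γ}
    (hgen : Subgroup.closure {x, y} = ⊤)
    {e k : ℕ} (hk : k ∣ Fintype.card K - 1) (hxy : (x * y) ^ (p ^ e * k) = 1) (n : ℕ) :
    ∀ (M : Type*) [AddCommGroup M] [Module K M] [Finite M] (ρ : Representation K Γ M),
      Nat.card M ≤ n → Quad (ρ x) → Quad (ρ y) → ¬ PImage p ρ →
      ∃ φ : Γ →* Matrix.SpecialLinearGroup (Fin 2) K, ¬ IsPGroup p φ.range ∧
        ∀ γ : Γ, NoNeg (ρ γ) → ∀ w : Fin 2 → K,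
          (φ γ : Matrix (Fin 2) (Fin 2) K).mulVec w = -w → w = 0 := by
  induction n with
  | zero =>
    intro M _ _ _ ρ hcard
    have := Nat.card_pos (α := M)
    omega
  | succ n ih =>
    intro M _ _ _ ρ hcard hx hy hnp
    by_cases hirr : ∀ U : Submodule K M, (∀ m ∈ U, ρ x m ∈ U) → (∀ m ∈ U, ρ y m ∈ U) →
        U = ⊥ ∨ U = ⊤
    · obtain ⟨B⟩ := irreducible_basis ρ hgen hx hy hk hxy hirr hnp
      obtain ⟨φ, hφ⟩ := exists_hom_of_basis_det ρ B (fun g => det_eq_one ρ hgen hx hy g)
      refine ⟨φ, ?_, ?_⟩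
      · intro hP
        apply hnp
        intro γ
        obtain ⟨j, hj⟩ := hP ⟨φ γ, γ, rfl⟩
        refine ⟨j, ?_⟩
        have h1 : φ (γ ^ (p ^ j)) = 1 := by
          have := congrArg Subtype.val hj
          simpa using this
        have h2 : LinearMap.toMatrix B B (ρ (γ ^ (p ^ j))) = 1 := by
          rw [← hφ, h1, Matrix.SpecialLinearGroup.coe_one]
        have h3 : LinearMap.toMatrix B B (ρ (γ ^ (p ^ j))) = LinearMap.toMatrix B B 1 := by
          rw [h2]; exact (LinearMap.toMatrix_one B).symm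
        exact (LinearMap.toMatrix B B).injective h3
      · intro γ hγ w hw
        set m : M := B.equivFun.symm w with hm
        have hmw : B.equivFun m = w := by rw [hm, LinearEquiv.apply_symm_apply]
        have h1 : B.equivFun (ρ γ m) = B.equivFun (-m) := by
          have := LinearMap.toMatrix_mulVec_repr B B (ρ γ) m
          rw [Module.Basis.equivFun_apply, ← this, ← hφ, map_neg]
          have hr : (B.repr m : Fin 2 → K) = w := by
            rw [← Module.Basis.equivFun_apply, hmw]
          rw [hr, hw, ← hr]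
          rfl
        have h2 : ρ γ m = -m := B.equivFun.injective h1
        have h3 := hγ m h2
        rw [← hmw, h3, map_zero]
    · push Not at hirr
      obtain ⟨U, hUx, hUy, hU0, hU1⟩ := hirr
      have h := invariant_of_gens ρ hgen hx hy U hUx hUy
      have hlt1 : Nat.card U < Nat.card M := by
        obtain ⟨z, hz⟩ : ∃ z : M, z ∉ U := by
          by_contra hcon
          push Not at hcon
          exact hU1 (eq_top_iff.2 fun z _ => hcon z)
        exact Finite.card_subtype_lt hz
      have hfq : Finite (M ⧸ U) :=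
        Finite.of_surjective _ (Submodule.Quotient.mk_surjective U)
      have hlt2 : Nat.card (M ⧸ U) < Nat.card M := by
        rw [Submodule.card_eq_card_quotient_mul_card U]
        have hnt : Nontrivial U := by
          rw [Submodule.nontrivial_iff_ne_bot]; exact hU0
        have h1 : 1 < Nat.card U := Finite.one_lt_card
        have h2 : 0 < Nat.card (M ⧸ U) := Nat.card_pos
        nlinarith
      by_cases h1 : PImage p (ρ.subrepresentation U h)
      · by_cases h2 : PImage p (ρ.quotient U h)
        · exact absurd (pImage_of_sub_quot ρ U h h1 h2) hnp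
        · obtain ⟨φ, hφ1, hφ2⟩ := ih (M ⧸ U) (ρ.quotient U h) (by omega) (quad_quot ρ U h hx)
            (quad_quot ρ U h hy) h2
          exact ⟨φ, hφ1, fun γ hγ => hφ2 γ (noNeg_quot ρ U h hγ)⟩
      · obtain ⟨φ, hφ1, hφ2⟩ := ih U (ρ.subrepresentation U h) (by omega) (quad_sub ρ U h hx)
          (quad_sub ρ U h hy) h1
        exact ⟨φ, hφ1, fun γ hγ => hφ2 γ (noNeg_sub ρ U h hγ)⟩

end rep

section action

open Cfsg.Agent.Helper97.QuadLin

/-- Linearization: a group acting faithfully on a finite elementary abelian `p`-group, generated by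
two elements acting quadratically, not a `p`-group, maps to some `SL₂(K)` with non-`p`-group image. -/
theorem exists_hom_SL2_of_action_eig_aux {A : Type*} [CommGroup A] [Finite A] {p : ℕ} [Fact p.Prime]
    [Module (ZMod p) (Additive A)] {Γ : Type*} [Group Γ] (θ : Γ →* MulAut A)
    (hθ : Function.Injective θ) (x y : Γ) (hgen : Subgroup.closure {x, y} = ⊤)
    (hx : ∀ v : A, θ x (θ x v / v) = θ x v / v) (hy : ∀ v : A, θ y (θ y v / v) = θ y v / v)
    (hnp : ¬ IsPGroup p Γ) :
    ∃ (K : Type) (_ : Field K) (_ : Fintype K) (_ : CharP K p)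
      (φ : Γ →* Matrix.SpecialLinearGroup (Fin 2) K),
      ¬ IsPGroup p φ.range ∧ x ^ p = 1 ∧ y ^ p = 1 ∧
      ∀ γ : Γ, (∀ v : A, θ γ v = v⁻¹ → v = 1) → ∀ w : Fin 2 → K,
        (φ γ : Matrix (Fin 2) (Fin 2) K).mulVec w = -w → w = 0 := by
  classical
  have hpp : p.Prime := Fact.out
  have : Finite Γ := Finite.of_injective θ hθ
  -- the `ZMod p`-linear action
  let ρ₀ : Γ →* Module.End (ZMod p) (Additive A) :=
    { toFun := fun γ => AddMonoidHom.toZModLinearMap p (MonoidHom.toAdditive (θ γ).toMonoidHom)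
      map_one' := by
        apply LinearMap.ext
        intro v
        obtain ⟨v, rfl⟩ := Additive.ofMul.surjective v
        rw [Module.End.one_apply, AddMonoidHom.coe_toZModLinearMap, map_one]
        rfl
      map_mul' := by
        intro γ δ
        apply LinearMap.ext
        intro v
        obtain ⟨v, rfl⟩ := Additive.ofMul.surjective v
        rw [Module.End.mul_apply, AddMonoidHom.coe_toZModLinearMap,
          AddMonoidHom.coe_toZModLinearMap, AddMonoidHom.coe_toZModLinearMap, map_mul]
        rfl }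
  have hρ₀ : ∀ (γ : Γ) (v : A), ρ₀ γ (Additive.ofMul v) = Additive.ofMul (θ γ v) := fun _ _ => rfl
  have hρ₀inj : ∀ γ : Γ, ρ₀ γ = 1 → γ = 1 := by
    intro γ h
    apply hθ
    rw [map_one]
    ext v
    have := congrArg (fun f : Module.End (ZMod p) (Additive A) => f (Additive.ofMul v)) h
    simp only [hρ₀, Module.End.one_apply] at this
    exact Additive.ofMul.injective this
  have hq₀ : ∀ z : Γ, (∀ v : A, θ z (θ z v / v) = θ z v / v) → (ρ₀ z - 1) * (ρ₀ z - 1) = 0 := by
    intro z hz
    apply LinearMap.ext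
    intro v
    obtain ⟨v, rfl⟩ := Additive.ofMul.surjective v
    simp only [Module.End.mul_apply, LinearMap.sub_apply, Module.End.one_apply,
      LinearMap.zero_apply, hρ₀]
    rw [← ofMul_div, hρ₀, hz v, sub_self]
  -- order of `x * y`
  have hN0 : orderOf (x * y) ≠ 0 := (orderOf_pos (x * y)).ne'
  obtain ⟨e, k, hpk, hNk⟩ := Nat.exists_eq_pow_mul_and_not_dvd hN0 p hpp.ne_one
  have hk0 : k ≠ 0 := by
    rintro rfl
    exact hpk (dvd_zero p)
  have hcop : Nat.Coprime p k := (Nat.Prime.coprime_iff_not_dvd hpp).2 hpk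
  set m := Nat.totient k with hm
  have hm0 : m ≠ 0 := (Nat.totient_pos.2 (Nat.pos_of_ne_zero hk0)).ne'
  have hkdvd : k ∣ p ^ m - 1 := by
    have h1 : p ^ m ≡ 1 [MOD k] := Nat.ModEq.pow_totient hcop
    exact (Nat.modEq_iff_dvd' (Nat.one_le_pow _ _ hpp.pos)).1 h1.symm
  -- the field
  let K := GaloisField p m
  let _ : Fintype K := Fintype.ofFinite K
  have hcardK : Fintype.card K = p ^ m := by
    rw [← Nat.card_eq_fintype_card]; exact GaloisField.card p m hm0
  have hk : k ∣ Fintype.card K - 1 := by rw [hcardK]; exact hkdvd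
  have hxy : (x * y) ^ (p ^ e * k) = 1 := by rw [← hNk]; exact pow_orderOf_eq_one _
  -- the base-changed representation
  let bc : Module.End (ZMod p) (Additive A) →* Module.End K (K ⊗[ZMod p] Additive A) :=
    (Module.End.baseChangeHom (ZMod p) K (Additive A) : _ →* _)
  have hbc : ∀ f, bc f = LinearMap.baseChange K f := fun _ => rfl
  have hbcinj : Function.Injective bc := by
    intro f g hfg
    exact LinearMap.baseChangeHom_injective (R := ZMod p) (S := K) (M := Additive A)
      (N := Additive A) hfg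
  let ρ : Representation K Γ (K ⊗[ZMod p] Additive A) := bc.comp ρ₀
  have hρ : ∀ γ, ρ γ = bc (ρ₀ γ) := fun _ => rfl
  have hquad : ∀ z : Γ, (∀ v : A, θ z (θ z v / v) = θ z v / v) → Quad (ρ z) := by
    intro z hz
    apply quad_of_sq_zero
    have h1 := hq₀ z hz
    have h2 : bc ((ρ₀ z - 1) * (ρ₀ z - 1)) = 0 := by
      rw [h1]
      exact map_zero (Module.End.baseChangeHom (ZMod p) K (Additive A))
    have h3 : bc ((ρ₀ z - 1) * (ρ₀ z - 1)) = (ρ z - 1) * (ρ z - 1) := by
      rw [hρ]
      show (Module.End.baseChangeHom (ZMod p) K (Additive A)) ((ρ₀ z - 1) * (ρ₀ z - 1)) =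
        ((Module.End.baseChangeHom (ZMod p) K (Additive A)) (ρ₀ z) - 1) *
          ((Module.End.baseChangeHom (ZMod p) K (Additive A)) (ρ₀ z) - 1)
      rw [map_mul, map_sub, map_one]
    rw [← h3, h2]
  have hnpI : ¬ PImage p ρ := by
    intro hP
    apply hnp
    intro γ
    obtain ⟨j, hj⟩ := hP γ
    refine ⟨j, hρ₀inj _ ?_⟩
    apply hbcinj
    rw [← hρ, hj]
    exact (map_one bc).symm
  have : Finite (K ⊗[ZMod p] Additive A) := Module.finite_of_finite K
  obtain ⟨φ, hφ, hφe⟩ := main_induction_eig hgen hk hxy (Nat.card (K ⊗[ZMod p] Additive A))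
    (K ⊗[ZMod p] Additive A) ρ le_rfl (hquad x hx) (hquad y hy) hnpI
  have hnoneg : ∀ γ : Γ, (∀ v : A, θ γ v = v⁻¹ → v = 1) → NoNeg (ρ γ) := by
    intro γ hγ
    have hinj₀ : Function.Injective (ρ₀ γ + 1 : Module.End (ZMod p) (Additive A)) := by
      intro a b hab
      simp only [LinearMap.add_apply, Module.End.one_apply] at hab
      have h1 : ρ₀ γ (a - b) = -(a - b) := by
        rw [map_sub]
        have : ρ₀ γ a - ρ₀ γ b = (ρ₀ γ a + a) - (ρ₀ γ b + b) - (a - b) := by abel
        rw [this, hab]; abel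
      obtain ⟨v, hv⟩ := Additive.ofMul.surjective (a - b)
      rw [← hv, hρ₀] at h1
      have h2 : θ γ v = v⁻¹ := by
        apply Additive.ofMul.injective
        rw [h1]; rfl
      have h3 := hγ v h2
      rw [h3] at hv
      have : a - b = 0 := by rw [← hv]; rfl
      exact sub_eq_zero.1 this
    have hinj : Function.Injective (LinearMap.baseChange K
        (ρ₀ γ + 1 : Module.End (ZMod p) (Additive A))) := by
      rw [LinearMap.baseChange_eq_ltensor]
      exact Module.Flat.lTensor_preserves_injective_linearMap _ hinj₀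
    have heq : LinearMap.baseChange K (ρ₀ γ + 1 : Module.End (ZMod p) (Additive A)) =
        ρ γ + 1 := by
      rw [LinearMap.baseChange_add, hρ, hbc]
      congr 1
      exact LinearMap.baseChange_id
    intro m hm
    apply hinj
    rw [heq, map_zero, LinearMap.add_apply, Module.End.one_apply, hm, neg_add_cancel]
  have hpow : ∀ z : Γ, (∀ v : A, θ z (θ z v / v) = θ z v / v) → z ^ p = 1 := by
    intro z hz
    apply hρ₀inj
    rw [map_pow]
    exact (quad_of_sq_zero (hq₀ z hz)).pow_char p
  exact ⟨K, inferInstance, inferInstance, inferInstance, φ, hφ, hpow x hx, hpow y hy,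
    fun γ hγ => hφe γ (hnoneg γ hγ)⟩

theorem exists_hom_SL2_of_action_eig {A : Type*} [CommGroup A] [Finite A] {p : ℕ} [Fact p.Prime]
    (hA : ∀ v : A, v ^ p = 1) {Γ : Type*} [Group Γ] (θ : Γ →* MulAut A)
    (hθ : Function.Injective θ) (x y : Γ) (hgen : Subgroup.closure {x, y} = ⊤)
    (hx : ∀ v : A, θ x (θ x v / v) = θ x v / v) (hy : ∀ v : A, θ y (θ y v / v) = θ y v / v)
    (hnp : ¬ IsPGroup p Γ) :
    ∃ (K : Type) (_ : Field K) (_ : Fintype K) (_ : CharP K p)
      (φ : Γ →* Matrix.SpecialLinearGroup (Fin 2) K),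
      ¬ IsPGroup p φ.range ∧ x ^ p = 1 ∧ y ^ p = 1 ∧
      ∀ γ : Γ, (∀ v : A, θ γ v = v⁻¹ → v = 1) → ∀ w : Fin 2 → K,
        (φ γ : Matrix (Fin 2) (Fin 2) K).mulVec w = -w → w = 0 := by
  let _ : Module (ZMod p) (Additive A) := AddCommGroup.zmodModule (n := p) (by
    intro v
    obtain ⟨v, rfl⟩ := Additive.ofMul.surjective v
    rw [← ofMul_pow, hA]; rfl)
  exact exists_hom_SL2_of_action_eig_aux θ hθ x y hgen hx hy hnp

end action

end Cfsg.Agent.Helper97.QuadEig
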