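import Mathlib
import Cfsg.Prelude.Def_LocalEven
import Cfsg.Prelude.Def_PLocal
import Cfsg.Agent.S0199
import Cfsg.Agent.Helper97.QuadEig
import Cfsg.Agent.Helper97.QdNat
import Cfsg.Agent.Helper97.QdSL2
import Cfsg.Agent.Helper97.QdGraph
import Cfsg.Agent.Helper64.QuadAction
import Cfsg.Agent.Helper37.InvolvesQuotient

set_option autoImplicit false

/-!
# Glauberman: a group that is not `p`-stable involves `Qd(p)` (`p` odd)

Everything is proved relative to the hypothesis `DicksonPair p` (Dickson's theorem on subgroups of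
`SL₂(K)` generated by two elements of order `p`, in the form: two conjugates `x`, `y` of a
`p`-element and a power `y ^ j` with `tr (x y ^ j) = -2`).
-/

namespace Cfsg.Agent.Helper97.QdCore

open Matrix

/-- **Dickson's theorem, in the form used here.**  In a subgroup `L` of `SL₂(K)` (`K` a finite field
of characteristic `p`) with more than one Sylow `p`-subgroup, every element `s ≠ 1` of order `p` has
two `L`-conjugates `x`, `y` such that `x * y ^ j` has trace `-2` for some `j`. -/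
def DicksonPair (p : ℕ) [Fact p.Prime] : Prop :=
  ∀ (K : Type) [Field K] [Fintype K] [CharP K p]
    (L : Subgroup (Matrix.SpecialLinearGroup (Fin 2) K)) (s : Matrix.SpecialLinearGroup (Fin 2) K),
    s ∈ L → s ^ p = 1 → s ≠ 1 → 1 < Nat.card (Sylow p L) →
    ∃ g₁ ∈ L, ∃ g₂ ∈ L, ∃ j : ℕ,
      Matrix.trace ((g₁ * s * g₁⁻¹ * (g₂ * s * g₂⁻¹) ^ j :
        Matrix.SpecialLinearGroup (Fin 2) K) : Matrix (Fin 2) (Fin 2) K) = -2

section action

variable {A : Type*} [CommGroup A]

/-- quadratic action of an automorphism of an abelian group -/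
def QuadAut (f : MulAut A) : Prop := ∀ v : A, f (f v / v) = f v / v

theorem QuadAut.conj {f : MulAut A} (hf : QuadAut f) (g : MulAut A) : QuadAut (g * f * g⁻¹) := by
  intro v
  have e : ∀ u : A, (g * f * g⁻¹) u = g (f (g⁻¹ u)) := fun u => rfl
  have e2 : g⁻¹ (g (f (g⁻¹ v)) / v) = f (g⁻¹ v) / g⁻¹ v := by
    rw [map_div]
    congr 1
    rw [← MulAut.mul_apply, inv_mul_cancel, MulAut.one_apply]
  rw [e (_ / v), e v, e2, hf, ← e2]
  rw [← MulAut.mul_apply, mul_inv_cancel, MulAut.one_apply]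

theorem QuadAut.pow_apply {f : MulAut A} (hf : QuadAut f) (j : ℕ) (v : A) :
    (f ^ j) v = v * (f v / v) ^ j := by
  induction j with
  | zero => simp
  | succ j ih =>
    rw [pow_succ', MulAut.mul_apply, ih, map_mul, map_pow, hf v, pow_succ]
    have : f v = v * (f v / v) := by rw [mul_div_cancel]
    nth_rewrite 1 [this]
    rw [mul_assoc, mul_comm (f v / v)]

theorem QuadAut.pow {f : MulAut A} (hf : QuadAut f) (j : ℕ) : QuadAut (f ^ j) := by
  intro v
  have h1 : (f ^ j) v / v = (f v / v) ^ j := by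
    rw [hf.pow_apply j v, mul_div_cancel_left]
  have h2 : f (f v / v) / (f v / v) = 1 := by rw [hf v, div_self']
  rw [h1, map_pow, hf.pow_apply j (f v / v), h2, one_pow, mul_one]

end action

section T1

variable {A : Type*} [CommGroup A] [Finite A] {p : ℕ} [hp : Fact p.Prime]

/-- a `2 × 2` matrix of determinant `1` and trace `-2` has the eigenvalue `-1` -/
theorem exists_neg_eigenvector {K : Type*} [Field K] (M : Matrix (Fin 2) (Fin 2) K)
    (hdet : M.det = 1) (htr : M.trace = -2) : ∃ w : Fin 2 → K, w ≠ 0 ∧ M *ᵥ w = -w := by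
  have h0 : (M + 1).det = 0 := by
    rw [Matrix.det_fin_two] at hdet ⊢
    rw [Matrix.trace_fin_two] at htr
    simp only [Matrix.add_apply, Matrix.one_apply_eq, Matrix.one_apply_ne, ne_eq,
      one_ne_zero, zero_ne_one, not_false_eq_true, add_zero]
    linear_combination hdet + htr
  obtain ⟨w, hw0, hw⟩ := Matrix.exists_mulVec_eq_zero_iff.2 h0
  refine ⟨w, hw0, ?_⟩
  rw [Matrix.add_mulVec, Matrix.one_mulVec] at hw
  exact eq_neg_of_add_eq_zero_left hw

/-- **T1.** In a group acting faithfully on an elementary abelian `p`-group, a quadratic element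
outside `O_p` gives two quadratic elements whose product inverts a nontrivial element. -/
theorem exists_quadratic_pair_neg (hD : DicksonPair p) (hA : ∀ v : A, v ^ p = 1)
    {Γ₀ : Type*} [Group Γ₀] (θ : Γ₀ →* MulAut A) (hθ : Function.Injective θ) (a : Γ₀)
    (ha : QuadAut (θ a))
    (hnot : ¬ ∃ N : Subgroup Γ₀, N.Normal ∧ IsPGroup p N ∧ a ∈ N) :
    ∃ x y : Γ₀, QuadAut (θ x) ∧ QuadAut (θ y) ∧ ∃ v : A, v ≠ 1 ∧ θ (x * y) v = v⁻¹ := by
  classical
  have : Finite Γ₀ := Finite.of_injective θ hθ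
  have hap : a ^ p = 1 := by
    apply hθ
    rw [map_pow, map_one]
    ext v
    rw [ha.pow_apply p v, hA, mul_one, MulAut.one_apply]
  have hX0 : IsPGroup p (Subgroup.zpowers a) := by
    rintro ⟨_, k, rfl⟩
    refine ⟨1, ?_⟩
    apply Subtype.ext
    simp only [Subgroup.coe_pow, Subgroup.coe_one, pow_one]
    rw [← zpow_natCast, ← _root_.zpow_mul, mul_comm, _root_.zpow_mul, zpow_natCast, hap,
      _root_.one_zpow]
  have hex : ∃ g : Γ₀, ¬ IsPGroup p ↥(Subgroup.zpowers a ⊔
      (Subgroup.zpowers a).map (MulAut.conj g).toMonoidHom) := by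
    by_contra hall
    push Not at hall
    obtain ⟨N, h1, h2, h3⟩ := Cfsg.Agent.S0199.result (Subgroup.zpowers a) hX0 hall
    exact hnot ⟨N, h1, h2, h3 (Subgroup.mem_zpowers a)⟩
  obtain ⟨g, hg⟩ := hex
  set b : Γ₀ := g * a * g⁻¹ with hb
  set Hg : Subgroup Γ₀ := Subgroup.closure ({a, b} : Set Γ₀) with hHg
  have haH : a ∈ Hg := Subgroup.subset_closure (by simp)
  have hbH : b ∈ Hg := Subgroup.subset_closure (by simp)
  have hnp : ¬ IsPGroup p Hg := by
    intro h
    apply hg
    refine h.to_le (sup_le ?_ ?_)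
    · rw [Subgroup.zpowers_le]; exact haH
    · rw [MonoidHom.map_zpowers, Subgroup.zpowers_le]; exact hbH
  have hgen : Subgroup.closure ({(⟨a, haH⟩ : Hg), ⟨b, hbH⟩} : Set Hg) = ⊤ := by
    have h1 := Subgroup.closure_closure_coe_preimage (k := ({a, b} : Set Γ₀))
    have h2 : ((↑) : Hg → Γ₀) ⁻¹' ({a, b} : Set Γ₀) = ({(⟨a, haH⟩ : Hg), ⟨b, hbH⟩} : Set Hg) := by
      ext z
      simp only [Set.mem_preimage, Set.mem_insert_iff, Set.mem_singleton_iff, Subtype.ext_iff]
    rw [← h2]
    exact h1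
  have hbq : QuadAut (θ b) := by
    rw [hb, map_mul, map_mul, map_inv]
    exact ha.conj (θ g)
  set θ' : Hg →* MulAut A := θ.comp Hg.subtype with hθ'
  have hθ'inj : Function.Injective θ' := hθ.comp Subtype.val_injective
  obtain ⟨K, iF, iFt, iC, φ, hφ, hxp, hyp, heig⟩ :=
    Cfsg.Agent.Helper97.QuadEig.exists_hom_SL2_of_action_eig hA θ' hθ'inj ⟨a, haH⟩ ⟨b, hbH⟩ hgen
      (fun v => ha v) (fun v => hbq v) hnp
  set x₀ : Hg := ⟨a, haH⟩ with hx₀
  set y₀ : Hg := ⟨b, hbH⟩ with hy₀
  set L := φ.range with hL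
  have hrange : L = Subgroup.closure {φ x₀, φ y₀} := by
    rw [hL, MonoidHom.range_eq_map, ← hgen, MonoidHom.map_closure]
    congr 1
    simp only [Set.image_insert_eq, Set.image_singleton]
  have hs1 : φ x₀ ≠ 1 := by
    intro h1
    apply hφ
    rw [hrange, h1]
    have hle : Subgroup.closure ({1, φ y₀} : Set (Matrix.SpecialLinearGroup (Fin 2) K)) ≤
        Subgroup.zpowers (φ y₀) := by
      rw [Subgroup.closure_le]
      rintro z (rfl | rfl)
      · exact Subgroup.one_mem _
      · exact Subgroup.mem_zpowers _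
    have hz : IsPGroup p (Subgroup.zpowers (φ y₀)) := by
      rintro ⟨_, k, rfl⟩
      refine ⟨1, ?_⟩
      apply Subtype.ext
      simp only [Subgroup.coe_pow, Subgroup.coe_one, pow_one]
      rw [← zpow_natCast, ← _root_.zpow_mul, mul_comm, _root_.zpow_mul, zpow_natCast, ← map_pow, hyp,
        map_one, _root_.one_zpow]
    exact hz.to_le hle
  have hsyl : 1 < Nat.card (Sylow p L) := by
    by_contra hle
    have hle' : Nat.card (Sylow p L) ≤ 1 := by omega
    have hsub : Subsingleton (Sylow p L) := (Finite.card_le_one_iff_subsingleton).1 hle'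
    obtain ⟨P⟩ : Nonempty (Sylow p L) := inferInstance
    have hin : ∀ q : L, q ^ p = 1 → q ∈ (P : Subgroup L) := by
      intro q hq
      have hz : IsPGroup p (Subgroup.zpowers q) := by
        rintro ⟨_, k, rfl⟩
        refine ⟨1, ?_⟩
        apply Subtype.ext
        simp only [Subgroup.coe_pow, Subgroup.coe_one, pow_one]
        rw [← zpow_natCast, ← _root_.zpow_mul, mul_comm, _root_.zpow_mul, zpow_natCast, hq,
          _root_.one_zpow]
      obtain ⟨Q, hQ⟩ := hz.exists_le_sylow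
      rw [Subsingleton.elim P Q]
      exact hQ (Subgroup.mem_zpowers q)
    apply hφ
    have htop : (P : Subgroup L) = ⊤ := by
      rw [eq_top_iff]
      have hgenL : Subgroup.closure ({φ.rangeRestrict x₀, φ.rangeRestrict y₀} : Set L) = ⊤ := by
        have h2 : ({φ.rangeRestrict x₀, φ.rangeRestrict y₀} : Set L) =
            φ.rangeRestrict '' ({x₀, y₀} : Set Hg) := by
          simp only [Set.image_insert_eq, Set.image_singleton]
        rw [h2, ← MonoidHom.map_closure, hgen, ← MonoidHom.range_eq_map,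
          MonoidHom.range_eq_top.2 φ.rangeRestrict_surjective]
      rw [← hgenL, Subgroup.closure_le]
      rintro z (rfl | rfl)
      · apply hin
        rw [← map_pow, hxp, map_one]
      · apply hin
        rw [← map_pow, hyp, map_one]
    have : IsPGroup p (P : Subgroup L) := P.2
    rw [htop] at this
    intro q
    obtain ⟨k, hk⟩ := this ⟨q, Subgroup.mem_top q⟩
    refine ⟨k, ?_⟩
    have := congrArg Subtype.val hk
    simpa using this
  obtain ⟨g₁, hg₁, g₂, hg₂, j, htr⟩ := hD K L (φ x₀) ⟨x₀, rfl⟩ (by rw [← map_pow, hxp, map_one])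
    hs1 hsyl
  obtain ⟨h₁, rfl⟩ := hg₁
  obtain ⟨h₂, rfl⟩ := hg₂
  set x : Hg := h₁ * x₀ * h₁⁻¹ with hx
  set y : Hg := (h₂ * x₀ * h₂⁻¹) ^ j with hy
  have hφxy : φ (x * y) = φ h₁ * φ x₀ * (φ h₁)⁻¹ * (φ h₂ * φ x₀ * (φ h₂)⁻¹) ^ j := by
    rw [hx, hy, map_mul, map_mul, map_mul, map_inv, map_pow, map_mul, map_mul, map_inv]
  obtain ⟨w, hw0, hw⟩ := exists_neg_eigenvector
    ((φ (x * y) : Matrix.SpecialLinearGroup (Fin 2) K) : Matrix (Fin 2) (Fin 2) K)
    (φ (x * y)).2 (by rw [hφxy]; exact htr)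
  have hexv : ∃ v : A, v ≠ 1 ∧ θ' (x * y) v = v⁻¹ := by
    by_contra hcon
    push Not at hcon
    apply hw0
    apply heig (x * y) _ w hw
    intro v hv
    by_contra hv1
    exact hcon v hv1 hv
  obtain ⟨v, hv1, hv⟩ := hexv
  refine ⟨(x : Γ₀), (y : Γ₀), ?_, ?_, v, hv1, hv⟩
  · rw [hx]
    simp only [Subgroup.coe_mul, Subgroup.coe_inv, map_mul, map_inv]
    exact ha.conj (θ (h₁ : Γ₀))
  · rw [hy]
    simp only [Subgroup.coe_pow, Subgroup.coe_mul, Subgroup.coe_inv, map_pow, map_mul, map_inv]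
    exact (ha.conj (θ (h₂ : Γ₀))).pow j

end T1

section T2

open Cfsg.Agent.Helper97.QuadPair Cfsg.Agent.Helper97.QdNat
open scoped IsMulCommutative commutatorElement

variable {G : Type*} [Group G] [Finite G] {p : ℕ} [hp : Fact p.Prime]

/-- two quadratic elements whose product inverts an element of `U`: `Qd(p)` is involved
(version with a fixed `ZMod p`-module structure). -/
theorem involves_qd_of_quadratic_pair_aux (hp2 : p ≠ 2) (U : Subgroup G) [U.Normal]
    [hUc : IsMulCommutative U] [Module (ZMod p) (Additive U)] (hUp : ∀ u ∈ U, u ^ p = 1)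
    (x y : G) (hx : QuadAut (MulAut.conjNormal x : MulAut U))
    (hy : QuadAut (MulAut.conjNormal y : MulAut U))
    (hv : ∃ v : U, v ≠ 1 ∧ (MulAut.conjNormal (x * y) : MulAut U) v = v⁻¹) :
    Cfsg.Involves ↥(Cfsg.qd p) G := by
  classical
  have h2 : (2 : ZMod p) ≠ 0 := Cfsg.Agent.Helper97.QdGraph.two_ne_zero_zmod hp2
  set Γ : Subgroup G := Subgroup.closure ({x, y} : Set G) with hΓ
  have hxΓ : x ∈ Γ := Subgroup.subset_closure (by simp)
  have hyΓ : y ∈ Γ := Subgroup.subset_closure (by simp)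
  have hgen : Subgroup.closure ({(⟨x, hxΓ⟩ : Γ), ⟨y, hyΓ⟩} : Set Γ) = ⊤ := by
    have h1 := Subgroup.closure_closure_coe_preimage (k := ({x, y} : Set G))
    have h3 : ((↑) : Γ → G) ⁻¹' ({x, y} : Set G) = ({(⟨x, hxΓ⟩ : Γ), ⟨y, hyΓ⟩} : Set Γ) := by
      ext z
      simp only [Set.mem_preimage, Set.mem_insert_iff, Set.mem_singleton_iff, Subtype.ext_iff]
    rw [← h3]
    exact h1
  let θ : Γ →* MulAut U := (MulAut.conjNormal : G →* MulAut U).comp Γ.subtype
  have hθ : ∀ (γ : Γ) (u : U), ((θ γ u : U) : G) = (γ : G) * u * (γ : G)⁻¹ := fun _ _ => rfl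
  let ρ₀ : Representation (ZMod p) Γ (Additive U) :=
    { toFun := fun γ => AddMonoidHom.toZModLinearMap p (MonoidHom.toAdditive (θ γ).toMonoidHom)
      map_one' := by
        apply LinearMap.ext
        intro v
        obtain ⟨v, rfl⟩ := Additive.ofMul.surjective v
        rw [Module.End.one_apply, AddMonoidHom.coe_toZModLinearMap, map_one]
        rfl
      map_mul' := by
        intro γ δ
        apply LinearMap.ext
        intro v
        obtain ⟨v, rfl⟩ := Additive.ofMul.surjective v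
        rw [Module.End.mul_apply, AddMonoidHom.coe_toZModLinearMap,
          AddMonoidHom.coe_toZModLinearMap, AddMonoidHom.coe_toZModLinearMap, map_mul]
        rfl }
  have hρ₀ : ∀ (γ : Γ) (v : U), ρ₀ γ (Additive.ofMul v) = Additive.ofMul (θ γ v) := fun _ _ => rfl
  have hquad : ∀ z : Γ, QuadAut (θ z) → Quad (ρ₀ z) := by
    intro z hz m
    obtain ⟨v, rfl⟩ := Additive.ofMul.surjective m
    rw [hρ₀, ← ofMul_div, hρ₀, hz v]
  obtain ⟨v, hv1, hv⟩ := hv
  have hw0 : Additive.ofMul v ≠ 0 := by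
    intro h
    apply hv1
    exact Additive.ofMul.injective h
  have hw : ρ₀ ((⟨x, hxΓ⟩ : Γ) * ⟨y, hyΓ⟩) (Additive.ofMul v) = -(Additive.ofMul v) := by
    rw [hρ₀, ← ofMul_inv]
    congr 1
  obtain ⟨φ, N, hN, π, hπs, hπe, hφx, hφy⟩ := exists_natural_section h2 ρ₀ hgen
    (hquad _ (fun u => hx u)) (hquad _ (fun u => hy u)) hw0 hw
  have hφs : Function.Surjective φ :=
    Cfsg.Agent.Helper97.QdSL2.surjective_of_images hp2 φ _ _ hφx hφy
  -- the subgroup `B`
  let B : Subgroup G :=
    { carrier := {g | ∃ h : g ∈ U, Additive.ofMul (⟨g, h⟩ : U) ∈ N}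
      one_mem' := ⟨U.one_mem, by
        have : Additive.ofMul (⟨1, U.one_mem⟩ : U) = 0 := rfl
        rw [this]; exact N.zero_mem⟩
      mul_mem' := by
        rintro g h ⟨hg, hgN⟩ ⟨hh, hhN⟩
        refine ⟨U.mul_mem hg hh, ?_⟩
        have : Additive.ofMul (⟨g * h, U.mul_mem hg hh⟩ : U) =
            Additive.ofMul (⟨g, hg⟩ : U) + Additive.ofMul (⟨h, hh⟩ : U) := rfl
        rw [this]; exact N.add_mem hgN hhN
      inv_mem' := by
        rintro g ⟨hg, hgN⟩
        refine ⟨U.inv_mem hg, ?_⟩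
        have : Additive.ofMul (⟨g⁻¹, U.inv_mem hg⟩ : U) = -Additive.ofMul (⟨g, hg⟩ : U) := rfl
        rw [this]; exact N.neg_mem hgN }
  have hBU : ∀ b : B, (b : G) ∈ U := fun b => b.2.choose
  have hBN : ∀ b : B, Additive.ofMul (⟨(b : G), hBU b⟩ : U) ∈ N := fun b => b.2.choose_spec
  let π' : B → (Fin 2 → ZMod p) := fun b => π ⟨Additive.ofMul (⟨(b : G), hBU b⟩ : U), hBN b⟩
  apply Cfsg.Agent.Helper97.QdGraph.involves_qd_of_natural hp2 B Γ ?_ ?_ ?_ φ hφs π' ?_ ?_ ?_
  · -- `B` is a `p`-group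
    intro b
    refine ⟨1, ?_⟩
    apply Subtype.ext
    rw [pow_one, Subgroup.coe_pow, Subgroup.coe_one]
    exact hUp _ (hBU b)
  · -- `B` is commutative
    intro b hb b' hb'
    obtain ⟨hbU, -⟩ := hb
    obtain ⟨hb'U, -⟩ := hb'
    have := mul_comm (⟨b, hbU⟩ : U) ⟨b', hb'U⟩
    exact congrArg Subtype.val this
  · -- `Γ` normalizes `B`
    rintro γ hγ b ⟨hbU, hbN⟩
    have hc : γ * b * γ⁻¹ ∈ U := ‹U.Normal›.conj_mem b hbU γ
    refine ⟨hc, ?_⟩
    have := hN ⟨γ, hγ⟩ hbN
    rw [Submodule.mem_comap, hρ₀] at this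
    exact this
  · -- `π'` is onto
    intro w
    obtain ⟨⟨n, hn⟩, rfl⟩ := hπs w
    obtain ⟨u, rfl⟩ := Additive.ofMul.surjective n
    exact ⟨⟨(u : G), u.2, hn⟩, rfl⟩
  · -- `π'` is additive
    intro b b'
    show π ⟨Additive.ofMul (⟨((b * b' : B) : G), hBU (b * b')⟩ : U), hBN (b * b')⟩ = _
    have : (⟨Additive.ofMul (⟨((b * b' : B) : G), hBU (b * b')⟩ : U), hBN (b * b')⟩ : N) =
        ⟨Additive.ofMul (⟨(b : G), hBU b⟩ : U), hBN b⟩ +
          ⟨Additive.ofMul (⟨(b' : G), hBU b'⟩ : U), hBN b'⟩ := by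
      apply Subtype.ext
      rfl
    rw [this, map_add]
  · -- equivariance
    intro γ b b' hb'
    have := hπe γ ⟨Additive.ofMul (⟨(b : G), hBU b⟩ : U), hBN b⟩
    show π ⟨Additive.ofMul (⟨(b' : G), hBU b'⟩ : U), hBN b'⟩ = _
    rw [← this]
    congr 1
    apply Subtype.ext
    show Additive.ofMul (⟨(b' : G), hBU b'⟩ : U) = ρ₀ γ (Additive.ofMul (⟨(b : G), hBU b⟩ : U))
    rw [hρ₀]
    congr 1
    apply Subtype.ext
    rw [hθ]
    exact hb'

/-- two quadratic elements whose product inverts an element of `U`: `Qd(p)` is involved -/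
theorem involves_qd_of_quadratic_pair (hp2 : p ≠ 2) (U : Subgroup G) [U.Normal]
    [hUc : IsMulCommutative U] (hUp : ∀ u ∈ U, u ^ p = 1)
    (x y : G) (hx : QuadAut (MulAut.conjNormal x : MulAut U))
    (hy : QuadAut (MulAut.conjNormal y : MulAut U))
    (hv : ∃ v : U, v ≠ 1 ∧ (MulAut.conjNormal (x * y) : MulAut U) v = v⁻¹) :
    Cfsg.Involves ↥(Cfsg.qd p) G := by
  let _ : Module (ZMod p) (Additive U) := AddCommGroup.zmodModule (n := p) (by
    intro v
    obtain ⟨v, rfl⟩ := Additive.ofMul.surjective v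
    rw [← ofMul_pow]
    have : v ^ p = 1 := Subtype.ext (by rw [Subgroup.coe_pow, Subgroup.coe_one]; exact hUp v v.2)
    rw [this]; rfl)
  exact involves_qd_of_quadratic_pair_aux hp2 U hUp x y hx hy hv

end T2

section T2b

open scoped IsMulCommutative commutatorElement
open Cfsg.Agent.Helper64

variable {G : Type*} [Group G] [Finite G] {p : ℕ} [hp : Fact p.Prime]

omit [Finite G] hp in
theorem conjNormal_ker (U : Subgroup G) [U.Normal] :
    (MulAut.conjNormal : G →* MulAut U).ker = Subgroup.centralizer (U : Set G) := by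
  ext g
  rw [MonoidHom.mem_ker, Subgroup.mem_centralizer_iff]
  constructor
  · intro h u hu
    have := congrArg (fun f : MulAut U => ((f ⟨u, hu⟩ : U) : G)) h
    simp only [MulAut.conjNormal_apply, MulAut.one_apply] at this
    calc u * g = (g * u * g⁻¹) * g := by rw [this]
      _ = g * u := by group
  · intro h
    ext u
    rw [MulAut.conjNormal_apply, MulAut.one_apply]
    have := h u u.2
    calc g * u * g⁻¹ = (u * g) * g⁻¹ := by rw [this]
      _ = u := by group

omit [Finite G] hp in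
theorem quadAut_of_commutator (U : Subgroup G) [U.Normal] [IsMulCommutative U] (a : G)
    (ha : ⁅⁅U, Subgroup.zpowers a⁆, Subgroup.zpowers a⁆ = ⊥) :
    QuadAut (MulAut.conjNormal a : MulAut U) := by
  intro v
  apply Subtype.ext
  rw [MulAut.conjNormal_apply, Subgroup.coe_div, MulAut.conjNormal_apply, div_eq_mul_inv]
  exact Cfsg.Agent.Helper97.QuadLin.conj_comm_eq_of_quadratic U a ha v v.2

/-- **T2.** `Qd(p)`-free groups act `p`-stably on normal elementary abelian `p`-subgroups. -/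
theorem isPStableOn_elem_of_qdFree (hp2 : p ≠ 2) (hD : DicksonPair p)
    (hfree : ¬ Cfsg.Involves ↥(Cfsg.qd p) G) (U : Subgroup G) [U.Normal]
    (hUc : ∀ u ∈ U, ∀ v ∈ U, u * v = v * u) (hUp : ∀ u ∈ U, u ^ p = 1) :
    Cfsg.IsPStableOn p U := by
  classical
  have hUc' : IsMulCommutative U := ⟨⟨fun u v => Subtype.ext (hUc u u.2 v v.2)⟩⟩
  intro a ha
  by_contra hnot
  apply hfree
  set ψ : G →* MulAut U := MulAut.conjNormal with hψ
  have hker : ψ.ker = Subgroup.centralizer (U : Set G) := conjNormal_ker U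
  set θ : G ⧸ ψ.ker →* MulAut U := QuotientGroup.kerLift ψ with hθ
  have hinj : Function.Injective θ := QuotientGroup.kerLift_injective ψ
  have hθmk : ∀ g : G, θ (QuotientGroup.mk g) = ψ g := fun g => QuotientGroup.kerLift_mk ψ g
  have haq : QuadAut (θ (QuotientGroup.mk a)) := by
    rw [hθmk]; exact quadAut_of_commutator U a ha
  have hA : ∀ v : U, v ^ p = 1 := fun v =>
    Subtype.ext (by rw [Subgroup.coe_pow, Subgroup.coe_one]; exact hUp v v.2)
  have hnotN : ¬ ∃ N : Subgroup (G ⧸ ψ.ker), N.Normal ∧ IsPGroup p N ∧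
      (QuotientGroup.mk a : G ⧸ ψ.ker) ∈ N := by
    rintro ⟨N, hN1, hN2, hN3⟩
    apply hnot
    rw [mk_mem_pCore_iff]
    refine ⟨N.comap (QuotientGroup.mk' ψ.ker), hN1.comap _, hN3, ?_⟩
    intro t ht
    obtain ⟨k, hk⟩ := hN2 ⟨_, ht⟩
    refine ⟨k, ?_⟩
    have hk' : (QuotientGroup.mk' ψ.ker t) ^ p ^ k = 1 := by
      have := congrArg Subtype.val hk
      simpa using this
    rw [← map_pow, QuotientGroup.mk'_apply, QuotientGroup.eq_one_iff, hker] at hk'
    exact hk'
  obtain ⟨xb, yb, hxq, hyq, v, hv1, hv⟩ :=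
    exists_quadratic_pair_neg hD hA θ hinj (QuotientGroup.mk a) haq hnotN
  obtain ⟨x, rfl⟩ := QuotientGroup.mk_surjective xb
  obtain ⟨y, rfl⟩ := QuotientGroup.mk_surjective yb
  rw [hθmk] at hxq hyq
  rw [← QuotientGroup.mk_mul, hθmk] at hv
  exact involves_qd_of_quadratic_pair hp2 U hUp x y hxq hyq ⟨v, hv1, hv⟩

end T2b

section T3

open scoped commutatorElement
open Cfsg.Agent.Helper64 Subgroup

universe u

variable {p : ℕ} [hp : Fact p.Prime]

/-- **T3.** `Qd(p)`-free groups act `p`-stably on all normal `p`-subgroups (`p` odd). -/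
theorem isPStableOn_of_qdFree_aux (hp2 : p ≠ 2) (hD : DicksonPair p) :
    ∀ (n : ℕ) (G : Type u) [Group G] [Finite G], ¬ Cfsg.Involves ↥(Cfsg.qd p) G →
      ∀ (V : Subgroup G) (hVn : V.Normal), Nat.card V = n → IsPGroup p V →
        @Cfsg.IsPStableOn G _ p V hVn := by
  intro n
  induction n using Nat.strong_induction_on with
  | _ n ih =>
  intro G _ _ hfree V hVn hcard hV
  -- elementary abelian case
  by_cases hel : (∀ u ∈ V, ∀ v ∈ V, u * v = v * u) ∧ (∀ u ∈ V, u ^ p = 1)
  · exact isPStableOn_elem_of_qdFree hp2 hD hfree V hel.1 hel.2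
  -- a normal subgroup `1 < V₁ < V`
  have hex : ∃ V₁ : Subgroup G, V₁.Normal ∧ V₁ < V ∧ V₁ ≠ ⊥ := by
    by_cases hc : ∀ u ∈ V, ∀ v ∈ V, u * v = v * u
    · -- abelian, not of exponent `p`
      have hne : ¬ ∀ u ∈ V, u ^ p = 1 := fun h => hel ⟨hc, h⟩
      push Not at hne
      obtain ⟨u₀, hu₀V, hu₀⟩ := hne
      let Ω : Subgroup G :=
        { carrier := {v | v ∈ V ∧ v ^ p = 1}
          one_mem' := ⟨V.one_mem, one_pow p⟩
          mul_mem' := by
            rintro a b ⟨ha, hap⟩ ⟨hb, hbp⟩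
            refine ⟨V.mul_mem ha hb, ?_⟩
            rw [(show Commute a b from hc a ha b hb).mul_pow, hap, hbp, one_mul]
          inv_mem' := by
            rintro a ⟨ha, hap⟩
            exact ⟨V.inv_mem ha, by rw [inv_pow, hap, inv_one]⟩ }
      refine ⟨Ω, ⟨?_⟩, ?_, ?_⟩
      · rintro v ⟨hv, hvp⟩ g
        refine ⟨hVn.conj_mem v hv g, ?_⟩
        rw [conj_pow, hvp, mul_one, mul_inv_cancel]
      · refine lt_of_le_of_ne (fun v hv => hv.1) ?_
        intro h
        have : u₀ ∈ Ω := by rw [h]; exact hu₀V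
        exact hu₀ this.2
      · intro hbot
        have hVne : Nontrivial V := by
          refine ⟨⟨⟨u₀, hu₀V⟩, 1, ?_⟩⟩
          intro h
          apply hu₀
          have : u₀ = 1 := congrArg Subtype.val h
          rw [this, one_pow]
        have hpdvd : p ∣ Nat.card V := by
          obtain ⟨e, he⟩ := IsPGroup.iff_card.mp hV
          have he0 : e ≠ 0 := by
            rintro rfl
            rw [pow_zero] at he
            have := Finite.one_lt_card (α := V)
            omega
          rw [he]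
          exact dvd_pow_self p he0
        obtain ⟨w, hw⟩ := exists_prime_orderOf_dvd_card' (G := V) p hpdvd
        have hwΩ : (w : G) ∈ Ω := by
          refine ⟨w.2, ?_⟩
          have : w ^ p = 1 := by rw [← hw]; exact pow_orderOf_eq_one w
          have := congrArg Subtype.val this
          simpa using this
        rw [hbot, Subgroup.mem_bot] at hwΩ
        have hw1 : w = 1 := Subtype.ext hwΩ
        rw [hw1, orderOf_one] at hw
        exact hp.out.one_lt.ne hw
    · -- nonabelian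
      refine ⟨⁅V, V⁆, inferInstance, ?_, ?_⟩
      · refine lt_of_le_of_ne (Subgroup.commutator_le_left V V) ?_
        have : Group.IsNilpotent V := hV.isNilpotent
        have hVb : V ≠ ⊥ := by
          rintro rfl
          apply hc
          intro u hu v hv
          rw [Subgroup.mem_bot] at hu hv
          rw [hu, hv]
        exact commutator_ne_self_of_isNilpotent V V le_rfl hVb
      · intro hbot
        apply hc
        intro u hu v hv
        have : ⁅u, v⁆ ∈ ⁅V, V⁆ := Subgroup.commutator_mem_commutator hu hv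
        rw [hbot, Subgroup.mem_bot, commutatorElement_eq_one_iff_mul_comm] at this
        exact this
  obtain ⟨V₁, hV₁n, hV₁lt, hV₁b⟩ := hex
  intro a hq
  rw [mk_mem_pCore_iff]
  have hV₁p : IsPGroup p V₁ := hV.to_le hV₁lt.le
  have hcardlt : Nat.card V₁ < n := by
    rw [← hcard]
    exact Cfsg.Agent.Lib.ZJ.card_lt_of_lt hV₁lt
  -- induction hypothesis on `V₁`
  have hq₁ : ⁅⁅V₁, zpowers a⁆, zpowers a⁆ = ⊥ := by
    rw [eq_bot_iff, ← hq]
    exact Subgroup.commutator_mono (Subgroup.commutator_mono hV₁lt.le le_rfl) le_rfl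
  have h₁ := ih _ hcardlt G hfree V₁ hV₁n rfl hV₁p a hq₁
  rw [mk_mem_pCore_iff] at h₁
  obtain ⟨T₁, hT₁n, haT₁, hT₁⟩ := h₁
  -- the quotient by `V₁`
  set π := QuotientGroup.mk' V₁ with hπ
  have hπs : Function.Surjective π := QuotientGroup.mk'_surjective V₁
  have hker : ∀ x : G, π x = 1 ↔ x ∈ V₁ := fun x => by
    rw [hπ, QuotientGroup.mk'_apply, QuotientGroup.eq_one_iff]
  set U := V.map π with hU
  have hUn : U.Normal := Subgroup.Normal.map hVn _ hπs
  have hUp : IsPGroup p U := hV.map π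
  have hUcard : Nat.card U < n := by
    classical
    have hsurj := MonoidHom.subgroupMap_surjective π V
    have hninj : ¬ Function.Injective (π.subgroupMap V) := by
      intro hinj
      apply hV₁b
      rw [eq_bot_iff]
      intro x hx
      have hxV : x ∈ V := hV₁lt.le hx
      have h1 : π.subgroupMap V ⟨x, hxV⟩ = π.subgroupMap V 1 := by
        apply Subtype.ext
        rw [map_one]
        show π x = 1
        exact (hker x).2 hx
      have := hinj h1
      rw [Subgroup.mem_bot]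
      exact congrArg Subtype.val this
    have := Fintype.ofFinite V
    have := Fintype.ofFinite U
    have h := Fintype.card_lt_of_surjective_not_injective _ hsurj hninj
    rw [← Nat.card_eq_fintype_card, ← Nat.card_eq_fintype_card, hcard] at h
    exact h
  have hfree' : ¬ Cfsg.Involves ↥(Cfsg.qd p) (G ⧸ V₁) := fun h =>
    hfree (Cfsg.Agent.Helper37.involves_of_involves_quotient V₁ h)
  have hq' : ⁅⁅U, zpowers (π a)⁆, zpowers (π a)⁆ = ⊥ := by
    rw [hU, ← MonoidHom.map_zpowers, ← Subgroup.map_commutator, ← Subgroup.map_commutator, hq,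
      Subgroup.map_bot]
  have h₂ := ih _ hUcard (G ⧸ V₁) hfree' U hUn rfl hUp (π a) hq'
  rw [mk_mem_pCore_iff] at h₂
  obtain ⟨T₂, hT₂n, haT₂, hT₂⟩ := h₂
  -- assemble
  obtain ⟨e, he⟩ := IsPGroup.iff_card.mp hV
  refine ⟨T₁ ⊓ T₂.comap π, ?_, ⟨haT₁, haT₂⟩, ?_⟩
  · have := hT₂n.comap π
    infer_instance
  · rintro t ⟨ht₁, ht₂⟩
    obtain ⟨k₁, hk₁⟩ := hT₁ t ht₁
    obtain ⟨k₂, hk₂⟩ := hT₂ (π t) ht₂
    set s := t ^ (p ^ (k₁ + k₂)) with hs
    have hs₁ : s ∈ centralizer (V₁ : Set G) := by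
      rw [hs, pow_add, pow_mul]
      exact Subgroup.pow_mem _ hk₁ _
    have hs₂ : π s ∈ centralizer (U : Set (G ⧸ V₁)) := by
      rw [hs, pow_add, pow_mul', map_pow, map_pow]
      exact Subgroup.pow_mem _ hk₂ _
    have hzs₁ : zpowers s ≤ centralizer (V₁ : Set G) := by
      rw [Subgroup.zpowers_le]; exact hs₁
    have hzs₂ : (zpowers s).map π ≤ centralizer (U : Set (G ⧸ V₁)) := by
      rw [MonoidHom.map_zpowers, Subgroup.zpowers_le]; exact hs₂
    have hqs : ⁅⁅V, zpowers s⁆, zpowers s⁆ = ⊥ := by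
      have h1 : ⁅V, zpowers s⁆ ≤ V₁ := by
        rw [Subgroup.commutator_le]
        intro v hv z hz
        rw [← hker, map_commutatorElement]
        have hz' : π z ∈ centralizer (U : Set (G ⧸ V₁)) := hzs₂ ⟨z, hz, rfl⟩
        rw [mem_centralizer_iff] at hz'
        have := hz' (π v) ⟨v, hv, rfl⟩
        rw [commutatorElement_eq_one_iff_mul_comm]
        exact this
      have h2 : ⁅V₁, zpowers s⁆ = ⊥ := by
        rw [Subgroup.commutator_eq_bot_iff_le_centralizer, Subgroup.le_centralizer_iff]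
        exact hzs₁
      rw [eq_bot_iff, ← h2]
      exact Subgroup.commutator_mono h1 le_rfl
    have hfin := Cfsg.Agent.Lib.ZJ.quadratic_pow_card_mem_centralizer hqs
    rw [he] at hfin
    refine ⟨k₁ + k₂ + e, ?_⟩
    rw [pow_add, pow_mul]
    exact hfin

/-- **Glauberman.** In a `Qd(p)`-free group (`p` odd) the action on every normal `p`-subgroup is
`p`-stable. -/
theorem isPStableOn_of_qdFree (hp2 : p ≠ 2) (hD : DicksonPair p) {G : Type u} [Group G] [Finite G]
    (hfree : ¬ Cfsg.Involves ↥(Cfsg.qd p) G) (V : Subgroup G) [hVn : V.Normal]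
    (hV : IsPGroup p V) : Cfsg.IsPStableOn p V :=
  isPStableOn_of_qdFree_aux hp2 hD _ G hfree V hVn rfl hV

end T3

end Cfsg.Agent.Helper97.QdCore
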