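import Mathlib
import Cfsg.Prelude.Def_KGroupFacts
import Cfsg.Prelude.Def_Classical
import Cfsg.Agent.Helper96.UceCover
import Cfsg.Agent.Helper5.SpPerfect
import Cfsg.Agent.S0246

/-!
helper97 (for helper96, WANTED #7317 (Mult), S2092): the Schur multiplier of `PSp_{2m}(F)` from the
central closedness of `Sp_{2m}(F)`.
-/

set_option autoImplicit false
set_option linter.unusedSectionVars false
set_option linter.unusedVariables false

namespace Cfsg.Agent.Helper97.StCMult

open Matrix

universe u

/-- `Sp_{2m}(F)` is perfect for `m ≥ 2`, except `Sp_4(2)`. -/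
theorem commutator_sp_eq_top {F : Type u} [Field F] [Fintype F] (m : ℕ) (hm : 2 ≤ m)
    (h2 : m = 2 → 3 ≤ Fintype.card F) :
    commutator (Matrix.symplecticGroup (Fin m) F) = ⊤ := by
  classical
  rcases Nat.lt_or_ge m 3 with hlt | hge
  · have hm2 : m = 2 := by omega
    have hq := h2 hm2
    by_cases h20 : (2 : F) = 0
    · -- characteristic two, `q ≥ 4`: there is `a ≠ 0, 1`, and then `a ^ 2 ≠ 1`
      apply Cfsg.Agent.Helper5.commutator_sp_eq_top_of_exists
      have hex : ∃ a : F, a ≠ 0 ∧ a ≠ 1 := by
        by_contra hno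
        push Not at hno
        have hsub : (Finset.univ : Finset F) ⊆ {0, 1} := by
          intro a _
          by_cases ha : a = 0
          · simp [ha]
          · simp [hno a ha]
        have := Finset.card_le_card hsub
        have h2' : ({0, 1} : Finset F).card ≤ 2 := Finset.card_le_two
        rw [Finset.card_univ] at this
        omega
      obtain ⟨a, ha0, ha1⟩ := hex
      refine ⟨a, ha0, ?_⟩
      intro hsq
      apply ha1
      have h : (a - 1) ^ 2 = 0 := by
        have : (a - 1) ^ 2 = a ^ 2 - 2 * a + 1 := by ring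
        rw [this, hsq, h20]; ring_nf
        have h11 : (1 : F) + 1 = 0 := by rw [← h20]; norm_num
        linear_combination h11
      have := pow_eq_zero_iff (two_ne_zero) |>.1 h
      exact sub_eq_zero.1 this
    · exact Cfsg.Agent.Helper5.commutator_sp_eq_top_of_two_le hm h20
  · exact Cfsg.Agent.Helper5.commutator_sp_eq_top_of_three_le hge

theorem card_center_sp {F : Type u} [Field F] [Fintype F] (m : ℕ) (hm : 1 ≤ m) :
    Nat.card (Subgroup.center (Matrix.symplecticGroup (Fin m) F)) =
      Nat.gcd 2 (Fintype.card F - 1) :=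
  Cfsg.Agent.S0246.result rfl m hm

theorem isCyclic_center_sp {F : Type u} [Field F] [Fintype F] (m : ℕ) (hm : 1 ≤ m) :
    IsCyclic (Subgroup.center (Matrix.symplecticGroup (Fin m) F)) := by
  have hcard := card_center_sp (F := F) m hm
  have hle : Nat.gcd 2 (Fintype.card F - 1) ∣ 2 := Nat.gcd_dvd_left _ _
  have h12 : Nat.gcd 2 (Fintype.card F - 1) = 1 ∨ Nat.gcd 2 (Fintype.card F - 1) = 2 :=
    (Nat.dvd_prime Nat.prime_two).1 hle
  rcases h12 with h1 | h2
  · rw [h1] at hcard
    have : Subsingleton (Subgroup.center (Matrix.symplecticGroup (Fin m) F)) :=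
      (Nat.card_eq_one_iff_unique.1 hcard).1
    exact isCyclic_of_subsingleton
  · rw [h2] at hcard
    have : Fact (Nat.Prime 2) := ⟨Nat.prime_two⟩
    exact isCyclic_of_prime_card hcard

theorem psp_multiplier_of_section {F : Type u} [Field F] [Fintype F] (m : ℕ) (hm : 2 ≤ m)
    (h2 : m = 2 → 3 ≤ Fintype.card F)
    (hsec : ∀ (E : Type u) [Group E] (p : E →* Matrix.symplecticGroup (Fin m) F),
      Function.Surjective p → p.ker ≤ Subgroup.center E →
      ∃ s : Matrix.symplecticGroup (Fin m) F →* E, p.comp s = MonoidHom.id _) :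
    Cfsg.HasCyclicSchurMultiplier (Cfsg.PSp m F) (Nat.gcd 2 (Fintype.card F - 1)) := by
  classical
  have : NeZero (Nat.gcd 2 (Fintype.card F - 1)) :=
    ⟨(Nat.gcd_pos_of_pos_left _ (by omega)).ne'⟩
  have : Finite (Matrix.symplecticGroup (Fin m) F) :=
    Finite.of_injective (fun g : Matrix.symplecticGroup (Fin m) F =>
      (g : Matrix (Fin m ⊕ Fin m) (Fin m ⊕ Fin m) F)) Subtype.val_injective
  have hker : (QuotientGroup.mk' (Subgroup.center (Matrix.symplecticGroup (Fin m) F))).ker =
      Subgroup.center (Matrix.symplecticGroup (Fin m) F) := QuotientGroup.ker_mk' _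
  refine Cfsg.Agent.Helper96.UceCover.hasCyclicSchurMultiplier_of_universal
    (QuotientGroup.mk' (Subgroup.center (Matrix.symplecticGroup (Fin m) F)))
    (QuotientGroup.mk'_surjective _) (by rw [hker]) ?_ _ ?_ ?_ hsec
  · exact commutator_sp_eq_top m hm h2
  · rw [hker]; exact isCyclic_center_sp m (by omega)
  · rw [hker]; exact card_center_sp m (by omega)

end Cfsg.Agent.Helper97.StCMult
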