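import Mathlib

/-! (NORM) for helper61's S3616 farm (#9918): a permutation of `ZMod p` normalising the translation
group is affine. -/

set_option autoImplicit false

namespace Cfsg.Agent.Helper97.Psl

open Equiv MulAction

variable {p : ℕ} [Fact p.Prime]

/-- (NORM) the normaliser of the translation group consists of affine maps. -/
theorem affine_of_normalizes (g : Perm (ZMod p))
    (h : g * (Equiv.addRight (1 : ZMod p)) * g⁻¹ ∈
      Subgroup.zpowers (Equiv.addRight (1 : ZMod p) : Perm (ZMod p))) :
    ∃ a b : ZMod p, ∀ x, g x = a * x + b := by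
  obtain ⟨m, hm⟩ := Subgroup.mem_zpowers_iff.mp h
  -- `τ ^ m = addRight m`
  have hpow : ∀ n : ℕ, ((Equiv.addRight (1 : ZMod p) : Perm (ZMod p)) ^ n) =
      Equiv.addRight ((n : ZMod p)) := by
    intro n
    induction n with
    | zero =>
      ext x
      simp
    | succ n ih =>
      rw [pow_succ, ih]
      ext x
      simp only [Equiv.Perm.coe_mul, Function.comp_apply, Equiv.coe_addRight, Nat.cast_succ]
      ring
  have hzpow : ((Equiv.addRight (1 : ZMod p) : Perm (ZMod p)) ^ m) =
      Equiv.addRight ((m : ZMod p)) := by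
    obtain ⟨n, rfl | rfl⟩ := m.eq_nat_or_neg
    · rw [zpow_natCast, hpow]
      simp
    · rw [zpow_neg, zpow_natCast, hpow]
      ext x
      simp [Equiv.Perm.inv_def]
  -- `g (x + 1) = g x + m`
  have hstep : ∀ x : ZMod p, g (x + 1) = g x + (m : ZMod p) := by
    intro x
    have h1 : g * (Equiv.addRight (1 : ZMod p)) = (Equiv.addRight ((m : ZMod p))) * g := by
      rw [← hzpow, hm]
      simp [mul_assoc]
    have h2 := congrArg (fun σ : Perm (ZMod p) => σ x) h1
    simpa using h2
  refine ⟨(m : ZMod p), g 0, ?_⟩
  have hnat : ∀ n : ℕ, g (n : ZMod p) = (m : ZMod p) * n + g 0 := by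
    intro n
    induction n with
    | zero => simp
    | succ n ih =>
      push_cast
      rw [hstep, ih]
      ring
  intro x
  have := hnat x.val
  rwa [ZMod.natCast_zmod_val] at this

end Cfsg.Agent.Helper97.Psl
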