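import Cfsg.Agent.Helper95.SzOrd.Defs

/-!
# Suzuki order theorem farm (helper95), piece (BOD): odd orders (helper97)
-/

set_option autoImplicit false

namespace Cfsg.Agent.Helper97.SzOrd

open MulAction Cfsg.Agent.Helper95.SzOrd

variable {G Ω : Type*} [Group G] [Fintype G] [MulAction G Ω] [Fintype Ω]

section B

variable {a b : Ω} {Q : Subgroup G} {q n : ℕ}

/-- `|Ω|` is odd. -/
theorem BOD_odd_card (F : ZTFacts a b Q q n) : Odd (Fintype.card Ω) := by
  have h1 := F.card_Ω
  rw [Nat.card_eq_fintype_card] at h1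
  rw [h1]
  have hq : Even q := by
    rw [F.hq]
    exact (Nat.even_pow' (by have := F.hn; omega)).2 even_two
  have hQ : Even (Nat.card Q) := by
    rcases F.card_Q with h | h <;> rw [h]
    · exact (Nat.even_pow' (by norm_num)).2 hq
    · exact (Nat.even_pow' (by norm_num)).2 hq
  exact hQ.add_one

/-- only the identity fixes three points -/
theorem BOD_three (F : ZTFacts a b Q q n) (g : G) (c₁ c₂ c₃ : Ω) (h12 : c₁ ≠ c₂) (h23 : c₂ ≠ c₃)
    (h13 : c₁ ≠ c₃) (h1 : g • c₁ = c₁) (h2 : g • c₂ = c₂) (h3 : g • c₃ = c₃) : g = 1 :=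
  F.zt.hZ.2.2.1 g c₁ c₂ c₃ h12 h23 h13 h1 h2 h3

/-- an involution fixes exactly one point -/
theorem BOD_invol_fix (F : ZTFacts a b Q q n) (t : G) (ht : orderOf t = 2) :
    ∃ c : Ω, t • c = c ∧ ∀ c' : Ω, t • c' = c' → c' = c := by
  classical
  have htt : t * t = 1 := by
    rw [← pow_two, ← ht]; exact pow_orderOf_eq_one t
  have ht1 : t ≠ 1 := by
    rintro rfl
    rw [orderOf_one] at ht
    omega
  have : Fact (Nat.Prime 2) := ⟨Nat.prime_two⟩
  have hσ : (MulAction.toPerm t : Equiv.Perm Ω) ^ 2 ^ 1 = 1 := by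
    ext c
    simp [pow_two, ← mul_smul, htt]
  have hmod := Equiv.Perm.card_compl_support_modEq hσ
  have hmem : ∀ c : Ω, c ∈ (MulAction.toPerm t : Equiv.Perm Ω).supportᶜ ↔ t • c = c := by
    intro c
    simp [Equiv.Perm.mem_support]
  have hodd := BOD_odd_card F
  have hle : ((MulAction.toPerm t : Equiv.Perm Ω).supportᶜ).card ≤ 2 := by
    by_contra hcon
    push Not at hcon
    rw [Finset.two_lt_card] at hcon
    obtain ⟨c₁, h1, c₂, h2, c₃, h3, h12, h13, h23⟩ := hcon
    rw [hmem] at h1 h2 h3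
    exact ht1 (BOD_three F t c₁ c₂ c₃ h12 h23 h13 h1 h2 h3)
  have hone : ((MulAction.toPerm t : Equiv.Perm Ω).supportᶜ).card = 1 := by
    unfold Nat.ModEq at hmod
    rcases hodd with ⟨k, hk⟩
    omega
  rw [Finset.card_eq_one] at hone
  obtain ⟨c, hc⟩ := hone
  refine ⟨c, (hmem c).1 (by rw [hc]; exact Finset.mem_singleton_self c), fun c' hc' => ?_⟩
  have := (hmem c').2 hc'
  rw [hc, Finset.mem_singleton] at this
  exact this

/-- (BOD 1) fixed-point-free elements have odd order -/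
theorem BOD_one (F : ZTFacts a b Q q n) (u : G) (hu : IsFpf Ω u) : Odd (orderOf u) := by
  by_contra hodd
  rw [Nat.not_odd_iff_even] at hodd
  obtain ⟨j, hj⟩ := hodd
  have hpos : 0 < orderOf u := orderOf_pos u
  have hj0 : 0 < j := by omega
  have ht : orderOf (u ^ j) = 2 := by
    refine orderOf_eq_prime ?_ ?_
    · have h2 : j * 2 = orderOf u := by omega
      rw [← pow_mul, h2]
      exact pow_orderOf_eq_one u
    · exact pow_ne_one_of_lt_orderOf hj0.ne' (by omega)
  obtain ⟨c, hc, huniq⟩ := BOD_invol_fix F (u ^ j) ht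
  have hcomm : (u ^ j) • (u • c) = u • c := by
    rw [← mul_smul, ← pow_succ, pow_succ', mul_smul, hc]
  exact hu c (huniq _ hcomm)

/-- (BOD 2) non-identity elements of the centraliser of a fixed-point-free element are
fixed-point-free -/
theorem BOD_two (F : ZTFacts a b Q q n) (u : G) (hu : IsFpf Ω u) (g : G)
    (hg : g ∈ Subgroup.centralizer ({u} : Set G)) (hg1 : g ≠ 1) : IsFpf Ω g := by
  intro c hc
  have hcomm : g * u = u * g :=
    (Subgroup.mem_centralizer_iff.1 hg u (Set.mem_singleton u)).symm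
  have hfix : ∀ c' : Ω, g • c' = c' → g • (u • c') = u • c' := by
    intro c' hc'
    rw [← mul_smul, hcomm, mul_smul, hc']
  have h1 : u • c ≠ c := hu c
  have h2 : g • (u • c) = u • c := hfix c hc
  have h3 : g • (u • (u • c)) = u • (u • c) := hfix _ h2
  have h4 : u • (u • c) ≠ u • c := hu _
  have h5 : u • (u • c) = c := by
    by_contra h5
    exact hg1 (BOD_three F g c (u • c) (u • (u • c)) (Ne.symm h1) (Ne.symm h4) (Ne.symm h5)
      hc h2 h3)
  obtain ⟨k, hk⟩ := BOD_one F u hu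
  have h6 : (u ^ 2) • c = c := by rw [pow_two, mul_smul]; exact h5
  have h7 : ∀ m : ℕ, ((u ^ 2) ^ m) • c = c := by
    intro m
    induction m with
    | zero => simp
    | succ m ih => rw [pow_succ, mul_smul, h6, ih]
  have h8 : (u ^ 2) ^ (k + 1) = u := by
    rw [← pow_mul]
    have : 2 * (k + 1) = orderOf u + 1 := by omega
    rw [this, pow_succ, pow_orderOf_eq_one, one_mul]
  have h9 := h7 (k + 1)
  rw [h8] at h9
  exact hu c h9

/-- an element of odd order does not fix exactly one point -/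
theorem BOD_not_fixOne (F : ZTFacts a b Q q n) (g : G) (hodd : Odd (orderOf g)) :
    ¬ FixOne Ω g := by
  rintro ⟨hg1, c, hc, huniq⟩
  have h2t : IsMultiplyPretransitive G Ω 2 := F.zt.hZ.2.1
  have : IsPretransitive G Ω := isPretransitive_of_is_two_pretransitive (h2 := h2t)
  obtain ⟨h, hh⟩ := exists_smul_eq G c a
  obtain ⟨g', hg'⟩ : ∃ g', g' = h * g * h⁻¹ := ⟨_, rfl⟩
  have hg'a : g' • a = a := by
    rw [hg', mul_smul, mul_smul, ← hh, inv_smul_smul, hc]
  have hg'uniq : ∀ c', g' • c' = c' → c' = a := by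
    intro c' hc'
    have h1 : g • (h⁻¹ • c') = h⁻¹ • c' := by
      have h2 := congrArg (h⁻¹ • ·) hc'
      simpa [hg', mul_smul] using h2
    have h3 := huniq _ h1
    rw [← hh, ← h3, smul_inv_smul]
  have hg'1 : g' ≠ 1 := by
    intro h1
    apply hg1
    have h2 := congrArg (fun x => h⁻¹ * x * h) h1
    simpa [hg', mul_assoc] using h2
  have hodd' : Odd (orderOf g') := by
    have : orderOf g' = orderOf g := by
      rw [hg']
      exact orderOf_injective (MulAut.conj h).toMonoidHom (MulAut.conj h).injective g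
    rw [this]; exact hodd
  obtain ⟨u, hu, k, hk, huk⟩ := F.stab_eq g' (mem_stabilizer_iff.2 hg'a)
  by_cases hk1 : k = 1
  · subst hk1
    rw [mul_one] at huk
    have h4 := F.pow_four u hu
    rw [← huk] at h4
    have hdvd : orderOf g' ∣ 4 := orderOf_dvd_of_pow_eq_one h4
    have hcop : Nat.Coprime (orderOf g') 4 := by
      have h2 : Nat.Coprime (orderOf g') 2 := (Nat.coprime_two_right).2 hodd'
      exact Nat.Coprime.pow_right 2 h2
    have h1 : orderOf g' = 1 := Nat.Coprime.eq_one_of_dvd hcop hdvd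
    exact hg'1 (orderOf_eq_one_iff.1 h1)
  · have hka : k ∈ stabilizer G a := (Subgroup.mem_inf.1 hk).1
    have hkb : k • b = b := (Subgroup.mem_inf.1 hk).2
    have hkQ : ∀ v ∈ Q, k * v * k⁻¹ ∈ Q := fun v hv => F.zt.Qnorm k hka v hv
    let ψ : Q → Q := fun v => ⟨v * (k * (v : G)⁻¹ * k⁻¹), Q.mul_mem v.2 (hkQ _ (Q.inv_mem v.2))⟩
    have hψinj : Function.Injective ψ := by
      intro v v' hvv'
      have h1 : (v : G) * (k * (v : G)⁻¹ * k⁻¹) = v' * (k * (v' : G)⁻¹ * k⁻¹) :=
        congrArg Subtype.val hvv'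
      have h1' : (v : G) * k * (v : G)⁻¹ = v' * k * (v' : G)⁻¹ := by
        have h0 := congrArg (· * k) h1
        simpa [mul_assoc] using h0
      have h2 : k * ((v' : G)⁻¹ * v) * k⁻¹ = (v' : G)⁻¹ * v := by
        calc k * ((v' : G)⁻¹ * v) * k⁻¹
            = (v' : G)⁻¹ * ((v' : G) * k * (v' : G)⁻¹) * v * k⁻¹ := by group
          _ = (v' : G)⁻¹ * ((v : G) * k * (v : G)⁻¹) * v * k⁻¹ := by rw [h1']
          _ = (v' : G)⁻¹ * v := by group
      have h3 := F.K_fpf k hk hk1 _ (Q.mul_mem (Q.inv_mem v'.2) v.2) h2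
      apply Subtype.ext
      have h4 : (v : G) = v' * ((v' : G)⁻¹ * v) := by group
      rw [h4, h3, mul_one]
    have hψsurj := Finite.injective_iff_surjective.1 hψinj
    obtain ⟨v, hv⟩ := hψsurj ⟨u, hu⟩
    have hv' : (v : G) * (k * (v : G)⁻¹ * k⁻¹) = u := congrArg Subtype.val hv
    have hfix : g' • ((v : G) • b) = (v : G) • b := by
      rw [huk, ← hv']
      calc ((v : G) * (k * (v : G)⁻¹ * k⁻¹) * k) • ((v : G) • b) = ((v : G) * k) • b := by
            rw [← mul_smul]; congr 1; group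
        _ = (v : G) • b := by rw [mul_smul, hkb]
    have h5 := hg'uniq _ hfix
    have hva : (v : G) • a = a := F.zt.Qle v.2
    have h6 : b = a := by
      have h7 : (v : G) • b = (v : G) • a := by rw [h5, hva]
      exact MulAction.injective (v : G) h7
    exact F.hab h6.symm

/-- (BOD 3) products of two involutions with different fixed points -/
theorem BOD_prod (F : ZTFacts a b Q q n) (s t : G) (hs : orderOf s = 2) (ht : orderOf t = 2)
    (hst : ∀ c : Ω, s • c = c → t • c ≠ c) :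
    s * t ≠ 1 ∧ Odd (orderOf (s * t)) ∧ (IsFpf Ω (s * t) ∨ FixTwo Ω (s * t)) := by
  have hss : s * s = 1 := by rw [← pow_two, ← hs]; exact pow_orderOf_eq_one s
  have htt : t * t = 1 := by rw [← pow_two, ← ht]; exact pow_orderOf_eq_one t
  have hsinv : s⁻¹ = s := inv_eq_of_mul_eq_one_left hss
  have htinv : t⁻¹ = t := inv_eq_of_mul_eq_one_left htt
  obtain ⟨cs, hcs, hsuniq⟩ := BOD_invol_fix F s hs
  obtain ⟨ct, hct, htuniq⟩ := BOD_invol_fix F t ht
  have hne : cs ≠ ct := by
    intro h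
    exact hst cs hcs (h ▸ hct)
  have hst1 : s * t ≠ 1 := by
    intro h
    have h1 : t = s := by
      have := eq_inv_of_mul_eq_one_right h
      rw [this, hsinv]
    exact hst cs hcs (h1 ▸ hcs)
  have hodd : Odd (orderOf (s * t)) := by
    by_contra hodd
    rw [Nat.not_odd_iff_even] at hodd
    obtain ⟨j, hj⟩ := hodd
    have hpos : 0 < orderOf (s * t) := orderOf_pos _
    have hj0 : 0 < j := by omega
    obtain ⟨z, hz⟩ : ∃ z, z = (s * t) ^ j := ⟨_, rfl⟩
    have hzz : z * z = 1 := by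
      have h2 : j * 2 = orderOf (s * t) := by omega
      rw [hz, ← pow_two, ← pow_mul, h2]
      exact pow_orderOf_eq_one _
    have hz1 : z ≠ 1 := hz ▸ pow_ne_one_of_lt_orderOf hj0.ne' (by omega)
    have hzo : orderOf z = 2 := orderOf_eq_prime (by rw [pow_two]; exact hzz) hz1
    have hzinv : z⁻¹ = z := inv_eq_of_mul_eq_one_left hzz
    have hinv : (s * t)⁻¹ = t * s := by rw [mul_inv_rev, hsinv, htinv]
    have hsz : s * z = z * s := by
      have h1 : s * z * s⁻¹ = z⁻¹ := by
        rw [hz, ← conj_pow, ← inv_pow, hinv]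
        congr 1
        rw [hsinv, mul_assoc, mul_assoc, ← mul_assoc s s, hss, one_mul]
      rw [hzinv] at h1
      exact mul_inv_eq_iff_eq_mul.1 h1
    have htz : t * z = z * t := by
      have h1 : t * z * t⁻¹ = z⁻¹ := by
        rw [hz, ← conj_pow, ← inv_pow, hinv]
        congr 1
        rw [htinv, mul_assoc, mul_assoc, htt, mul_one]
      rw [hzinv] at h1
      exact mul_inv_eq_iff_eq_mul.1 h1
    have h1 : z • cs = cs := by
      apply hsuniq
      rw [← mul_smul, hsz, mul_smul, hcs]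
    have h2 : z • ct = ct := by
      apply htuniq
      rw [← mul_smul, htz, mul_smul, hct]
    obtain ⟨cz, -, hzuniq⟩ := BOD_invol_fix F z hzo
    exact hne ((hzuniq cs h1).trans (hzuniq ct h2).symm)
  refine ⟨hst1, hodd, ?_⟩
  by_cases hfpf : IsFpf Ω (s * t)
  · exact Or.inl hfpf
  · right
    unfold IsFpf at hfpf
    push Not at hfpf
    obtain ⟨c, hc⟩ := hfpf
    by_contra hcon
    apply BOD_not_fixOne F (s * t) hodd
    refine ⟨hst1, c, hc, fun c' hc' => ?_⟩
    by_contra hcc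
    exact hcon ⟨c, c', fun h => hcc h.symm, hc, hc', hst1⟩

/-- (BOD) Odd orders. -/
theorem BOD (F : ZTFacts a b Q q n) :
    (∀ u : G, IsFpf Ω u → Odd (orderOf u)) ∧
    (∀ u : G, IsFpf Ω u → ∀ g ∈ Subgroup.centralizer ({u} : Set G), g ≠ 1 → IsFpf Ω g) ∧
    (∀ s t : G, orderOf s = 2 → orderOf t = 2 → (∀ c : Ω, s • c = c → t • c ≠ c) →
      s * t ≠ 1 ∧ Odd (orderOf (s * t)) ∧ (IsFpf Ω (s * t) ∨ FixTwo Ω (s * t))) :=
  ⟨fun u hu => BOD_one F u hu, fun u hu g hg hg1 => BOD_two F u hu g hg hg1,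
    fun s t hs ht hst => BOD_prod F s t hs ht hst⟩

end B

end Cfsg.Agent.Helper97.SzOrd
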