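import Cfsg.Agent.Helper95.SzOrd.Defs
import Cfsg.Agent.Helper97.SzOrdBOD

/-!
# Suzuki order theorem farm (helper95), piece (BT1): the centraliser of a strongly real
fixed-point-free element (helper97)
-/

set_option autoImplicit false

namespace Cfsg.Agent.Helper97.SzOrd

open MulAction Cfsg.Agent.Helper95.SzOrd

/-- a free action of a finite group: the order divides the degree -/
theorem BT1_card_dvd_of_free {T X : Type*} [Group T] [MulAction T X] [Finite T] [Finite X]
    (hfree : ∀ (x : T) (c : X), x • c = c → x = 1) : Nat.card T ∣ Nat.card X := by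
  classical
  have e := MulAction.selfEquivSigmaOrbitsQuotientStabilizer T X
  have hstab : ∀ c : X, stabilizer T c = ⊥ := fun c => by
    rw [eq_bot_iff]
    intro x hx
    exact Subgroup.mem_bot.2 (hfree x c hx)
  rw [Nat.card_congr e]
  have : Fintype (Quotient (orbitRel T X)) := Fintype.ofFinite _
  rw [Nat.card_sigma]
  apply Finset.dvd_sum
  intro ω _
  rw [hstab]
  have : Nat.card (T ⧸ (⊥ : Subgroup T)) = Nat.card T := Subgroup.index_bot
  rw [this]

variable {G Ω : Type*} [Group G] [Fintype G] [MulAction G Ω] [Fintype Ω]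

section B

variable {a b : Ω} {Q : Subgroup G} {q n : ℕ}

/-- an involution inverting the fixed-point-free `u` inverts the whole centraliser of `u` -/
theorem BT1_inverts (F : ZTFacts a b Q q n) (u : G) (hfpf : IsFpf Ω u) (s : G)
    (hs : orderOf s = 2) (hsu : s * u * s⁻¹ = u⁻¹) :
    ∀ x ∈ Subgroup.centralizer ({u} : Set G), s * x * s⁻¹ = x⁻¹ := by
  have hss : s * s = 1 := by rw [← pow_two, ← hs]; exact pow_orderOf_eq_one s
  have hsinv : s⁻¹ = s := inv_eq_of_mul_eq_one_left hss
  have hmemT : ∀ x : G, x ∈ Subgroup.centralizer ({u} : Set G) ↔ u * x = x * u := by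
    intro x
    rw [Subgroup.mem_centralizer_iff]
    exact ⟨fun h => h u (Set.mem_singleton u), fun h y hy => by rw [Set.mem_singleton_iff.1 hy]; exact h⟩
  -- `s` normalises `T`
  have hu' : s * u⁻¹ * s⁻¹ = u := by
    have := congrArg (·⁻¹) hsu
    simpa [mul_assoc] using this
  have hnorm : ∀ x ∈ Subgroup.centralizer ({u} : Set G),
      s * x * s⁻¹ ∈ Subgroup.centralizer ({u} : Set G) := by
    intro x hx
    rw [hmemT] at hx ⊢
    have hx' : u⁻¹ * x = x * u⁻¹ := by
      rw [inv_mul_eq_iff_eq_mul, ← mul_assoc, hx, mul_assoc, mul_inv_cancel, mul_one]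
    calc u * (s * x * s⁻¹) = (s * u⁻¹ * s⁻¹) * (s * x * s⁻¹) := by rw [hu']
      _ = s * (u⁻¹ * x) * s⁻¹ := by group
      _ = s * (x * u⁻¹) * s⁻¹ := by rw [hx']
      _ = (s * x * s⁻¹) * (s * u⁻¹ * s⁻¹) := by group
      _ = (s * x * s⁻¹) * u := by rw [hu']
  -- `C_T(s) = 1`
  obtain ⟨cs, hcs, hsuniq⟩ := BOD_invol_fix F s hs
  have hCT : ∀ x ∈ Subgroup.centralizer ({u} : Set G), s * x = x * s → x = 1 := by
    intro x hx hsx
    by_contra hx1
    have h1 : x • cs = cs := by
      apply hsuniq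
      rw [← mul_smul, hsx, mul_smul, hcs]
    exact BOD_two F u hfpf x hx hx1 cs h1
  -- the map `x ↦ x⁻¹ (s x s⁻¹)` is a bijection of `T`
  let φ : Subgroup.centralizer ({u} : Set G) → Subgroup.centralizer ({u} : Set G) :=
    fun x => ⟨(x : G)⁻¹ * (s * x * s⁻¹), Subgroup.mul_mem _ (Subgroup.inv_mem _ x.2) (hnorm x x.2)⟩
  have hφinj : Function.Injective φ := by
    intro x y hxy
    have h1 : (x : G)⁻¹ * (s * x * s⁻¹) = (y : G)⁻¹ * (s * y * s⁻¹) := congrArg Subtype.val hxy
    have h2 : s * ((x : G) * (y : G)⁻¹) = ((x : G) * (y : G)⁻¹) * s := by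
      have h3 : (x : G)⁻¹ * s * x = (y : G)⁻¹ * s * y := by
        have := congrArg (· * s) h1
        simpa [mul_assoc] using this
      calc s * ((x : G) * (y : G)⁻¹) = x * ((x : G)⁻¹ * s * x) * (y : G)⁻¹ := by group
        _ = x * ((y : G)⁻¹ * s * y) * (y : G)⁻¹ := by rw [h3]
        _ = ((x : G) * (y : G)⁻¹) * s := by group
    have h4 := hCT _ (Subgroup.mul_mem _ x.2 (Subgroup.inv_mem _ y.2)) h2
    apply Subtype.ext
    exact mul_inv_eq_one.1 h4
  have hφsurj := Finite.injective_iff_surjective.1 hφinj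
  intro x hx
  obtain ⟨y, hy⟩ := hφsurj ⟨x, hx⟩
  have hy' : (y : G)⁻¹ * (s * y * s⁻¹) = x := congrArg Subtype.val hy
  have e1 : s⁻¹ * s⁻¹ = 1 := by rw [hsinv, hss]
  rw [← hy']
  calc s * ((y : G)⁻¹ * (s * y * s⁻¹)) * s⁻¹ = s * (y : G)⁻¹ * s * y * (s⁻¹ * s⁻¹) := by group
    _ = s * (y : G)⁻¹ * s * y := by rw [e1, mul_one]
    _ = s * (y : G)⁻¹ * s⁻¹ * y := by rw [hsinv]
    _ = ((y : G)⁻¹ * (s * y * s⁻¹))⁻¹ := by group

/-- the centraliser of a strongly real fixed-point-free element is abelian -/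
theorem BT1_abelian (F : ZTFacts a b Q q n) (u : G) (hu : IsSReal Ω u) :
    ∀ x ∈ Subgroup.centralizer ({u} : Set G), ∀ y ∈ Subgroup.centralizer ({u} : Set G),
      x * y = y * x := by
  obtain ⟨hfpf, s, hs, hsu⟩ := hu
  have hinv := BT1_inverts F u hfpf s hs hsu
  intro x hx y hy
  have h1 := hinv (x * y) (Subgroup.mul_mem _ hx hy)
  have h2 : s * (x * y) * s⁻¹ = (s * x * s⁻¹) * (s * y * s⁻¹) := by group
  rw [h2, hinv x hx, hinv y hy, ← mul_inv_rev] at h1
  exact (inv_injective h1).symm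

/-- (BT1) -/
theorem BT1 (F : ZTFacts a b Q q n) (u : G) (hu : IsSReal Ω u) :
    (∀ x ∈ Subgroup.centralizer ({u} : Set G), ∀ y ∈ Subgroup.centralizer ({u} : Set G),
      x * y = y * x) ∧
    (∀ v ∈ Subgroup.centralizer ({u} : Set G), v ≠ 1 →
      IsSReal Ω v ∧ Subgroup.centralizer ({v} : Set G) = Subgroup.centralizer ({u} : Set G)) ∧
    Nat.card {s : G // orderOf s = 2 ∧ s * u * s⁻¹ = u⁻¹}
      = Nat.card (Subgroup.centralizer ({u} : Set G)) ∧
    Odd (Nat.card (Subgroup.centralizer ({u} : Set G))) ∧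
    3 ≤ Nat.card (Subgroup.centralizer ({u} : Set G)) ∧
    Nat.card (Subgroup.centralizer ({u} : Set G)) ∣ Nat.card Q + 1 := by
  have hab := BT1_abelian F u hu
  obtain ⟨hfpf, s, hs, hsu⟩ := hu
  have hinv := BT1_inverts F u hfpf s hs hsu
  have hss : s * s = 1 := by rw [← pow_two, ← hs]; exact pow_orderOf_eq_one s
  have hsinv : s⁻¹ = s := inv_eq_of_mul_eq_one_left hss
  have hmemT : ∀ (w x : G), x ∈ Subgroup.centralizer ({w} : Set G) ↔ w * x = x * w := by
    intro w x
    rw [Subgroup.mem_centralizer_iff]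
    exact ⟨fun h => h w (Set.mem_singleton w), fun h y hy => by rw [Set.mem_singleton_iff.1 hy]; exact h⟩
  have huT : u ∈ Subgroup.centralizer ({u} : Set G) := (hmemT u u).2 rfl
  have hu1 : u ≠ 1 := by
    rintro rfl
    exact hfpf a (one_smul G a)
  -- `T` is semiregular
  have hsemi : ∀ x ∈ Subgroup.centralizer ({u} : Set G), ∀ c : Ω, x • c = c → x = 1 := by
    intro x hx c hc
    by_contra hx1
    exact BOD_two F u hfpf x hx hx1 c hc
  have hodd : Odd (Nat.card (Subgroup.centralizer ({u} : Set G))) := by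
    by_contra hodd
    rw [Nat.not_odd_iff_even] at hodd
    have : Fact (Nat.Prime 2) := ⟨Nat.prime_two⟩
    obtain ⟨x, hx⟩ := exists_prime_orderOf_dvd_card' (G := Subgroup.centralizer ({u} : Set G)) 2
      hodd.two_dvd
    have hx2 : orderOf (x : G) = 2 := by rw [Subgroup.orderOf_coe]; exact hx
    have hx1 : (x : G) ≠ 1 := by
      intro h
      rw [h, orderOf_one] at hx2
      omega
    have h3 := BOD_one F (x : G) (BOD_two F u hfpf x x.2 hx1)
    rw [hx2] at h3
    exact absurd h3 (by decide)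
  refine ⟨hab, ?_, ?_, hodd, ?_, ?_⟩
  · intro v hv hv1
    have hvS : IsSReal Ω v := ⟨BOD_two F u hfpf v hv hv1, s, hs, hinv v hv⟩
    refine ⟨hvS, ?_⟩
    have habv := BT1_abelian F v hvS
    have huv : u ∈ Subgroup.centralizer ({v} : Set G) := by
      rw [hmemT]
      exact ((hmemT u v).1 hv).symm
    ext x
    constructor
    · intro hx
      rw [hmemT]
      exact habv u huv x hx
    · intro hx
      rw [hmemT]
      exact hab v hv x hx
  · -- the inverting involutions form the coset `s T`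
    refine Nat.card_congr (Equiv.symm ?_)
    refine
      { toFun := fun x => ⟨s * x, ?_, ?_⟩
        invFun := fun s' => ⟨s⁻¹ * s', ?_⟩
        left_inv := fun x => by apply Subtype.ext; simp
        right_inv := fun s' => by apply Subtype.ext; simp }
    · -- order 2
      have hxx : (s * (x : G)) * (s * x) = 1 := by
        have h1 := hinv x x.2
        calc (s * (x : G)) * (s * x) = (s * x * s⁻¹) * x := by rw [hsinv]; group
          _ = 1 := by rw [h1, inv_mul_cancel]
      refine orderOf_eq_prime (by rw [pow_two]; exact hxx) ?_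
      intro h1
      have hxs : (x : G) = s := by
        have := eq_inv_of_mul_eq_one_right h1
        rw [this, hsinv]
      have hsT : s ∈ Subgroup.centralizer ({u} : Set G) := hxs ▸ x.2
      have hs1 : s ≠ 1 := by
        rintro rfl
        rw [orderOf_one] at hs
        omega
      obtain ⟨cs, hcs, -⟩ := BOD_invol_fix F s hs
      exact BOD_two F u hfpf s hsT hs1 cs hcs
    · -- inverts `u`
      have hxu : (x : G) * u * (x : G)⁻¹ = u := by
        have := (hmemT u x).1 x.2
        rw [← this, mul_inv_cancel_right]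
      calc s * (x : G) * u * (s * (x : G))⁻¹ = s * ((x : G) * u * (x : G)⁻¹) * s⁻¹ := by group
        _ = u⁻¹ := by rw [hxu, hsu]
    · -- `s⁻¹ s' ∈ T`
      rw [hmemT]
      have h1 : (s' : G) * u * (s' : G)⁻¹ = s * u * s⁻¹ := by rw [s'.2.2, hsu]
      calc u * (s⁻¹ * (s' : G)) = s⁻¹ * (s * u * s⁻¹) * s' := by group
        _ = s⁻¹ * ((s' : G) * u * (s' : G)⁻¹) * s' := by rw [h1]
        _ = s⁻¹ * (s' : G) * u := by group
  · -- `3 ≤ |T|`
    have hne : Nat.card (Subgroup.centralizer ({u} : Set G)) ≠ 1 := by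
      intro h1
      rw [Subgroup.card_eq_one] at h1
      rw [h1, Subgroup.mem_bot] at huT
      exact hu1 huT
    have hpos : 0 < Nat.card (Subgroup.centralizer ({u} : Set G)) := Nat.card_pos
    obtain ⟨k, hk⟩ := hodd
    omega
  · -- `|T|` divides `|Ω|`
    have h1 : Nat.card (Subgroup.centralizer ({u} : Set G)) ∣ Nat.card Ω := by
      apply BT1_card_dvd_of_free
      intro x c hc
      exact Subtype.ext (hsemi x x.2 c hc)
    rw [F.card_Ω] at h1
    exact h1

end B

end Cfsg.Agent.Helper97.SzOrd
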