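import Mathlib

/-!
# Jordan's theorem, analytic pieces (JA1b), (JA1) of board #4867 (for helper95, S4469)
-/

set_option autoImplicit false

namespace Cfsg.Agent.Helper97.JordanJA1

open scoped InnerProductSpace

variable {V : Type*} [NormedAddCommGroup V] [InnerProductSpace ℂ V] [FiniteDimensional ℂ V]

/-- a unitary `z ≠ 1` has an eigenvector with eigenvalue `≠ 1` -/
theorem exists_eigen_ne_one (z : unitary (V →L[ℂ] V)) (hz : z ≠ 1) :
    ∃ (ζ : ℂ) (e : V), ζ ≠ 1 ∧ e ≠ 0 ∧ (z : V →L[ℂ] V) e = ζ • e := by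
  classical
  set Z : V →ₗ[ℂ] V := ((z : V →L[ℂ] V) : V →ₗ[ℂ] V) with hZ
  have hZapp : ∀ x, Z x = (z : V →L[ℂ] V) x := fun x => rfl
  set R : Submodule ℂ V := LinearMap.range (Z - 1) with hR
  have hRne : R ≠ ⊥ := by
    intro h
    apply hz
    rw [hR, LinearMap.range_eq_bot] at h
    have h1 : Z = 1 := sub_eq_zero.mp h
    apply Subtype.ext
    apply ContinuousLinearMap.coe_injective
    rw [← hZ, h1]
    rfl
  have hmaps : ∀ x ∈ R, Z x ∈ R := by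
    rintro x ⟨y, rfl⟩
    refine ⟨Z y, ?_⟩
    simp [LinearMap.sub_apply, map_sub]
  have : Nontrivial R := Submodule.nontrivial_iff_ne_bot.mpr hRne
  obtain ⟨ζ, hζ⟩ := Module.End.exists_eigenvalue (Z.restrict hmaps)
  obtain ⟨e, he⟩ := hζ.exists_hasEigenvector
  have he0 : (e : V) ≠ 0 := fun h => he.2 (Subtype.ext h)
  have hev : Z (e : V) = ζ • (e : V) := by
    have := he.apply_eq_smul
    have h2 := congrArg Subtype.val this
    simpa using h2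
  refine ⟨ζ, (e : V), ?_, he0, by rw [← hZapp]; exact hev⟩
  rintro rfl
  rw [one_smul] at hev
  obtain ⟨x, hx⟩ := e.2
  have h1 : ⟪(e : V), (e : V)⟫_ℂ = 0 := by
    have h2 : (e : V) = Z x - x := by rw [← hx]; simp [LinearMap.sub_apply]
    calc ⟪(e : V), (e : V)⟫_ℂ = ⟪(e : V), Z x - x⟫_ℂ := by rw [← h2]
      _ = ⟪(e : V), Z x⟫_ℂ - ⟪(e : V), x⟫_ℂ := inner_sub_right _ _ _
      _ = ⟪Z (e : V), Z x⟫_ℂ - ⟪(e : V), x⟫_ℂ := by rw [hev]
      _ = 0 := by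
          rw [hZapp, hZapp, ContinuousLinearMap.inner_map_map_of_mem_unitary z.2, sub_self]
  exact he0 (inner_self_eq_zero.mp h1)

/-- an invariant nonzero subspace contains an eigenvector -/
theorem exists_eigenvector_in (U : V →ₗ[ℂ] V) (F : Submodule ℂ V) (hF : F ≠ ⊥)
    (hmaps : ∀ x ∈ F, U x ∈ F) : ∃ (l : ℂ) (e : V), e ∈ F ∧ e ≠ 0 ∧ U e = l • e := by
  have : Nontrivial F := Submodule.nontrivial_iff_ne_bot.mpr hF
  obtain ⟨l, hl⟩ := Module.End.exists_eigenvalue (U.restrict hmaps)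
  obtain ⟨e, he⟩ := hl.exists_hasEigenvector
  refine ⟨l, (e : V), e.2, fun h => he.2 (Subtype.ext h), ?_⟩
  have := he.apply_eq_smul
  have h2 := congrArg Subtype.val this
  simpa using h2

theorem norm_eq_one_of_eigen (u : unitary (V →L[ℂ] V)) {l : ℂ} {e : V} (he : e ≠ 0)
    (h : (u : V →L[ℂ] V) e = l • e) : ‖l‖ = 1 := by
  have h1 := ContinuousLinearMap.norm_map_of_mem_unitary u.2 e
  rw [h, norm_smul] at h1
  have h2 : ‖e‖ ≠ 0 := norm_ne_zero_iff.mpr he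
  field_simp at h1
  exact h1

set_option linter.unusedVariables false in
/-- (JA1b) -/
theorem commute_of_commute_conj {V : Type*} [NormedAddCommGroup V] [InnerProductSpace ℂ V]
    [FiniteDimensional ℂ V] (u v : unitary (V →L[ℂ] V)) (hu : IsOfFinOrder u)
    (hc : Commute u (v⁻¹ * u * v))
    (hv : ‖(1 : V →L[ℂ] V) - (v : V →L[ℂ] V)‖ < Real.sqrt 2) : Commute u v := by
  by_contra hnc
  set w : unitary (V →L[ℂ] V) := v⁻¹ * u * v with hw
  have hvw : v * w = u * v := by rw [hw]; group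
  have hwu : w ≠ u := by
    intro h
    apply hnc
    rw [h] at hvw
    exact hvw.symm
  set z : unitary (V →L[ℂ] V) := u * w⁻¹ with hz
  have hz1 : z ≠ 1 := by
    intro h
    apply hwu
    rw [hz, mul_inv_eq_one] at h
    exact h.symm
  have hzu : Commute u z := by
    rw [hz]
    exact (Commute.refl u).mul_right hc.inv_right
  have hwz : w = z⁻¹ * u := by rw [hz]; group
  obtain ⟨ζ, e0, hζ1, he0, hze0⟩ := exists_eigen_ne_one z hz1
  -- the eigenspace of `z`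
  set Z : V →ₗ[ℂ] V := ((z : V →L[ℂ] V) : V →ₗ[ℂ] V) with hZ
  set U : V →ₗ[ℂ] V := ((u : V →L[ℂ] V) : V →ₗ[ℂ] V) with hU
  set F : Submodule ℂ V := Module.End.eigenspace Z ζ with hF
  have hFne : F ≠ ⊥ := by
    intro h
    have : e0 ∈ F := by
      rw [hF, Module.End.mem_eigenspace_iff]
      exact hze0
    rw [h, Submodule.mem_bot] at this
    exact he0 this
  have huz_app : ∀ x, (u : V →L[ℂ] V) ((z : V →L[ℂ] V) x) = (z : V →L[ℂ] V) ((u : V →L[ℂ] V) x) := by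
    intro x
    have h1 : ((u * z : unitary (V →L[ℂ] V)) : V →L[ℂ] V) x =
        ((z * u : unitary (V →L[ℂ] V)) : V →L[ℂ] V) x := by rw [hzu.eq]
    simpa using h1
  have hmaps : ∀ x ∈ F, U x ∈ F := by
    intro x hx
    rw [hF, Module.End.mem_eigenspace_iff] at hx ⊢
    change (z : V →L[ℂ] V) ((u : V →L[ℂ] V) x) = ζ • (u : V →L[ℂ] V) x
    have hx' : (z : V →L[ℂ] V) x = ζ • x := hx
    rw [← huz_app, hx', map_smul]
  obtain ⟨l, e, heF, he, hue⟩ := exists_eigenvector_in U F hFne hmaps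
  have hue' : (u : V →L[ℂ] V) e = l • e := hue
  have hze : (z : V →L[ℂ] V) e = ζ • e := by
    rw [hF, Module.End.mem_eigenspace_iff] at heF
    exact heF
  have hl : ‖l‖ = 1 := norm_eq_one_of_eigen u he hue'
  have hζn : ‖ζ‖ = 1 := norm_eq_one_of_eigen z he hze
  have hζ0 : ζ ≠ 0 := by
    intro h; rw [h, norm_zero] at hζn; exact zero_ne_one hζn
  have hl0 : l ≠ 0 := by
    intro h; rw [h, norm_zero] at hl; exact zero_ne_one hl
  -- `z⁻¹ e = ζ⁻¹ e`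
  have hzinv : ((z⁻¹ : unitary (V →L[ℂ] V)) : V →L[ℂ] V) e = ζ⁻¹ • e := by
    have h2 : ((z⁻¹ : unitary (V →L[ℂ] V)) : V →L[ℂ] V) ((z : V →L[ℂ] V) e) = e := by
      have h3 : ((z⁻¹ : unitary (V →L[ℂ] V)) : V →L[ℂ] V) * (z : V →L[ℂ] V) = 1 := by
        rw [← Submonoid.coe_mul, inv_mul_cancel]; rfl
      rw [← mul_apply_eq_comp, h3]; rfl
    rw [hze, map_smul] at h2
    calc ((z⁻¹ : unitary (V →L[ℂ] V)) : V →L[ℂ] V) e
        = ζ⁻¹ • (ζ • ((z⁻¹ : unitary (V →L[ℂ] V)) : V →L[ℂ] V) e) := by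
          rw [smul_smul, inv_mul_cancel₀ hζ0, one_smul]
      _ = ζ⁻¹ • e := by rw [h2]
  -- `w e = (ζ⁻¹ * l) e`
  have hwe : (w : V →L[ℂ] V) e = (ζ⁻¹ * l) • e := by
    have h3 : (w : V →L[ℂ] V) = ((z⁻¹ : unitary (V →L[ℂ] V)) : V →L[ℂ] V) * (u : V →L[ℂ] V) := by
      rw [← Submonoid.coe_mul, ← hwz]
    rw [h3, mul_apply_eq_comp, hue', map_smul, hzinv, smul_smul, mul_comm]
  -- `u (v e) = (ζ⁻¹ * l) (v e)`
  have huve : (u : V →L[ℂ] V) ((v : V →L[ℂ] V) e) = (ζ⁻¹ * l) • (v : V →L[ℂ] V) e := by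
    have h3 : (u : V →L[ℂ] V) * (v : V →L[ℂ] V) = (v : V →L[ℂ] V) * (w : V →L[ℂ] V) := by
      rw [← Submonoid.coe_mul, ← Submonoid.coe_mul, hvw]
    rw [← mul_apply_eq_comp, h3, mul_apply_eq_comp, hwe, map_smul]
  -- orthogonality
  have horth : ⟪e, (v : V →L[ℂ] V) e⟫_ℂ = 0 := by
    have h1 := ContinuousLinearMap.inner_map_map_of_mem_unitary u.2 e ((v : V →L[ℂ] V) e)
    rw [hue', huve, inner_smul_left, inner_smul_right] at h1
    have hll : (starRingEnd ℂ) l * l = 1 := by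
      rw [Complex.conj_mul', hl]; simp
    have h2 : (starRingEnd ℂ) l * ((ζ⁻¹ * l) * ⟪e, (v : V →L[ℂ] V) e⟫_ℂ) =
        ζ⁻¹ * ⟪e, (v : V →L[ℂ] V) e⟫_ℂ := by
      calc (starRingEnd ℂ) l * ((ζ⁻¹ * l) * ⟪e, (v : V →L[ℂ] V) e⟫_ℂ)
          = ((starRingEnd ℂ) l * l) * (ζ⁻¹ * ⟪e, (v : V →L[ℂ] V) e⟫_ℂ) := by ring
        _ = ζ⁻¹ * ⟪e, (v : V →L[ℂ] V) e⟫_ℂ := by rw [hll, one_mul]
    rw [h2] at h1
    have h3 : (ζ⁻¹ - 1) * ⟪e, (v : V →L[ℂ] V) e⟫_ℂ = 0 := by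
      rw [sub_mul, one_mul, h1, sub_self]
    rcases mul_eq_zero.mp h3 with h4 | h4
    · exfalso
      apply hζ1
      have : ζ⁻¹ = 1 := sub_eq_zero.mp h4
      exact inv_eq_one.mp this
    · exact h4
  -- norms
  have hnve : ‖(v : V →L[ℂ] V) e‖ = ‖e‖ := ContinuousLinearMap.norm_map_of_mem_unitary v.2 e
  have h1 : ‖e - (v : V →L[ℂ] V) e‖ * ‖e - (v : V →L[ℂ] V) e‖ = ‖e‖ * ‖e‖ + ‖e‖ * ‖e‖ := by
    rw [norm_sub_mul_self (𝕜 := ℂ), horth, hnve]; simp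
  have h2 : ‖e - (v : V →L[ℂ] V) e‖ ≤ ‖(1 : V →L[ℂ] V) - (v : V →L[ℂ] V)‖ * ‖e‖ := by
    have := ((1 : V →L[ℂ] V) - (v : V →L[ℂ] V)).le_opNorm e
    simpa using this
  have hepos : 0 < ‖e‖ := norm_pos_iff.mpr he
  have h3 : ‖e - (v : V →L[ℂ] V) e‖ < Real.sqrt 2 * ‖e‖ :=
    lt_of_le_of_lt h2 (mul_lt_mul_of_pos_right hv hepos)
  have h4 : ‖e - (v : V →L[ℂ] V) e‖ * ‖e - (v : V →L[ℂ] V) e‖ <
      (Real.sqrt 2 * ‖e‖) * (Real.sqrt 2 * ‖e‖) :=
    mul_self_lt_mul_self (norm_nonneg _) h3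
  have h5 : (Real.sqrt 2 * ‖e‖) * (Real.sqrt 2 * ‖e‖) = ‖e‖ * ‖e‖ + ‖e‖ * ‖e‖ := by
    have : Real.sqrt 2 * Real.sqrt 2 = 2 := Real.mul_self_sqrt (by norm_num)
    calc (Real.sqrt 2 * ‖e‖) * (Real.sqrt 2 * ‖e‖) = (Real.sqrt 2 * Real.sqrt 2) * (‖e‖ * ‖e‖) := by ring
      _ = ‖e‖ * ‖e‖ + ‖e‖ * ‖e‖ := by rw [this]; ring
  rw [h1, h5] at h4
  exact lt_irrefl _ h4


/-! ### (JA1) -/

/-- the contraction estimate -/
theorem norm_one_sub_commutator_le (u v : unitary (V →L[ℂ] V)) (c : ℂ) :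
    ‖(1 : V →L[ℂ] V) - ((u⁻¹ * v⁻¹ * u * v : unitary (V →L[ℂ] V)) : V →L[ℂ] V)‖ ≤
      2 * ‖(u : V →L[ℂ] V) - c • (1 : V →L[ℂ] V)‖ * ‖(1 : V →L[ℂ] V) - (v : V →L[ℂ] V)‖ := by
  set U : V →L[ℂ] V := (u : V →L[ℂ] V) with hU
  set W : V →L[ℂ] V := (v : V →L[ℂ] V) with hW
  -- `1 - u⁻¹ v⁻¹ u v = (v u)⁻¹ (v u - u v)`
  have h1 : ((v * u : unitary (V →L[ℂ] V)) : V →L[ℂ] V) *
      ((1 : V →L[ℂ] V) - ((u⁻¹ * v⁻¹ * u * v : unitary (V →L[ℂ] V)) : V →L[ℂ] V)) =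
      W * U - U * W := by
    rw [mul_sub, mul_one, ← Submonoid.coe_mul]
    have : v * u * (u⁻¹ * v⁻¹ * u * v) = u * v := by group
    rw [this]
    simp [hU, hW]
  have h2 : ‖(1 : V →L[ℂ] V) - ((u⁻¹ * v⁻¹ * u * v : unitary (V →L[ℂ] V)) : V →L[ℂ] V)‖ =
      ‖W * U - U * W‖ := by
    rw [← h1, CStarRing.norm_coe_unitary_mul]
  rw [h2]
  have h3 : W * U - U * W =
      (U - c • (1 : V →L[ℂ] V)) * (1 - W) - (1 - W) * (U - c • (1 : V →L[ℂ] V)) := by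
    simp only [sub_mul, mul_sub, one_mul, mul_one, smul_mul_assoc, mul_smul_comm, smul_sub]
    abel
  rw [h3]
  calc ‖(U - c • (1 : V →L[ℂ] V)) * (1 - W) - (1 - W) * (U - c • (1 : V →L[ℂ] V))‖
      ≤ ‖(U - c • (1 : V →L[ℂ] V)) * (1 - W)‖ + ‖(1 - W) * (U - c • (1 : V →L[ℂ] V))‖ :=
        norm_sub_le _ _
    _ ≤ ‖U - c • (1 : V →L[ℂ] V)‖ * ‖1 - W‖ + ‖1 - W‖ * ‖U - c • (1 : V →L[ℂ] V)‖ :=
        add_le_add (norm_mul_le _ _) (norm_mul_le _ _)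
    _ = 2 * ‖U - c • (1 : V →L[ℂ] V)‖ * ‖1 - W‖ := by ring

/-- the commutator sequence -/
def yseq {G : Type*} [Group G] (x y : G) : ℕ → G
  | 0 => y
  | (i + 1) => x⁻¹ * (yseq x y i)⁻¹ * x * yseq x y i

theorem commute_of_norm_lt {V : Type*} [NormedAddCommGroup V] [InnerProductSpace ℂ V]
    [FiniteDimensional ℂ V] {G : Type*} [Group G] [Finite G]
    (Φ : G →* unitary (V →L[ℂ] V)) (hΦ : Function.Injective Φ) (c : ℂ) (x y : G)
    (hx : ‖((Φ x : V →L[ℂ] V)) - c • (1 : V →L[ℂ] V)‖ < 1 / 2)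
    (hy : ‖(1 : V →L[ℂ] V) - (Φ y : V →L[ℂ] V)‖ < Real.sqrt 2) : x * y = y * x := by
  set θ : ℝ := 2 * ‖((Φ x : V →L[ℂ] V)) - c • (1 : V →L[ℂ] V)‖ with hθ
  have hθ0 : 0 ≤ θ := by positivity
  have hθ1 : θ < 1 := by rw [hθ]; linarith
  set D : ℝ := ‖(1 : V →L[ℂ] V) - (Φ y : V →L[ℂ] V)‖ with hD
  have hD0 : 0 ≤ D := norm_nonneg _
  -- the estimate along the sequence
  have hest : ∀ i, ‖(1 : V →L[ℂ] V) - (Φ (yseq x y i) : V →L[ℂ] V)‖ ≤ θ ^ i * D := by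
    intro i
    induction i with
    | zero => simp [yseq, hD]
    | succ i ih =>
      have h1 : Φ (yseq x y (i + 1)) = (Φ x)⁻¹ * (Φ (yseq x y i))⁻¹ * Φ x * Φ (yseq x y i) := by
        simp [yseq, map_mul, map_inv]
      rw [h1]
      refine le_trans (norm_one_sub_commutator_le (Φ x) (Φ (yseq x y i)) c) ?_
      rw [← hθ, pow_succ]
      calc θ * ‖(1 : V →L[ℂ] V) - (Φ (yseq x y i) : V →L[ℂ] V)‖ ≤ θ * (θ ^ i * D) :=
            mul_le_mul_of_nonneg_left ih hθ0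
        _ = θ ^ i * θ * D := by ring
  have hlt : ∀ i, ‖(1 : V →L[ℂ] V) - (Φ (yseq x y i) : V →L[ℂ] V)‖ < Real.sqrt 2 := by
    intro i
    refine lt_of_le_of_lt (hest i) ?_
    calc θ ^ i * D ≤ 1 * D := mul_le_mul_of_nonneg_right (pow_le_one₀ hθ0 hθ1.le) hD0
      _ = D := one_mul D
      _ < Real.sqrt 2 := hy
  -- some term of the sequence is trivial
  have hex : ∃ N, yseq x y N = 1 := by
    classical
    have : Fintype G := Fintype.ofFinite G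
    by_contra hcon
    push Not at hcon
    -- a positive lower bound for `‖1 - Φ g‖`, `g ≠ 1`
    obtain ⟨δ, hδ0, hδ⟩ : ∃ δ : ℝ, 0 < δ ∧ ∀ g : G, g ≠ 1 →
        δ ≤ ‖(1 : V →L[ℂ] V) - (Φ g : V →L[ℂ] V)‖ := by
      have hpos : ∀ g : G, g ≠ 1 → 0 < ‖(1 : V →L[ℂ] V) - (Φ g : V →L[ℂ] V)‖ := by
        intro g hg
        rw [norm_pos_iff, sub_ne_zero]
        intro h
        apply hg
        apply hΦ
        rw [map_one]
        exact Subtype.ext h.symm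
      by_cases hne : (Finset.univ.filter fun g : G => g ≠ 1).Nonempty
      · obtain ⟨g0, hg0, hmin⟩ := Finset.exists_min_image _
          (fun g : G => ‖(1 : V →L[ℂ] V) - (Φ g : V →L[ℂ] V)‖) hne
        refine ⟨_, hpos g0 (Finset.mem_filter.mp hg0).2, fun g hg => ?_⟩
        exact hmin g (Finset.mem_filter.mpr ⟨Finset.mem_univ _, hg⟩)
      · refine ⟨1, one_pos, fun g hg => ?_⟩
        exact absurd ⟨g, Finset.mem_filter.mpr ⟨Finset.mem_univ _, hg⟩⟩ hne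
    have hD1 : 0 < D + 1 := by linarith
    obtain ⟨N, hN⟩ := exists_pow_lt_of_lt_one (div_pos hδ0 hD1) hθ1
    have h1 := hδ _ (hcon N)
    have h2 := hest N
    have h3 : θ ^ N * D < δ := by
      have h4 : θ ^ N * (D + 1) < δ := by
        rwa [lt_div_iff₀ hD1] at hN
      have h5 : θ ^ N * D ≤ θ ^ N * (D + 1) :=
        mul_le_mul_of_nonneg_left (by linarith) (pow_nonneg hθ0 N)
      linarith
    linarith
  obtain ⟨N, hN⟩ := hex
  -- downward induction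
  have hstep : ∀ i, Commute x (yseq x y (i + 1)) → Commute x (yseq x y i) := by
    intro i hi
    set t := yseq x y i with ht
    have h1 : yseq x y (i + 1) = x⁻¹ * t⁻¹ * x * t := rfl
    rw [h1] at hi
    have h2 : Commute x (t⁻¹ * x * t) := by
      have h3 : t⁻¹ * x * t = x * (x⁻¹ * t⁻¹ * x * t) := by group
      rw [h3]
      exact (Commute.refl x).mul_right hi
    have h4 : Commute (Φ x) ((Φ t)⁻¹ * Φ x * Φ t) := by
      have := h2.map Φ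
      simpa [map_mul, map_inv] using this
    have h5 : Commute (Φ x) (Φ t) :=
      commute_of_commute_conj (Φ x) (Φ t) (Φ.isOfFinOrder (isOfFinOrder_of_finite x)) h4 (hlt i)
    have h6 : Φ (x * t) = Φ (t * x) := by rw [map_mul, map_mul, h5.eq]
    exact hΦ h6
  have hall : ∀ k i, i + k = N → Commute x (yseq x y i) := by
    intro k
    induction k with
    | zero =>
      intro i hi
      rw [add_zero] at hi
      rw [hi, hN]
      exact Commute.one_right x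
    | succ k ih =>
      intro i hi
      exact hstep i (ih (i + 1) (by omega))
  exact (hall N 0 (by omega)).eq

end Cfsg.Agent.Helper97.JordanJA1
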