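import Mathlib

/-! (PK) for helper3's S4467 (Dixon) farm (#9711): if `T` is core-free in `G`, `K ⊴ G` and
`p ∣ |K|`, then `p` divides the index in `K` of the `K`-core of `K ⊓ T`. -/

set_option autoImplicit false

namespace Cfsg.Agent.Helper97.Dixon

universe u

/-- (PK) -/
theorem dvd_index_core_subgroupOf {G : Type u} [Group G] [Finite G] {p : ℕ} (hp : p.Prime)
    (K T : Subgroup G) [K.Normal] (hcore : T.normalCore = ⊥) (hpd : p ∣ Nat.card K) :
    p ∣ ((T.subgroupOf K).normalCore).index := by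
  by_contra hnd
  have : Fact p.Prime := ⟨hp⟩
  -- every `x ∈ K` with `x ^ p = 1` lies in `T`
  have hST : ∀ x : G, x ∈ K → x ^ p = 1 → x ∈ T := by
    intro x hxK hxp
    have hx'C : (⟨x, hxK⟩ : K) ∈ (T.subgroupOf K).normalCore := by
      rw [← QuotientGroup.eq_one_iff]
      have hx' : (⟨x, hxK⟩ : K) ^ p = 1 := Subtype.ext (by simpa using hxp)
      have h1 : ((⟨x, hxK⟩ : K) : K ⧸ (T.subgroupOf K).normalCore) ^ p = 1 := by
        rw [← QuotientGroup.mk_pow, hx']; rfl
      have h2 : orderOf ((⟨x, hxK⟩ : K) : K ⧸ (T.subgroupOf K).normalCore) ∣ p :=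
        orderOf_dvd_of_pow_eq_one h1
      have h3 : orderOf ((⟨x, hxK⟩ : K) : K ⧸ (T.subgroupOf K).normalCore) ∣
          ((T.subgroupOf K).normalCore).index := by
        rw [Subgroup.index_eq_card]; exact orderOf_dvd_natCard _
      rcases (Nat.dvd_prime hp).mp h2 with h | h
      · exact orderOf_eq_one_iff.mp h
      · rw [h] at h3; exact absurd h3 hnd
    have h4 := Subgroup.normalCore_le _ hx'C
    exact Subgroup.mem_subgroupOf.mp h4
  -- the normal closure of the set of elements of order dividing `p` in `K` lies in `T`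
  have hN : Subgroup.normalClosure {x : G | x ∈ K ∧ x ^ p = 1} ≤ T := by
    rw [Subgroup.normalClosure, Subgroup.closure_le]
    intro y hy
    rw [Group.mem_conjugatesOfSet_iff] at hy
    obtain ⟨x, hxS, hconj⟩ := hy
    obtain ⟨g, hg⟩ := isConj_iff.mp hconj
    rw [← hg]
    refine hST _ (‹K.Normal›.conj_mem x hxS.1 g) ?_
    rw [conj_pow, hxS.2, mul_one, mul_inv_cancel]
  have hbot : Subgroup.normalClosure {x : G | x ∈ K ∧ x ^ p = 1} ≤ ⊥ := by
    rw [← hcore]
    exact Subgroup.normal_le_normalCore.mpr hN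
  -- Cauchy
  obtain ⟨x, hx⟩ := exists_prime_orderOf_dvd_card' p hpd
  have hxS : (x : G) ∈ {x : G | x ∈ K ∧ x ^ p = 1} := by
    refine ⟨x.2, ?_⟩
    rw [← Subgroup.coe_pow, ← hx, pow_orderOf_eq_one]; rfl
  have h1 : (x : G) = 1 := by
    have := hbot (Subgroup.subset_normalClosure hxS)
    simpa using this
  have h2 : x = 1 := Subtype.ext h1
  rw [h2, orderOf_one] at hx
  exact hp.one_lt.ne hx

end Cfsg.Agent.Helper97.Dixon
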