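import Mathlib
import Cfsg.Agent.Helper30.HallSym.Defs

/-!
# (NT-A) of board #6074 (for helper30, Hall subgroups of `S_n` / `A_n`)

If no prime `p ≤ m` divides `C(m + j, j)` (`1 ≤ j ≤ m`, `3 ≤ m`) then `j = 1` and `m + 1` is prime,
or `(m, j) = (4, 3)`.
-/

set_option autoImplicit false

namespace Cfsg.Agent.Helper97.HallSym

open Cfsg.Agent.Helper30.HallSym
open scoped Nat

/-- if `C` has no prime factor `≤ m` and all prime factors of `b` are `≤ m`, then `b ∣ C * a`
forces `b ∣ a` -/
theorem dvd_of_dvd_mul_of_small {m C a b : ℕ} (h : ∀ p : ℕ, p.Prime → p ≤ m → ¬ p ∣ C)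
    (hb : ∀ p : ℕ, p.Prime → p ∣ b → p ≤ m) (hdvd : b ∣ C * a) : b ∣ a := by
  have hcop : Nat.Coprime b C := by
    by_contra hc
    obtain ⟨p, hp, hpb, hpC⟩ := Nat.Prime.not_coprime_iff_dvd.mp hc
    exact h p hp (hb p hp hpb) hpC
  exact hcop.dvd_of_dvd_mul_left hdvd

/-- prime factors of an even number `n > 2` are at most `n / 2` -/
theorem two_mul_prime_factor_le {n p : ℕ} (hn : 2 < n) (heven : 2 ∣ n) (hp : p.Prime)
    (hpn : p ∣ n) : 2 * p ≤ n := by
  obtain ⟨t, rfl⟩ := hpn
  rcases t with _ | _ | t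
  · omega
  · rw [zero_add, mul_one] at hn heven
    have := (Nat.prime_dvd_prime_iff_eq Nat.prime_two hp).mp heven
    omega
  · nlinarith [hp.pos]

/-- (NT-A) -/
theorem choose_coprime_small_primes {m j : ℕ} (hm : 3 ≤ m) (hj1 : 1 ≤ j) (hjm : j ≤ m)
    (h : ∀ p : ℕ, p.Prime → p ≤ m → ¬ p ∣ Nat.choose (m + j) j) :
    (j = 1 ∧ (m + 1).Prime) ∨ (m = 4 ∧ j = 3) := by
  -- Step 1: `m + j` is prime
  have hNprime : (m + j).Prime := by
    have hid : (m + j) ∣ Nat.choose (m + j) j * j := by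
      obtain ⟨j', rfl⟩ : ∃ j', j = j' + 1 := ⟨j - 1, by omega⟩
      exact ⟨Nat.choose (m + j') j', (Nat.add_one_mul_choose_eq (m + j') j').symm⟩
    by_cases hall : ∀ p : ℕ, p.Prime → p ∣ (m + j) → p ≤ m
    · have h1 := dvd_of_dvd_mul_of_small h hall hid
      have h2 := Nat.le_of_dvd (by omega) h1
      omega
    · push Not at hall
      obtain ⟨q, hq, ⟨t, ht⟩, hqm⟩ := hall
      rcases t with _ | _ | t
      · omega
      · rw [zero_add, mul_one] at ht
        rw [ht]
        exact hq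
      · exfalso
        nlinarith
  have hjlt : j < m := by
    rcases hjm.lt_or_eq with h1 | h1
    · exact h1
    · exfalso
      subst h1
      have h2 : 2 ∣ j + j := ⟨j, by ring⟩
      have := (Nat.prime_dvd_prime_iff_eq Nat.prime_two hNprime).mp h2
      omega
  -- Step 2: `m + 1` is prime
  have hm1 : (m + 1).Prime := by
    by_contra hnp
    have hid : (m + 1) ∣ Nat.choose (m + j) j * (m + j + 1) := by
      have h1 := Nat.choose_mul_succ_eq (m + j) j
      rw [show m + j + 1 - j = m + 1 by omega] at h1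
      exact ⟨_, by rw [h1, mul_comm]⟩
    have hall : ∀ p : ℕ, p.Prime → p ∣ (m + 1) → p ≤ m := by
      intro p hp hpd
      have h1 := Nat.le_of_dvd (by omega) hpd
      rcases h1.lt_or_eq with h2 | h2
      · omega
      · exact absurd (h2 ▸ hp) hnp
    have h1 := dvd_of_dvd_mul_of_small h hall hid
    have h2 : (m + 1) ∣ j := by
      have h3 : m + j + 1 = (m + 1) + j := by ring
      rw [h3] at h1
      exact (Nat.dvd_add_right (dvd_refl _)).mp h1
    have := Nat.le_of_dvd (by omega) h2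
    omega
  by_cases hj : j = 1
  · exact Or.inl ⟨hj, hm1⟩
  right
  have hj2 : 2 ≤ j := by omega
  -- parity
  have hmeven : m % 2 = 0 := by
    rcases hm1.eq_two_or_odd with h1 | h1 <;> omega
  have hjodd : j % 2 = 1 := by
    rcases hNprime.eq_two_or_odd with h1 | h1 <;> omega
  -- Step 3: `j + 1 ∣ m`
  have h3 : (j + 1) ∣ m := by
    have hid : (j + 1) ∣ Nat.choose (m + j) j * (m + j + 1) := by
      have h1 := Nat.add_one_mul_choose_eq (m + j) j
      exact ⟨Nat.choose (m + j + 1) (j + 1), by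
        rw [mul_comm (Nat.choose (m + j) j), mul_comm (j + 1)]; exact h1⟩
    have hall : ∀ p : ℕ, p.Prime → p ∣ (j + 1) → p ≤ m := by
      intro p hp hpd
      have := Nat.le_of_dvd (by omega) hpd
      omega
    have h1 := dvd_of_dvd_mul_of_small h hall hid
    have h2 : m + j + 1 = (j + 1) + m := by ring
    rw [h2] at h1
    exact (Nat.dvd_add_right (dvd_refl _)).mp h1
  -- Step 5: `m + 2 ∣ j * (j - 1)`
  have h5 : (m + 2) ∣ j * (j - 1) := by
    have hid : (m + 2) ∣ Nat.choose (m + j) j * ((m + j + 1) * (m + j + 2)) := by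
      have e1 := Nat.choose_mul_succ_eq (m + j) j
      rw [show m + j + 1 - j = m + 1 by omega] at e1
      have e2 := Nat.choose_mul_succ_eq (m + j + 1) j
      rw [show m + j + 1 + 1 - j = m + 2 by omega] at e2
      refine ⟨Nat.choose (m + j + 1 + 1) j * (m + 1), ?_⟩
      calc Nat.choose (m + j) j * ((m + j + 1) * (m + j + 2))
          = (Nat.choose (m + j) j * (m + j + 1)) * (m + j + 1 + 1) := by ring
        _ = (Nat.choose (m + j + 1) j * (m + j + 1 + 1)) * (m + 1) := by rw [e1]; ring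
        _ = (m + 2) * (Nat.choose (m + j + 1 + 1) j * (m + 1)) := by rw [e2]; ring
    have hall : ∀ p : ℕ, p.Prime → p ∣ (m + 2) → p ≤ m := by
      intro p hp hpd
      have := two_mul_prime_factor_le (n := m + 2) (by omega) (by omega) hp hpd
      omega
    have h1 := dvd_of_dvd_mul_of_small h hall hid
    obtain ⟨i, rfl⟩ : ∃ i, j = i + 1 := ⟨j - 1, by omega⟩
    have h2 : (m + (i + 1) + 1) * (m + (i + 1) + 2) =
        (m + 2) * (m + 2 + i + (i + 1)) + (i + 1) * (i + 1 - 1) := by
      rw [Nat.add_sub_cancel]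
      ring
    rw [h2] at h1
    exact (Nat.dvd_add_right ⟨_, rfl⟩).mp h1
  -- Step 4: `m + j - 1 ∣ j * (j - 1)`
  have h4 : (m + j - 1) ∣ j * (j - 1) := by
    obtain ⟨i, rfl⟩ : ∃ i, j = i + 2 := ⟨j - 2, by omega⟩
    have e1 := Nat.add_one_mul_choose_eq (m + i + 1) (i + 1)
    have e2 := Nat.add_one_mul_choose_eq (m + i) i
    have hid : (m + (i + 2) - 1) ∣ Nat.choose (m + (i + 2)) (i + 2) * ((i + 2) * (i + 2 - 1)) := by
      refine ⟨(m + i + 2) * Nat.choose (m + i) i, ?_⟩
      have e3 : m + (i + 2) - 1 = m + i + 1 := by omega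
      have e4 : i + 2 - 1 = i + 1 := by omega
      rw [e3, e4]
      calc Nat.choose (m + (i + 2)) (i + 2) * ((i + 2) * (i + 1))
          = (Nat.choose (m + i + 1 + 1) (i + 1 + 1) * (i + 1 + 1)) * (i + 1) := by
            rw [show m + (i + 2) = m + i + 1 + 1 by ring]
            ring
        _ = (m + i + 1 + 1) * (Nat.choose (m + i + 1) (i + 1) * (i + 1)) := by rw [← e1]; ring
        _ = (m + i + 1) * ((m + i + 2) * Nat.choose (m + i) i) := by rw [← e2]; ring
    have hall : ∀ p : ℕ, p.Prime → p ∣ (m + (i + 2) - 1) → p ≤ m := by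
      intro p hp hpd
      have := two_mul_prime_factor_le (n := m + (i + 2) - 1) (by omega) (by omega) hp hpd
      omega
    exact dvd_of_dvd_mul_of_small h hall hid
  -- Step 7
  obtain ⟨u, hu⟩ := h3
  obtain ⟨i, rfl⟩ : ∃ i, j = i + 3 := ⟨j - 3, by omega⟩
  have e1 : i + 3 - 1 = i + 2 := by omega
  rw [e1] at h4 h5
  rcases u with _ | _ | v
  · omega
  · -- `u = 1`
    rw [zero_add, mul_one] at hu
    subst hu
    have h6 : (i + 3 + 1 + 2) ∣ 12 := by
      have h7 : (i + 3) * (i + 2) + (i + 3 + 1 + 2) = (i + 3 + 1 + 2) * i + 12 := by ring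
      have h8 : (i + 3 + 1 + 2) ∣ (i + 3 + 1 + 2) * i + 12 := by
        rw [← h7]
        exact Dvd.dvd.add h5 (dvd_refl _)
      exact (Nat.dvd_add_right ⟨_, rfl⟩).mp h8
    have h7 := Nat.le_of_dvd (by norm_num) h6
    have hi : i ≤ 6 := by omega
    interval_cases i
    · exact ⟨rfl, rfl⟩
    · omega
    · omega
    · omega
    · omega
    · omega
    · exfalso
      exact h 2 Nat.prime_two (by norm_num) (by decide)
  · -- `u = v + 2`
    exfalso
    have hD : m + (i + 3) - 1 = (v + 2) * (i + 4) + i + 2 := by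
      rw [hu]
      have : (i + 3 + 1) * (v + 1 + 1) = (v + 2) * (i + 4) := by ring
      omega
    rw [hD] at h4
    have hle := Nat.le_of_dvd (by positivity) h4
    have hvi : v + 1 ≤ i := by
      by_contra hc
      have hc' : i ≤ v := by omega
      nlinarith
    have hid : (v + 3) ^ 2 * ((i + 3) * (i + 2)) =
        ((v + 2) * (i + 4) + i + 2) * ((v + 2) * i + v + 2 + i + 3) + 2 * (v + 2) * (v + 1) := by
      ring
    have h6 : ((v + 2) * (i + 4) + i + 2) ∣ 2 * (v + 2) * (v + 1) := by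
      have h7 : ((v + 2) * (i + 4) + i + 2) ∣ (v + 3) ^ 2 * ((i + 3) * (i + 2)) :=
        Dvd.dvd.mul_left h4 _
      rw [hid] at h7
      exact (Nat.dvd_add_right ⟨_, rfl⟩).mp h7
    obtain ⟨k, hk⟩ := h6
    rcases k with _ | _ | k
    · nlinarith
    · rw [zero_add, mul_one] at hk
      have h7 : (v + 3) ∣ 6 := by
        have h8 : (v + 3) * (i + 4) = (v + 3) * (2 * v) + 6 := by nlinarith
        have h9 : (v + 3) ∣ (v + 3) * (2 * v) + 6 := ⟨i + 4, h8.symm⟩
        exact (Nat.dvd_add_right ⟨_, rfl⟩).mp h9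
      have h8 := Nat.le_of_dvd (by norm_num) h7
      have hv : v ≤ 3 := by omega
      interval_cases v
      · omega
      · omega
      · omega
      · omega
    · nlinarith [Nat.zero_le (k * ((v + 2) * (i + 4) + i + 2))]

end Cfsg.Agent.Helper97.HallSym
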