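import Mathlib
import Cfsg.Agent.Helper30.HallSym.Defs

/-!
# (D-1) of board #6830 (for helper30, S2534): a subgroup of `A_n` (`n ≥ 5`) without fixed points whose
order has only prime divisors `≤ n - 2`
-/

set_option autoImplicit false

namespace Cfsg.Agent.Helper97.HallSym

open Equiv Equiv.Perm MulAction Subgroup
open scoped Nat Pointwise

/-- the permutations preserving a function -/
def fibreSubgroup {α ι : Type*} (f : α → ι) : Subgroup (Perm α) where
  carrier := {g | f ∘ g = f}
  mul_mem' := by
    intro g h hg hh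
    show f ∘ ⇑(g * h) = f
    have hg' : f ∘ ⇑g = f := hg
    have hh' : f ∘ ⇑h = f := hh
    rw [Perm.coe_mul, ← Function.comp_assoc, hg', hh']
  one_mem' := by
    show f ∘ ⇑(1 : Perm α) = f
    rfl
  inv_mem' := by
    intro g hg
    show f ∘ ⇑g⁻¹ = f
    funext x
    have hg' : f ∘ ⇑g = f := hg
    have h1 := congrFun hg' (g⁻¹ x)
    have h2 : g (g⁻¹ x) = x := by
      rw [← Perm.mul_apply, mul_inv_cancel, Perm.one_apply]
    rw [Function.comp_apply, h2] at h1
    exact h1.symm

theorem mem_fibreSubgroup {α ι : Type*} (f : α → ι) (g : Perm α) :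
    g ∈ fibreSubgroup f ↔ f ∘ g = f := Iff.rfl

theorem swap_mem_fibreSubgroup {α ι : Type*} [DecidableEq α] (f : α → ι) (x y : α)
    (h : f x = f y) : swap x y ∈ fibreSubgroup f := by
  rw [mem_fibreSubgroup]
  funext z
  show f (swap x y z) = f z
  rw [swap_apply_def]
  split_ifs with h1 h2
  · rw [h1, h]
  · rw [h2, h]
  · rfl

/-- (D-1) -/
theorem exists_subgroup_no_fixed_point (n : ℕ) (hn : 5 ≤ n) :
    ∃ X : Subgroup (Perm (Fin n)), X ≤ alternatingGroup (Fin n) ∧
      (∀ p : ℕ, p.Prime → p ∣ Nat.card X → p ≤ n - 2) ∧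
      ∀ a : Fin n, ¬ X ≤ stabilizer (Perm (Fin n)) a := by
  classical
  obtain ⟨f, hf⟩ : ∃ f : Fin n → Bool, f = fun a : Fin n => decide ((a : ℕ) < 2) := ⟨_, rfl⟩
  have hf_true : ∀ x : Fin n, (x : ℕ) < 2 → f x = true := fun x hx => by
    rw [hf]; exact decide_eq_true hx
  have hf_false : ∀ x : Fin n, 2 ≤ (x : ℕ) → f x = false := fun x hx => by
    rw [hf]; exact decide_eq_false (by omega)
  refine ⟨fibreSubgroup f ⊓ alternatingGroup (Fin n), inf_le_right, ?_, ?_⟩
  · intro p hp hdvd
    have h1 : Nat.card (fibreSubgroup f ⊓ alternatingGroup (Fin n) : Subgroup (Perm (Fin n))) ∣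
        Nat.card (fibreSubgroup f) := Subgroup.card_dvd_of_le inf_le_left
    have htrue : Set.ncard {a : Fin n | f a = true} = 2 := by
      rw [Set.ncard_eq_toFinset_card', Set.toFinset_ofPred]
      have h2 : (Finset.univ.filter fun a : Fin n => f a = true) =
          Finset.univ.filter fun a : Fin n => (a : ℕ) < 2 := by
        apply Finset.filter_congr
        intro a _
        rw [hf]
        exact decide_eq_true_iff
      rw [h2, Fin.card_filter_val_lt]
      omega
    have hfalse : Set.ncard {a : Fin n | f a = false} = n - 2 := by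
      have h2 : {a : Fin n | f a = false} = {a : Fin n | f a = true}ᶜ := by
        ext a
        simp
      have h3 := Set.ncard_add_ncard_compl {a : Fin n | f a = true}
      rw [Nat.card_eq_fintype_card, Fintype.card_fin, htrue] at h3
      rw [h2]
      omega
    have h2 : Nat.card (fibreSubgroup f) = 2 ! * (n - 2)! := by
      have h3 : Nat.card (fibreSubgroup f) =
          Set.ncard {g : Perm (Fin n) | f ∘ g = f} := Nat.card_coe_set_eq _
      rw [h3, DomMulAct.stabilizer_ncard, Fintype.prod_bool, htrue, hfalse]
    rw [h2] at h1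
    have h3 := hdvd.trans h1
    rcases (Nat.Prime.dvd_mul hp).mp h3 with h | h
    · have := (hp.dvd_factorial).mp h
      omega
    · exact (hp.dvd_factorial).mp h
  · intro a hle
    have hsign : ∀ x y z w : Fin n, x ≠ y → z ≠ w →
        swap x y * swap z w ∈ alternatingGroup (Fin n) := by
      intro x y z w hxy hzw
      rw [mem_alternatingGroup, map_mul, sign_swap hxy, sign_swap hzw]
      decide
    have hfix : ∀ g ∈ fibreSubgroup f ⊓ alternatingGroup (Fin n), g a = a := by
      intro g hg
      have := hle hg
      rw [mem_stabilizer_iff, Perm.smul_def] at this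
      exact this
    by_cases ha : (a : ℕ) < 2
    · -- `a ∈ {0, 1}`
      have h01 : (⟨0, by omega⟩ : Fin n) ≠ ⟨1, by omega⟩ := by
        intro h; have := congrArg Fin.val h; simp at this
      have h23 : (⟨2, by omega⟩ : Fin n) ≠ ⟨3, by omega⟩ := by
        intro h; have := congrArg Fin.val h; simp at this
      have hg : swap (⟨0, by omega⟩ : Fin n) ⟨1, by omega⟩ * swap (⟨2, by omega⟩ : Fin n) ⟨3, by omega⟩ ∈
          fibreSubgroup f ⊓ alternatingGroup (Fin n) := by
        refine ⟨Subgroup.mul_mem _ (swap_mem_fibreSubgroup f _ _ ?_) (swap_mem_fibreSubgroup f _ _ ?_),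
          hsign _ _ _ _ h01 h23⟩
        · rw [hf_true _ (by simp), hf_true _ (by simp)]
        · rw [hf_false _ (by simp), hf_false _ (by simp)]
      have h1 := hfix _ hg
      rw [Perm.mul_apply] at h1
      have ha2 : a ≠ ⟨2, by omega⟩ := by
        intro h; have := congrArg Fin.val h; simp at this; omega
      have ha3 : a ≠ ⟨3, by omega⟩ := by
        intro h; have := congrArg Fin.val h; simp at this; omega
      rw [swap_apply_of_ne_of_ne ha2 ha3] at h1
      rcases Nat.lt_succ_iff_lt_or_eq.mp ha with h0 | h1'
      · have ha0 : a = ⟨0, by omega⟩ := Fin.ext (by simp; omega)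
        rw [ha0, swap_apply_left] at h1
        exact h01 h1.symm
      · have ha1 : a = ⟨1, by omega⟩ := Fin.ext (by simp; omega)
        rw [ha1, swap_apply_right] at h1
        exact h01 h1
    · -- `a ∉ {0, 1}`
      have hex : ∃ b c : Fin n, a ≠ b ∧ a ≠ c ∧ b ≠ c ∧ 2 ≤ (b : ℕ) ∧ 2 ≤ (c : ℕ) := by
        by_cases h2 : (a : ℕ) = 2
        · refine ⟨⟨3, by omega⟩, ⟨4, by omega⟩, ?_, ?_, ?_, by simp, by simp⟩
          · intro h; have := congrArg Fin.val h; simp at this; omega
          · intro h; have := congrArg Fin.val h; simp at this; omega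
          · intro h; have := congrArg Fin.val h; simp at this
        · by_cases h3 : (a : ℕ) = 3
          · refine ⟨⟨2, by omega⟩, ⟨4, by omega⟩, ?_, ?_, ?_, by simp, by simp⟩
            · intro h; have := congrArg Fin.val h; simp at this; omega
            · intro h; have := congrArg Fin.val h; simp at this; omega
            · intro h; have := congrArg Fin.val h; simp at this
          · refine ⟨⟨2, by omega⟩, ⟨3, by omega⟩, ?_, ?_, ?_, by simp, by simp⟩
            · intro h; have := congrArg Fin.val h; simp at this; omega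
            · intro h; have := congrArg Fin.val h; simp at this; omega
            · intro h; have := congrArg Fin.val h; simp at this
      obtain ⟨b, c, hab, hac, hbc, hb, hc⟩ := hex
      have hg : swap a b * swap b c ∈ fibreSubgroup f ⊓ alternatingGroup (Fin n) := by
        refine ⟨Subgroup.mul_mem _ (swap_mem_fibreSubgroup f _ _ ?_) (swap_mem_fibreSubgroup f _ _ ?_),
          hsign _ _ _ _ hab hbc⟩
        · rw [hf_false _ (by omega), hf_false _ hb]
        · rw [hf_false _ hb, hf_false _ hc]
      have h1 := hfix _ hg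
      rw [Perm.mul_apply, swap_apply_of_ne_of_ne hab hac, swap_apply_left] at h1
      exact hab h1.symm

end Cfsg.Agent.Helper97.HallSym
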