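import Mathlib
import Cfsg.Agent.Helper97.QdCore
import Cfsg.Agent.Helper97.QdDickson
import Cfsg.Agent.Helper10.S2794Core
import Cfsg.Agent.Helper48.ZJClosedA
import Cfsg.Agent.Lib.ZJ9
import Cfsg.Agent.Helper46.QdChar

set_option autoImplicit false

/-!
# `Qd(p)`-free groups are `p`-stable in the normalizer form, and `Qd(p)` is not
-/

namespace Cfsg.Agent.Helper97.QdStable

open Cfsg.Agent.Helper97.QdCore Cfsg.Agent.Helper46
open scoped commutatorElement

/-- Dickson's theorem in the form `DicksonPair`. -/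
theorem dicksonPair (p : ℕ) [Fact p.Prime] (hp : p ≠ 2) : DicksonPair p := by
  intro K _ _ _ L s hsL hsp hs1 hS
  exact Cfsg.Agent.Helper97.QdDickson.dickson_pair_finite p hp K L s hsL hsp hs1 hS

theorem mem_pCore_quot_congr {N : Type*} [Group N] (p : ℕ) {C₁ C₂ : Subgroup N} [h₁ : C₁.Normal]
    [h₂ : C₂.Normal] (h : C₁ = C₂) (a : N)
    (ha : (QuotientGroup.mk a : N ⧸ C₁) ∈ Cfsg.pCore p (N ⧸ C₁)) :
    (QuotientGroup.mk a : N ⧸ C₂) ∈ Cfsg.pCore p (N ⧸ C₂) := by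
  subst h
  exact ha

/-- **Glauberman**: a finite `Qd(p)`-free group (`p` odd) is `p`-stable in the normalizer form. -/
theorem isNormalizerPStable_of_qdFree {X : Type*} [Group X] [Finite X] {p : ℕ} [Fact p.Prime]
    (hp : p ≠ 2) (hfree : ¬ Cfsg.Involves ↥(Cfsg.qd p) X) : Cfsg.IsNormalizerPStable p X := by
  intro P hP g hg hq
  set N := Subgroup.normalizer (P : Set X) with hN
  have hPN : P ≤ N := Subgroup.le_normalizer
  have hP'n : (P.subgroupOf N).Normal := Subgroup.normal_in_normalizer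
  have hfreeN : ¬ Cfsg.Involves ↥(Cfsg.qd p) ↥N := fun h =>
    hfree (Cfsg.Agent.Helper10.S2794Core.involves_of_involves_subgroup' N h)
  have hP' : IsPGroup p ↥(P.subgroupOf N) := hP.comap_of_injective N.subtype N.subtype_injective
  have hst := isPStableOn_of_qdFree hp (dicksonPair p hp) hfreeN (P.subgroupOf N) hP'
  have hq' : ⁅⁅P.subgroupOf N, Subgroup.zpowers (⟨g, hg⟩ : ↥N)⁆,
      Subgroup.zpowers (⟨g, hg⟩ : ↥N)⁆ = ⊥ := by
    rw [← Subgroup.map_eq_bot_iff_of_injective _ N.subtype_injective, Subgroup.map_commutator,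
      Subgroup.map_commutator, MonoidHom.map_zpowers, Subgroup.subgroupOf_map_subtype,
      inf_eq_left.2 hPN]
    exact hq
  have hmem := hst ⟨g, hg⟩ hq'
  have hC : Subgroup.centralizer ((P.subgroupOf N : Subgroup ↥N) : Set ↥N) =
      (Subgroup.centralizer (P : Set X)).subgroupOf N := by
    ext x
    rw [Subgroup.mem_subgroupOf, Subgroup.mem_centralizer_iff, Subgroup.mem_centralizer_iff]
    constructor
    · intro h y hy
      have := h ⟨y, hPN hy⟩ (Subgroup.mem_subgroupOf.2 hy)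
      exact congrArg Subtype.val this
    · intro h y hy
      apply Subtype.ext
      exact h y.1 (Subgroup.mem_subgroupOf.1 hy)
  exact mem_pCore_quot_congr p hC _ hmem


section qd

variable {p : ℕ} [Fact p.Prime]

/-- the element `uni 1 0 0` acts quadratically on the translation subgroup of `Qd(p)` -/
theorem qd_quadratic :
    ⁅⁅qdVt p, Subgroup.zpowers (uni 1 0 0 : ↥(Cfsg.qd p))⁆,
      Subgroup.zpowers (uni 1 0 0 : ↥(Cfsg.qd p))⁆ = ⊥ := by
  have hA : Subgroup.zpowers (uni 1 0 0 : ↥(Cfsg.qd p)) ≤ qdS0 p :=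
    (Subgroup.zpowers_le).2 (uni_mem_qdS0 1 0 0)
  rw [Subgroup.commutator_eq_bot_iff_le_centralizer, Subgroup.commutator_le]
  intro v hv z hz
  have hz' := hA hz
  have hzi' := hA (inv_mem hz)
  obtain ⟨z00, z10, z11⟩ := hz'
  rw [eq_uni_of_mem_qdVt hv]
  have e1 : ⁅uni 0 (ent v 1 2) (ent v 0 2), z⁆ =
      uni 0 (ent v 1 2) (ent v 0 2) * (z * (uni 0 (ent v 1 2) (ent v 0 2))⁻¹ * z⁻¹) := by
    rw [commutatorElement_def]; group
  have e2 : (uni 0 (ent v 1 2) (ent v 0 2) : ↥(Cfsg.qd p))⁻¹ = uni 0 (-ent v 1 2) (-ent v 0 2) := by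
    apply inv_eq_of_mul_eq_one_right
    rw [uni_mul, ← uni_zero_eq_one]
    congr 1 <;> ring
  rw [e1, e2, conj_uni_zero, uni_mul, z00, z10, z11]
  obtain ⟨c', hc'⟩ : ∃ c' : ZMod p, (uni (0 + 0) (ent v 1 2 + (0 * -ent v 0 2 + 1 * -ent v 1 2))
      (ent v 0 2 + (1 * -ent v 0 2 + ent z 0 1 * -ent v 1 2) +
        0 * (0 * -ent v 0 2 + 1 * -ent v 1 2)) : ↥(Cfsg.qd p)) = uni 0 0 c' :=
    ⟨_, by congr 1 <;> ring⟩
  rw [hc', Subgroup.mem_centralizer_iff]
  intro y hy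
  obtain ⟨y00, y10, y11⟩ := hA hy
  rw [mul_uni_zero, y00, y10, y11]
  congr 1
  congr 1 <;> ring

/-- `Qd(p)` is not `p`-stable in the normalizer form. -/
theorem not_isNormalizerPStable_qd : ¬ Cfsg.IsNormalizerPStable p ↥(Cfsg.qd p) := by
  intro hst
  have hVp : IsPGroup p ↥(qdVt p) := IsPGroup.of_card (n := 2) card_qdVt
  have hV := Cfsg.Agent.Lib.ZJ.isPStableOn_of_isNormalizerPStable hst (qdVt p) hVp
  have hmem := hV (uni 1 0 0) qd_quadratic
  rw [Cfsg.Agent.Helper64.mk_mem_pCore_iff] at hmem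
  obtain ⟨T, hTn, haT, hT⟩ := hmem
  have hTp : IsPGroup p ↥T := by
    intro t
    obtain ⟨k, hk⟩ := hT t.1 t.2
    obtain ⟨m, hm⟩ := hVp ⟨_, centralizer_qdVt_le hk⟩
    refine ⟨k + m, ?_⟩
    apply Subtype.ext
    have hm' := congrArg Subtype.val hm
    simp only [Subgroup.coe_pow, Subgroup.coe_one] at hm' ⊢
    rw [pow_add, pow_mul]
    exact hm'
  have hTS : T ≤ qdS0 p := by
    have h1 := Cfsg.Agent.Lib.le_pCore hTn hTp
    have h2 := Cfsg.Agent.Lib.pCore_le_sylow (qdSyl0 p)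
    exact h1.trans h2
  -- a conjugate of `uni 1 0 0` outside the unitriangular subgroup
  set w : ↥(Cfsg.qd p) := mkQd !![0, 1, 0; -1, 0, 0; 0, 0, 1]
    (by simp [Matrix.det_fin_three]) (by simp) with hw
  have hc : w * uni 1 0 0 * w⁻¹ ∈ qdS0 p := hTS (hTn.conj_mem _ haT w)
  obtain ⟨c00, c10, c11⟩ := hc
  have e : (w * uni 1 0 0 * w⁻¹) * w = w * uni 1 0 0 := by group
  have e1 := congrArg (fun g => ent g 1 1) e
  simp only [ent_mul (w * uni 1 0 0 * w⁻¹) w, ent_mul w (uni 1 0 0)] at e1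
  rw [c10, c11] at e1
  simp [hw, ent_mkQd, ent_uni] at e1

end qd

end Cfsg.Agent.Helper97.QdStable
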