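import Mathlib
import Cfsg.Agent.Helper97.QuadLin
import Cfsg.Agent.Helper97.SL2Odd
import Cfsg.Agent.S0199

set_option autoImplicit false

/-!
# `p`-stability of actions of groups with abelian Sylow `2`-subgroups (abstract action form)
-/

namespace Cfsg.Agent.Helper97.QuadAct

open scoped Pointwise

/-- a `2`-subgroup of a finite group with a commutative Sylow `2`-subgroup is commutative -/
theorem comm_of_two_subgroup {Γ : Type*} [Group Γ] [Finite Γ] (T : Sylow 2 Γ)
    (hT : IsMulCommutative T) (Q : Subgroup Γ) (hQ : IsPGroup 2 Q) :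
    ∀ x ∈ Q, ∀ y ∈ Q, x * y = y * x := by
  obtain ⟨P, hP⟩ := hQ.exists_le_sylow
  obtain ⟨g, hg⟩ := MulAction.exists_smul_eq Γ T P
  have hmem : ∀ z : Γ, z ∈ (P : Subgroup Γ) ↔ g⁻¹ * z * g ∈ (T : Subgroup Γ) := by
    intro z
    rw [← hg, Sylow.smul_def, Sylow.pointwise_smul_def,
      Subgroup.mem_pointwise_smul_iff_inv_smul_mem]
    simp [MulAut.smul_def]
  intro x hx y hy
  have h1 := (hmem _).1 (hP hx)
  have h2 := (hmem _).1 (hP hy)
  have h3 := hT.is_comm.comm ⟨_, h1⟩ ⟨_, h2⟩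
  have h4 := congrArg (fun z : (T : Subgroup Γ) => (z : Γ)) h3
  simp only [Subgroup.coe_mul] at h4
  have h5 : g⁻¹ * (x * y) * g = g⁻¹ * (y * x) * g := by
    calc g⁻¹ * (x * y) * g = (g⁻¹ * x * g) * (g⁻¹ * y * g) := by group
      _ = (g⁻¹ * y * g) * (g⁻¹ * x * g) := h4
      _ = g⁻¹ * (y * x) * g := by group
  exact mul_left_cancel (mul_right_cancel h5)

/-- every Sylow `2`-subgroup of a subgroup is commutative if one Sylow `2`-subgroup of the group is -/
theorem sylow_two_subgroup_comm {Γ : Type*} [Group Γ] [Finite Γ] (T : Sylow 2 Γ)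
    (hT : IsMulCommutative T) (H : Subgroup Γ) (T₁ : Sylow 2 H) : IsMulCommutative T₁ := by
  refine ⟨⟨fun x y => ?_⟩⟩
  have hQ : IsPGroup 2 ((T₁ : Subgroup H).map H.subtype) := T₁.2.map _
  have := comm_of_two_subgroup T hT _ hQ (x : H) (Subgroup.mem_map_of_mem _ x.2)
    (y : H) (Subgroup.mem_map_of_mem _ y.2)
  apply Subtype.ext
  apply Subtype.ext
  exact this

variable {A : Type*} [CommGroup A] [Finite A] {p : ℕ} [Fact p.Prime]

/-- abstract pair theorem -/
theorem isPGroup_of_quadratic_pair_action (hp : p ≠ 2) (hA : ∀ v : A, v ^ p = 1)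
    {Γ : Type*} [Group Γ] (θ : Γ →* MulAut A) (hθ : Function.Injective θ) (x y : Γ)
    (hgen : Subgroup.closure {x, y} = ⊤)
    (hx : ∀ v : A, θ x (θ x v / v) = θ x v / v) (hy : ∀ v : A, θ y (θ y v / v) = θ y v / v)
    (T : Sylow 2 Γ) (hT : IsMulCommutative T) : IsPGroup p Γ := by
  have : Finite Γ := Finite.of_injective θ hθ
  by_contra hnp
  obtain ⟨K, iF, iFt, iC, φ, h1, hxp, hyp⟩ :=
    Cfsg.Agent.Helper97.QuadLin.exists_hom_SL2_of_action hA θ hθ x y hgen hx hy hnp
  have hsurj : Function.Surjective φ.rangeRestrict := φ.rangeRestrict_surjective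
  let gens : Set φ.range := {φ.rangeRestrict x, φ.rangeRestrict y}
  have hgens : Subgroup.closure gens = ⊤ := by
    have h2 : gens = φ.rangeRestrict '' ({x, y} : Set Γ) := by
      simp only [gens, Set.image_insert_eq, Set.image_singleton]
    rw [h2, ← MonoidHom.map_closure, hgen, ← MonoidHom.range_eq_map,
      MonoidHom.range_eq_top.2 hsurj]
  have hgp : ∀ s ∈ gens, s ^ p = 1 := by
    rintro s (rfl | rfl)
    · rw [← map_pow, hxp, map_one]
    · rw [← map_pow, hyp, map_one]
  let T' : Sylow 2 φ.range := T.mapSurjective hsurj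
  have hT' : IsMulCommutative T' := by
    have : ((T' : Subgroup φ.range)) = (T : Subgroup Γ).map φ.rangeRestrict :=
      Sylow.coe_mapSurjective hsurj T
    rw [show IsMulCommutative T' ↔ IsMulCommutative ((T' : Subgroup φ.range)) from Iff.rfl, this]
    exact Subgroup.map_isMulCommutative _ _
  exact h1 (Cfsg.Agent.Helper97.SL2Odd.isPGroup_of_gens hp φ.range gens hgens hgp T' hT')

/-- abstract Baer–Suzuki step: a quadratic element of a group acting faithfully on an elementary
abelian `p`-group, with commutative Sylow `2`-subgroup, lies in a normal `p`-subgroup. -/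
theorem exists_normal_pSubgroup_of_quadratic_action (hp : p ≠ 2) (hA : ∀ v : A, v ^ p = 1)
    {Γ : Type*} [Group Γ] (θ : Γ →* MulAut A) (hθ : Function.Injective θ) (a : Γ)
    (ha : ∀ v : A, θ a (θ a v / v) = θ a v / v)
    (T : Sylow 2 Γ) (hT : IsMulCommutative T) :
    ∃ N : Subgroup Γ, N.Normal ∧ IsPGroup p N ∧ a ∈ N := by
  have : Finite Γ := Finite.of_injective θ hθ
  have hpair : ∀ g : Γ, IsPGroup p (Subgroup.closure ({a, g * a * g⁻¹} : Set Γ)) := by
    intro g
    set b : Γ := g * a * g⁻¹ with hb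
    set Hg : Subgroup Γ := Subgroup.closure ({a, b} : Set Γ) with hHg
    have haH : a ∈ Hg := Subgroup.subset_closure (by simp)
    have hbH : b ∈ Hg := Subgroup.subset_closure (by simp)
    have hgen : Subgroup.closure ({(⟨a, haH⟩ : Hg), ⟨b, hbH⟩} : Set Hg) = ⊤ := by
      have h1 := Subgroup.closure_closure_coe_preimage (k := ({a, b} : Set Γ))
      have h2 : ((↑) : Hg → Γ) ⁻¹' ({a, b} : Set Γ) = ({(⟨a, haH⟩ : Hg), ⟨b, hbH⟩} : Set Hg) := by
        ext z
        simp only [Set.mem_preimage, Set.mem_insert_iff, Set.mem_singleton_iff, Subtype.ext_iff]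
      rw [← h2]
      exact h1
    have hbq : ∀ v : A, θ b (θ b v / v) = θ b v / v := by
      intro v
      have e : ∀ u : A, θ b u = θ g (θ a (θ g⁻¹ u)) := by
        intro u
        rw [hb, map_mul, map_mul]; rfl
      have e2 : θ g⁻¹ (θ g (θ a (θ g⁻¹ v)) / v) = θ a (θ g⁻¹ v) / θ g⁻¹ v := by
        rw [map_div]
        congr 1
        rw [← MulAut.mul_apply, ← map_mul, inv_mul_cancel, map_one, MulAut.one_apply]
      rw [e (θ b v / v), e v, e2, ha, ← e2]
      rw [← MulAut.mul_apply, ← map_mul, mul_inv_cancel, map_one, MulAut.one_apply]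
    let T₁ : Sylow 2 Hg := default
    have hT₁ : IsMulCommutative T₁ := sylow_two_subgroup_comm T hT Hg T₁
    exact isPGroup_of_quadratic_pair_action hp hA (θ.comp Hg.subtype)
      (hθ.comp Subtype.val_injective) ⟨a, haH⟩ ⟨b, hbH⟩ hgen (fun v => ha v) (fun v => hbq v)
      T₁ hT₁
  have hX : ∀ g : Γ, IsPGroup p ↥(Subgroup.zpowers a ⊔
      (Subgroup.zpowers a).map (MulAut.conj g).toMonoidHom) := by
    intro g
    refine (hpair g).to_le (sup_le ?_ ?_)
    · rw [Subgroup.zpowers_le]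
      exact Subgroup.subset_closure (by simp)
    · rw [MonoidHom.map_zpowers, Subgroup.zpowers_le]
      exact Subgroup.subset_closure (by simp)
  have hX0 : IsPGroup p (Subgroup.zpowers a) := (hX 1).to_le le_sup_left
  obtain ⟨N, hN1, hN2, hN3⟩ := Cfsg.Agent.S0199.result (Subgroup.zpowers a) hX0 hX
  exact ⟨N, hN1, hN2, hN3 (Subgroup.mem_zpowers a)⟩

/-- non-faithful version: for any action `ψ : G →* MulAut Q` on an elementary abelian `p`-group,
a quadratic element lies in a normal subgroup `D ≥ ker ψ` with `D / ker ψ` a `p`-group. -/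
theorem exists_normal_of_quadratic_hom (hp : p ≠ 2) {G : Type*} [Group G] [Finite G]
    (hA : ∀ v : A, v ^ p = 1) (ψ : G →* MulAut A) (a : G)
    (ha : ∀ q : A, ψ a (ψ a q * q⁻¹) = ψ a q * q⁻¹)
    (T : Sylow 2 G) (hT : IsMulCommutative T) :
    ∃ D : Subgroup G, D.Normal ∧ ψ.ker ≤ D ∧ (∀ d ∈ D, ∃ n : ℕ, d ^ p ^ n ∈ ψ.ker) ∧ a ∈ D := by
  set θ : G ⧸ ψ.ker →* MulAut A := QuotientGroup.kerLift ψ with hθ
  have hinj : Function.Injective θ := QuotientGroup.kerLift_injective ψ
  have hθmk : ∀ g : G, θ (QuotientGroup.mk g) = ψ g := fun g => QuotientGroup.kerLift_mk ψ g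
  have hsurj : Function.Surjective (QuotientGroup.mk' ψ.ker) := QuotientGroup.mk'_surjective _
  let T' : Sylow 2 (G ⧸ ψ.ker) := T.mapSurjective hsurj
  have hT' : IsMulCommutative T' := by
    have : ((T' : Subgroup (G ⧸ ψ.ker))) = (T : Subgroup G).map (QuotientGroup.mk' ψ.ker) :=
      Sylow.coe_mapSurjective hsurj T
    rw [show IsMulCommutative T' ↔ IsMulCommutative ((T' : Subgroup (G ⧸ ψ.ker))) from Iff.rfl,
      this]
    exact Subgroup.map_isMulCommutative _ _
  have ha' : ∀ v : A, θ (QuotientGroup.mk a) (θ (QuotientGroup.mk a) v / v) =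
      θ (QuotientGroup.mk a) v / v := by
    intro v
    rw [hθmk, div_eq_mul_inv]
    exact ha v
  obtain ⟨N, hN1, hN2, hN3⟩ :=
    exists_normal_pSubgroup_of_quadratic_action hp hA θ hinj (QuotientGroup.mk a) ha' T' hT'
  refine ⟨N.comap (QuotientGroup.mk' ψ.ker), hN1.comap _, ?_, ?_, hN3⟩
  · intro k hk
    rw [Subgroup.mem_comap, QuotientGroup.mk'_apply, (QuotientGroup.eq_one_iff k).2 hk]
    exact N.one_mem
  · intro d hd
    obtain ⟨n, hn⟩ := hN2 ⟨_, hd⟩
    refine ⟨n, ?_⟩
    have h1 : (QuotientGroup.mk' ψ.ker d) ^ p ^ n = 1 := congrArg Subtype.val hn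
    rw [← map_pow, QuotientGroup.mk'_apply, QuotientGroup.eq_one_iff] at h1
    exact h1

end Cfsg.Agent.Helper97.QuadAct
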