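import Mathlib
import Cfsg.Prelude.Def_PLocal
import Cfsg.Agent.Helper54.SectionAct
import Cfsg.Agent.Helper97.QuadAct

set_option autoImplicit false

/-!
# Groups with abelian Sylow `2`-subgroups act `p`-stably on elementary abelian sections (`p` odd)
-/

namespace Cfsg.Agent.Helper97.QuadSection

open Cfsg.Agent.Helper54.Quad
open scoped commutatorElement

variable {G : Type*} [Group G] [Finite G] {p : ℕ} [Fact p.Prime]

theorem isPStableOnSection_of_comm_sylow_two (hp : p ≠ 2) (T : Sylow 2 G)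
    (hT : IsMulCommutative T) (K N : Subgroup G) [K.Normal] [N.Normal] (_hNK : N ≤ K)
    (hcomm : ⁅K, K⁆ ≤ N) (hpow : ∀ k ∈ K, k ^ p ∈ N) : Cfsg.IsPStableOnSection p K N := by
  intro a ha
  obtain ⟨D, hDn, hCD, hDp, haD⟩ :=
    @Cfsg.Agent.Helper97.QuadAct.exists_normal_of_quadratic_hom (↥K ⧸ N.subgroupOf K)
      (secCommGroup K N hcomm) inferInstance p _ hp G _ _ (sec_pow_eq_one K N hpow) (secAct K N) a
      (secAct_quadratic K N a ha) T hT
  rw [secAct_ker] at hCD hDp
  haveI : (Cfsg.sectionKernel K N).Normal := sectionKernel_normal K N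
  exact ⟨D, hDn, hCD, relIndex_eq_pow_of_forall _ D hDp, haD⟩

/-- `p`-stability on normal abelian subgroups of exponent `p`. -/
theorem isPStableOn_of_comm_sylow_two (hp : p ≠ 2) (T : Sylow 2 G)
    (hT : IsMulCommutative T) (V : Subgroup G) [V.Normal]
    (hab : ∀ u ∈ V, ∀ v ∈ V, u * v = v * u) (hexp : ∀ v ∈ V, v ^ p = 1) :
    Cfsg.IsPStableOn p V := by
  intro a ha
  have hcomm : ⁅V, V⁆ ≤ (⊥ : Subgroup G) := by
    rw [Subgroup.commutator_le]
    intro u hu v hv
    rw [Subgroup.mem_bot, commutatorElement_eq_one_iff_commute]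
    exact hab u hu v hv
  have hpow : ∀ v ∈ V, v ^ p ∈ (⊥ : Subgroup G) := by
    intro v hv; rw [Subgroup.mem_bot]; exact hexp v hv
  obtain ⟨D, hDn, hCD, ⟨k, hk⟩, haD⟩ :=
    isPStableOnSection_of_comm_sylow_two hp T hT V ⊥ bot_le hcomm hpow a (by rw [ha])
  haveI := hDn
  haveI hskn : (Cfsg.sectionKernel V (⊥ : Subgroup G)).Normal := sectionKernel_normal V ⊥
  have hsk : Cfsg.sectionKernel V (⊥ : Subgroup G) ≤ Subgroup.centralizer (V : Set G) := by
    intro g hg
    rw [mem_sectionKernel_iff] at hg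
    rw [Subgroup.mem_centralizer_iff]
    intro v hv
    have h1 := hg v hv
    rw [Subgroup.mem_bot] at h1
    have h2 : v * g = g * v := by
      have := inv_mul_eq_one.mp h1
      exact this
    exact h2
  have hDmap_n : (D.map (QuotientGroup.mk' (Subgroup.centralizer (V : Set G)))).Normal :=
    hDn.map _ (QuotientGroup.mk'_surjective _)
  have hDmap_p : IsPGroup p (D.map (QuotientGroup.mk' (Subgroup.centralizer (V : Set G)))) := by
    rintro ⟨_, ⟨d, hd, rfl⟩⟩
    refine ⟨k, ?_⟩
    apply Subtype.ext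
    show (QuotientGroup.mk' (Subgroup.centralizer (V : Set G)) d) ^ p ^ k = 1
    rw [← map_pow, QuotientGroup.mk'_apply, QuotientGroup.eq_one_iff, ← hk]
    exact hsk (pow_relIndex_mem hd)
  have hle : D.map (QuotientGroup.mk' (Subgroup.centralizer (V : Set G))) ≤
      Cfsg.pCore p (G ⧸ Subgroup.centralizer (V : Set G)) := le_sSup ⟨hDmap_n, hDmap_p⟩
  exact hle (Subgroup.mem_map_of_mem _ haD)

end Cfsg.Agent.Helper97.QuadSection
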