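import Cfsg.Agent.Helper6.SzChar0
import Cfsg.Agent.Helper38.MackeyTwo

/-!
# Piece [MF] of helper6's S4775 farm: Mackey for the linear characters of the Borel subgroup
-/

set_option autoImplicit false

namespace Cfsg.Agent.Helper97.Szc

open Cfsg Cfsg.Agent.Helper6
open scoped ComplexConjugate

universe u

variable {G : Type u} [Group G] [Fintype G] {Q H B K₁ K₂ : Subgroup G} {w : G} {T : ℕ}
  [Fintype ↥B]

/-- MF: Mackey for the linear characters of `B` -/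
theorem szc_mackey_lin (D : SzHyp Q H B K₁ K₂ w T) (l μ : ↥B →* ℂ)
    (hl : ∀ x : ↥B, (x : G) ∈ Q → l x = 1) (hμ : ∀ x : ↥B, (x : G) ∈ Q → μ x = 1)
    (hsep : ∃ h : ↥B, (h : G) ∈ H ∧ l h ≠ conj (μ h)) :
    classInner (indFun B (fun b => l b)) (indFun B (fun b => μ b))
      = classInner (fun b : ↥B => l b) (fun b : ↥B => μ b) := by
  classical
  obtain ⟨h, hH, hne⟩ := hsep
  rw [Helper38.classInner_indFun_of_sep B l μ]
  · rfl
  · intro x hx
    obtain ⟨b, hb, b', hb', rfl⟩ := D.bruhat x hx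
    have hconj : (b * w * b')⁻¹ * ((⟨b, hb⟩ * h * ⟨b, hb⟩⁻¹ : ↥B) : G) * (b * w * b')
        = b'⁻¹ * (h : G)⁻¹ * b' := by
      have hw := D.winv (h : G) hH
      have : (b * w * b')⁻¹ * ((⟨b, hb⟩ * h * ⟨b, hb⟩⁻¹ : ↥B) : G) * (b * w * b')
          = b'⁻¹ * (w⁻¹ * (h : G) * w) * b' := by
        simp only [Subgroup.coe_mul, Subgroup.coe_inv]
        group
      rw [this, hw]
    have hmem : (b * w * b')⁻¹ * ((⟨b, hb⟩ * h * ⟨b, hb⟩⁻¹ : ↥B) : G) * (b * w * b') ∈ B := by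
      rw [hconj]
      exact B.mul_mem (B.mul_mem (B.inv_mem hb') (B.inv_mem h.2)) hb'
    refine ⟨⟨b, hb⟩ * h * ⟨b, hb⟩⁻¹, hmem, ?_⟩
    have e1 : l (⟨b, hb⟩ * h * ⟨b, hb⟩⁻¹) = l h := by
      rw [map_mul, map_mul, mul_comm (l _) (l h), mul_assoc, ← map_mul, mul_inv_cancel,
        map_one, mul_one]
    have e2 : (⟨(b * w * b')⁻¹ * ((⟨b, hb⟩ * h * ⟨b, hb⟩⁻¹ : ↥B) : G) * (b * w * b'), hmem⟩ : ↥B)
        = (⟨b', hb'⟩ : ↥B)⁻¹ * h⁻¹ * ⟨b', hb'⟩ := by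
      apply Subtype.ext
      simp only [Subgroup.coe_mul, Subgroup.coe_inv]
      exact hconj
    have e3 : μ ((⟨b', hb'⟩ : ↥B)⁻¹ * h⁻¹ * ⟨b', hb'⟩) = μ h⁻¹ := by
      rw [map_mul, map_mul, mul_comm (μ _) (μ h⁻¹), mul_assoc, ← map_mul, inv_mul_cancel,
        map_one, mul_one]
    have e4 : μ h⁻¹ = conj (μ h) := by
      have h1 := Helper38.monoidHomC_mul_conj μ h
      have h2 : μ h * μ h⁻¹ = 1 := by rw [← map_mul, mul_inv_cancel, map_one]
      have hne0 : μ h ≠ 0 := by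
        intro h0; rw [h0, zero_mul] at h2; exact zero_ne_one h2
      exact mul_left_cancel₀ hne0 (h2.trans h1.symm)
    rw [e1, e2, e3, e4]
    exact hne

end Cfsg.Agent.Helper97.Szc
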