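import Cfsg.Agent.Helper6.SzChar0
import Cfsg.Agent.Helper38.MackeyTwo

/-!
# Piece [MG] of helper6's S4775 farm: the permutation character on the cosets of the Borel
subgroup has norm `2`
-/

set_option autoImplicit false

namespace Cfsg.Agent.Helper97.Szc

open Cfsg Cfsg.Agent.Helper6
open scoped ComplexConjugate

universe u

variable {G : Type u} [Group G] [Fintype G] {Q H B K₁ K₂ : Subgroup G} {w : G} {T : ℕ}
  [Fintype ↥B]

omit [Fintype G] [Fintype ↥B] in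
/-- `|B| = |Q| |H|` -/
theorem MG_card_B (D : SzHyp Q H B K₁ K₂ w T) :
    Nat.card ↥B = (2 * T ^ 2) ^ 2 * (2 * T ^ 2 - 1) := by
  classical
  rw [← D.cardQ, ← D.cardH, ← Nat.card_prod]
  symm
  refine Nat.card_congr (Equiv.ofBijective
    (fun p : ↥Q × ↥H => (⟨(p.1 : G) * (p.2 : G), B.mul_mem (D.QB p.1.2) (D.HB p.2.2)⟩ : ↥B))
    ⟨?_, ?_⟩)
  · rintro ⟨x, h⟩ ⟨x', h'⟩ hxy
    have e : (x : G) * (h : G) = (x' : G) * (h' : G) := congrArg Subtype.val hxy
    have e2 : (x' : G)⁻¹ * (x : G) = (h' : G) * (h : G)⁻¹ := by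
      have : (x' : G)⁻¹ * ((x : G) * (h : G)) * (h : G)⁻¹ = (x' : G)⁻¹ * ((x' : G) * (h' : G)) * (h : G)⁻¹ := by
        rw [e]
      simpa [mul_assoc] using this
    have hm : (x' : G)⁻¹ * (x : G) ∈ Q ⊓ H := by
      refine ⟨Q.mul_mem (Q.inv_mem x'.2) x.2, ?_⟩
      show (x' : G)⁻¹ * (x : G) ∈ H
      rw [e2]; exact H.mul_mem h'.2 (H.inv_mem h.2)
    rw [D.inf, Subgroup.mem_bot] at hm
    have hx : (x : G) = (x' : G) := by
      have := inv_mul_eq_one.1 hm
      exact this.symm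
    have hh : (h : G) = (h' : G) := by
      rw [hx] at e; exact mul_left_cancel e
    exact Prod.ext (Subtype.ext hx) (Subtype.ext hh)
  · rintro ⟨b, hb⟩
    obtain ⟨x, hx, h, hh, rfl⟩ := D.sup b hb
    exact ⟨(⟨x, hx⟩, ⟨h, hh⟩), rfl⟩

omit [Fintype G] in
/-- the Mackey sum of the trivial character at an element outside `B` is `|H|` -/
theorem MG_mackey_not_mem (D : SzHyp Q H B K₁ K₂ w T) (x : G) (hx : x ∉ B) :
    Helper38.mackeySum B (1 : ↥B →* ℂ) 1 x = (Nat.card H : ℂ) := by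
  classical
  obtain ⟨b, hb, b', hb', rfl⟩ := D.bruhat x hx
  unfold Helper38.mackeySum
  have key : ∀ c : ↥B, ((b * w * b')⁻¹ * (c : G) * (b * w * b') ∈ B ↔ b⁻¹ * (c : G) * b ∈ H) := by
    intro c
    have e : (b * w * b')⁻¹ * (c : G) * (b * w * b') = b'⁻¹ * (w⁻¹ * (b⁻¹ * (c : G) * b) * w) * b' := by
      group
    constructor
    · intro hmem
      rw [e] at hmem
      have h1 : w⁻¹ * (b⁻¹ * (c : G) * b) * w ∈ B := by
        have := B.mul_mem (B.mul_mem hb' hmem) (B.inv_mem hb')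
        have e' : b' * (b'⁻¹ * (w⁻¹ * (b⁻¹ * (c : G) * b) * w) * b') * b'⁻¹
            = w⁻¹ * (b⁻¹ * (c : G) * b) * w := by group
        rwa [e'] at this
      exact D.wint _ (B.mul_mem (B.mul_mem (B.inv_mem hb) c.2) hb) h1
    · intro hmem
      rw [e, D.winv _ hmem]
      exact B.mul_mem (B.mul_mem (B.inv_mem hb') (D.HB (H.inv_mem hmem))) hb'
  have step : ∀ c : ↥B, (1 : ↥B →* ℂ) c *
      conj (extendByZero B (fun b => (1 : ↥B →* ℂ) b) ((b * w * b')⁻¹ * (c : G) * (b * w * b')))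
      = if ((⟨b, hb⟩ : ↥B)⁻¹ * c * ⟨b, hb⟩ : ↥B) ∈ H.subgroupOf B then 1 else 0 := by
    intro c
    have hiff : (((⟨b, hb⟩ : ↥B)⁻¹ * c * ⟨b, hb⟩ : ↥B) ∈ H.subgroupOf B) ↔ b⁻¹ * (c : G) * b ∈ H := by
      rw [Subgroup.mem_subgroupOf]; simp
    by_cases hc : b⁻¹ * (c : G) * b ∈ H
    · rw [if_pos (hiff.2 hc), Helper15.extendByZero_of_mem B _ ((key c).2 hc)]
      simp
    · rw [if_neg (fun h => hc (hiff.1 h)),
        Helper15.extendByZero_of_not_mem B _ (fun h => hc ((key c).1 h))]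
      simp
  simp only [step]
  rw [Fintype.sum_equiv (MulAut.conj (⟨b, hb⟩ : ↥B)⁻¹).toEquiv
    (fun c : ↥B => if ((⟨b, hb⟩ : ↥B)⁻¹ * c * ⟨b, hb⟩ : ↥B) ∈ H.subgroupOf B then (1 : ℂ) else 0)
    (fun c : ↥B => if c ∈ H.subgroupOf B then (1 : ℂ) else 0)
    (fun c => by simp)]
  rw [Finset.sum_boole]
  congr 1
  rw [← Nat.card_congr (Subgroup.subgroupOfEquivOfLe D.HB).toEquiv, Nat.card_eq_fintype_card,
    Fintype.card_subtype]

/-- MG: the permutation character has norm `2` -/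
theorem szc_inner_perm (D : SzHyp Q H B K₁ K₂ w T) :
    classInner (indFun B (fun _ : ↥B => (1 : ℂ))) (indFun B (fun _ : ↥B => (1 : ℂ))) = 2 := by
  classical
  have h0 := Helper38.classInner_indFun_indFun B (1 : ↥B →* ℂ) 1
  simp only [MonoidHom.one_apply] at h0
  rw [h0]
  have hterm : ∀ x : G, Helper38.mackeySum B (1 : ↥B →* ℂ) 1 x
      = if x ∈ B then (Nat.card ↥B : ℂ) else (Nat.card H : ℂ) := by
    intro x
    by_cases hx : x ∈ B
    · rw [if_pos hx, Helper38.mackeySum_of_mem B _ _ hx]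
      simp [Nat.card_eq_fintype_card]
    · rw [if_neg hx]; exact MG_mackey_not_mem D x hx
  simp only [hterm]
  rw [Finset.sum_ite, Finset.sum_const, Finset.sum_const, nsmul_eq_mul, nsmul_eq_mul]
  have hB : (Finset.univ.filter (fun x : G => x ∈ B)).card = Nat.card ↥B := by
    rw [Nat.card_eq_fintype_card, Fintype.card_subtype]
  have hnB : ((Finset.univ.filter (fun x : G => ¬ x ∈ B)).card : ℂ)
      = (Nat.card G : ℂ) - (Nat.card ↥B : ℂ) := by
    have := Finset.card_filter_add_card_filter_not (s := (Finset.univ : Finset G)) (fun x : G => x ∈ B)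
    rw [hB, Finset.card_univ, ← Nat.card_eq_fintype_card] at this
    rw [← this]; push_cast; ring
  rw [hB, hnB, D.cardG, MG_card_B D, D.cardH]
  obtain ⟨m, hm, hT⟩ := D.pow
  have hTpos : 0 < T := by rw [hT]; positivity
  have hT0 : (T : ℂ) ≠ 0 := by exact_mod_cast hTpos.ne'
  have ha : ((2 * T ^ 2 - 1 : ℕ) : ℂ) ≠ 0 := by
    have : 2 * T ^ 2 - 1 ≠ 0 := by
      have : 2 ≤ 2 * T ^ 2 := by nlinarith [pow_pos hTpos 2]
      omega
    exact_mod_cast this
  push_cast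
  generalize ((2 * T ^ 2 - 1 : ℕ) : ℂ) = a at ha ⊢
  field_simp
  ring

end Cfsg.Agent.Helper97.Szc
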