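import Mathlib
import Cfsg.Agent.Helper38.Cov2P5.Defs
import Cfsg.Agent.Helper38.SU3Gen

/-!
# Leaf (CZ) of helper38's S2500 part 5 farm: the centre of `SU_3(q)` lies in the point stabiliser
-/

set_option autoImplicit false

namespace Cfsg.Agent.Helper97.P5

open Matrix Cfsg.Agent.Helper38.Cov2

variable {F : Type*} [Field F] [Fintype F] {q : ℕ}

/-- (CZ) the centre lies in the point stabiliser -/
theorem center_le_ptStab (hF : Fintype.card F = q ^ 2) :
    Subgroup.center ↥(Cfsg.SU 3 F q) ≤ ptStab F q := by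
  intro z hz
  obtain ⟨μ, hμ⟩ := (Cfsg.Agent.Helper38.mem_center_su_iff hF le_rfl z).1 hz
  rw [mem_ptStab]
  intro i hi
  have hm : mat z = μ • (1 : Matrix (Fin 3) (Fin 3) F) := hμ
  rw [hm, Matrix.smul_apply, Matrix.one_apply_ne hi, smul_zero]

end Cfsg.Agent.Helper97.P5
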