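import Cfsg.Agent.Helper38.FP.Defs

/-!
# S2276 farm (helper38), piece (FF5): witnesses for `p ≠ 3` (helper97)
-/

set_option autoImplicit false

namespace Cfsg.Agent.Helper97.FP

open Equiv Cfsg.Agent.Helper38.FP

variable {α : Type} [Fintype α] [DecidableEq α] {p : ℕ}

omit [Fintype α] in
/-- the image of a swap under `viaEmbeddingHom` -/
theorem viaEmbeddingHom_swap {n : ℕ} (ι : Fin n ↪ α) (i j : Fin n) :
    Perm.viaEmbeddingHom ι (swap i j) = swap (ι i) (ι j) := by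
  ext a
  by_cases ha : a ∈ Set.range ι
  · obtain ⟨k, rfl⟩ := ha
    rw [Perm.viaEmbeddingHom_apply, Perm.viaEmbedding_apply, ι.injective.swap_apply]
  · rw [Perm.viaEmbeddingHom_apply, Perm.viaEmbedding_apply_of_notMem _ _ _ ha]
    rw [swap_apply_of_ne_of_ne]
    · rintro rfl; exact ha ⟨i, rfl⟩
    · rintro rfl; exact ha ⟨j, rfl⟩

/-! ### certificates in `Perm (Fin 5)` -/

/-- `(0 1 2)`-type generator -/
def a0 : Perm (Fin 5) := swap 1 2 * (swap 0 1)⁻¹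
/-- its shift -/
def a1 : Perm (Fin 5) := swap 2 3 * (swap 1 2)⁻¹
/-- its second shift -/
def a2 : Perm (Fin 5) := swap 3 4 * (swap 2 3)⁻¹
/-- the 3-cycle `(0 3 1)` -/
def b0 : Perm (Fin 5) := (swap 1 2 * swap 2 3) * (swap 0 1 * swap 1 2)⁻¹
/-- its shift -/
def b1 : Perm (Fin 5) := (swap 2 3 * swap 3 4) * (swap 1 2 * swap 2 3)⁻¹

theorem a0_ne : a0 ^ 1 ≠ 1 := by decide
theorem a0_pow : (a0 ^ 1) ^ 3 = 1 := by decide
theorem b0_ne : b0 ^ 1 ≠ 1 := by decide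
theorem b0_pow : (b0 ^ 1) ^ 3 = 1 := by decide
theorem a2_ne : a2 ≠ 1 := by decide
theorem bb_ne : b0 * b1 ≠ 1 := by decide

set_option maxRecDepth 100000 in
theorem keyA : a2 = (a0 * a0) * (a2 * ((a0 * a1) * a2 * (a0 * a1)⁻¹) * a2⁻¹ *
    ((a0 * a1) * a2 * (a0 * a1)⁻¹)⁻¹) * (a0 * a0)⁻¹ := by decide

set_option maxRecDepth 100000 in
theorem keyB : b0 * b1 = (b1 * b0) * ((b0 * b1) * (b1 * (b0 * b1) * b1⁻¹) * (b0 * b1)⁻¹ *
    (b1 * (b0 * b1) * b1⁻¹)⁻¹) * (b1 * b0)⁻¹ := by decide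

/-- (FF5) witnesses for `p ≠ 3`. -/
theorem exists_witness_ne_three [Fact p.Prime] (hp3 : p ≠ 3) (h5 : 5 ≤ Fintype.card α)
    (u : Perm α) (hu : IsFull u) :
    ∃ τ₀ τ' : Perm α, Perm.sign τ₀ = -1 ∧ Perm.sign τ' = 1 ∧
      Good p u (τ₀ * u⁻¹ * τ₀⁻¹) ∧ Good p u (τ' * u⁻¹ * τ'⁻¹) := by
  have h2 : 2 ≤ Fintype.card α := by omega
  have hc := hu.isCycle h2
  have hs := hu.support_eq_univ h2
  have ho := hu.orderOf_eq h2
  have hcop : Nat.Coprime p 3 := (Nat.coprime_primes (Fact.out : p.Prime) Nat.prime_three).2 hp3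
  obtain ⟨x⟩ : Nonempty α := Fintype.card_pos_iff.1 (by omega)
  have hx : u x ≠ x := Perm.mem_support.1 (hs ▸ Finset.mem_univ x)
  -- the points `(u ^ i) x`, `i < 5`, are distinct
  have hinj : ∀ i j : ℕ, i < 5 → j < 5 → (u ^ i) x = (u ^ j) x → i = j := by
    have key : ∀ i j : ℕ, i < j → j < 5 → (u ^ i) x ≠ (u ^ j) x := by
      intro i j hij hj h
      have h1 : (u ^ (j - i)) x = x := by
        have : u ^ j = u ^ i * u ^ (j - i) := by rw [← pow_add]; congr 1; omega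
        rw [this, Perm.mul_apply] at h
        exact ((u ^ i).injective h).symm
      have h3 : u ^ (j - i) = 1 := (hc.pow_eq_one_iff' hx).2 h1
      have h4 := orderOf_dvd_of_pow_eq_one h3
      rw [ho] at h4
      have := Nat.le_of_dvd (by omega) h4
      omega
    intro i j hi hj h
    rcases lt_trichotomy i j with hij | hij | hij
    · exact absurd h (key i j hij hj)
    · exact hij
    · exact absurd h.symm (key j i hij hi)
  let ι : Fin 5 ↪ α := ⟨fun i => (u ^ (i : ℕ)) x, fun i j h => Fin.ext (hinj _ _ i.2 j.2 h)⟩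
  have hι : ∀ i : Fin 5, ι i = (u ^ (i : ℕ)) x := fun _ => rfl
  have hstep : ∀ i j : Fin 5, (j : ℕ) = (i : ℕ) + 1 → u (ι i) = ι j := by
    intro i j hij
    rw [hι, hι, hij, pow_succ', Perm.mul_apply]
  obtain ⟨Φ, hΦ⟩ : ∃ Φ : Perm (Fin 5) →* Perm α, Φ = Perm.viaEmbeddingHom ι := ⟨_, rfl⟩
  have hΦinj : Function.Injective Φ := hΦ ▸ Perm.viaEmbeddingHom_injective ι
  have hΦswap : ∀ i j : Fin 5, Φ (swap i j) = swap (ι i) (ι j) := fun i j => by
    rw [hΦ, viaEmbeddingHom_swap]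
  have hconj : ∀ i j i' j' : Fin 5, (i' : ℕ) = i + 1 → (j' : ℕ) = j + 1 →
      MulAut.conj u (Φ (swap i j)) = Φ (swap i' j') := by
    intro i j i' j' hi hj
    rw [MulAut.conj_apply, hΦswap, hΦswap, ← swap_apply_apply, hstep i i' hi, hstep j j' hj]
  have h01 : MulAut.conj u (Φ (swap 0 1)) = Φ (swap 1 2) := hconj 0 1 1 2 rfl rfl
  have h12 : MulAut.conj u (Φ (swap 1 2)) = Φ (swap 2 3) := hconj 1 2 2 3 rfl rfl
  have h23 : MulAut.conj u (Φ (swap 2 3)) = Φ (swap 3 4) := hconj 2 3 3 4 rfl rfl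
  have hne01 : ι 0 ≠ ι 1 := fun h => absurd (ι.injective h) (by decide)
  have hne12 : ι 1 ≠ ι 2 := fun h => absurd (ι.injective h) (by decide)
  -- general principle
  have hmain : ∀ τ : Perm α, ∀ d : Perm (Fin 5), u * (τ * u⁻¹ * τ⁻¹) = Φ d →
      d ^ 1 ≠ 1 → (d ^ 1) ^ 3 = 1 →
      (¬ Group.IsSolvable ↥(Subgroup.closure ({u, τ * u⁻¹ * τ⁻¹} : Set (Perm α)))) →
      Good p u (τ * u⁻¹ * τ⁻¹) := by
    intro τ d hd hd1 hd3 hns
    refine ⟨?_, hns⟩
    rw [hd]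
    refine not_isPEl_of_pow (Φ d) 1 3 ?_ ?_ hcop
    · rw [← map_pow]
      exact fun h => hd1 (hΦinj (h.trans (map_one Φ).symm))
    · rw [← map_pow, ← map_pow, hd3, map_one]
  refine ⟨Φ (swap 0 1), Φ (swap 0 1) * Φ (swap 1 2), ?_, ?_, ?_, ?_⟩
  · rw [hΦswap, Perm.sign_swap hne01]
  · rw [hΦswap, hΦswap, Perm.sign_mul, Perm.sign_swap hne01, Perm.sign_swap hne12]
    rfl
  · -- odd witness
    have hd : u * (Φ (swap 0 1) * u⁻¹ * (Φ (swap 0 1))⁻¹) = Φ a0 := by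
      have e : u * (Φ (swap 0 1) * u⁻¹ * (Φ (swap 0 1))⁻¹)
          = MulAut.conj u (Φ (swap 0 1)) * (Φ (swap 0 1))⁻¹ := by
        rw [MulAut.conj_apply]; group
      rw [e, h01, a0, map_mul, map_inv]
    refine hmain _ a0 hd a0_ne a0_pow ?_
    have hA1 : MulAut.conj u (Φ a0) = Φ a1 := by
      simp only [a0, a1, map_mul, map_inv, h01, h12]
    have hA2 : MulAut.conj u (Φ a1) = Φ a2 := by
      simp only [a1, a2, map_mul, map_inv, h12, h23]
    set H := Subgroup.closure ({u, Φ (swap 0 1) * u⁻¹ * (Φ (swap 0 1))⁻¹} : Set (Perm α)) with hH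
    have hu_mem : u ∈ H := Subgroup.subset_closure (by simp)
    have hy_mem : Φ (swap 0 1) * u⁻¹ * (Φ (swap 0 1))⁻¹ ∈ H := Subgroup.subset_closure (by simp)
    have m0 : Φ a0 ∈ H := hd ▸ H.mul_mem hu_mem hy_mem
    have m1 : Φ a1 ∈ H := by
      rw [← hA1, MulAut.conj_apply]
      exact H.mul_mem (H.mul_mem hu_mem m0) (H.inv_mem hu_mem)
    have m2 : Φ a2 ∈ H := by
      rw [← hA2, MulAut.conj_apply]
      exact H.mul_mem (H.mul_mem hu_mem m1) (H.inv_mem hu_mem)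
    refine not_solvable_of_cert H (Φ a2) (Φ a0 * Φ a1) (Φ a0 * Φ a0) m2 (H.mul_mem m0 m1)
      (H.mul_mem m0 m0) (fun h => a2_ne (hΦinj (h.trans (map_one Φ).symm))) ?_
    have := congrArg Φ keyA
    simpa only [map_mul, map_inv] using this
  · -- even witness
    have hd : u * (Φ (swap 0 1) * Φ (swap 1 2) * u⁻¹ * (Φ (swap 0 1) * Φ (swap 1 2))⁻¹) = Φ b0 := by
      have e : u * (Φ (swap 0 1) * Φ (swap 1 2) * u⁻¹ * (Φ (swap 0 1) * Φ (swap 1 2))⁻¹)
          = MulAut.conj u (Φ (swap 0 1) * Φ (swap 1 2)) * (Φ (swap 0 1) * Φ (swap 1 2))⁻¹ := by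
        rw [MulAut.conj_apply]; group
      rw [e, map_mul, h01, h12, b0]
      simp only [map_mul, map_inv]
    refine hmain _ b0 hd b0_ne b0_pow ?_
    have hB1 : MulAut.conj u (Φ b0) = Φ b1 := by
      simp only [b0, b1, map_mul, map_inv, h01, h12, h23]
    set H := Subgroup.closure
      ({u, Φ (swap 0 1) * Φ (swap 1 2) * u⁻¹ * (Φ (swap 0 1) * Φ (swap 1 2))⁻¹} : Set (Perm α)) with hH
    have hu_mem : u ∈ H := Subgroup.subset_closure (by simp)
    have hy_mem : Φ (swap 0 1) * Φ (swap 1 2) * u⁻¹ * (Φ (swap 0 1) * Φ (swap 1 2))⁻¹ ∈ H :=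
      Subgroup.subset_closure (by simp)
    have m0 : Φ b0 ∈ H := hd ▸ H.mul_mem hu_mem hy_mem
    have m1 : Φ b1 ∈ H := by
      rw [← hB1, MulAut.conj_apply]
      exact H.mul_mem (H.mul_mem hu_mem m0) (H.inv_mem hu_mem)
    refine not_solvable_of_cert H (Φ b0 * Φ b1) (Φ b1) (Φ b1 * Φ b0) (H.mul_mem m0 m1) m1
      (H.mul_mem m1 m0) ?_ ?_
    · rw [← map_mul]
      exact fun h => bb_ne (hΦinj (h.trans (map_one Φ).symm))
    · have := congrArg Φ keyB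
      simpa only [map_mul, map_inv] using this

end Cfsg.Agent.Helper97.FP
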