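import Mathlib
import Cfsg.Prelude.Def_Transfer

/-!
# (OR-5a) for S5202 (Oliver reduction): a Sylow/`O^{p'}`/`O^p` diamond in an ambient group.
(helper97, for helper86.)
-/

set_option autoImplicit false

namespace Cfsg.Agent.Helper97.OR5a

open Cfsg

/-- Conjugation by elements of `X` preserves the closure of an `X`-conjugation-invariant set. -/
theorem conj_mem_closure {M : Type*} [Group M] (X : Subgroup M) (s : Set M)
    (hs : ∀ x ∈ X, ∀ g ∈ s, x * g * x⁻¹ ∈ s) {x : M} (hx : x ∈ X) {g : M}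
    (hg : g ∈ Subgroup.closure s) : x * g * x⁻¹ ∈ Subgroup.closure s := by
  induction hg using Subgroup.closure_induction with
  | mem g hg => exact Subgroup.subset_closure (hs x hx g hg)
  | one => simp
  | mul a b _ _ ha hb =>
    have : x * (a * b) * x⁻¹ = (x * a * x⁻¹) * (x * b * x⁻¹) := by group
    rw [this]
    exact Subgroup.mul_mem _ ha hb
  | inv a _ ha =>
    have : x * a⁻¹ * x⁻¹ = (x * a * x⁻¹)⁻¹ := by group
    rw [this]
    exact Subgroup.inv_mem _ ha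

theorem orderOf_conj' {M : Type*} [Group M] (x g : M) : orderOf (x * g * x⁻¹) = orderOf g := by
  have : x * g * x⁻¹ = MulAut.conj x g := by simp [MulAut.conj_apply]
  rw [this, MulEquiv.orderOf_eq]

/-- In a finite group `A` with a normal subgroup `N` such that `A/N` is a `p`-group, every element
is the product of an element of a given Sylow `p`-subgroup and an element of `N`. -/
theorem exists_mul_of_sylow {A : Type*} [Group A] [Finite A] {p : ℕ} [Fact p.Prime]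
    (N : Subgroup A) [N.Normal] (hq : IsPGroup p (A ⧸ N)) (P : Sylow p A) (a : A) :
    ∃ t ∈ (P : Subgroup A), ∃ n ∈ N, a = t * n := by
  have hsurj : Function.Surjective (QuotientGroup.mk' N) := QuotientGroup.mk'_surjective N
  have htop : (⊤ : Subgroup (A ⧸ N)) = (P.mapSurjective hsurj : Subgroup (A ⧸ N)) :=
    (P.mapSurjective hsurj).is_maximal' (hq.to_subgroup ⊤) le_top
  have hmem : QuotientGroup.mk' N a ∈ (P.mapSurjective hsurj : Subgroup (A ⧸ N)) := by
    rw [← htop]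
    exact Subgroup.mem_top _
  rw [Sylow.coe_mapSurjective] at hmem
  obtain ⟨t, ht, hta⟩ := hmem
  refine ⟨t, ht, t⁻¹ * a, ?_, by group⟩
  exact QuotientGroup.eq.1 hta

theorem oPrime_le_of_sylow {M : Type*} [Group M] (p : ℕ) [Fact p.Prime] (X D' Y' Z' Q : Subgroup M)
    [Finite X] (hDX : D' ≤ X) (hOD : (pResidual p ↥X).map X.subtype ≤ D') (hQD : Q ≤ D')
    (hQp : IsPGroup p Q)
    (hQsyl : ∀ Q₁ : Subgroup M, Q ≤ Q₁ → Q₁ ≤ D' → IsPGroup p Q₁ → Q₁ = Q) (hYX : Y' ≤ X)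
    (hOY : (Subgroup.closure {α : ↥X | ∃ k : ℕ, orderOf α = p ^ k}).map X.subtype ≤ Y')
    (hOZ : (pResidual p ↥Y').map Y'.subtype ≤ Z') (hQZ : Q ≤ Z') :
    (Subgroup.closure {α : ↥D' | ∃ k : ℕ, orderOf α = p ^ k}).map D'.subtype ≤ Z' := by
  classical
  have hp : p.Prime := Fact.out
  -- `W = O^{p'}(X)` and `K = O^p(W)` as subgroups of `M`
  set sW : Set M := {g : M | g ∈ X ∧ ∃ k : ℕ, orderOf g = p ^ k} with hsW
  set W : Subgroup M := Subgroup.closure sW with hW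
  set sK : Set M := {g : M | g ∈ W ∧ (orderOf g).Coprime p} with hsK
  set K : Subgroup M := Subgroup.closure sK with hK
  have hWX : W ≤ X := by
    rw [hW, Subgroup.closure_le]
    intro g hg
    exact hg.1
  have hWY : W ≤ Y' := by
    rw [hW, Subgroup.closure_le]
    rintro g ⟨hgX, k, hk⟩
    apply hOY
    refine ⟨⟨g, hgX⟩, Subgroup.subset_closure ⟨k, ?_⟩, rfl⟩
    rw [Subgroup.orderOf_mk]
    exact hk
  have hsWconj : ∀ x ∈ X, ∀ g ∈ sW, x * g * x⁻¹ ∈ sW := by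
    rintro x hx g ⟨hgX, k, hk⟩
    exact ⟨X.mul_mem (X.mul_mem hx hgX) (X.inv_mem hx), k, by rw [orderOf_conj', hk]⟩
  have hWconj : ∀ x ∈ X, ∀ g ∈ W, x * g * x⁻¹ ∈ W := fun x hx g hg =>
    conj_mem_closure X sW hsWconj hx hg
  have hsKconj : ∀ x ∈ X, ∀ g ∈ sK, x * g * x⁻¹ ∈ sK := by
    rintro x hx g ⟨hgW, hco⟩
    exact ⟨hWconj x hx g hgW, by rw [orderOf_conj']; exact hco⟩
  have hKconj : ∀ x ∈ X, ∀ g ∈ K, x * g * x⁻¹ ∈ K := fun x hx g hg =>
    conj_mem_closure X sK hsKconj hx hg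
  have hKW : K ≤ W := by
    rw [hK, Subgroup.closure_le]
    intro g hg
    exact hg.1
  have hKZ : K ≤ Z' := by
    rw [hK, Subgroup.closure_le]
    rintro g ⟨hgW, hco⟩
    apply hOZ
    refine ⟨⟨g, hWY hgW⟩, Subgroup.subset_closure ?_, rfl⟩
    show (orderOf (⟨g, hWY hgW⟩ : ↥Y')).Coprime p
    rw [Subgroup.orderOf_mk]
    exact hco
  have hKD : K ≤ D' := by
    rw [hK, Subgroup.closure_le]
    rintro g ⟨hgW, hco⟩
    apply hOD
    refine ⟨⟨g, hWX hgW⟩, Subgroup.subset_closure ?_, rfl⟩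
    show (orderOf (⟨g, hWX hgW⟩ : ↥X)).Coprime p
    rw [Subgroup.orderOf_mk]
    exact hco
  -- every `p`-power-order element of `X` lies in `W`
  have hpW : ∀ g : M, g ∈ X → (∃ k : ℕ, orderOf g = p ^ k) → g ∈ W := fun g hg hk =>
    Subgroup.subset_closure ⟨hg, hk⟩
  -- `W/K` is a `p`-group, elementwise
  have hWK : ∀ w ∈ W, ∃ k : ℕ, w ^ (p ^ k) ∈ K := by
    intro w hw
    have hpos : 0 < orderOf w := by
      rw [← Subgroup.orderOf_mk w (hWX hw)]
      exact orderOf_pos _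
    obtain ⟨k, m, hm, hkm⟩ := Nat.exists_eq_pow_mul_and_not_dvd hpos.ne' p hp.ne_one
    refine ⟨k, Subgroup.subset_closure ⟨W.pow_mem hw _, ?_⟩⟩
    have hord : orderOf (w ^ (p ^ k)) = m := by
      rw [orderOf_pow' w (pow_ne_zero k hp.ne_zero), hkm, Nat.gcd_eq_right (dvd_mul_right _ _),
        Nat.mul_div_cancel_left _ (pow_pos hp.pos k)]
    rw [hord]
    exact (Nat.Coprime.symm ((Nat.Prime.coprime_iff_not_dvd hp).2 hm))
  -- the group `D'' = D' ⊓ W`
  set D2 : Subgroup M := D' ⊓ W with hD2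
  have hD2X : D2 ≤ X := inf_le_left.trans hDX
  have : Finite ↥D2 := Finite.of_injective (Subgroup.inclusion hD2X) (Subgroup.inclusion_injective _)
  have hQW : Q ≤ W := by
    intro q hq
    apply hpW q (hDX (hQD hq))
    obtain ⟨k, hk⟩ := hQp ⟨q, hq⟩
    have h1 : q ^ (p ^ k) = 1 := by
      have := congrArg Subtype.val hk
      simpa using this
    obtain ⟨j, _, hj⟩ := (Nat.dvd_prime_pow hp).1 (orderOf_dvd_of_pow_eq_one h1)
    exact ⟨j, hj⟩
  have hQD2 : Q ≤ D2 := le_inf hQD hQW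
  have hKD2 : K ≤ D2 := le_inf hKD hKW
  -- normal subgroup `N = K` of `D2`
  have hN : (K.subgroupOf D2).Normal := by
    refine ⟨fun n hn g => ?_⟩
    rw [Subgroup.mem_subgroupOf] at hn ⊢
    exact hKconj (g : M) (hD2X g.2) _ hn
  have hquot : IsPGroup p (↥D2 ⧸ K.subgroupOf D2) := by
    intro g
    obtain ⟨a, rfl⟩ := QuotientGroup.mk_surjective g
    obtain ⟨k, hk⟩ := hWK (a : M) a.2.2
    refine ⟨k, ?_⟩
    rw [← QuotientGroup.mk_pow, QuotientGroup.eq_one_iff, Subgroup.mem_subgroupOf]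
    simpa using hk
  -- a Sylow `p`-subgroup of `D2` containing `Q`, which must be `Q`
  have hQ2p : IsPGroup p (Q.subgroupOf D2) := hQp.comap_subtype
  obtain ⟨P, hP⟩ := hQ2p.exists_le_sylow
  have hPQ : (P : Subgroup ↥D2).map D2.subtype = Q := by
    apply hQsyl
    · intro q hq
      exact ⟨⟨q, hQD2 hq⟩, hP (Subgroup.mem_subgroupOf.mpr hq), rfl⟩
    · rintro _ ⟨a, _, rfl⟩
      exact a.2.1
    · exact P.isPGroup'.map _
  have hD2Z : D2 ≤ Z' := by
    intro d hd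
    obtain ⟨t, ht, n, hn, hdtn⟩ := exists_mul_of_sylow (K.subgroupOf D2) hquot P ⟨d, hd⟩
    have h1 : d = (t : M) * (n : M) := by
      have := congrArg Subtype.val hdtn
      simpa using this
    rw [h1]
    refine Z'.mul_mem (hQZ ?_) (hKZ (Subgroup.mem_subgroupOf.mp hn))
    rw [← hPQ]
    exact ⟨t, ht, rfl⟩
  -- conclusion
  rw [Subgroup.map_le_iff_le_comap, Subgroup.closure_le]
  rintro α ⟨k, hk⟩
  show (α : M) ∈ Z'
  apply hD2Z
  refine ⟨α.2, hpW (α : M) (hDX α.2) ⟨k, ?_⟩⟩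
  rw [← hk, Subgroup.orderOf_coe]

end Cfsg.Agent.Helper97.OR5a
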