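import Cfsg.Agent.Helper43.Cov2.P7Defs
import Cfsg.Agent.Helper13.SympTrans

/-!
# Piece (U2) of helper43's S2500 farm (part 7): a unipotent element `u` of `Sp₆` with
`(u - 1)² = 0 ≠ u - 1` stabilises a non-degenerate plane
-/

set_option autoImplicit false

namespace Cfsg.Agent.Helper97.Cov2.P7

open Matrix Cfsg.Agent.Helper43.Cov2.P7 Cfsg.Agent.Helper13

variable {F : Type*} [Field F]

/-- elements of `Sp₆` preserve the form -/
theorem sp_preserves (u : Sp6 F) (x y : V6 F) :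
    Cfsg.sympForm 3 F ((u : M6 F) *ᵥ x) ((u : M6 F) *ᵥ y) = Cfsg.sympForm 3 F x y :=
  (mem_symplecticGroup_iff_preserves (u : M6 F)).1 u.2 x y

/-- the basic relation between `N = u - 1` and the form -/
theorem N_rel (u : Sp6 F) (x y : V6 F) :
    Cfsg.sympForm 3 F x (((u : M6 F) - 1) *ᵥ y) + Cfsg.sympForm 3 F (((u : M6 F) - 1) *ᵥ x) y
      + Cfsg.sympForm 3 F (((u : M6 F) - 1) *ᵥ x) (((u : M6 F) - 1) *ᵥ y) = 0 := by
  have h := sp_preserves u x y
  have e : ∀ z : V6 F, (u : M6 F) *ᵥ z = z + ((u : M6 F) - 1) *ᵥ z := by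
    intro z
    rw [Matrix.sub_mulVec, Matrix.one_mulVec]; abel
  rw [e x, e y, sympForm_add_left, sympForm_add_right, sympForm_add_right] at h
  linear_combination h

/-- a symmetric bi-additive map which is not identically zero has a non-zero diagonal value,
if `2 ≠ 0` -/
theorem exists_diag_ne_zero (h2 : (2 : F) ≠ 0) (β : V6 F → V6 F → F)
    (hadd : ∀ x y, β (x + y) (x + y) = β x x + β y y + β x y + β y x)
    (hsymm : ∀ x y, β x y = β y x) (x y : V6 F) (hxy : β x y ≠ 0) : ∃ z, β z z ≠ 0 := by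
  by_contra hcon
  push Not at hcon
  have h := hadd x y
  rw [hcon, hcon, hcon, ← hsymm y x] at h
  have : 2 * β y x = 0 := by linear_combination -h
  rcases mul_eq_zero.1 this with h' | h'
  · exact h2 h'
  · exact hxy ((hsymm x y).trans h')

/-- (U2) -/
theorem fixesPlane_of_sq_zero (h2 : (2 : F) ≠ 0) (u : Sp6 F) (h : ((u : M6 F) - 1) ^ 2 = 0)
    (h1 : (u : M6 F) - 1 ≠ 0) : FixesPlane (u : M6 F) := by
  set N : M6 F := (u : M6 F) - 1 with hN
  have hNN : ∀ z : V6 F, N *ᵥ (N *ᵥ z) = 0 := by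
    intro z
    rw [Matrix.mulVec_mulVec, ← pow_two, h, Matrix.zero_mulVec]
  -- skew-adjointness of `N`
  have hskew : ∀ x y : V6 F, Cfsg.sympForm 3 F (N *ᵥ x) y = - Cfsg.sympForm 3 F x (N *ᵥ y) := by
    intro x y
    have e1 := N_rel u x y
    have e2 := N_rel u x (N *ᵥ y)
    rw [← hN] at e1 e2
    rw [hNN, sympForm_zero_right, sympForm_zero_right] at e2
    linear_combination e1 - e2
  -- the symmetric form
  have hsymm : ∀ x y : V6 F, Cfsg.sympForm 3 F x (N *ᵥ y) = Cfsg.sympForm 3 F y (N *ᵥ x) := by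
    intro x y
    rw [sympForm_swap y (N *ᵥ x), hskew]
    ring
  -- it is not zero
  obtain ⟨y, hy⟩ : ∃ y : V6 F, N *ᵥ y ≠ 0 := by
    by_contra hcon
    push Not at hcon
    apply h1
    apply matrix_eq_of_mulVec
    intro z
    rw [hcon, Matrix.zero_mulVec]
  obtain ⟨x, hx⟩ := sympForm_nondeg_left (m := 3) hy
  obtain ⟨z, hz⟩ := exists_diag_ne_zero h2 (fun a b => Cfsg.sympForm 3 F a (N *ᵥ b))
    (by
      intro a b
      simp only [Matrix.mulVec_add, sympForm_add_left, sympForm_add_right]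
      ring)
    hsymm x y hx
  refine ⟨z, N *ᵥ z, hz, ⟨1, 1, ?_⟩, ⟨0, 1, ?_⟩⟩
  · rw [one_smul, one_smul, hN, Matrix.sub_mulVec, Matrix.one_mulVec]; abel
  · rw [zero_smul, one_smul, zero_add]
    have : (u : M6 F) *ᵥ (N *ᵥ z) = N *ᵥ z + N *ᵥ (N *ᵥ z) := by
      conv_lhs => rw [show (u : M6 F) = 1 + N by rw [hN]; abel]
      rw [Matrix.add_mulVec, Matrix.one_mulVec]
    rw [this, hNN, add_zero]

end Cfsg.Agent.Helper97.Cov2.P7
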