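import Cfsg.Agent.Helper43.Cov2.P8Defs
import Cfsg.Agent.Helper49.Cov2P88A

/-!
# Piece (8B) of helper43's S2500 farm (part 8): the Dye-type lemma for `G₂(F)`
-/

set_option autoImplicit false

namespace Cfsg.Agent.Helper97.Cov2.P8

open Matrix Cfsg.Lie Cfsg.Agent.Helper43.G2S Cfsg.Agent.Helper43.Cov2.P8

variable {F : Type*} [Field F]

/-- the polar form of the norm -/
def b8 (x y : Fin 8 → F) : F :=
  x 0 * y 7 + x 7 * y 0 - (x 1 * y 4 + x 4 * y 1 + x 2 * y 5 + x 5 * y 2 + x 3 * y 6 + x 6 * y 3)

theorem N8_add (x y : Fin 8 → F) : N8 (x + y) = N8 x + N8 y + b8 x y := by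
  simp only [N8, b8, Pi.add_apply]
  ring

theorem b8_add_left (x x' y : Fin 8 → F) : b8 (x + x') y = b8 x y + b8 x' y := by
  simp only [b8, Pi.add_apply]
  ring

theorem b8_sub_left (x x' y : Fin 8 → F) : b8 (x - x') y = b8 x y - b8 x' y := by
  simp only [b8, Pi.sub_apply]
  ring

theorem b8_sub_right (x y y' : Fin 8 → F) : b8 x (y - y') = b8 x y - b8 x y' := by
  simp only [b8, Pi.sub_apply]
  ring

theorem b8_one8 (x : Fin 8 → F) : b8 x one8 = tr8 x := by
  simp [b8, one8, tr8]

/-- the polar form is invariant -/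
theorem b8_act (hN : ∀ (g : G2 F) (x : Fin 8 → F), N8 (act g x) = N8 x) (g : G2 F)
    (x y : Fin 8 → F) : b8 (act g x) (act g y) = b8 x y := by
  have h1 := N8_add (act g x) (act g y)
  rw [← act_add, hN, hN, hN, N8_add] at h1
  exact (add_left_cancel h1).symm

/-- nondegeneracy -/
theorem eq_zero_of_b8 (u : Fin 8 → F) (h : ∀ x : Fin 8 → F, b8 x u = 0) : u = 0 := by
  have e : ∀ i : Fin 8, b8 (Pi.single i 1) u = 0 := fun i => h _
  have h0 := e 0
  have h1 := e 1
  have h2 := e 2
  have h3 := e 3
  have h4 := e 4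
  have h5 := e 5
  have h6 := e 6
  have h7 := e 7
  simp [b8] at h0 h1 h2 h3 h4 h5 h6 h7
  ext i
  fin_cases i <;> simp [*]

/-- every linear functional is `b8 · w` -/
theorem exists_b8_repr (ψ : (Fin 8 → F) →ₗ[F] F) : ∃ w : Fin 8 → F, ∀ x, ψ x = b8 x w := by
  classical
  set p : Fin 8 → F := fun i => ψ (Pi.single i 1) with hp
  refine ⟨![p 7, -p 4, -p 5, -p 6, -p 1, -p 2, -p 3, p 0], fun x => ?_⟩
  have hx : ψ x = ∑ i, x i * p i := by
    conv_lhs => rw [← Finset.univ_sum_single x]
    rw [map_sum]
    apply Finset.sum_congr rfl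
    intro i _
    have : (Pi.single i (x i) : Fin 8 → F) = x i • Pi.single i 1 := by
      ext j; simp [Pi.single_apply]
    rw [this, map_smul, smul_eq_mul]
  rw [hx, Fin.sum_univ_eight]
  simp [b8]
  ring

/-- core of (8B), with (8A) as a hypothesis -/
theorem dye8_core (hN : ∀ (g : G2 F) (x : Fin 8 → F), N8 (act g x) = N8 x) (g : G2 F) :
    ∃ e : Fin 8 → F, tr8 e = 1 ∧ g ∈ stabE e := by
  classical
  by_cases hcase : ∃ x : Fin 8 → F, ∃ c : F, tr8 x ≠ 0 ∧ act g x = x + c • one8
  · obtain ⟨x, c, hx, hc⟩ := hcase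
    refine ⟨(tr8 x)⁻¹ • x, ?_, ?_⟩
    · simp only [tr8, Pi.smul_apply, smul_eq_mul] at hx ⊢
      rw [← mul_add, inv_mul_cancel₀ hx]
    · refine ⟨(tr8 x)⁻¹ * c, ?_⟩
      rw [act_smul, hc, smul_add, smul_smul]
  · exfalso
    push Not at hcase
    -- the linear maps
    let S : ((Fin 8 → F) × F) →ₗ[F] (Fin 8 → F) :=
      { toFun := fun p => act g p.1 - p.1 - p.2 • one8
        map_add' := by
          intro p q
          simp only [Prod.fst_add, Prod.snd_add, act_add, add_smul]
          abel
        map_smul' := by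
          intro a p
          simp only [Prod.smul_fst, Prod.smul_snd, act_smul, RingHom.id_apply, smul_sub,
            smul_eq_mul, mul_smul] }
    let φ : ((Fin 8 → F) × F) →ₗ[F] F :=
      { toFun := fun p => tr8 p.1
        map_add' := by
          intro p q
          simp only [tr8, Prod.fst_add, Pi.add_apply]
          ring
        map_smul' := by
          intro a p
          simp only [tr8, Prod.smul_fst, Pi.smul_apply, smul_eq_mul, RingHom.id_apply]
          ring }
    have hker : φ ∈ (LinearMap.ker S).dualAnnihilator := by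
      rw [Submodule.mem_dualAnnihilator]
      intro p hp
      rw [LinearMap.mem_ker] at hp
      have hp' : act g p.1 = p.1 + p.2 • one8 := by
        have : act g p.1 - p.1 - p.2 • one8 = 0 := hp
        rw [sub_sub, sub_eq_zero] at this
        exact this
      by_contra hne
      exact hcase p.1 p.2 hne hp'
    rw [← LinearMap.range_dualMap_eq_dualAnnihilator_ker] at hker
    obtain ⟨ψ, hψ⟩ := hker
    have hψ' : ∀ p : (Fin 8 → F) × F, ψ (S p) = φ p := fun p => by
      rw [← hψ]; rfl
    obtain ⟨w, hw⟩ := exists_b8_repr ψ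
    -- `tr8 w = 0`
    have htw : tr8 w = 0 := by
      have h1 := hψ' (0, -1)
      have h2 : S (0, -1) = one8 := by
        show act g 0 - 0 - (-1 : F) • one8 = one8
        have : act g (0 : Fin 8 → F) = 0 := by
          have := act_smul g (0 : F) (0 : Fin 8 → F)
          simpa using this
        rw [this]; simp
      have h3 : φ (0, -1) = 0 := by
        show tr8 (0 : Fin 8 → F) = 0
        simp [tr8]
      rw [h2, h3, hw] at h1
      have h4 : b8 one8 w = tr8 w := by
        simp [b8, one8, tr8]; ring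
      rw [← h4]; exact h1
    -- `tr8 x = b8 (act g x - x) w`
    have hx : ∀ x : Fin 8 → F, tr8 x = b8 (act g x - x) w := by
      intro x
      have h1 := hψ' (x, 0)
      have h2 : S (x, 0) = act g x - x := by
        show act g x - x - (0 : F) • one8 = act g x - x
        rw [zero_smul, sub_zero]
      have h3 : φ (x, 0) = tr8 x := rfl
      rw [h2, h3, hw] at h1
      exact h1.symm
    have hu : act g⁻¹ w - w - one8 = 0 := by
      apply eq_zero_of_b8
      intro x
      rw [b8_sub_right, b8_sub_right, b8_one8, hx x, b8_sub_left]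
      have : b8 (act g x) w = b8 x (act g⁻¹ w) := by
        have := b8_act hN g x (act g⁻¹ w)
        rw [act_act_inv] at this
        exact this
      rw [this]
      ring
    have hgw : act g⁻¹ w = w + one8 := by
      have := sub_eq_zero.1 hu
      rw [sub_eq_iff_eq_add] at this
      rw [this]; abel
    have h1 := hN g⁻¹ w
    rw [hgw, N8_add, b8_one8, htw, add_zero] at h1
    have h2 : N8 (one8 : Fin 8 → F) = 1 := by simp [N8, one8]
    rw [h2] at h1
    have : (1 : F) = 0 := by
      have := add_left_cancel (a := N8 w) (b := 1) (c := 0) (by rw [add_zero]; exact h1)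
      exact this
    exact one_ne_zero this

/-- (8B) Dye-type lemma: every automorphism stabilises some `e + F·1` with `tr e = 1`. -/
theorem dye8 [CharP F 2] (g : G2 F) : ∃ e : Fin 8 → F, tr8 e = 1 ∧ g ∈ stabE e :=
  dye8_core Cfsg.Agent.Helper49.Cov2.P8.act_N8 g

end Cfsg.Agent.Helper97.Cov2.P8
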