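import Cfsg.Agent.Helper43.Cov2.P8Defs

/-!
# Piece (8C) of helper43's S2500 farm (part 8): the subgroup `SL₃(F)` of `G₂(F)`
-/

set_option autoImplicit false

namespace Cfsg.Agent.Helper97.Cov2.P8

open Matrix Cfsg.Lie Cfsg.Agent.Helper43.G2S Cfsg.Agent.Helper43.Cov2.P8

variable {F : Type*} [Field F]

/-- the block diagonal matrix `diag(1, A, B, 1)` -/
def Mof (A B : Matrix (Fin 3) (Fin 3) F) : Matrix (Fin 8) (Fin 8) F :=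
  !![1, 0, 0, 0, 0, 0, 0, 0;
     0, A 0 0, A 0 1, A 0 2, 0, 0, 0, 0;
     0, A 1 0, A 1 1, A 1 2, 0, 0, 0, 0;
     0, A 2 0, A 2 1, A 2 2, 0, 0, 0, 0;
     0, 0, 0, 0, B 0 0, B 0 1, B 0 2, 0;
     0, 0, 0, 0, B 1 0, B 1 1, B 1 2, 0;
     0, 0, 0, 0, B 2 0, B 2 1, B 2 2, 0;
     0, 0, 0, 0, 0, 0, 0, 1]

theorem Mof_mulVec (A B : Matrix (Fin 3) (Fin 3) F) (x : Fin 8 → F) :
    Mof A B *ᵥ x = ![x 0, (A *ᵥ ![x 1, x 2, x 3]) 0, (A *ᵥ ![x 1, x 2, x 3]) 1,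
      (A *ᵥ ![x 1, x 2, x 3]) 2, (B *ᵥ ![x 4, x 5, x 6]) 0, (B *ᵥ ![x 4, x 5, x 6]) 1,
      (B *ᵥ ![x 4, x 5, x 6]) 2, x 7] := by
  ext i
  fin_cases i <;>
    simp [Mof, Matrix.mulVec, dotProduct, Fin.sum_univ_eight, Fin.sum_univ_three]

theorem Mof_mul_eq_one (A B A' B' : Matrix (Fin 3) (Fin 3) F) (hA : A * A' = 1) (hB : B * B' = 1) :
    Mof A B * Mof A' B' = 1 := by
  apply mat_ext_mulVec
  intro x
  rw [← Matrix.mulVec_mulVec, Matrix.one_mulVec]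
  simp only [Mof_mulVec]
  have h1 : ∀ v : Fin 3 → F, A *ᵥ (A' *ᵥ v) = v := by
    intro v; rw [Matrix.mulVec_mulVec, hA, Matrix.one_mulVec]
  have h2 : ∀ v : Fin 3 → F, B *ᵥ (B' *ᵥ v) = v := by
    intro v; rw [Matrix.mulVec_mulVec, hB, Matrix.one_mulVec]
  have e1 : ∀ v : Fin 3 → F, ![v 0, v 1, v 2] = v := by
    intro v; ext i; fin_cases i <;> rfl
  ext i
  fin_cases i <;> simp [e1, h1, h2]

theorem Mof_aut (A : Matrix (Fin 3) (Fin 3) F) (hA : A.det = 1) (x y : Fin 8 → F) :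
    Mof A A.adjugateᵀ *ᵥ zornMul x y =
      zornMul (Mof A A.adjugateᵀ *ᵥ x) (Mof A A.adjugateᵀ *ᵥ y) := by
  rw [Matrix.det_fin_three] at hA
  simp only [Mof_mulVec]
  ext i
  fin_cases i <;>
    simp [zornMul, dot3, cross3, Matrix.adjugate_fin_three, Matrix.mulVec, dotProduct,
      Fin.sum_univ_three]
  · linear_combination (-(x 1 * y 4 + x 2 * y 5 + x 3 * y 6)) * hA
  · linear_combination (A 0 0 * (x 5 * y 6 - x 6 * y 5) + A 0 1 * (x 6 * y 4 - x 4 * y 6) +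
      A 0 2 * (x 4 * y 5 - x 5 * y 4)) * hA
  · linear_combination (A 1 0 * (x 5 * y 6 - x 6 * y 5) + A 1 1 * (x 6 * y 4 - x 4 * y 6) +
      A 1 2 * (x 4 * y 5 - x 5 * y 4)) * hA
  · linear_combination (A 2 0 * (x 5 * y 6 - x 6 * y 5) + A 2 1 * (x 6 * y 4 - x 4 * y 6) +
      A 2 2 * (x 4 * y 5 - x 5 * y 4)) * hA
  · ring
  · ring
  · ring
  · linear_combination (-(x 4 * y 1 + x 5 * y 2 + x 6 * y 3)) * hA

/-- (8C) the subgroup `SL₃(F)` of `G₂(F)`. -/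
theorem exists_sl3 (A : Matrix (Fin 3) (Fin 3) F) (hA : A.det = 1) :
    ∃ g : G2 F, ∀ x : Fin 8 → F, act g x =
      ![x 0, (A *ᵥ ![x 1, x 2, x 3]) 0, (A *ᵥ ![x 1, x 2, x 3]) 1, (A *ᵥ ![x 1, x 2, x 3]) 2,
        (A.adjugateᵀ *ᵥ ![x 4, x 5, x 6]) 0, (A.adjugateᵀ *ᵥ ![x 4, x 5, x 6]) 1,
        (A.adjugateᵀ *ᵥ ![x 4, x 5, x 6]) 2, x 7] := by
  have h1 : A * A.adjugate = 1 := by rw [Matrix.mul_adjugate, hA, one_smul]
  have h2 : A.adjugate * A = 1 := by rw [Matrix.adjugate_mul, hA, one_smul]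
  have h3 : A.adjugateᵀ * Aᵀ = 1 := by rw [← Matrix.transpose_mul, h1, Matrix.transpose_one]
  have h4 : Aᵀ * A.adjugateᵀ = 1 := by rw [← Matrix.transpose_mul, h2, Matrix.transpose_one]
  let u : GL (Fin 8) F :=
    { val := Mof A A.adjugateᵀ
      inv := Mof A.adjugate Aᵀ
      val_inv := Mof_mul_eq_one _ _ _ _ h1 h3
      inv_val := Mof_mul_eq_one _ _ _ _ h2 h4 }
  refine ⟨⟨u, (mem_G2_iff u).2 (Mof_aut A hA)⟩, fun x => ?_⟩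
  exact Mof_mulVec A A.adjugateᵀ x

end Cfsg.Agent.Helper97.Cov2.P8
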