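import Cfsg.Agent.Helper45.PronBL3.Defs

/-!
# helper97: leaf (H) of helper45's BL3 farm (#15446; block of helper99's S2225/S2226)
-/

set_option autoImplicit false

namespace Cfsg.Agent.Helper97.Pron

open Matrix Cfsg.Agent.Helper99.Pron Cfsg.Agent.Helper45.Pron

variable {F : Type*} [Field F]

/-- own copy of (D): no element of order `4` in `Fˣ` when `-1` is a non-square -/
theorem sq_eq_one_of_pow_two_pow_h97 (hns : ¬ ∃ i : F, i * i = -1) (d : F) (k : ℕ)
    (h : d ^ (2 ^ k) = 1) : d ^ 2 = 1 := by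
  induction k with
  | zero => rw [pow_zero, pow_one] at h; rw [h, one_pow]
  | succ k ih =>
    rcases k with _ | k
    · simpa using h
    · apply ih
      set y := d ^ (2 ^ k) with hy
      have h4 : y ^ 4 = 1 := by
        rw [hy, ← pow_mul, show 2 ^ k * 4 = 2 ^ (k + 1 + 1) by ring]
        exact h
      have h5 : (y ^ 2 - 1) * (y ^ 2 + 1) = 0 := by linear_combination h4
      have h6 : d ^ (2 ^ (k + 1)) = y ^ 2 := by
        rw [hy, ← pow_mul, pow_succ]
      rw [h6]
      rcases mul_eq_zero.1 h5 with h5 | h5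
      · linear_combination h5
      · exact absurd ⟨y, by linear_combination h5⟩ hns

/-- (H) the elements of `phi * Csub` have order dividing `4`: if `phi * g = c ∈ Csub`, `c = eM a b`, then
`g = phi * c` (`phi_mul_phi`), `g² = phiM * eM a b * phiM * eM a b = eM a (-b) * eM a b = eM (a² + b²) 0`,
`g⁴ = eM ((a² + b²)²) 0`; `N = a² + b² = det c` has `N ^ (2 ^ k) = 1` (`c ^ (2 ^ k) = 1`, `det_pow`),
so `N ^ 2 = 1` by (D) — prove (D) yourself or import it. -/
theorem mem_Esub_of_pow_four_ne (hns : ¬ ∃ i : F, i * i = -1) {g : GL (Fin 2) F}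
    (hg : g ∈ (Psub : Subgroup (GL (Fin 2) F))) (h4 : g ^ 4 ≠ 1) :
    g ∈ (Esub : Subgroup (GL (Fin 2) F)) := by
  rcases hg with hg | hg
  · exact hg.1
  · exfalso
    apply h4
    obtain ⟨⟨a, b, hab⟩, k, hk⟩ := hg
    have hgv : (g : Matrix (Fin 2) (Fin 2) F) = phiM * eM a b := by
      have h1 : (g : Matrix (Fin 2) (Fin 2) F)
          = ((phi * (phi * g) : GL (Fin 2) F) : Matrix (Fin 2) (Fin 2) F) := by
        rw [← mul_assoc, phi_mul_phi, one_mul]
      rw [h1, Units.val_mul, phi_val, hab]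
    have hN : (a ^ 2 + b ^ 2) ^ (2 ^ k) = 1 := by
      have h1 := congrArg (fun x : GL (Fin 2) F => (x : Matrix (Fin 2) (Fin 2) F).det) hk
      simp only [Units.val_pow_eq_pow_val, Units.val_one, Matrix.det_pow, Matrix.det_one] at h1
      rw [hab, det_eM] at h1
      exact h1
    have hN2 : (a ^ 2 + b ^ 2) ^ 2 = 1 := sq_eq_one_of_pow_two_pow_h97 hns _ k hN
    have hsq : (phiM * eM a b) * (phiM * eM a b) = eM (a ^ 2 + b ^ 2) 0 := by
      rw [mul_assoc, ← mul_assoc (eM a b), eM_mul_phiM, mul_assoc, ← mul_assoc, phiM_mul_phiM,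
        one_mul, eM_mul]
      congr 1 <;> ring
    apply Units.ext
    rw [Units.val_pow_eq_pow_val, hgv, Units.val_one, show (4 : ℕ) = 2 + 2 from rfl, pow_add,
      pow_two, hsq, eM_mul, ← eM_one_zero]
    congr 1
    · linear_combination hN2
    · ring

end Cfsg.Agent.Helper97.Pron
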