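import Mathlib
import Cfsg.Agent.Lib.Cores
import Cfsg.Agent.Helper9.Wielandt
import Cfsg.Agent.Helper9.SubnormalSylow
import Cfsg.Agent.Helper47.OpSubnormal
import Cfsg.Agent.Helper63.PrimePow
import Cfsg.Agent.Helper24.OddOmega
import Cfsg.Agent.Helper10.Card

/-!
# The Sylow subgroup of a join of subnormal subgroups

Main result `sylow_inf_sSup_le`: for a family `𝓑` of subnormal subgroups of the finite group `G` and
a Sylow `p`-subgroup `S`, `⟨𝓑⟩ ∩ S = ⟨B ∩ S : B ∈ 𝓑⟩`.
-/

set_option autoImplicit false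

namespace Cfsg.Agent.Helper97

open Subgroup
open scoped commutatorElement

section opp

variable {G : Type*} [Group G] {p : ℕ}

/-- `O^p(K)` in ambient form: generated by the elements of `K` of order prime to `p`. -/
def opp (p : ℕ) (K : Subgroup G) : Subgroup G :=
  Subgroup.closure {x : G | x ∈ K ∧ (orderOf x).Coprime p}

theorem opp_le (K : Subgroup G) : opp p K ≤ K :=
  (Subgroup.closure_le K).2 fun _ hx => hx.1

theorem opp_mono {K₁ K₂ : Subgroup G} (h : K₁ ≤ K₂) : opp p K₁ ≤ opp p K₂ :=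
  Subgroup.closure_mono fun _ hx => ⟨h hx.1, hx.2⟩

theorem mem_opp_of_coprime {K : Subgroup G} {x : G} (hx : x ∈ K) (hc : (orderOf x).Coprime p) :
    x ∈ opp p K :=
  Subgroup.subset_closure ⟨hx, hc⟩

theorem map_conj_opp (g : G) (K : Subgroup G) :
    (opp p K).map (MulAut.conj g).toMonoidHom = opp p (K.map (MulAut.conj g).toMonoidHom) := by
  unfold opp
  rw [MonoidHom.map_closure]
  congr 1
  ext x
  constructor
  · rintro ⟨y, ⟨hyK, hy⟩, rfl⟩
    refine ⟨⟨y, hyK, rfl⟩, ?_⟩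
    show (orderOf ((MulAut.conj g) y)).Coprime p
    rw [MulEquiv.orderOf_eq]
    exact hy
  · rintro ⟨⟨y, hyK, rfl⟩, hx⟩
    refine ⟨y, ⟨hyK, ?_⟩, rfl⟩
    have hx' : (orderOf ((MulAut.conj g) y)).Coprime p := hx
    rwa [MulEquiv.orderOf_eq] at hx'

theorem map_conj_eq_self_of_mem {K : Subgroup G} {k : G} (hk : k ∈ K) :
    K.map (MulAut.conj k).toMonoidHom = K := by
  apply le_antisymm
  · rintro _ ⟨y, hy, rfl⟩
    exact K.mul_mem (K.mul_mem hk hy) (K.inv_mem hk)
  · intro y hy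
    refine ⟨k⁻¹ * y * k, K.mul_mem (K.mul_mem (K.inv_mem hk) hy) hk, ?_⟩
    simp [mul_assoc]

theorem mem_normalizer_of_map_conj_eq {H : Subgroup G} {k : G}
    (h : H.map (MulAut.conj k).toMonoidHom = H) : k ∈ Subgroup.normalizer (H : Set G) := by
  rw [Subgroup.mem_normalizer_iff]
  intro x
  constructor
  · intro hx
    rw [← h]
    exact ⟨x, hx, rfl⟩
  · intro hx
    rw [← h] at hx
    obtain ⟨y, hy, hyx⟩ := hx
    have h1 : k * y * k⁻¹ = k * x * k⁻¹ := hyx
    have h2 : y = x := by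
      have := congrArg (fun z => k⁻¹ * z * k) h1
      simpa [mul_assoc] using this
    rwa [← h2]

theorem le_normalizer_opp (K : Subgroup G) : K ≤ Subgroup.normalizer ((opp p K : Subgroup G) : Set G) := by
  intro k hk
  apply mem_normalizer_of_map_conj_eq
  rw [map_conj_opp, map_conj_eq_self_of_mem hk]

theorem opp_isSubnormal {K : Subgroup G} (hK : K.IsSubnormal) : (opp p K).IsSubnormal := by
  have h1 : ((opp p K).subgroupOf K).Normal :=
    (Subgroup.normal_subgroupOf_iff_le_normalizer (opp_le K)).2 (le_normalizer_opp K)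
  exact Subgroup.IsSubnormal.trans (opp_le K) h1.isSubnormal hK

/-- `K = O^p(K) P` whenever `P ≤ K` has index in `K` prime to `p`. -/
theorem le_opp_sup [Finite G] [Fact p.Prime] {K P : Subgroup G}
    (hP : ¬ p ∣ P.relIndex K) : K ≤ opp p K ⊔ P := by
  have hp : p.Prime := Fact.out
  have h1 : Cfsg.pResidual p ↥K ⊔ P.subgroupOf K = ⊤ := by
    rw [← Subgroup.index_eq_one]
    obtain ⟨k, hk⟩ := Cfsg.Agent.Lib.index_pResidual (G := ↥K) p
    have d1 : (Cfsg.pResidual p ↥K ⊔ P.subgroupOf K).index ∣ p ^ k := by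
      rw [← hk]; exact Subgroup.index_dvd_of_le le_sup_left
    have d2 : (Cfsg.pResidual p ↥K ⊔ P.subgroupOf K).index ∣ P.relIndex K :=
      Subgroup.index_dvd_of_le le_sup_right
    obtain ⟨j, -, hj⟩ := (Nat.dvd_prime_pow hp).1 d1
    rcases Nat.eq_zero_or_pos j with h0 | hpos
    · rw [hj, h0, pow_zero]
    · exfalso
      apply hP
      refine dvd_trans ?_ d2
      rw [hj]
      exact dvd_pow_self p hpos.ne'
  have h2 := congrArg (Subgroup.map K.subtype) h1
  rw [Subgroup.map_sup, Cfsg.Agent.Helper47.pResidual_map_subtype_eq_closure,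
    Subgroup.subgroupOf_map_subtype, ← MonoidHom.range_eq_map, Subgroup.range_subtype] at h2
  intro x hx
  have hx' : x ∈ Subgroup.closure {x : G | x ∈ K ∧ (orderOf x).Coprime p} ⊔ P ⊓ K := by
    rw [h2]; exact hx
  exact (sup_le_sup (le_refl _) inf_le_left : _ ≤ opp p K ⊔ P) hx'

/-- For subnormal `B` and a Sylow `p`-subgroup `S` of `G`: `B = O^p(B) (B ∩ S)`. -/
theorem le_opp_sup_inf_sylow [Finite G] [Fact p.Prime] {B : Subgroup G} (hB : B.IsSubnormal)
    (S : Sylow p G) : B ≤ opp p B ⊔ (B ⊓ (S : Subgroup G)) := by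
  apply le_opp_sup
  rw [Subgroup.inf_relIndex_left]
  exact Cfsg.Agent.Helper9.not_dvd_relIndex_of_isSubnormal p S hB

/-- A normal subgroup of `p`-power index contains all `p'`-elements. -/
theorem opp_top_le_of_index [Finite G] [Fact p.Prime] {R : Subgroup G} [R.Normal] {k : ℕ}
    (hk : R.index = p ^ k) : opp p (⊤ : Subgroup G) ≤ R := by
  unfold opp
  rw [Subgroup.closure_le]
  rintro x ⟨-, hx⟩
  refine Cfsg.Agent.Helper63.mem_of_pow_mem_of_coprime (a := orderOf x) (b := p ^ k)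
    (Nat.Coprime.pow_right _ hx) ?_ ?_
  · rw [pow_orderOf_eq_one]; exact R.one_mem
  · rw [← hk]; exact Subgroup.pow_index_mem R x

end opp

section key

variable {G : Type*} [Group G] [Finite G] {p : ℕ} [Fact p.Prime]

/-- Key lemma: for `N` normal, `S` a Sylow `p`-subgroup and `B` subnormal,
`B ∩ S N ≤ (B ∩ S)(B ∩ N)`: the image of `B ∩ S` is a Sylow subgroup of the image of `B` modulo
`N`. -/
theorem inf_sup_le_of_isSubnormal (S : Sylow p G) {B N : Subgroup G} (hB : B.IsSubnormal)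
    [N.Normal] :
    B ⊓ ((S : Subgroup G) ⊔ N) ≤ (B ⊓ (S : Subgroup G)) ⊔ (B ⊓ N) := by
  have hp : p.Prime := Fact.out
  set D : Subgroup G := B ⊓ ((S : Subgroup G) ⊔ N) with hD
  set E : Subgroup G := (B ⊓ (S : Subgroup G)) ⊔ (B ⊓ N) with hE
  have hED : E ≤ D := sup_le (inf_le_inf le_rfl le_sup_left) (inf_le_inf le_rfl le_sup_right)
  have hDB : D ≤ B := inf_le_left
  have hSE : B ⊓ (S : Subgroup G) ≤ E := le_sup_left
  have hNE : B ⊓ N ≤ E := le_sup_right
  rw [← Subgroup.relIndex_eq_one]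
  -- coprime to `p`
  have d1 : E.relIndex D ∣ (B ⊓ (S : Subgroup G)).relIndex B := by
    have h1 := Subgroup.relIndex_mul_relIndex (B ⊓ (S : Subgroup G)) E B hSE (hED.trans hDB)
    have h2 := Subgroup.relIndex_mul_relIndex E D B hED hDB
    have h3 : (B ⊓ (S : Subgroup G)).relIndex B =
        E.relIndex D * ((B ⊓ (S : Subgroup G)).relIndex E * D.relIndex B) := by
      rw [← h1, ← h2]; ring
    exact Dvd.intro _ h3.symm
  have c1 : ¬ p ∣ (B ⊓ (S : Subgroup G)).relIndex B := by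
    rw [Subgroup.inf_relIndex_left]
    exact Cfsg.Agent.Helper9.not_dvd_relIndex_of_isSubnormal p S hB
  -- a power of `p`
  have d2 : E.relIndex D ∣ (B ⊓ N).relIndex D := by
    have h1 := Subgroup.relIndex_mul_relIndex (B ⊓ N) E D hNE hED
    rw [← h1]
    exact Dvd.intro_left _ rfl
  have hDN : D ⊓ N = B ⊓ N := by
    rw [hD, inf_assoc, inf_eq_right.2 (le_sup_right : N ≤ (S : Subgroup G) ⊔ N)]
  have d3 : (B ⊓ N).relIndex D ∣ Nat.card ↥(S : Subgroup G) := by
    rw [← hDN, Subgroup.inf_relIndex_left, ← Subgroup.relIndex_sup_right D N]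
    have h1 := Subgroup.relIndex_mul_relIndex N (D ⊔ N) ((S : Subgroup G) ⊔ N) le_sup_right
      (sup_le (inf_le_right) le_sup_right)
    have h2 : N.relIndex (D ⊔ N) ∣ N.relIndex ((S : Subgroup G) ⊔ N) := by
      rw [← h1]; exact Dvd.intro _ rfl
    rw [Subgroup.relIndex_sup_right (S : Subgroup G) N] at h2
    exact h2.trans (Subgroup.relIndex_dvd_card N (S : Subgroup G))
  obtain ⟨k, hk⟩ := IsPGroup.iff_card.1 S.isPGroup'
  rw [hk] at d3
  obtain ⟨j, -, hj⟩ := (Nat.dvd_prime_pow hp).1 (d2.trans d3)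
  rcases Nat.eq_zero_or_pos j with h0 | hpos
  · rw [hj, h0, pow_zero]
  · exfalso
    apply c1
    refine dvd_trans ?_ d1
    rw [hj]
    exact dvd_pow_self p hpos.ne'

omit [Finite G] [Fact p.Prime] in
theorem conj_mul_central {z : G} (hz : z ∈ Subgroup.center G) (t g : G) :
    (t * z) * g * (t * z)⁻¹ = t * g * t⁻¹ := by
  have h1 : z * g * z⁻¹ = g := by
    rw [← Subgroup.mem_center_iff.1 hz g, mul_inv_cancel_right]
  have h2 : (t * z) * g * (t * z)⁻¹ = t * (z * g * z⁻¹) * t⁻¹ := by group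
  rw [h2, h1]

omit [Finite G] [Fact p.Prime] in
theorem commutatorElement_mul_central {z₁ z₂ : G} (hz₁ : z₁ ∈ Subgroup.center G)
    (hz₂ : z₂ ∈ Subgroup.center G) (t₁ t₂ : G) : ⁅t₁ * z₁, t₂ * z₂⁆ = ⁅t₁, t₂⁆ := by
  rw [commutatorElement_def, commutatorElement_def, conj_mul_central hz₁]
  have h1 : t₁ * (t₂ * z₂) * t₁⁻¹ * (t₂ * z₂)⁻¹ = t₁ * ((t₂ * z₂) * t₁⁻¹ * (t₂ * z₂)⁻¹) := by group
  rw [h1, conj_mul_central hz₂]
  group

/-- Transfer: if `S = T N` with `N` a nontrivial central subgroup and `T ∩ N = 1`, then `G` has a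
proper normal subgroup of `p`-power index, so `O^p(G) ≠ G`. -/
theorem opp_top_ne_top_of_central_split (S : Sylow p G) {T N : Subgroup G}
    (hNS : N ≤ (S : Subgroup G)) (hST : (S : Subgroup G) ≤ T ⊔ N)
    (hTN : T ⊓ N = ⊥) (hNZ : N ≤ Subgroup.center G) (hN1 : N ≠ ⊥) :
    opp p (⊤ : Subgroup G) ≠ ⊤ := by
  classical
  have hp : p.Prime := Fact.out
  set P : Subgroup G := (S : Subgroup G) with hP
  -- decomposition of elements of `S`
  have hdec : ∀ s ∈ P, ∃ t ∈ T, ∃ z ∈ N, s = t * z := by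
    intro s hs
    have hTN' : T ≤ Subgroup.normalizer (N : Set G) := by
      have hNn : N.Normal := by
        refine ⟨fun z hz g => ?_⟩
        have hc := Subgroup.mem_center_iff.1 (hNZ hz) g
        rw [hc, mul_inv_cancel_right]
        exact hz
      rw [Subgroup.normalizer_eq_top]
      exact le_top
    exact Cfsg.Agent.Helper47.exists_mul_of_mem_sup hTN' (hST hs)
  -- the target of the transfer
  set T' : Subgroup ↥P := T.subgroupOf P with hT'
  set M : Subgroup (Abelianization ↥P) := T'.map Abelianization.of with hM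
  let ϕ : ↥P →* Abelianization ↥P ⧸ M := (QuotientGroup.mk' M).comp Abelianization.of
  have hPp : IsPGroup p ↥P := S.isPGroup'
  have hAb : IsPGroup p (Abelianization ↥P) := hPp.to_quotient (commutator ↥P)
  have hAp : IsPGroup p (Abelianization ↥P ⧸ M) := hAb.to_quotient M
  -- the kernel of `ϕ` is `T`
  have hcomm : ∀ a b : ↥P, ((⁅a, b⁆ : ↥P) : G) ∈ T := by
    intro a b
    obtain ⟨t₁, ht₁, z₁, hz₁, ha⟩ := hdec a.1 a.2
    obtain ⟨t₂, ht₂, z₂, hz₂, hb⟩ := hdec b.1 b.2
    have h1 : ((⁅a, b⁆ : ↥P) : G) = ⁅(a : G), (b : G)⁆ := by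
      simp [commutatorElement_def]
    rw [h1, ha, hb, commutatorElement_mul_central (hNZ hz₁) (hNZ hz₂), commutatorElement_def]
    exact T.mul_mem (T.mul_mem (T.mul_mem ht₁ ht₂) (T.inv_mem ht₁)) (T.inv_mem ht₂)
  have hcommle : commutator ↥P ≤ T' := by
    rw [commutator_def, Subgroup.commutator_le]
    intro a _ b _
    rw [hT', Subgroup.mem_subgroupOf]
    exact hcomm a b
  have hker : ∀ s : ↥P, ϕ s = 1 → (s : G) ∈ T := by
    intro s hs
    have h1 : Abelianization.of s ∈ M := (QuotientGroup.eq_one_iff _).1 hs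
    obtain ⟨t, ht, hts⟩ := h1
    have h2 : t⁻¹ * s ∈ commutator ↥P := by
      rw [← Abelianization.ker_of (G := ↥P), MonoidHom.mem_ker, map_mul, map_inv, hts,
        inv_mul_cancel]
    have h3 : t⁻¹ * s ∈ T' := hcommle h2
    have h4 : s = t * (t⁻¹ * s) := by rw [mul_inv_cancel_left]
    have h5 : s ∈ T' := by
      rw [h4]; exact T'.mul_mem ht h3
    exact Subgroup.mem_subgroupOf.1 h5
  -- the transfer
  have hfi : P.FiniteIndex := inferInstance
  set τ : G →* Abelianization ↥P ⧸ M := ϕ.transfer with hτ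
  obtain ⟨z, hz1⟩ := (Subgroup.ne_bot_iff_exists_ne_one).1 hN1
  have hzN' : (z : G) ∈ N := z.2
  have hz1' : (z : G) ≠ 1 := fun h => hz1 (Subtype.ext h)
  have hkey : ∀ (k : ℕ) (g₀ : G), g₀⁻¹ * (z : G) ^ k * g₀ ∈ P →
      g₀⁻¹ * (z : G) ^ k * g₀ = (z : G) ^ k := by
    intro k g₀ _
    have hc := Subgroup.mem_center_iff.1 ((Subgroup.center G).pow_mem (hNZ hzN') k) g₀
    rw [mul_assoc, ← hc, inv_mul_cancel_left]
  have hτz : τ (z : G) ≠ 1 := by
    rw [hτ, MonoidHom.transfer_eq_pow ϕ (z : G) hkey]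
    intro h
    have h1 := hker _ h
    have h2 : (z : G) ^ P.index ∈ T ⊓ N := ⟨h1, N.pow_mem hzN' _⟩
    rw [hTN, Subgroup.mem_bot] at h2
    -- order of `z` divides both a power of `p` and the index
    obtain ⟨k, hk⟩ := (IsPGroup.iff_orderOf.1 hPp) ⟨(z : G), hNS hzN'⟩
    rw [Subgroup.orderOf_mk] at hk
    have h3 : orderOf (z : G) ∣ P.index := orderOf_dvd_of_pow_eq_one h2
    have h4 : (orderOf (z : G)).Coprime P.index := by
      rw [hk]
      exact Nat.Coprime.pow_left _ ((Nat.Prime.coprime_iff_not_dvd hp).2 S.not_dvd_index)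
    have h5 : orderOf (z : G) = 1 := Nat.Coprime.eq_one_of_dvd h4 h3
    exact hz1' (orderOf_eq_one_iff.1 h5)
  -- conclude
  intro htop
  have hle : opp p (⊤ : Subgroup G) ≤ τ.ker := by
    have hq : IsPGroup p (G ⧸ τ.ker) :=
      hAp.of_injective (QuotientGroup.kerLift τ) (QuotientGroup.kerLift_injective τ)
    obtain ⟨k, hk⟩ := IsPGroup.iff_card.1 hq
    rw [← Subgroup.index_eq_card] at hk
    exact opp_top_le_of_index hk
  rw [htop] at hle
  exact hτz (MonoidHom.mem_ker.1 (hle (Subgroup.mem_top _)))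

end key

section main

universe u

variable {p : ℕ} [Fact p.Prime]

theorem conj_comp_conj {G : Type*} [Group G] (a b : G) (K : Subgroup G) :
    (K.map (MulAut.conj b).toMonoidHom).map (MulAut.conj a).toMonoidHom =
      K.map (MulAut.conj (a * b)).toMonoidHom := by
  rw [Subgroup.map_map]
  congr 1
  ext x
  simp [mul_assoc]

theorem card_lt_of_ne_top {G : Type*} [Group G] [Finite G] {H : Subgroup G} (h : H ≠ ⊤) :
    Nat.card ↥H < Nat.card G :=
  lt_of_le_of_ne (Subgroup.card_le_card_group H) fun he => h (Subgroup.eq_top_of_card_eq H he)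

/-- The case `⟨𝓑⟩ = G`, with the inductive hypothesis for smaller joins. -/
theorem sylow_le_of_sSup_eq_top_aux (n : ℕ)
    (IH : ∀ m < n, ∀ (G : Type u) [Group G] [Finite G] (S : Sylow p G) (𝓑 : Set (Subgroup G)),
      (∀ B ∈ 𝓑, B.IsSubnormal) → Nat.card ↥(sSup 𝓑) = m →
        sSup 𝓑 ⊓ (S : Subgroup G) ≤ ⨆ B ∈ 𝓑, B ⊓ (S : Subgroup G))
    (G : Type u) [Group G] [Finite G] (hn : Nat.card G = n) (S : Sylow p G)
    (𝓑 : Set (Subgroup G)) (h𝓑 : ∀ B ∈ 𝓑, B.IsSubnormal) (htop : sSup 𝓑 = ⊤) :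
    (S : Subgroup G) ≤ ⨆ B ∈ 𝓑, B ⊓ (S : Subgroup G) := by
  classical
  have hp : p.Prime := Fact.out
  set P : Subgroup G := (S : Subgroup G) with hP
  set T : Subgroup G := ⨆ B ∈ 𝓑, B ⊓ P with hT
  have hTP : T ≤ P := iSup₂_le fun B _ => inf_le_right
  have hBT : ∀ B ∈ 𝓑, B ⊓ P ≤ T := fun B hB => le_iSup₂ (f := fun B _ => B ⊓ P) B hB
  set R : Subgroup G := opp p (⊤ : Subgroup G) with hR
  have hRn : R.Normal := by
    rw [← Subgroup.normalizer_eq_top_iff, eq_top_iff]
    exact le_normalizer_opp ⊤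
  have h1a : ∀ B ∈ 𝓑, B ≤ R ⊔ T := fun B hB =>
    (le_opp_sup_inf_sylow (h𝓑 B hB) S).trans (sup_le_sup (opp_mono le_top) (hBT B hB))
  have hRT : R ⊔ T = ⊤ := by
    rw [eq_top_iff, ← htop]
    exact sSup_le h1a
  have h1b : P ≤ (R ⊓ P) ⊔ T := by
    intro x hx
    have hx' : x ∈ T ⊔ R := by rw [sup_comm, hRT]; trivial
    obtain ⟨t, ht, r, hr, rfl⟩ := Cfsg.Agent.Helper47.exists_mul_of_mem_sup (D := T) (C := R)
      (by rw [Subgroup.normalizer_eq_top]; exact le_top) hx'
    have hrP : r ∈ P := by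
      have := P.mul_mem (P.inv_mem (hTP ht)) hx
      rwa [inv_mul_cancel_left] at this
    rw [sup_comm]
    exact Subgroup.mul_mem_sup ht (Subgroup.mem_inf.2 ⟨hr, hrP⟩)
  by_cases hRtop : R = ⊤
  swap
  · -- Step 1: `O^p(G) < G`
    set 𝓑' : Set (Subgroup G) :=
      {X | ∃ B ∈ 𝓑, ∃ t ∈ T, X = (opp p B).map (MulAut.conj t).toMonoidHom} with h𝓑'
    set R₀ : Subgroup G := sSup 𝓑' with hR₀
    have hsub' : ∀ X ∈ 𝓑', X.IsSubnormal := by
      rintro _ ⟨B, hB, t, -, rfl⟩
      exact (opp_isSubnormal (h𝓑 B hB)).map (MulAut.conj t).surjective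
    have hR₀R : R₀ ≤ R := by
      apply sSup_le
      rintro _ ⟨B, hB, t, -, rfl⟩
      rintro _ ⟨y, hy, rfl⟩
      exact hRn.conj_mem y (opp_mono le_top hy) t
    have hconj : ∀ t' ∈ T, ∀ y ∈ R₀, t' * y * t'⁻¹ ∈ R₀ := by
      intro t' ht'
      have h1 : R₀ ≤ R₀.comap (MulAut.conj t').toMonoidHom := by
        apply sSup_le
        rintro _ ⟨B, hB, t, ht, rfl⟩
        rw [← Subgroup.map_le_iff_le_comap, conj_comp_conj]
        exact le_sSup ⟨B, hB, t' * t, T.mul_mem ht' ht, rfl⟩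
      intro y hy
      exact h1 hy
    have hTN₀ : T ≤ Subgroup.normalizer (R₀ : Set G) := by
      intro t' ht'
      refine Cfsg.Agent.Helper24.mem_normalizer_of_forall_conj_mem (hconj t' ht') ?_
      intro y hy
      have := hconj t'⁻¹ (T.inv_mem ht') y hy
      simpa using this
    have hoppB : ∀ B ∈ 𝓑, opp p B ≤ R₀ := by
      intro B hB
      refine le_sSup ⟨B, hB, 1, T.one_mem, ?_⟩
      ext x
      simp
    have hR₀T : R₀ ⊔ T = ⊤ := by
      rw [eq_top_iff, ← htop]
      apply sSup_le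
      intro B hB
      exact (le_opp_sup_inf_sylow (h𝓑 B hB) S).trans (sup_le_sup (hoppB B hB) (hBT B hB))
    have hR₀n : R₀.Normal := by
      rw [← Subgroup.normalizer_eq_top_iff, eq_top_iff, ← hR₀T]
      exact sup_le Subgroup.le_normalizer hTN₀
    have hidx : ∃ k, R₀.index = p ^ k := by
      have h1 : R₀.relIndex (T ⊔ R₀) = R₀.relIndex T := Subgroup.relIndex_sup_right T R₀
      rw [sup_comm, hR₀T, Subgroup.relIndex_top_right] at h1
      obtain ⟨k, hk⟩ := IsPGroup.iff_card.1 (S.isPGroup'.to_le hTP)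
      have h2 : R₀.index ∣ p ^ k := by
        rw [h1, ← hk]; exact Subgroup.relIndex_dvd_card R₀ T
      obtain ⟨j, -, hj⟩ := (Nat.dvd_prime_pow hp).1 h2
      exact ⟨j, hj⟩
    obtain ⟨k, hk⟩ := hidx
    have hRR₀ : R ≤ R₀ := opp_top_le_of_index hk
    have hcard : Nat.card ↥(sSup 𝓑') < n := by
      rw [← hn]
      exact lt_of_le_of_lt (Subgroup.card_le_of_le hR₀R) (card_lt_of_ne_top hRtop)
    have h3 := IH _ hcard G S 𝓑' hsub' rfl
    have h4 : (⨆ X ∈ 𝓑', X ⊓ (S : Subgroup G)) ≤ T := by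
      apply iSup₂_le
      rintro _ ⟨B, hB, t, ht, rfl⟩
      rintro y ⟨⟨b, hb, rfl⟩, hyP⟩
      have hbP : b ∈ P := by
        have h5 : t⁻¹ * ((MulAut.conj t).toMonoidHom b) * t ∈ P :=
          P.mul_mem (P.mul_mem (P.inv_mem (hTP ht)) hyP) (hTP ht)
        have h6 : t⁻¹ * ((MulAut.conj t).toMonoidHom b) * t = b := by simp [mul_assoc]
        rwa [h6] at h5
      have hbT : b ∈ T := hBT B hB (Subgroup.mem_inf.2 ⟨opp_le B hb, hbP⟩)
      show t * b * t⁻¹ ∈ T
      exact T.mul_mem (T.mul_mem ht hbT) (T.inv_mem ht)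
    have h5 : R ⊓ P ≤ T := (inf_le_inf hRR₀ le_rfl).trans (h3.trans h4)
    exact h1b.trans (sup_le h5 le_rfl)
  · -- Step 2: `O^p(G) = G`
    rcases subsingleton_or_nontrivial G with hs | hnt
    · intro x _
      have hx1 : x = 1 := Subsingleton.elim _ _
      rw [hx1]; exact T.one_mem
    obtain ⟨N, hN, -⟩ :=
      Cfsg.Agent.Helper9.exists_isMinNormal_le (⊤ : Subgroup G) inferInstance top_ne_bot
    have hNn : N.Normal := hN.1
    have hN1 : N ≠ ⊥ := hN.2.1
    -- (a) the quotient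
    have hPTN : P ≤ T ⊔ N := by
      have hcard : Nat.card (G ⧸ N) < n := by
        rw [← hn, Subgroup.card_eq_card_quotient_mul_card_subgroup N]
        have h1 : 1 < Nat.card N := by
          rw [Subgroup.one_lt_card_iff_ne_bot]; exact hN1
        have hpos : 0 < Nat.card (G ⧸ N) := Nat.card_pos
        nlinarith
      set π := QuotientGroup.mk' N with hπ
      have hsurj : Function.Surjective π := QuotientGroup.mk'_surjective N
      set S' : Sylow p (G ⧸ N) := S.mapSurjective hsurj with hS'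
      have hS'coe : (S' : Subgroup (G ⧸ N)) = P.map π := Sylow.coe_mapSurjective hsurj S
      set 𝓑q : Set (Subgroup (G ⧸ N)) := (Subgroup.map π) '' 𝓑 with h𝓑q
      have hsubq : ∀ X ∈ 𝓑q, X.IsSubnormal := by
        rintro _ ⟨B, hB, rfl⟩
        exact (h𝓑 B hB).map hsurj
      have htopq : sSup 𝓑q = ⊤ := by
        rw [eq_top_iff, ← Subgroup.map_top_of_surjective π hsurj, ← htop,
          Subgroup.map_le_iff_le_comap]
        apply sSup_le
        intro B hB
        rw [← Subgroup.map_le_iff_le_comap]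
        exact le_sSup ⟨B, hB, rfl⟩
      have hcardq : Nat.card ↥(sSup 𝓑q) < n := by
        rw [htopq, Subgroup.card_top]; exact hcard
      have h3 := IH _ hcardq (G ⧸ N) S' 𝓑q hsubq rfl
      rw [htopq, top_inf_eq] at h3
      have h4 : (⨆ X ∈ 𝓑q, X ⊓ (S' : Subgroup (G ⧸ N))) ≤ (T ⊔ N).map π := by
        apply iSup₂_le
        rintro _ ⟨B, hB, rfl⟩
        intro x hx
        obtain ⟨hx1, hx2⟩ := Subgroup.mem_inf.1 hx
        obtain ⟨b, hb, rfl⟩ := hx1
        rw [hS'coe] at hx2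
        obtain ⟨s, hs, hsb⟩ := hx2
        have hbs : s⁻¹ * b ∈ N := by
          rw [← QuotientGroup.ker_mk' N, MonoidHom.mem_ker, map_mul, map_inv]
          rw [hsb, inv_mul_cancel]
        have hb2 : b ∈ P ⊔ N := by
          have hbe : b = s * (s⁻¹ * b) := by rw [mul_inv_cancel_left]
          rw [hbe]
          exact Subgroup.mul_mem_sup hs hbs
        have hb3 := inf_sup_le_of_isSubnormal S (h𝓑 B hB) (N := N)
          (Subgroup.mem_inf.2 ⟨hb, hb2⟩)
        have hb4 : b ∈ T ⊔ N := (sup_le_sup (hBT B hB) inf_le_right) hb3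
        exact Subgroup.mem_map_of_mem π hb4
      have h5 : P.map π ≤ (T ⊔ N).map π := by
        rw [← hS'coe]; exact h3.trans h4
      have h6 := Subgroup.comap_mono (f := π) h5
      rw [Subgroup.comap_map_eq, Subgroup.comap_map_eq, QuotientGroup.ker_mk'] at h6
      exact (le_sup_left.trans h6).trans (sup_le le_rfl le_sup_right)
    have hPT' : P ≤ T ⊔ (N ⊓ P) := by
      intro x hx
      obtain ⟨t, ht, n', hn', rfl⟩ := Cfsg.Agent.Helper47.exists_mul_of_mem_sup (D := T) (C := N)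
        (by rw [Subgroup.normalizer_eq_top]; exact le_top) (hPTN hx)
      have hnP : n' ∈ P := by
        have := P.mul_mem (P.inv_mem (hTP ht)) hx
        rwa [inv_mul_cancel_left] at this
      exact Subgroup.mul_mem_sup ht (Subgroup.mem_inf.2 ⟨hn', hnP⟩)
    -- (b) `W` is normal
    set W : Subgroup G := ⨆ B ∈ 𝓑, N ⊓ B with hW
    have hWN : W ≤ N := iSup₂_le fun B _ => inf_le_left
    have hBW : ∀ B ∈ 𝓑, N ⊓ B ≤ W := fun B hB => le_iSup₂ (f := fun B _ => N ⊓ B) B hB
    have hNB : ∀ B ∈ 𝓑, N ≤ Subgroup.normalizer (B : Set G) :=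
      fun B hB => hN.le_normalizer (h𝓑 B hB)
    have hcommNB : ∀ B' ∈ 𝓑, ∀ g ∈ B', ∀ x ∈ N, g * x * g⁻¹ * x⁻¹ ∈ N ⊓ B' := by
      intro B' hB' g hg x hxN
      refine Subgroup.mem_inf.2 ⟨N.mul_mem (hNn.conj_mem x hxN g) (N.inv_mem hxN), ?_⟩
      have h2 : x * g⁻¹ * x⁻¹ ∈ B' :=
        (Subgroup.mem_normalizer_iff.1 (hNB B' hB' hxN) g⁻¹).1 (B'.inv_mem hg)
      have h3 : g * x * g⁻¹ * x⁻¹ = g * (x * g⁻¹ * x⁻¹) := by group
      rw [h3]; exact B'.mul_mem hg h2
    have hconjW : ∀ B' ∈ 𝓑, ∀ g ∈ B', W ≤ W.comap (MulAut.conj g).toMonoidHom := by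
      intro B' hB' g hg
      apply iSup₂_le
      intro B hB x hx
      obtain ⟨hxN, hxB⟩ := Subgroup.mem_inf.1 hx
      show g * x * g⁻¹ ∈ W
      have h4 : g * x * g⁻¹ = (g * x * g⁻¹ * x⁻¹) * x := by group
      rw [h4]
      exact W.mul_mem (hBW B' hB' (hcommNB B' hB' g hg x hxN)) (hBW B hB hx)
    have hWn : W.Normal := by
      rw [← Subgroup.normalizer_eq_top_iff, eq_top_iff, ← htop]
      apply sSup_le
      intro B' hB' g hg
      apply Cfsg.Agent.Helper24.mem_normalizer_of_forall_conj_mem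
      · intro y hy; exact hconjW B' hB' g hg hy
      · intro y hy
        have := hconjW B' hB' g⁻¹ (B'.inv_mem hg) hy
        simpa using this
    rcases hN.2.2 W hWn hWN with hW0 | hWN'
    · -- (d) `W = ⊥`: `N` is central
      have hNZ : N ≤ Subgroup.center G := by
        intro z hz
        have hcz : (⊤ : Subgroup G) ≤ Subgroup.centralizer {z} := by
          rw [← htop]
          apply sSup_le
          intro B hB b hb
          rw [Subgroup.mem_centralizer_iff]
          intro h hh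
          rw [Set.mem_singleton_iff] at hh
          rw [hh]
          have h1 : b * z * b⁻¹ * z⁻¹ ∈ W := hBW B hB (hcommNB B hB b hb z hz)
          rw [hW0, Subgroup.mem_bot] at h1
          have h2 : b * z = (b * z * b⁻¹ * z⁻¹) * (z * b) := by group
          rw [h2, h1, one_mul]
        rw [Subgroup.mem_center_iff]
        intro g
        have hg := hcz (Subgroup.mem_top g)
        rw [Subgroup.mem_centralizer_iff] at hg
        exact (hg z rfl).symm
      have hsubN : ∀ X : Subgroup G, X ≤ N → X = ⊥ ∨ X = N := by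
        intro X hX
        have hXn : X.Normal := by
          refine ⟨fun x hx g => ?_⟩
          have hc := Subgroup.mem_center_iff.1 (hNZ (hX hx)) g
          rw [hc, mul_inv_cancel_right]
          exact hx
        exact hN.2.2 X hXn hX
      rcases hsubN (N ⊓ P) inf_le_left with h0 | h1
      · rw [h0, sup_bot_eq] at hPT'
        exact hPT'
      · have hNP : N ≤ P := by rw [← h1]; exact inf_le_right
        rcases hsubN (T ⊓ N) inf_le_right with h2 | h3
        · exact absurd hRtop (opp_top_ne_top_of_central_split S hNP hPTN h2 hNZ hN1)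
        · have hNT : N ≤ T := by rw [← h3]; exact inf_le_left
          exact hPTN.trans (sup_le le_rfl hNT)
    · -- (c) `W = N`
      have hNPT : N ⊓ P ≤ T := by
        by_cases hNtop : N = ⊤
        · -- `G` is simple
          have hex : ∃ B ∈ 𝓑, B = ⊤ := by
            by_contra hcon
            push Not at hcon
            have hall : ∀ B ∈ 𝓑, B = ⊥ := by
              intro B hB
              rcases (h𝓑 B hB).lt_normal with h | ⟨K, hKn, hBK, hKt⟩
              · exact absurd h (hcon B hB)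
              · rcases hN.2.2 K hKn (by rw [hNtop]; exact le_top) with hK0 | hKN
                · rw [hK0] at hBK; exact le_bot_iff.1 hBK
                · rw [hKN, hNtop] at hKt; exact absurd hKt (lt_irrefl _)
            have hbot : sSup 𝓑 = ⊥ := by
              rw [eq_bot_iff]; apply sSup_le; intro B hB; rw [hall B hB]
            rw [htop] at hbot
            exact top_ne_bot hbot
          obtain ⟨B, hB, hBt⟩ := hex
          have hthis := hBT B hB
          rw [hBt, top_inf_eq] at hthis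
          exact inf_le_right.trans hthis
        · set 𝓑n : Set (Subgroup G) := (fun B => N ⊓ B) '' 𝓑 with h𝓑n
          have hsubn : ∀ X ∈ 𝓑n, X.IsSubnormal := by
            rintro _ ⟨B, hB, rfl⟩
            exact hNn.isSubnormal.inf (h𝓑 B hB)
          have hsupn : sSup 𝓑n = N := by
            rw [h𝓑n, sSup_image]
            exact hWN'
          have hcardn : Nat.card ↥(sSup 𝓑n) < n := by
            rw [hsupn, ← hn]; exact card_lt_of_ne_top hNtop
          have h3 := IH _ hcardn G S 𝓑n hsubn rfl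
          rw [hsupn] at h3
          refine h3.trans ?_
          apply iSup₂_le
          rintro _ ⟨B, hB, rfl⟩
          exact (inf_le_inf inf_le_right le_rfl).trans (hBT B hB)
      exact hPT'.trans (sup_le le_rfl hNPT)

/-- Induction on the order of the join. -/
theorem sylow_inf_sSup_le_aux (n : ℕ) :
    ∀ (G : Type u) [Group G] [Finite G] (S : Sylow p G) (𝓑 : Set (Subgroup G)),
      (∀ B ∈ 𝓑, B.IsSubnormal) → Nat.card ↥(sSup 𝓑) = n →
        sSup 𝓑 ⊓ (S : Subgroup G) ≤ ⨆ B ∈ 𝓑, B ⊓ (S : Subgroup G) := by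
  induction n using Nat.strong_induction_on with
  | _ n ih =>
    intro G _ _ S 𝓑 h𝓑 hn
    set L : Subgroup G := sSup 𝓑 with hL
    have hLsub : L.IsSubnormal := Cfsg.Agent.Helper9.isSubnormal_sSup 𝓑 h𝓑
    have hBL : ∀ B ∈ 𝓑, B ≤ L := fun B hB => le_sSup hB
    have hidx : ¬ p ∣ ((S : Subgroup G).subgroupOf L).index :=
      Cfsg.Agent.Helper9.not_dvd_relIndex_of_isSubnormal p S hLsub
    have hPg : IsPGroup p ((S : Subgroup G).subgroupOf L) := S.isPGroup'.comap_subtype
    set Q : Sylow p ↥L := hPg.toSylow hidx with hQ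
    have hQcoe : (Q : Subgroup ↥L) = (S : Subgroup G).subgroupOf L := hPg.toSylow_coe hidx
    set 𝓑L : Set (Subgroup ↥L) := (fun B : Subgroup G => B.subgroupOf L) '' 𝓑 with h𝓑L
    have hsubL : ∀ X ∈ 𝓑L, X.IsSubnormal := by
      rintro _ ⟨B, hB, rfl⟩
      exact (h𝓑 B hB).subgroupOf
    have htopL : sSup 𝓑L = ⊤ := by
      have h1 : L ≤ (sSup 𝓑L).map L.subtype := by
        apply sSup_le
        intro B hB x hx
        refine ⟨⟨x, hBL B hB hx⟩, ?_, rfl⟩
        have h2 : B.subgroupOf L ≤ sSup 𝓑L := le_sSup ⟨B, hB, rfl⟩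
        exact h2 (Subgroup.mem_subgroupOf.2 hx)
      rw [eq_top_iff]
      intro x _
      obtain ⟨y, hy, hyx⟩ := h1 x.2
      have hyx' : y = x := Subtype.ext hyx
      rwa [← hyx']
    have h3 := sylow_le_of_sSup_eq_top_aux n ih ↥L hn Q 𝓑L hsubL htopL
    have h4 : (⨆ X ∈ 𝓑L, X ⊓ (Q : Subgroup ↥L)) ≤
        (⨆ B ∈ 𝓑, B ⊓ (S : Subgroup G)).comap L.subtype := by
      apply iSup₂_le
      rintro _ ⟨B, hB, rfl⟩
      intro y hy
      obtain ⟨hy1, hy2⟩ := Subgroup.mem_inf.1 hy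
      rw [hQcoe] at hy2
      have hyB : (y : G) ∈ B ⊓ (S : Subgroup G) :=
        Subgroup.mem_inf.2 ⟨Subgroup.mem_subgroupOf.1 hy1, Subgroup.mem_subgroupOf.1 hy2⟩
      exact (le_iSup₂ (f := fun B _ => B ⊓ (S : Subgroup G)) B hB) hyB
    intro x hx
    obtain ⟨hxL, hxS⟩ := Subgroup.mem_inf.1 hx
    have hxQ : (⟨x, hxL⟩ : ↥L) ∈ (Q : Subgroup ↥L) := by
      rw [hQcoe]; exact Subgroup.mem_subgroupOf.2 hxS
    exact h4 (h3 hxQ)

/-- **The Sylow subgroup of a join of subnormal subgroups.** -/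
theorem sylow_inf_sSup_le {G : Type u} [Group G] [Finite G] (S : Sylow p G)
    (𝓑 : Set (Subgroup G)) (h𝓑 : ∀ B ∈ 𝓑, B.IsSubnormal) :
    sSup 𝓑 ⊓ (S : Subgroup G) ≤ ⨆ B ∈ 𝓑, B ⊓ (S : Subgroup G) :=
  sylow_inf_sSup_le_aux _ G S 𝓑 h𝓑 rfl

/-- The two-subgroup version. -/
theorem sup_inf_sylow_eq {G : Type u} [Group G] [Finite G] (S : Sylow p G) {A₁ A₂ : Subgroup G}
    (h₁ : A₁.IsSubnormal) (h₂ : A₂.IsSubnormal) :
    (A₁ ⊔ A₂) ⊓ (S : Subgroup G) = (A₁ ⊓ (S : Subgroup G)) ⊔ (A₂ ⊓ (S : Subgroup G)) := by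
  apply le_antisymm
  · have h := sylow_inf_sSup_le S {A₁, A₂} (by
      intro B hB
      rcases hB with rfl | rfl
      · exact h₁
      · exact h₂)
    rw [sSup_pair] at h
    refine h.trans ?_
    apply iSup₂_le
    intro B hB
    rcases hB with rfl | rfl
    · exact le_sup_left
    · exact le_sup_right
  · exact sup_le (inf_le_inf le_sup_left le_rfl) (inf_le_inf le_sup_right le_rfl)

end main

end Cfsg.Agent.Helper97
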