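import Mathlib

/-!
# (GEN) for S4504 (helper97 for helper57, board #8333): comparing orders, `G = K Z(G)`
-/

set_option autoImplicit false
set_option linter.unusedSectionVars false
set_option linter.unusedVariables false

namespace Cfsg.Agent.Helper97.BP

universe u

/-- (GEN) comparing orders: `G = K Z(G)` -/
theorem eq_top_of_card {G : Type u} [Group G] [Finite G] (p : ℕ)
    (K : Subgroup G) (hK : K = Subgroup.normalClosure {g : G | orderOf g = p})
    (m : ℕ) (hm : 0 < m) (hG : Nat.card G = m * Nat.card (Subgroup.center G))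
    (hKc : Nat.card K = m * Nat.card (Subgroup.center K))
    (H : Subgroup G) (hH : ∀ g : G, orderOf g = p → g ∈ H) (hZ : Subgroup.center G ≤ H) :
    H = ⊤ := by
  classical
  -- `K ≤ H`
  have hKH : K ≤ H := by
    rw [hK, Subgroup.normalClosure, Subgroup.closure_le]
    intro a ha
    obtain ⟨a', ha', hconj⟩ := Group.mem_conjugatesOfSet_iff.1 ha
    obtain ⟨c, hc⟩ := isConj_iff.1 hconj
    apply hH
    have h1 : orderOf ((MulAut.conj c) a') = orderOf a' := MulEquiv.orderOf_eq (MulAut.conj c) a'
    rw [MulAut.conj_apply, hc] at h1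
    rw [h1]
    exact ha'
  -- the map `K → G ⧸ Z(G)`
  let π : ↥K →* G ⧸ Subgroup.center G := (QuotientGroup.mk' (Subgroup.center G)).comp K.subtype
  have hker : π.ker ≤ Subgroup.center ↥K := by
    intro k hk
    rw [MonoidHom.mem_ker] at hk
    have hk' : (k : G) ∈ Subgroup.center G := by
      have : ((k : G) : G ⧸ Subgroup.center G) = 1 := hk
      exact (QuotientGroup.eq_one_iff _).1 this
    rw [Subgroup.mem_center_iff]
    intro g
    apply Subtype.ext
    rw [Subgroup.coe_mul, Subgroup.coe_mul]
    exact (Subgroup.mem_center_iff.1 hk') (g : G)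
  have hkercard : Nat.card π.ker ≤ Nat.card (Subgroup.center ↥K) :=
    Nat.le_of_dvd Nat.card_pos (Subgroup.card_dvd_of_le hker)
  have hKcard : Nat.card ↥K = Nat.card π.range * Nat.card π.ker := by
    rw [← Subgroup.index_ker, Subgroup.index_mul_card]
  have hZK : 0 < Nat.card (Subgroup.center ↥K) := Nat.card_pos
  have hZG : 0 < Nat.card (Subgroup.center G) := Nat.card_pos
  have hquot : Nat.card (G ⧸ Subgroup.center G) = m := by
    have h1 : (Subgroup.center G).index * Nat.card (Subgroup.center G) = Nat.card G :=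
      Subgroup.index_mul_card _
    rw [hG] at h1
    have := Nat.eq_of_mul_eq_mul_right hZG h1
    rw [← this, Subgroup.index_eq_card]
  have hrange_le : Nat.card π.range ≤ m := by
    rw [← hquot]
    exact Subgroup.card_le_card_group π.range
  have hm_le : m ≤ Nat.card π.range := by
    have h1 : m * Nat.card (Subgroup.center ↥K) ≤
        Nat.card π.range * Nat.card (Subgroup.center ↥K) := by
      rw [← hKc, hKcard]
      exact Nat.mul_le_mul_left _ hkercard
    exact Nat.le_of_mul_le_mul_right h1 hZK
  have hrange : π.range = ⊤ := by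
    apply Subgroup.eq_top_of_card_eq
    rw [hquot]
    omega
  have hsurj : Function.Surjective π := MonoidHom.range_eq_top.1 hrange
  rw [eq_top_iff]
  intro g _
  obtain ⟨k, hk⟩ := hsurj (g : G ⧸ Subgroup.center G)
  have hk' : ((k : G) : G ⧸ Subgroup.center G) = (g : G ⧸ Subgroup.center G) := hk
  have hz : (k : G)⁻¹ * g ∈ Subgroup.center G := QuotientGroup.eq.1 hk'
  have : g = (k : G) * ((k : G)⁻¹ * g) := by group
  rw [this]
  exact H.mul_mem (hKH k.2) (hZ hz)

end Cfsg.Agent.Helper97.BP
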