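import Mathlib
import Cfsg.Agent.Helper71.SolvMax
import Cfsg.Agent.Helper12.PrimeDegNormalizer

/-! (GAL) for helper58's S3613 farm (#9337): Galois: a solvable transitive group of prime degree
`q` has order dividing `q (q - 1)`. -/

set_option autoImplicit false

namespace Cfsg.Agent.Helper97.N3

open MulAction
open scoped Pointwise

/-- the permutation group version -/
theorem card_dvd_of_solvable_perm {X : Type*} [Fintype X] [DecidableEq X] {q : ℕ} [hq : Fact q.Prime]
    (hX : Fintype.card X = q) (G : Subgroup (Equiv.Perm X)) [IsPretransitive G X]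
    (hs : Group.IsSolvable G) : Nat.card G ∣ q * (q - 1) := by
  classical
  by_cases hnt : Nontrivial G
  swap
  · rw [not_nontrivial_iff_subsingleton] at hnt
    rw [Nat.card_eq_one_iff_unique.mpr ⟨hnt, ⟨1⟩⟩]
    exact one_dvd _
  have : Finite G := inferInstance
  obtain ⟨p, hp, B, hBn, hBne, -, hBp⟩ :=
    Cfsg.Agent.Helper71.exists_normal_abelian_pGroup_ne_bot (Q := G)
  have : Fact p.Prime := ⟨hp⟩
  have hprim : IsPreprimitive G X :=
    IsPreprimitive.of_prime_card (by rw [Nat.card_eq_fintype_card, hX]; exact hq.out)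
  -- `B` is transitive
  have hfix : fixedPoints B X ≠ Set.univ := by
    intro h
    apply hBne
    rw [Subgroup.eq_bot_iff_forall]
    intro b hb
    apply Subtype.ext
    apply Equiv.ext
    intro x
    have hx : x ∈ fixedPoints B X := by rw [h]; exact Set.mem_univ x
    have := hx ⟨b, hb⟩
    exact this
  have hBtr : IsPretransitive B X := IsQuasiPreprimitive.isPretransitive_of_normal hfix
  -- `q ∣ |B|`
  have hne : Nonempty X := by
    rw [← Fintype.card_pos_iff, hX]; exact hq.out.pos
  obtain ⟨x⟩ := hne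
  have hidx : (stabilizer B x).index = q := by
    rw [MulAction.index_stabilizer_of_transitive, Nat.card_eq_fintype_card, hX]
  have hqB : q ∣ Nat.card B := by
    rw [← hidx]; exact Subgroup.index_dvd_card _
  -- `p = q`
  obtain ⟨n, hn⟩ := IsPGroup.iff_card.mp hBp
  have hpq : q = p := by
    rw [hn] at hqB
    exact (Nat.prime_dvd_prime_iff_eq hq.out hp).mp (hq.out.dvd_of_dvd_pow hqB)
  subst hpq
  obtain ⟨Q, hBQ⟩ := hBp.exists_le_sylow
  obtain ⟨hQc, hidxd, hN⟩ := Cfsg.Agent.Helper12.PDNorm.card_normalizer hX G Q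
  -- `B = Q`
  have hBQ' : B = (Q : Subgroup G) := by
    apply Subgroup.eq_of_le_of_card_ge hBQ
    rw [hQc]
    exact Nat.le_of_dvd Nat.card_pos hqB
  have hQn : (Q : Subgroup G).Normal := hBQ' ▸ hBn
  have htop : Subgroup.normalizer ((Q : Subgroup G) : Set G) = ⊤ :=
    Subgroup.normalizer_eq_top_iff.mpr hQn
  have hcard : Nat.card G = Nat.card (Subgroup.normalizer ((Q : Subgroup G) : Set G)) := by
    rw [htop, Subgroup.card_top]
  rw [hcard, hN]
  exact Nat.mul_dvd_mul_left _ hidxd

/-- (GAL) Galois: a solvable transitive group of prime degree has order dividing `q (q - 1)` -/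
theorem card_dvd_of_solvable {Γ X : Type*} [Group Γ] [Finite Γ] [MulAction Γ X] [FaithfulSMul Γ X]
    [Fintype X] [DecidableEq X] [IsPretransitive Γ X] {q : ℕ} [Fact q.Prime]
    (hX : Fintype.card X = q) (hs : Group.IsSolvable Γ) : Nat.card Γ ∣ q * (q - 1) := by
  have hinj : Function.Injective (MulAction.toPermHom Γ X) := MulAction.toPerm_injective
  set G' : Subgroup (Equiv.Perm X) := (MulAction.toPermHom Γ X).range with hG'
  have htr : IsPretransitive G' X := by
    refine ⟨fun x y => ?_⟩
    obtain ⟨g, hg⟩ := exists_smul_eq Γ x y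
    exact ⟨⟨MulAction.toPermHom Γ X g, g, rfl⟩, hg⟩
  have hs' : Group.IsSolvable G' :=
    Group.isSolvable_of_surjective (MonoidHom.rangeRestrict_surjective (MulAction.toPermHom Γ X))
  have hcard : Nat.card Γ = Nat.card G' :=
    Nat.card_congr (MonoidHom.ofInjective hinj).toEquiv
  rw [hcard]
  exact card_dvd_of_solvable_perm hX G' hs'

end Cfsg.Agent.Helper97.N3
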