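import Mathlib
import Cfsg.Prelude.Def_Perm
import Cfsg.Agent.Helper61.NeuDefs

/-!
# (KEY) for S3611 (helper97 for helper61, board #8146): the abstract Neumann bound
-/

set_option autoImplicit false
set_option linter.unusedSectionVars false
set_option linter.unusedVariables false

namespace Cfsg.Agent.Helper97.Neu

open MulAction Cfsg.Agent.Helper61.Neu Module

/-- (KEY) the abstract Neumann bound: if the heart is irreducible, `L` is a functional which is
nonzero on the sum-zero functions, kills the constants, and whose kernel on sum-zero functions is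
`N`-invariant, and `G = N g₁ X ∪ N g₂ X`, then the `X`-invariant sum-zero functions have
dimension at most `3`. -/
theorem finrank_inv_sumZero_le {G : Type*} [Group G] {Ω : Type*} [Fintype Ω] [MulAction G Ω]
    {K : Type*} [Field K]
    (hirr : ∀ W : Submodule K (Ω → K), (∀ g : G, ∀ f ∈ W, Cfsg.permRep K G Ω g f ∈ W) →
      (Cfsg.permConstants K G Ω).toSubmodule ≤ W →
      W ≤ (Cfsg.permSumZero K G Ω).toSubmodule →
      W = (Cfsg.permConstants K G Ω).toSubmodule ∨ W = (Cfsg.permSumZero K G Ω).toSubmodule)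
    (hconst : (Cfsg.permConstants K G Ω).toSubmodule ≤ (Cfsg.permSumZero K G Ω).toSubmodule)
    (L : (Ω → K) →ₗ[K] K) (hL1 : L (fun _ => 1) = 0)
    (hL0 : ∃ f ∈ (Cfsg.permSumZero K G Ω).toSubmodule, L f ≠ 0)
    (N X : Subgroup G)
    (hLN : ∀ n ∈ N, ∀ f ∈ (Cfsg.permSumZero K G Ω).toSubmodule, L f = 0 →
      L (Cfsg.permRep K G Ω n f) = 0)
    (g₁ g₂ : G) (hcov : ∀ g : G, ∃ n ∈ N, ∃ x ∈ X, g = n * g₁ * x ∨ g = n * g₂ * x) :
    Module.finrank K ↥(invSub K (Ω := Ω) X ⊓ (Cfsg.permSumZero K G Ω).toSubmodule) ≤ 3 := by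
  classical
  set C : Submodule K (Ω → K) := (Cfsg.permConstants K G Ω).toSubmodule with hC
  set Z : Submodule K (Ω → K) := (Cfsg.permSumZero K G Ω).toSubmodule with hZ
  set S : Submodule K (Ω → K) := invSub K (Ω := Ω) X ⊓ Z with hS
  have hCL : C ≤ LinearMap.ker L := by
    rw [hC]
    change Submodule.span K {fun _ => (1 : K)} ≤ LinearMap.ker L
    rw [Submodule.span_le, Set.singleton_subset_iff]
    exact hL1
  -- the key claim
  have hkey : ∀ f ∈ S, L (Cfsg.permRep K G Ω g₁ f) = 0 → L (Cfsg.permRep K G Ω g₂ f) = 0 →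
      f ∈ C := by
    intro f hfS h1 h2
    have hfX : f ∈ invSub K (Ω := Ω) X := hfS.1
    have hfZ : f ∈ Z := hfS.2
    have hall : ∀ g : G, L (Cfsg.permRep K G Ω g f) = 0 := by
      intro g
      obtain ⟨n, hn, x, hx, hg | hg⟩ := hcov g
      · rw [hg, map_mul, map_mul, Module.End.mul_apply, Module.End.mul_apply,
          permRep_of_mem_invSub hfX hx]
        exact hLN n hn _ ((Cfsg.permSumZero K G Ω).apply_mem_toSubmodule g₁ hfZ) h1
      · rw [hg, map_mul, map_mul, Module.End.mul_apply, Module.End.mul_apply,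
          permRep_of_mem_invSub hfX hx]
        exact hLN n hn _ ((Cfsg.permSumZero K G Ω).apply_mem_toSubmodule g₂ hfZ) h2
    set R : Set (Ω → K) := Set.range (fun g : G => Cfsg.permRep K G Ω g f) with hR
    set W : Submodule K (Ω → K) := Submodule.span K R ⊔ C with hW
    have hWinv : ∀ g : G, ∀ f' ∈ W, Cfsg.permRep K G Ω g f' ∈ W := by
      intro g f' hf'
      obtain ⟨a, ha, b, hb, rfl⟩ := Submodule.mem_sup.1 hf'
      rw [map_add]
      apply Submodule.add_mem
      · apply le_sup_left (a := Submodule.span K R) (b := C)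
        have h3 : Cfsg.permRep K G Ω g a ∈ (Submodule.span K R).map (Cfsg.permRep K G Ω g) :=
          Submodule.mem_map_of_mem ha
        rw [Submodule.map_span] at h3
        refine Submodule.span_mono ?_ h3
        rintro _ ⟨_, ⟨g', rfl⟩, rfl⟩
        refine ⟨g * g', ?_⟩
        change Cfsg.permRep K G Ω (g * g') f = _
        rw [map_mul, Module.End.mul_apply]
      · apply le_sup_right (a := Submodule.span K R) (b := C)
        exact (Cfsg.permConstants K G Ω).apply_mem_toSubmodule g hb
    have hCW : C ≤ W := le_sup_right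
    have hWZ : W ≤ Z := by
      refine sup_le (Submodule.span_le.2 ?_) hconst
      rintro _ ⟨g, rfl⟩
      exact (Cfsg.permSumZero K G Ω).apply_mem_toSubmodule g hfZ
    have hWL : W ≤ LinearMap.ker L := by
      refine sup_le (Submodule.span_le.2 ?_) hCL
      rintro _ ⟨g, rfl⟩
      exact hall g
    have hfW : f ∈ W := by
      apply le_sup_left (a := Submodule.span K R) (b := C)
      apply Submodule.subset_span
      refine ⟨1, ?_⟩
      change Cfsg.permRep K G Ω 1 f = f
      rw [map_one, Module.End.one_apply]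
    rcases hirr W hWinv hCW hWZ with h | h
    · rw [← h]
      exact hfW
    · exfalso
      obtain ⟨f₀, hf₀, hL⟩ := hL0
      apply hL
      have : f₀ ∈ W := by rw [h]; exact hf₀
      exact hWL this
  -- the dimension count
  let Φ : ↥S →ₗ[K] K × K :=
    ((L.comp (Cfsg.permRep K G Ω g₁)).comp S.subtype).prod
      ((L.comp (Cfsg.permRep K G Ω g₂)).comp S.subtype)
  have hker : (LinearMap.ker Φ).map S.subtype ≤ C := by
    rintro _ ⟨⟨f, hfS⟩, hfk, rfl⟩
    have hfk' : Φ ⟨f, hfS⟩ = 0 := hfk
    have h1 : L (Cfsg.permRep K G Ω g₁ f) = 0 := congrArg Prod.fst hfk'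
    have h2 : L (Cfsg.permRep K G Ω g₂ f) = 0 := congrArg Prod.snd hfk'
    exact hkey f hfS h1 h2
  have hC1 : finrank K ↥C ≤ 1 := by
    have h := finrank_span_finset_le_card (R := K) ({fun _ => (1 : K)} : Finset (Ω → K))
    rw [Finset.card_singleton, Finset.coe_singleton] at h
    exact h
  have hk1 : finrank K ↥(LinearMap.ker Φ) ≤ 1 := by
    calc finrank K ↥(LinearMap.ker Φ)
        = finrank K ↥((LinearMap.ker Φ).map S.subtype) :=
          (Submodule.finrank_map_subtype_eq S (LinearMap.ker Φ)).symm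
      _ ≤ finrank K ↥C := Submodule.finrank_mono hker
      _ ≤ 1 := hC1
  have hr : finrank K ↥(LinearMap.range Φ) ≤ 2 := by
    calc finrank K ↥(LinearMap.range Φ) ≤ finrank K (K × K) := Submodule.finrank_le _
      _ = 2 := by rw [Module.finrank_prod, Module.finrank_self]
  have hrk := LinearMap.finrank_range_add_finrank_ker Φ
  omega

end Cfsg.Agent.Helper97.Neu
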