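import Mathlib
import Cfsg.Prelude.Def_Perm
import Cfsg.Agent.Helper61.NeuDefs

/-!
# (MOM) for S3611 (helper97 for helper61, board #8146): the first moment is semi-invariant on
sum-zero functions
-/

set_option autoImplicit false
set_option linter.unusedSectionVars false
set_option linter.unusedVariables false

namespace Cfsg.Agent.Helper97.Neu

open MulAction Cfsg.Agent.Helper61.Neu

/-- (MOM) the first moment is semi-invariant on sum-zero functions -/
theorem moment_smul {G : Type*} [Group G] {Ω : Type*} [Fintype Ω] [MulAction G Ω] {p : ℕ}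
    [Fact p.Prime] (e : ZMod p ≃ Ω) (n : G) (k c : ZMod p) (hk : k ≠ 0)
    (hn : ∀ j, n • e j = e (k * j + c)) (f : Ω → ZMod p) (hf : ∑ x, f x = 0) :
    ∑ j : ZMod p, j * Cfsg.permRep (ZMod p) G Ω n f (e j) = k * ∑ j : ZMod p, j * f (e j) := by
  classical
  let τ : ZMod p ≃ ZMod p := (Equiv.mulLeft₀ k hk).trans (Equiv.addRight c)
  have hτ : ∀ i, τ i = k * i + c := fun i => rfl
  have hinv : ∀ i, n⁻¹ • e (k * i + c) = e i := by
    intro i
    rw [← hn i, inv_smul_smul]
  have hsum : ∑ i : ZMod p, f (e i) = 0 := by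
    rw [← hf]
    exact Equiv.sum_comp e f
  calc ∑ j : ZMod p, j * Cfsg.permRep (ZMod p) G Ω n f (e j)
      = ∑ i : ZMod p, τ i * Cfsg.permRep (ZMod p) G Ω n f (e (τ i)) :=
        (Equiv.sum_comp τ (fun j => j * Cfsg.permRep (ZMod p) G Ω n f (e j))).symm
    _ = ∑ i : ZMod p, (k * (i * f (e i)) + c * f (e i)) := by
        apply Finset.sum_congr rfl
        intro i _
        rw [hτ, permRep_apply, hinv]
        ring
    _ = k * ∑ j : ZMod p, j * f (e j) := by
        rw [Finset.sum_add_distrib, ← Finset.mul_sum, ← Finset.mul_sum, hsum, mul_zero, add_zero]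

end Cfsg.Agent.Helper97.Neu
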