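import Mathlib
import Cfsg.Agent.Helper58.PADefs

/-!
# (HOM) of board #5064 (for helper58, S4016): the action of `K` on the subgroup of order `p`
-/

set_option autoImplicit false

namespace Cfsg.Agent.Helper97.PAHOM

open Cfsg.Agent.Helper58.PA

variable {p : ℕ} [Fact p.Prime] {G : Type*} [Group G] [Finite G]

/-- (HOM) -/
theorem exists_hom (c : Ctx p G) (P : Sylow p G) (K : Subgroup G) (hL : Loc p P K) :
    ∃ φ : K →* (ZMod p)ˣ, ∀ k : K,
      φ k = 1 ↔ (k : G) ∈ Subgroup.centralizer ((P : Subgroup G) : Set G) := by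
  classical
  have hpP : p ∣ Nat.card P := P.dvd_card_of_dvd_card c.dvd
  obtain ⟨x0, hx0⟩ := exists_prime_orderOf_dvd_card' p hpP
  have hxP : (x0 : G) ∈ (P : Subgroup G) := x0.2
  have hox : orderOf (x0 : G) = p := (Subgroup.orderOf_coe x0).trans hx0
  have hx1 : (x0 : G) ≠ 1 := by
    intro h
    rw [h, orderOf_one] at hox
    exact (Fact.out : p.Prime).one_lt.ne hox
  set x : G := (x0 : G) with hx
  set W : Subgroup G := Subgroup.zpowers x with hW
  have hWP : W ≤ (P : Subgroup G) := (Subgroup.zpowers_le).mpr hxP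
  have hW1 : W ≠ ⊥ := by
    intro h
    apply hx1
    have : x ∈ (⊥ : Subgroup G) := h ▸ Subgroup.mem_zpowers x
    exact Subgroup.mem_bot.mp this
  have hWcard : Nat.card W = p := by
    rw [Nat.card_zpowers, hox]
  have hNW : Subgroup.normalizer (W : Set G) =
      Subgroup.normalizer ((P : Subgroup G) : Set G) := hL.norm_eq W hWP hW1
  have hKW : K ≤ Subgroup.normalizer (W : Set G) := hNW ▸ hL.K_le
  let e : (ZMod (Nat.card W))ˣ ≃* (ZMod p)ˣ :=
    Units.mapEquiv (ZMod.ringEquivCongr hWcard).toMulEquiv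
  let ψ : K →* MulAut W := W.normalizerMonoidHom.comp (Subgroup.inclusion hKW)
  refine ⟨e.toMonoidHom.comp ((IsCyclic.mulAutMulEquiv W).toMonoidHom.comp ψ), ?_⟩
  intro k
  have h1 : (e.toMonoidHom.comp ((IsCyclic.mulAutMulEquiv W).toMonoidHom.comp ψ)) k = 1 ↔
      ψ k = 1 := by
    simp only [MonoidHom.comp_apply, MulEquiv.coe_toMonoidHom]
    rw [MulEquiv.map_eq_one_iff, MulEquiv.map_eq_one_iff]
  rw [h1]
  have hψ : ∀ w : W, ((ψ k w : W) : G) = (k : G) * (w : G) * (k : G)⁻¹ := by
    intro w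
    rfl
  constructor
  · intro h
    have h2 : (k : G) * x * (k : G)⁻¹ = x := by
      have := hψ ⟨x, Subgroup.mem_zpowers x⟩
      rw [h] at this
      exact this.symm
    have h3 : (k : G) * x = x * (k : G) := by
      calc (k : G) * x = ((k : G) * x * (k : G)⁻¹) * (k : G) := by group
        _ = x * (k : G) := by rw [h2]
    exact hL.K_cent x hxP hx1 k k.2 h3
  · intro h
    ext w
    rw [hψ w]
    have := (Subgroup.mem_centralizer_iff.mp h) (w : G) (hWP w.2)
    show (k : G) * (w : G) * (k : G)⁻¹ = ((1 : MulAut W) w : W)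
    rw [← this]
    simp

end Cfsg.Agent.Helper97.PAHOM
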