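import Mathlib
import Cfsg.Agent.Helper58.PADefs

/-!
# (K0) of board #5064 (for helper58, S4016): `C_K(P) ≠ 1`
-/

set_option autoImplicit false

namespace Cfsg.Agent.Helper97.PAK0

open Cfsg.Agent.Helper58.PA

variable {p : ℕ} [Fact p.Prime] {G : Type*} [Group G] [Finite G]

/-- in the `SylQ` structure the order of `Q` is `≡ 1 [MOD p]` -/
theorem card_modEq_one_of_sylQ {Q : Subgroup G} (h : SylQ p Q) : Nat.card Q ≡ 1 [MOD p] := by
  classical
  obtain ⟨B, Z, hQB, -, -, hZp, hZ1, -, hZN, -, -, hfpf⟩ := h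
  let _ : MulAction Z Q := MulAction.compHom Q (Subgroup.inclusion hZN)
  have hsm : ∀ (z : Z) (w : Q), ((z • w : Q) : G) = (z : G) * (w : G) * (z : G)⁻¹ := by
    intro z w
    rfl
  have h1 := hZp.card_modEq_card_fixedPoints Q
  have hfix : MulAction.fixedPoints Z Q = {1} := by
    ext w
    simp only [MulAction.mem_fixedPoints, Set.mem_singleton_iff]
    constructor
    · intro hw
      obtain ⟨z, hz1⟩ := (Subgroup.ne_bot_iff_exists_ne_one).mp hZ1
      have h2 : (z : G) * (w : G) * (z : G)⁻¹ = w := by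
        rw [← hsm z w, hw z]
      have h3 : (z : G) * (w : G) = (w : G) * (z : G) := by
        calc (z : G) * (w : G) = ((z : G) * (w : G) * (z : G)⁻¹) * (z : G) := by group
          _ = (w : G) * (z : G) := by rw [h2]
      have hz1' : (z : G) ≠ 1 := fun h => hz1 (Subtype.ext h)
      have := hfpf z z.2 hz1' w (hQB w.2) h3
      exact Subtype.ext this
    · rintro rfl z
      apply Subtype.ext
      rw [hsm]
      simp
  rw [hfix] at h1
  simpa using h1

/-- (K0) -/
theorem exists_K0 (c : Ctx p G) (P : Sylow p G) (K : Subgroup G) (hL : Loc p P K)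
    (hφ : ∃ φ : K →* (ZMod p)ˣ, ∀ k : K,
      φ k = 1 ↔ (k : G) ∈ Subgroup.centralizer ((P : Subgroup G) : Set G))
    (hsyl : ∀ (q : ℕ) [Fact q.Prime], q ≠ p → ∀ Q : Sylow q G, (Q : Subgroup G) ≠ ⊥ →
      SylQ p (Q : Subgroup G)) :
    ∃ d ∈ K, d ∈ Subgroup.centralizer ((P : Subgroup G) : Set G) ∧ d ≠ 1 := by
  classical
  by_contra hcon
  push Not at hcon
  obtain ⟨φ, hφ⟩ := hφ
  have hp : p.Prime := Fact.out
  have hinj : Function.Injective φ := by
    rw [injective_iff_map_eq_one]
    intro k hk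
    exact Subtype.ext (hcon k k.2 ((hφ k).mp hk))
  have hKdvd : Nat.card K ∣ p - 1 := by
    have := Subgroup.card_dvd_of_injective φ hinj
    rwa [Nat.card_eq_fintype_card (α := (ZMod p)ˣ), ZMod.card_units] at this
  have hKlt : Nat.card K < p := by
    have h1 : Nat.card K ≤ p - 1 := Nat.le_of_dvd (Nat.sub_pos_of_lt hp.one_lt) hKdvd
    have := hp.one_lt
    omega
  set n := Nat.card G with hn
  have hn0 : n ≠ 0 := Nat.card_pos.ne'
  have hq1 : ∀ q ∈ n.primeFactors.erase p, q ^ n.factorization q ≡ 1 [MOD p] := by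
    intro q hq
    rw [Finset.mem_erase] at hq
    have : Fact q.Prime := ⟨Nat.prime_of_mem_primeFactors hq.2⟩
    obtain ⟨Q⟩ : Nonempty (Sylow q G) := inferInstance
    rw [← Q.card_eq_multiplicity]
    by_cases hQ : (Q : Subgroup G) = ⊥
    · have : Nat.card (Q : Subgroup G) = 1 := Subgroup.card_eq_one.mpr hQ
      rw [this]
    · exact card_modEq_one_of_sylQ (hsyl q hq.1 Q hQ)
  have hprod : (∏ q ∈ n.primeFactors.erase p, q ^ n.factorization q) ≡ 1 [MOD p] := by
    apply Finset.prod_induction _ (fun m => m ≡ 1 [MOD p])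
    · intro a b ha hb
      simpa using ha.mul hb
    · exact Nat.ModEq.refl 1
    · exact hq1
  have hpn : p ∈ n.primeFactors := Nat.mem_primeFactors.mpr ⟨hp, c.dvd, hn0⟩
  have hsplit : Nat.card P * (∏ q ∈ n.primeFactors.erase p, q ^ n.factorization q) = n := by
    rw [P.card_eq_multiplicity, Finset.mul_prod_erase n.primeFactors
      (fun q => q ^ n.factorization q) hpn]
    have := Nat.prod_factorization_pow_eq_self hn0
    rw [Finsupp.prod, Nat.support_factorization] at this
    exact this
  have hidx := card_sylow_modEq_one p G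
  rw [P.card_eq_index_normalizer] at hidx
  have hMcard := Subgroup.index_mul_card (Subgroup.normalizer ((P : Subgroup G) : Set G))
  rw [hL.card_M] at hMcard
  have hcancel : Nat.card P * ((Subgroup.normalizer ((P : Subgroup G) : Set G)).index *
      Nat.card K) = Nat.card P * (∏ q ∈ n.primeFactors.erase p, q ^ n.factorization q) := by
    rw [hsplit]
    show _ = Nat.card G
    rw [← hMcard]
    ring
  have hm := Nat.eq_of_mul_eq_mul_left Nat.card_pos hcancel
  have hK1 : Nat.card K ≡ 1 [MOD p] := by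
    have h1 : 1 * Nat.card K ≡
        (Subgroup.normalizer ((P : Subgroup G) : Set G)).index * Nat.card K [MOD p] :=
      hidx.symm.mul_right _
    rw [one_mul, hm] at h1
    exact h1.trans hprod
  have hK1' : Nat.card K = 1 := by
    have h := hK1
    unfold Nat.ModEq at h
    rw [Nat.mod_eq_of_lt hKlt, Nat.mod_eq_of_lt hp.one_lt] at h
    exact h
  apply hL.K_not_cent
  intro k hk
  have hKbot : K = ⊥ := Subgroup.card_eq_one.mp hK1'
  rw [hKbot] at hk
  rw [Subgroup.mem_bot.mp hk]
  exact Subgroup.one_mem _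

end Cfsg.Agent.Helper97.PAK0
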