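import Mathlib
import Cfsg.Agent.Helper58.PADefs

/-!
# (L1) of board #5064 (for helper58, S4016): the local structure `N_G(P) = P ⋊ K`
-/

set_option autoImplicit false

namespace Cfsg.Agent.Helper97.PAL1

open Cfsg.Agent.Helper58.PA

variable {p : ℕ} [Fact p.Prime] {G : Type*} [Group G] [Finite G]

/-- (L1) -/
theorem exists_loc0 (c : Ctx p G) (P : Sylow p G) : ∃ K : Subgroup G, Loc0 p P K := by
  classical
  set M : Subgroup G := Subgroup.normalizer ((P : Subgroup G) : Set G) with hM
  have hPM : (P : Subgroup G) ≤ M := Subgroup.le_normalizer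
  have hPcomm : ∀ x ∈ (P : Subgroup G), ∀ y ∈ (P : Subgroup G), x * y = y * x := by
    intro x hx y hy
    have : IsCyclic P := c.hyp.1 P
    obtain ⟨g, hg⟩ := IsCyclic.exists_generator (α := P)
    obtain ⟨i, hi⟩ := Subgroup.mem_zpowers_iff.mp (hg ⟨x, hx⟩)
    obtain ⟨j, hj⟩ := Subgroup.mem_zpowers_iff.mp (hg ⟨y, hy⟩)
    have h1 : (⟨x, hx⟩ : P) * ⟨y, hy⟩ = ⟨y, hy⟩ * ⟨x, hx⟩ := by
      rw [← hi, ← hj, ← zpow_add, ← zpow_add, add_comm]
    exact congrArg Subtype.val h1
  -- the normal Hall subgroup of `M`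
  set P0 : Subgroup M := (P : Subgroup G).subgroupOf M with hP0
  have : P0.Normal := Subgroup.normal_in_normalizer
  have hcardP0 : Nat.card P0 = Nat.card P :=
    Nat.card_congr (Subgroup.subgroupOfEquivOfLe hPM).toEquiv
  have hidx : ¬ p ∣ P0.index := by
    have h2 : (P : Subgroup G).relIndex M ∣ (P : Subgroup G).index :=
      Subgroup.relIndex_dvd_index_of_le hPM
    intro h
    exact P.not_dvd_index (h.trans h2)
  have hcop : Nat.Coprime (Nat.card P0) P0.index := by
    rw [hcardP0]
    obtain ⟨n, hn⟩ := IsPGroup.iff_card.mp P.2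
    rw [hn]
    exact Nat.Coprime.pow_left n ((Nat.Prime.coprime_iff_not_dvd Fact.out).mpr hidx)
  obtain ⟨H, hH⟩ := Subgroup.exists_right_complement'_of_coprime hcop
  have hHidx : P0.index = Nat.card H := hH.symm.index_eq_card
  have hcardK : Nat.card (H.map M.subtype) = Nat.card H :=
    Subgroup.card_map_of_injective M.subtype_injective
  have hK_le : H.map M.subtype ≤ M := by
    rintro _ ⟨h, -, rfl⟩
    exact h.2
  have hKp' : ¬ p ∣ Nat.card (H.map M.subtype) := by
    rw [hcardK, ← hHidx]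
    exact hidx
  refine ⟨H.map M.subtype, hK_le, ?_, hKp', ?_, ?_⟩
  · intro a ha b hb
    have h1 := (c.hyp.2 _ hKp').is_comm.comm ⟨a, ha⟩ ⟨b, hb⟩
    exact congrArg Subtype.val h1
  · rw [hcardK, ← hcardP0]
    exact hH.card_mul_card.symm
  · intro hKC
    -- `M ≤ C_G(P)`
    have hMC : M ≤ Subgroup.centralizer ((P : Subgroup G) : Set G) := by
      intro m hm
      obtain ⟨⟨a, b⟩, hab⟩ := hH.2 ⟨m, hm⟩
      have ha : (a : M).1 ∈ (P : Subgroup G) := Subgroup.mem_subgroupOf.mp a.2
      have hb : (b : M).1 ∈ H.map M.subtype := ⟨b.1, b.2, rfl⟩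
      have hm' : m = (a : M).1 * (b : M).1 := by
        have := congrArg Subtype.val hab
        simpa using this.symm
      rw [hm']
      refine Subgroup.mul_mem _ ?_ (hKC hb)
      rw [Subgroup.mem_centralizer_iff]
      intro y hy
      exact hPcomm y hy _ ha
    have hcompl := MonoidHom.ker_transferSylow_isComplement' P hMC
    have := c.simple
    rcases (MonoidHom.transferSylow P hMC).normal_ker.eq_bot_or_eq_top with hT | hT
    · rw [hT, Subgroup.isComplement'_bot_left] at hcompl
      obtain ⟨a, b, hab⟩ := c.nonab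
      apply hab
      exact hPcomm a (hcompl ▸ Subgroup.mem_top a) b (hcompl ▸ Subgroup.mem_top b)
    · rw [hT, Subgroup.isComplement'_top_left] at hcompl
      exact P.ne_bot_of_dvd_card c.dvd hcompl

end Cfsg.Agent.Helper97.PAL1
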