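import Cfsg.Agent.Helper61.DihDefs

/-! (P4a) for helper61's S3616 farm (#9781), in "black box" form: the statements of the pieces
(CH1) `csum_refl`, (CH2) `csum_rot`, (SG2) `k_sq` are explicit hypotheses `hCH1 hCH2 hSG2`; the
verbatim `P4a` is `P4a_of h hmu hmu' q hqe hper hdisj (h.csum_refl) (h.csum_rot) (h.k_sq)`.
Also the shared lemmas on translation-invariant character sums. -/

set_option autoImplicit false
set_option linter.unusedSectionVars false

namespace Cfsg.Agent.Helper97.Dih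

open DihedralGroup Finset Cfsg.Agent.Helper61.Dih

variable {e : ℕ} [NeZero e]

/-- a character sum over a set invariant under translation by `u0`, `ψ u0 ≠ 1`, vanishes -/
theorem sum_eq_zero_of_translate (ψ : AddChar (ZMod e) ℂ) (u0 : ZMod e) (hψu : ψ u0 ≠ 1)
    (S : Finset (ZMod e)) (hS : ∀ i, i ∈ S ↔ i + u0 ∈ S) : ∑ i ∈ S, ψ i = 0 := by
  have h1 : ∑ i ∈ S, ψ (i + u0) = ∑ i ∈ S, ψ i :=
    Finset.sum_equiv (Equiv.addRight u0) (fun i => by simpa using hS i) (fun i _ => by simp)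
  have h2 : ∑ i ∈ S, ψ (i + u0) = ψ u0 * ∑ i ∈ S, ψ i := by
    rw [Finset.mul_sum]
    apply Finset.sum_congr rfl
    intro i _
    rw [AddChar.map_add_eq_mul, mul_comm]
  have h3 : (ψ u0 - 1) * ∑ i ∈ S, ψ i = 0 := by
    rw [sub_mul, one_mul, ← h2, h1, sub_self]
  rcases mul_eq_zero.mp h3 with h | h
  · exact absurd (sub_eq_zero.mp h) hψu
  · exact h

/-- `q ∣ e`, `q` prime: `e ≥ 2` and the element `e / q` of `ZMod e` is a nonzero `q`-torsion
element -/
theorem torsion_elt (q : ℕ) [hq : Fact q.Prime] (hqe : q ∣ e) :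
    q • (((e / q : ℕ) : ZMod e)) = 0 ∧ (((e / q : ℕ) : ZMod e)) ≠ 0 := by
  have he : e ≠ 0 := NeZero.ne e
  obtain ⟨m, hm⟩ := hqe
  have hm0 : m ≠ 0 := by rintro rfl; rw [mul_zero] at hm; exact he hm
  have hq0 : 0 < q := hq.out.pos
  have hdiv : e / q = m := by rw [hm, Nat.mul_div_cancel_left m hq0]
  rw [hdiv]
  constructor
  · rw [nsmul_eq_mul, ← Nat.cast_mul, ← hm, ZMod.natCast_self]
  · rw [Ne, ZMod.natCast_eq_zero_iff]
    intro hd
    have h1 : e ≤ m := Nat.le_of_dvd (Nat.pos_of_ne_zero hm0) hd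
    have h2 : 2 * m ≤ q * m := Nat.mul_le_mul_right m hq.out.two_le
    omega

/-- the standard character is nontrivial at a nonzero element -/
theorem stdAddChar_ne_one_of_ne_zero {u : ZMod e} (hu : u ≠ 0) :
    (ZMod.stdAddChar (N := e)) u ≠ 1 := by
  intro h
  apply hu
  apply ZMod.injective_stdAddChar (N := e)
  rw [h, AddChar.map_zero_eq_one]

/-- (P4a), with the pieces (CH1), (CH2), (SG2) as hypotheses -/
theorem P4a_of {A B : Finset (ZMod e)} {k lam mu : ℤ} (h : DihData e A B k lam mu) (hmu : 0 < mu)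
    (hmu' : 0 < 2 * (e : ℤ) - 2 * k + lam) (q : ℕ) [Fact q.Prime] (hqe : q ∣ e)
    (hper : ∀ x u : ZMod e, q • u = 0 → q • x ≠ 0 → (x ∈ A ↔ x + u ∈ A))
    (hdisj : ∀ u : ZMod e, q • u = 0 → u ∉ A)
    (hCH1 : ∀ ψ : AddChar (ZMod e) ℂ, ψ ≠ 1 →
      (2 * csum ψ A - ((lam : ℂ) - mu)) * csum ψ B = 0)
    (hCH2 : ∀ ψ : AddChar (ZMod e) ℂ, ψ ≠ 1 →
      csum ψ A ^ 2 + csum ψ B * (starRingEnd ℂ) (csum ψ B) =
        ((k : ℂ) - mu) + ((lam : ℂ) - mu) * csum ψ A)
    (hSG2 : k ^ 2 = k + lam * k + mu * (2 * e - 1 - k)) : lam = mu := by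
  have _ := h
  obtain ⟨hu0, hu0ne⟩ := torsion_elt (e := e) q hqe
  set u0 : ZMod e := ((e / q : ℕ) : ZMod e) with hu0def
  set ψ : AddChar (ZMod e) ℂ := ZMod.stdAddChar (N := e) with hψ
  have hψu : ψ u0 ≠ 1 := stdAddChar_ne_one_of_ne_zero hu0ne
  have hψ1 : ψ ≠ 1 := by
    intro h1
    apply hψu
    rw [h1]; rfl
  -- `csum ψ A = 0`
  have hA0 : csum ψ A = 0 := by
    unfold csum
    apply sum_eq_zero_of_translate ψ u0 hψu
    intro i
    constructor
    · intro hi
      have hqi : q • i ≠ 0 := fun h0 => hdisj i h0 hi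
      exact (hper i u0 hu0 hqi).mp hi
    · intro hi
      have hqi : q • i ≠ 0 := by
        intro h0
        apply hdisj (i + u0) _ hi
        rw [smul_add, h0, hu0, add_zero]
      exact (hper i u0 hu0 hqi).mpr hi
  have h1 := hCH1 ψ hψ1
  rw [hA0, mul_zero, zero_sub] at h1
  rcases mul_eq_zero.mp h1 with h2 | h2
  · have h3 : ((lam : ℂ)) = mu := by
      have := neg_eq_zero.mp h2
      exact sub_eq_zero.mp this
    exact_mod_cast h3
  · exfalso
    have h3 := hCH2 ψ hψ1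
    rw [hA0, h2] at h3
    simp only [ne_eq, OfNat.ofNat_ne_zero, not_false_eq_true, zero_pow, zero_mul, add_zero,
      mul_zero] at h3
    have hk : k = mu := by
      have : (k : ℂ) = mu := (sub_eq_zero.mp h3.symm)
      exact_mod_cast this
    rw [hk] at hSG2 hmu'
    have h4 : mu * (2 * mu - lam - 2 * e) = 0 := by nlinarith
    rcases mul_eq_zero.mp h4 with h5 | h5
    · omega
    · omega

end Cfsg.Agent.Helper97.Dih
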