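import Cfsg.Agent.Helper61.DihDefs
import Cfsg.Agent.Helper97.DihP4a

/-! (P3) for helper61's S3616 farm (#9781), in "black box" form: the statements of the pieces
(CH1) `csum_refl`, (CH2) `csum_rot`, (SG1) `sgn_sq`, (CYC) `cyc_const` are explicit hypotheses; the
verbatim `P3` is `P3_of h hmu hmu' q hqe hper (h.csum_refl) (h.csum_rot) (h.sgn_sq) cyc_const`. -/

set_option autoImplicit false
set_option linter.unusedSectionVars false

namespace Cfsg.Agent.Helper97.Dih

open DihedralGroup Finset Cfsg.Agent.Helper61.Dih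

variable {e : ℕ} [NeZero e]

/-- the embedding of `ZMod q` onto the `q`-torsion of `ZMod e` -/
noncomputable def torsionHom (q : ℕ) [Fact q.Prime] (hqe : q ∣ e) : ZMod q →+ ZMod e :=
  ZMod.lift q ⟨zmultiplesHom (ZMod e) ((e / q : ℕ) : ZMod e), by
    rw [zmultiplesHom_apply, natCast_zsmul]; exact (torsion_elt q hqe).1⟩

theorem torsionHom_intCast (q : ℕ) [Fact q.Prime] (hqe : q ∣ e) (j : ℤ) :
    torsionHom (e := e) q hqe (j : ZMod q) = j • (((e / q : ℕ) : ZMod e)) := by
  unfold torsionHom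
  rw [ZMod.lift_coe]
  rfl

theorem torsionHom_natCast (q : ℕ) [Fact q.Prime] (hqe : q ∣ e) (t : ℕ) :
    torsionHom (e := e) q hqe (t : ZMod q) = t • (((e / q : ℕ) : ZMod e)) := by
  have := torsionHom_intCast (e := e) q hqe (t : ℤ)
  rw [Int.cast_natCast, natCast_zsmul] at this
  exact this

theorem torsionHom_one (q : ℕ) [Fact q.Prime] (hqe : q ∣ e) :
    torsionHom (e := e) q hqe 1 = (((e / q : ℕ) : ZMod e)) := by
  have := torsionHom_natCast (e := e) q hqe 1
  rw [Nat.cast_one, one_smul] at this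
  exact this

theorem smul_torsionHom (q : ℕ) [Fact q.Prime] (hqe : q ∣ e) (c : ZMod q) :
    q • torsionHom (e := e) q hqe c = 0 := by
  rw [← map_nsmul, nsmul_eq_mul, ZMod.natCast_self, zero_mul, map_zero]

theorem torsionHom_injective (q : ℕ) [hq : Fact q.Prime] (hqe : q ∣ e) :
    Function.Injective (torsionHom (e := e) q hqe) := by
  unfold torsionHom
  rw [ZMod.lift_injective]
  intro m hm
  change m • (((e / q : ℕ) : ZMod e)) = 0 at hm
  have he : e ≠ 0 := NeZero.ne e
  obtain ⟨mm, hmm⟩ := hqe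
  have hmm0 : mm ≠ 0 := by rintro rfl; rw [mul_zero] at hmm; exact he hmm
  have hdiv : e / q = mm := by rw [hmm, Nat.mul_div_cancel_left mm hq.out.pos]
  rw [hdiv, zsmul_eq_mul] at hm
  have h1 : ((m * (mm : ℤ) : ℤ) : ZMod e) = 0 := by push_cast; exact hm
  rw [ZMod.intCast_zmod_eq_zero_iff_dvd] at h1
  rw [ZMod.intCast_zmod_eq_zero_iff_dvd]
  have h2 : ((q : ℤ) * (mm : ℤ)) ∣ m * (mm : ℤ) := by
    have : ((e : ℕ) : ℤ) = (q : ℤ) * (mm : ℤ) := by rw [hmm]; push_cast; ring
    rw [← this]; exact h1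
  exact Int.dvd_of_mul_dvd_mul_right (by exact_mod_cast hmm0) h2

theorem torsionHom_surj (q : ℕ) [hq : Fact q.Prime] (hqe : q ∣ e) (u : ZMod e) (hu : q • u = 0) :
    ∃ c : ZMod q, torsionHom (e := e) q hqe c = u := by
  have he : e ≠ 0 := NeZero.ne e
  have hqe' := hqe
  obtain ⟨mm, hmm⟩ := hqe'
  have hmm0 : mm ≠ 0 := by rintro rfl; rw [mul_zero] at hmm; exact he hmm
  have hdiv : e / q = mm := by rw [hmm, Nat.mul_div_cancel_left mm hq.out.pos]
  have hu' : ((q * u.val : ℕ) : ZMod e) = 0 := by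
    rw [Nat.cast_mul, ZMod.natCast_zmod_val, ← nsmul_eq_mul]; exact hu
  rw [ZMod.natCast_eq_zero_iff] at hu'
  have h2 : mm ∣ u.val := by
    have h3 : q * mm ∣ q * u.val := by rw [← hmm]; exact hu'
    exact Nat.dvd_of_mul_dvd_mul_left hq.out.pos h3
  obtain ⟨t, ht⟩ := h2
  refine ⟨(t : ZMod q), ?_⟩
  rw [torsionHom_natCast, hdiv, nsmul_eq_mul, ← Nat.cast_mul, mul_comm, ← ht, ZMod.natCast_zmod_val]

/-- (P3), with the pieces (CH1), (CH2), (SG1), (CYC) as hypotheses -/
theorem P3_of {A B : Finset (ZMod e)} {k lam mu : ℤ} (h : DihData e A B k lam mu) (hmu : 0 < mu)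
    (hmu' : 0 < 2 * (e : ℤ) - 2 * k + lam) (q : ℕ) [Fact q.Prime] (hqe : q ∣ e)
    (hper : ∀ x u : ZMod e, q • u = 0 → q • x ≠ 0 → (x ∈ A ↔ x + u ∈ A))
    (hCH1 : ∀ ψ : AddChar (ZMod e) ℂ, ψ ≠ 1 →
      (2 * csum ψ A - ((lam : ℂ) - mu)) * csum ψ B = 0)
    (hCH2 : ∀ ψ : AddChar (ZMod e) ℂ, ψ ≠ 1 →
      csum ψ A ^ 2 + csum ψ B * (starRingEnd ℂ) (csum ψ B) =
        ((k : ℂ) - mu) + ((lam : ℂ) - mu) * csum ψ A)
    (hSG1 : sgn A B ^ 2 = (k - mu) + (lam - mu) * sgn A B)
    (hCYC : ∀ (ψ : AddChar (ZMod q) ℂ), ψ ≠ 1 → ∀ n : ZMod q → ℤ,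
      ∑ c, (n c : ℂ) * ψ c = 0 → ∀ c, n c = n 0) :
    (∀ u : ZMod e, q • u = 0 → u ∉ A) ∨ (∀ u : ZMod e, q • u = 0 → u ≠ 0 → u ∈ A) := by
  classical
  obtain ⟨hu0, hu0ne⟩ := torsion_elt (e := e) q hqe
  set u0 : ZMod e := ((e / q : ℕ) : ZMod e) with hu0def
  set ψ : AddChar (ZMod e) ℂ := ZMod.stdAddChar (N := e) with hψ
  have hψu : ψ u0 ≠ 1 := stdAddChar_ne_one_of_ne_zero hu0ne
  have hψ1 : ψ ≠ 1 := by
    intro h1
    apply hψu
    rw [h1]; rfl
  -- the periodic part contributes `0`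
  have hA1 : ∑ i ∈ A.filter (fun i => ¬ q • i = 0), ψ i = 0 := by
    apply sum_eq_zero_of_translate ψ u0 hψu
    intro i
    rw [Finset.mem_filter, Finset.mem_filter]
    have hq : q • (i + u0) = q • i := by rw [smul_add, hu0, add_zero]
    constructor
    · rintro ⟨hi, hqi⟩
      exact ⟨(hper i u0 hu0 hqi).mp hi, by rw [hq]; exact hqi⟩
    · rintro ⟨hi, hqi⟩
      rw [hq] at hqi
      exact ⟨(hper i u0 hu0 hqi).mpr hi, hqi⟩
  have hsplit : csum ψ A = ∑ i ∈ A.filter (fun i => q • i = 0), ψ i := by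
    unfold csum
    rw [← Finset.sum_filter_add_sum_filter_not A (fun i => q • i = 0), hA1, add_zero]
  -- `csum ψ A` is an integer
  have hint : ∃ z : ℤ, csum ψ A = (z : ℂ) := by
    -- `lam` and `mu` are even
    have hBne : B.Nonempty := by
      rw [Finset.nonempty_iff_ne_empty]
      intro hB
      have h1 := h.refl 0
      rw [hB] at h1
      simp at h1
      omega
    have hBuniv : ∃ x, x ∉ B := by
      by_contra hcon
      push Not at hcon
      have hBu : B = Finset.univ := Finset.eq_univ_iff_forall.mpr hcon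
      have h1 := h.refl 0
      rw [if_pos (hcon 0)] at h1
      have h2 : A.filter (fun i => 0 + i ∈ B) = A := by
        apply Finset.filter_true_of_mem
        intro i _
        exact hcon _
      rw [h2] at h1
      have h3 := h.card_add
      rw [hBu, Finset.card_univ, ZMod.card] at h3
      omega
    obtain ⟨x, hx⟩ := hBne
    obtain ⟨x', hx'⟩ := hBuniv
    have hl := h.refl x
    rw [if_pos hx] at hl
    have hm := h.refl x'
    rw [if_neg hx'] at hm
    have h1 := hCH1 ψ hψ1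
    rcases mul_eq_zero.mp h1 with h2 | h2
    · refine ⟨((A.filter (fun i => x + i ∈ B)).card : ℤ) -
        ((A.filter (fun i => x' + i ∈ B)).card : ℤ), ?_⟩
      have h3 : 2 * csum ψ A = (lam : ℂ) - mu := sub_eq_zero.mp h2
      have h4 : (2 : ℂ) * csum ψ A = 2 * (((A.filter (fun i => x + i ∈ B)).card : ℤ) -
          ((A.filter (fun i => x' + i ∈ B)).card : ℤ) : ℤ) := by
        rw [h3, ← hl, ← hm]
        push_cast
        ring
      exact mul_left_cancel₀ (two_ne_zero) h4
    · have h3 := hCH2 ψ hψ1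
      rw [h2, zero_mul, add_zero] at h3
      have h4 : ((sgn A B : ℤ) : ℂ) ^ 2 = ((k : ℂ) - mu) + ((lam : ℂ) - mu) * ((sgn A B : ℤ) : ℂ) := by
        have : ((sgn A B ^ 2 : ℤ) : ℂ) = (((k - mu) + (lam - mu) * sgn A B : ℤ) : ℂ) := by
          rw [hSG1]
        push_cast at this
        exact this
      have h5 : (csum ψ A - ((sgn A B : ℤ) : ℂ)) *
          (csum ψ A - (((lam - mu) - sgn A B : ℤ) : ℂ)) = 0 := by
        push_cast
        linear_combination h3 - h4
      rcases mul_eq_zero.mp h5 with h6 | h6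
      · exact ⟨sgn A B, sub_eq_zero.mp h6⟩
      · exact ⟨(lam - mu) - sgn A B, sub_eq_zero.mp h6⟩
  obtain ⟨z, hz⟩ := hint
  -- the character of `ZMod q`
  set φ := torsionHom (e := e) q hqe with hφ
  have hφinj : Function.Injective φ := torsionHom_injective q hqe
  set ψq : AddChar (ZMod q) ℂ := ψ.compAddMonoidHom φ with hψq
  have hψq1 : ψq ≠ 1 := by
    intro h1
    apply hψu
    have := congrArg (fun χ : AddChar (ZMod q) ℂ => χ 1) h1
    simp only [hψq, AddChar.compAddMonoidHom_apply, AddChar.one_apply] at this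
    rw [hφ, torsionHom_one] at this
    exact this
  -- the sum over the torsion part, reindexed
  have hsum0 : ∑ i ∈ A.filter (fun i => q • i = 0), ψ i =
      ∑ c : ZMod q, (if φ c ∈ A then (1 : ℂ) else 0) * ψq c := by
    have h1 : ∑ c : ZMod q, (if φ c ∈ A then (1 : ℂ) else 0) * ψq c =
        ∑ c ∈ (Finset.univ.filter (fun c : ZMod q => φ c ∈ A)), ψ (φ c) := by
      rw [Finset.sum_filter]
      apply Finset.sum_congr rfl
      intro c _
      by_cases hc : φ c ∈ A
      · rw [if_pos hc, if_pos hc, one_mul, hψq, AddChar.compAddMonoidHom_apply]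
      · rw [if_neg hc, if_neg hc, zero_mul]
    rw [h1]
    symm
    apply Finset.sum_bij (fun c _ => φ c)
    · intro c hc
      rw [Finset.mem_filter] at hc ⊢
      exact ⟨hc.2, smul_torsionHom q hqe c⟩
    · intro c _ c' _ hcc
      exact hφinj hcc
    · intro u hu
      rw [Finset.mem_filter] at hu
      obtain ⟨c, hc⟩ := torsionHom_surj q hqe u hu.2
      refine ⟨c, ?_, hc⟩
      rw [Finset.mem_filter]
      exact ⟨Finset.mem_univ _, by rw [hφ, hc]; exact hu.1⟩
    · intro c _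
      rfl
  -- apply (CYC)
  set n : ZMod q → ℤ := fun c => (if φ c ∈ A then 1 else 0) - (if c = 0 then z else 0) with hn
  have hnsum : ∑ c, (n c : ℂ) * ψq c = 0 := by
    have h1 : ∀ c : ZMod q, (n c : ℂ) * ψq c =
        (if φ c ∈ A then (1 : ℂ) else 0) * ψq c - (if c = 0 then (z : ℂ) * ψq c else 0) := by
      intro c
      rw [hn]
      by_cases hc : φ c ∈ A <;> by_cases hc0 : c = 0 <;> simp [hc, hc0]
    rw [Finset.sum_congr rfl (fun c _ => h1 c), Finset.sum_sub_distrib, ← hsum0, ← hsplit, hz,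
      Finset.sum_ite_eq' Finset.univ (0 : ZMod q) (fun c => (z : ℂ) * ψq c),
      if_pos (Finset.mem_univ _), AddChar.map_zero_eq_one, mul_one, sub_self]
  have hconst := hCYC ψq hψq1 n hnsum
  have hn0 : n 0 = -z := by
    rw [hn]
    simp only [if_true, map_zero]
    rw [if_neg h.zero_notMem]
    ring
  have hnc : ∀ c : ZMod q, c ≠ 0 → (if φ c ∈ A then (1 : ℤ) else 0) = -z := by
    intro c hc
    have h1 := hconst c
    rw [hn0, hn] at h1
    simp only at h1
    rw [if_neg hc, sub_zero] at h1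
    exact h1
  by_cases hex : ∃ c : ZMod q, c ≠ 0 ∧ φ c ∈ A
  · right
    obtain ⟨c1, hc1, hc1A⟩ := hex
    have hz1 : -z = 1 := by
      have := hnc c1 hc1
      rw [if_pos hc1A] at this
      exact this.symm
    intro u hu hune
    obtain ⟨c, hc⟩ := torsionHom_surj q hqe u hu
    have hc0 : c ≠ 0 := by
      rintro rfl
      apply hune
      rw [← hc, map_zero]
    have h1 := hnc c hc0
    rw [hz1] at h1
    by_contra hcon
    rw [← hc] at hcon
    rw [if_neg hcon] at h1
    exact zero_ne_one h1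
  · left
    push Not at hex
    intro u hu
    obtain ⟨c, hc⟩ := torsionHom_surj q hqe u hu
    by_cases hc0 : c = 0
    · rw [← hc, hc0, map_zero]
      exact h.zero_notMem
    · rw [← hc]
      exact hex c hc0

end Cfsg.Agent.Helper97.Dih
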