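import Mathlib
import Cfsg.Agent.Helper16.DefOne.Leaves
import Cfsg.Agent.Helper77.DefOneGalDefs
import Cfsg.Agent.Helper82.AutComplex
import Cfsg.Agent.Helper82.PRat.Rat
import Cfsg.Agent.Helper76.PConjugate
import Cfsg.Agent.Helper70.DefOneXG
import Cfsg.Agent.Helper48.DefOneGRa

/-!
# (GAL-7) of board #5795 (for helper77, S4507): the non-canonical characters over one canonical
character are Galois conjugate
-/

set_option autoImplicit false

namespace Cfsg.Agent.Helper97.DefOneGAL7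

open Cfsg Cfsg.Agent.Helper16 Cfsg.Agent.Helper16.DefOne Cfsg.Agent.Helper82.DefOne
  Cfsg.Agent.Helper77.DefOne

universe u

variable {G : Type u} [Group G] [Fintype G] {p : ℕ} [Fact p.Prime] (P : Sylow p G)

/-- `|G| = p * m` with `p ∤ m` -/
theorem card_eq_mul (hP : Nat.card P = p) :
    Nat.card G = p * (Nat.card G / p) ∧ ¬ p ∣ Nat.card G / p ∧ Nat.card G / p ≠ 0 := by
  have hp : p.Prime := Fact.out
  have hdvd : p ∣ Nat.card G := by
    have := Subgroup.card_subgroup_dvd_card (P : Subgroup G)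
    rwa [hP] at this
  have h1 : Nat.card G = p * (Nat.card G / p) := (Nat.mul_div_cancel' hdvd).symm
  have hG0 : Nat.card G ≠ 0 := Nat.card_pos.ne'
  refine ⟨h1, ?_, ?_⟩
  · intro h2
    have h3 : p ^ 2 ∣ Nat.card G := by
      rw [h1, pow_two]
      exact Nat.mul_dvd_mul_left p h2
    have h4 := (hp.pow_dvd_iff_le_factorization hG0).mp h3
    have h5 := P.card_eq_multiplicity
    rw [hP] at h5
    have h6 : (Nat.card G).factorization p = 1 := by
      have : p ^ 1 = p ^ (Nat.card G).factorization p := by rw [pow_one]; exact h5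
      exact (Nat.pow_right_injective hp.two_le this).symm
    omega
  · intro h0
    rw [h0, mul_zero] at h1
    exact hG0 h1

/-- a `p`-element normalizing a Sylow `p`-subgroup lies in it -/
theorem mem_sylow_of_pElt_normalizes {s : G}
    (hs : s ∈ Subgroup.normalizer ((P : Subgroup G) : Set G)) (hsp : ∃ k : ℕ, s ^ p ^ k = 1) :
    s ∈ (P : Subgroup G) := by
  have hpg : IsPGroup p (Subgroup.zpowers s) := by
    obtain ⟨k, hk⟩ := hsp
    rintro ⟨y, hy⟩
    obtain ⟨n, rfl⟩ := Subgroup.mem_zpowers_iff.mp hy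
    refine ⟨k, Subtype.ext ?_⟩
    simp only [Subgroup.coe_pow, Subgroup.coe_one]
    rw [← zpow_natCast, ← zpow_mul, mul_comm, zpow_mul, zpow_natCast, hk, one_zpow]
  have hle : Subgroup.zpowers s ≤ Subgroup.normalizer ((P : Subgroup G) : Set G) := by
    rw [Subgroup.zpowers_le]; exact hs
  have h1 := (Subgroup.sylow_mem_fixedPoints_iff (Subgroup.zpowers s) (P := P)).mpr hle
  have h2 := (hpg.sylow_mem_fixedPoints_iff (Q := P)).mp h1
  exact h2 (Subgroup.mem_zpowers s)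

/-- every element of `C_G(P)` is a power of the generator of `P` times a `p`-regular element -/
theorem exists_pow_mul_regular (hP : Nat.card P = p) (u₀ : G) (hu₀P : u₀ ∈ (P : Subgroup G))
    (hu₀ : orderOf u₀ = p) (c : cen P) :
    ∃ (j : ℕ) (y : cen P), ¬ p ∣ orderOf y ∧
      c = (⟨u₀, le_cen P hP hu₀P⟩ : cen P) ^ j * y ∧ y ^ (Nat.card G / p) = 1 := by
  have hp : p.Prime := Fact.out
  obtain ⟨z, y, -, -, hzy, ⟨e, hze⟩, hy⟩ := Cfsg.Agent.Helper70.DefOneXG.exists_pPart_decomp (p := p) c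
  have hzP : (z : G) ∈ (P : Subgroup G) := by
    apply mem_sylow_of_pElt_normalizes P
    · have h1 : (z : G) ∈ Subgroup.centralizer ((P : Subgroup G) : Set G) := z.2
      exact Subgroup.centralizer_le_normalizer _ h1
    · refine ⟨e, ?_⟩
      have := congrArg Subtype.val hze
      simpa using this
  rw [← Cfsg.Agent.Helper82.McKayP.zpowers_eq_sylow p P hP u₀ hu₀P hu₀] at hzP
  rw [← (isOfFinOrder_of_finite u₀).mem_powers_iff_mem_zpowers] at hzP
  obtain ⟨j, hj⟩ := Submonoid.mem_powers_iff _ _ |>.mp hzP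
  refine ⟨j, y, hy, ?_, ?_⟩
  · rw [← hzy]
    congr 1
    apply Subtype.ext
    rw [Subgroup.coe_pow]
    exact hj.symm
  · obtain ⟨hG, -, -⟩ := card_eq_mul P hP
    have h1 : orderOf y ∣ Nat.card G := by
      have h2 : orderOf y ∣ Nat.card (cen P) := orderOf_dvd_natCard y
      exact h2.trans (Subgroup.card_subgroup_dvd_card _)
    rw [hG] at h1
    have hcop : Nat.Coprime (orderOf y) p := by
      rw [Nat.coprime_comm]
      exact (Nat.Prime.coprime_iff_not_dvd hp).mpr hy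
    exact orderOf_dvd_iff_pow_eq_one.mp (hcop.dvd_of_dvd_mul_left h1)

/-- (GAL-7) -/
theorem exists_sigma_map (hP : Nat.card P = p) (θ : IrrCharacter (cen P)) (hθ : IsCanon P θ)
    (φ₁ φ₂ : IrrCharacter (cen P)) (h₁ : can P φ₁ = θ) (h₂ : can P φ₂ = θ)
    (hn₁ : ¬ IsCanon P φ₁) (hn₂ : ¬ IsCanon P φ₂) :
    ∃ σ : ℂ ≃+* ℂ, (∀ μ : ℂ, μ ^ (Nat.card G / p) = 1 → σ μ = μ) ∧ sig σ φ₁ = φ₂ := by
  have hp : p.Prime := Fact.out
  letI : Fintype (cen P) := Fintype.ofFinite _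
  obtain ⟨u₀, hu₀P, hu₀⟩ := Cfsg.Agent.Helper48.DefOneGR.exists_gen P hP
  set z₀ : cen P := ⟨u₀, le_cen P hP hu₀P⟩ with hz₀
  have hz₀c : z₀ ∈ Subgroup.center (cen P) :=
    subgroupOf_cen_le_center P hP (Subgroup.mem_subgroupOf.mpr hu₀P)
  have hz₀p : z₀ ^ p = 1 := by
    apply Subtype.ext
    rw [Subgroup.coe_pow, Subgroup.coe_one]
    show u₀ ^ p = 1
    rw [← hu₀, pow_orderOf_eq_one]
  -- the central character of a non-canonical `φ`
  have key : ∀ φ : IrrCharacter (cen P), ¬ IsCanon P φ → ∃ a : ℂ, a ^ p = 1 ∧ a ≠ 1 ∧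
      ∀ (j : ℕ) (c : cen P), (φ : cen P → ℂ) (z₀ ^ j * c) = a ^ j * (φ : cen P → ℂ) c := by
    intro φ hφ
    obtain ⟨a, ha⟩ := irr_central_mul φ hz₀c
    have hpow : ∀ (j : ℕ) (c : cen P),
        (φ : cen P → ℂ) (z₀ ^ j * c) = a ^ j * (φ : cen P → ℂ) c := by
      intro j
      induction j with
      | zero => intro c; simp
      | succ j ih =>
        intro c
        rw [pow_succ', mul_assoc, ha, ih, pow_succ']
        ring
    have h1 := irr_one_ne_zero φ
    refine ⟨a, ?_, ?_, hpow⟩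
    · have h2 := hpow p 1
      rw [hz₀p, mul_one] at h2
      have h3 : (a ^ p - 1) * (φ : cen P → ℂ) 1 = 0 := by
        rw [sub_mul, one_mul, ← h2, sub_self]
      rcases mul_eq_zero.mp h3 with h4 | h4
      · exact sub_eq_zero.mp h4
      · exact absurd h4 h1
    · intro ha1
      apply hφ
      intro x hx
      rw [← Cfsg.Agent.Helper82.McKayP.zpowers_eq_sylow p P hP u₀ hu₀P hu₀] at hx
      rw [← (isOfFinOrder_of_finite u₀).mem_powers_iff_mem_zpowers] at hx
      obtain ⟨j, hj⟩ := Submonoid.mem_powers_iff _ _ |>.mp hx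
      have hxz : x = z₀ ^ j * 1 := by
        rw [mul_one]
        apply Subtype.ext
        rw [Subgroup.coe_pow]
        exact hj.symm
      rw [hxz, hpow j 1, ha1, one_pow, one_mul]
  obtain ⟨a₁, ha₁p, ha₁1, hφ₁⟩ := key φ₁ hn₁
  obtain ⟨a₂, ha₂p, ha₂1, hφ₂⟩ := key φ₂ hn₂
  -- `a₁` is a primitive `p`-th root of unity
  have hord : orderOf a₁ = p := by
    rcases (Nat.dvd_prime hp).mp (orderOf_dvd_of_pow_eq_one ha₁p) with h | h
    · exact absurd (orderOf_eq_one_iff.mp h) ha₁1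
    · exact h
  have hprim : IsPrimitiveRoot a₁ p := hord ▸ IsPrimitiveRoot.orderOf a₁
  have : NeZero p := ⟨hp.ne_zero⟩
  obtain ⟨k, hkp, hk⟩ := hprim.eq_pow_of_pow_eq_one ha₂p
  have hk0 : k ≠ 0 := by
    rintro rfl
    rw [pow_zero] at hk
    exact ha₂1 hk.symm
  have hkcop : Nat.Coprime k p :=
    (Nat.coprime_of_lt_prime hk0 hkp hp).symm
  obtain ⟨hG, hpm, hm0⟩ := card_eq_mul P hP
  set m := Nat.card G / p with hm
  obtain ⟨k', hk'p, hk'm⟩ := Cfsg.Agent.Helper82.PRat.exists_crt p hp 1 m k hpm hm0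
  rw [pow_one] at hk'p
  have hk'cop : Nat.Coprime k' (p * m) := by
    apply Nat.Coprime.mul_right
    · have := hk'p.gcd_eq
      rw [Nat.Coprime, this]
      exact hkcop
    · have := hk'm.gcd_eq
      rw [Nat.Coprime, this]
      exact Nat.gcd_one_left m
  obtain ⟨σ, hσ⟩ := Cfsg.Agent.Helper82.exists_ringAut_complex_pow (p * m)
    (Nat.mul_pos hp.pos (Nat.pos_of_ne_zero hm0)) k' hk'cop
  have hfix : ∀ μ : ℂ, μ ^ m = 1 → σ μ = μ := by
    intro μ hμ
    have h1 : μ ^ (p * m) = 1 := by rw [mul_comm, pow_mul, hμ, one_pow]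
    rw [hσ μ h1]
    have h3 : μ ^ k' = μ ^ 1 := pow_eq_pow_of_modEq hk'm hμ
    rw [h3, pow_one]
  have hσa : σ a₁ = a₂ := by
    have h1 : a₁ ^ (p * m) = 1 := by rw [pow_mul, ha₁p, one_pow]
    rw [hσ a₁ h1, ← hk]
    exact pow_eq_pow_of_modEq hk'p ha₁p
  refine ⟨σ, hfix, ?_⟩
  apply Subtype.ext
  funext c
  show σ ((φ₁ : cen P → ℂ) c) = (φ₂ : cen P → ℂ) c
  obtain ⟨j, y, hy, hc, hym⟩ := exists_pow_mul_regular P hP u₀ hu₀P hu₀ c
  rw [hc, hφ₁ j y, hφ₂ j y, map_mul, map_pow, hσa,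
    can_apply_regular P hP φ₁ y hy, can_apply_regular P hP φ₂ y hy, h₁, h₂]
  congr 1
  have hmpos : 0 < m := Nat.pos_of_ne_zero hm0
  have hζ : IsPrimitiveRoot (Complex.exp (2 * Real.pi * Complex.I / m)) m :=
    Complex.isPrimitiveRoot_exp m hm0
  have hθc : IsCharacter (cen P) (θ : cen P → ℂ) := by
    obtain ⟨n, ρ, -, h⟩ := θ.2
    exact ⟨n, ρ, h⟩
  exact Cfsg.Agent.Helper76.ringEquiv_character_eq_of_pow_eq_one σ m hmpos _ hζ
    (hfix _ hζ.pow_eq_one) (θ : cen P → ℂ) hθc y hym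

end Cfsg.Agent.Helper97.DefOneGAL7
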