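import Cfsg.Agent.Helper78.Olsson.Defs
import Cfsg.Agent.Helper79.OlssonDIAGabs

/-!
# (COUNT) for S4575 (helper97 for helper79, board #8456): the final count
-/

set_option autoImplicit false
set_option linter.style.haveILetI false
set_option linter.unusedSectionVars false
set_option linter.unusedVariables false

noncomputable section

namespace Cfsg.Agent.Helper97.Samb

open Cfsg
open scoped ComplexConjugate
open Cfsg.Agent.Helper78.Olsson (unitsRange)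

/-- (COUNT) the final count. -/
theorem card_le_of_avg (n : ℕ) (hn : 1 ≤ n) {K : Type*} [Fintype K] [DecidableEq K]
    (S T0 : Finset K) (hT0 : T0 ⊆ S) (d l : ℕ) {ι : Type*} [Fintype ι]
    (A : K → K → ι → ℤ) (μ : K → K → ι → ℂ) (hμ : ∀ χ ψ i, μ χ ψ i ^ (2 ^ n) = 1)
    (m : ℕ → K → K → ℂ) (hm : ∀ γ χ ψ, m γ χ ψ = ∑ i, (A χ ψ i : ℂ) * μ χ ψ i ^ γ)
    (r : ℕ → K → ℝ) (hr : ∀ γ χ, m γ χ χ = (r γ χ : ℂ))
    (hrow : ∀ γ ∈ unitsRange 2 n, ∀ χ ∈ S,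
      ∑ ψ ∈ S, Complex.normSq (m γ χ ψ) = (2 : ℝ) ^ d * r γ χ)
    (htr : ∀ γ ∈ unitsRange 2 n, ∑ χ ∈ S, r γ χ = (2 : ℝ) ^ d * (l : ℝ))
    (hnz : ∀ γ ∈ unitsRange 2 n, ∀ χ ∈ T0, ∀ ψ ∈ S, m γ χ ψ ≠ 0)
    (hlt : ∀ γ ∈ unitsRange 2 n, ∀ χ ∈ S, r γ χ < 2 ^ d)
    (a : K → ℤ)
    (ha : ∀ χ ∈ S, ∑ γ ∈ unitsRange 2 n, ((2 : ℝ) ^ d - r γ χ) =
      ((2 ^ n).totient : ℝ) * (a χ : ℝ))
    (ha1 : ∀ χ ∈ S, 1 ≤ a χ) (haodd : ∀ χ ∈ T0, Odd (a χ))
    (ha3 : ∀ χ ∈ S, χ ∉ T0 → 3 ≤ a χ) (hk : S.card ≤ l + 3) :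
    S.card ≤ 2 ^ d := by
  classical
  set Γ := unitsRange 2 n with hΓ
  set φ : ℕ := (2 ^ n).totient with hφ
  set D : ℝ := (2 : ℝ) ^ d with hD
  have hΓcard : Γ.card = φ := by
    rw [hΓ, hφ, Nat.totient_eq_card_coprime]
    rfl
  have hφpos : 0 < φ := Nat.totient_pos.2 (pow_pos (by norm_num) n)
  have hφR : (0 : ℝ) < (φ : ℝ) := by exact_mod_cast hφpos
  have hD0 : 0 ≤ D := by rw [hD]; positivity
  have h1mem : 1 ∈ Γ := by
    rw [hΓ]
    unfold unitsRange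
    rw [Finset.mem_filter, Finset.mem_range]
    refine ⟨?_, Nat.coprime_one_right _⟩
    calc 1 < 2 ^ 1 := by norm_num
      _ ≤ 2 ^ n := Nat.pow_le_pow_right (by norm_num) hn
  suffices hreal : (S.card : ℝ) ≤ D by
    rw [hD] at hreal
    exact_mod_cast hreal
  by_cases hA : ∃ χ ∈ S, a χ = 1
  · -- Case A
    obtain ⟨χ, hχS, haχ⟩ := hA
    have hχT0 : χ ∈ T0 := by
      by_contra hnot
      have := ha3 χ hχS hnot
      omega
    -- the off-diagonal part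
    have hE : ∀ γ ∈ Γ, ∑ ψ ∈ S.erase χ, Complex.normSq (m γ χ ψ) + (D - r γ χ) ^ 2 =
        D * (D - r γ χ) := by
      intro γ hγ
      have h1 := hrow γ hγ χ hχS
      rw [← Finset.add_sum_erase S _ hχS, hr, Complex.normSq_ofReal] at h1
      have : ∑ ψ ∈ S.erase χ, Complex.normSq (m γ χ ψ) = D * r γ χ - r γ χ * r γ χ := by
        linarith
      rw [this]
      ring
    have hsumE : ∑ γ ∈ Γ, ∑ ψ ∈ S.erase χ, Complex.normSq (m γ χ ψ) +
        ∑ γ ∈ Γ, (D - r γ χ) ^ 2 = D * (φ : ℝ) := by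
      rw [← Finset.sum_add_distrib, Finset.sum_congr rfl hE, ← Finset.mul_sum, ha χ hχS, haχ]
      push_cast
      ring
    have hoff : ((S.card : ℝ) - 1) * (φ : ℝ) ≤
        ∑ γ ∈ Γ, ∑ ψ ∈ S.erase χ, Complex.normSq (m γ χ ψ) := by
      rw [Finset.sum_comm]
      have hcard : ((S.erase χ).card : ℝ) = (S.card : ℝ) - 1 := by
        rw [Finset.card_erase_of_mem hχS]
        have : 1 ≤ S.card := Finset.card_pos.2 ⟨χ, hχS⟩
        push_cast [Nat.cast_sub this]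
        ring
      calc ((S.card : ℝ) - 1) * (φ : ℝ) = ∑ _ψ ∈ S.erase χ, (φ : ℝ) := by
            rw [Finset.sum_const, nsmul_eq_mul, hcard]
        _ ≤ ∑ ψ ∈ S.erase χ, ∑ γ ∈ Γ, Complex.normSq (m γ χ ψ) := by
            apply Finset.sum_le_sum
            intro ψ hψ
            have hψS : ψ ∈ S := Finset.mem_of_mem_erase hψ
            have h1 : ∑ i, (A χ ψ i : ℂ) * μ χ ψ i ≠ 0 := by
              have := hnz 1 h1mem χ hχT0 ψ hψS
              rw [hm] at this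
              simpa using this
            have h2 := Cfsg.Agent.Helper79.Olsson.sum_normSq_ge Nat.prime_two n (A χ ψ) (μ χ ψ)
              (hμ χ ψ) h1
            calc (φ : ℝ) ≤ ∑ γ ∈ unitsRange 2 n,
                  Complex.normSq (∑ i, (A χ ψ i : ℂ) * μ χ ψ i ^ γ) := h2
              _ = ∑ γ ∈ Γ, Complex.normSq (m γ χ ψ) := by
                  apply Finset.sum_congr rfl
                  intro γ _
                  rw [hm]
    have hdiag : (φ : ℝ) ≤ ∑ γ ∈ Γ, (D - r γ χ) ^ 2 := by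
      have hcs := sq_sum_le_card_mul_sum_sq (s := Γ) (f := fun γ => D - r γ χ)
      rw [ha χ hχS, haχ, hΓcard] at hcs
      push_cast at hcs
      have : (φ : ℝ) * (φ : ℝ) ≤ (φ : ℝ) * ∑ γ ∈ Γ, (D - r γ χ) ^ 2 := by nlinarith
      exact le_of_mul_le_mul_left this hφR
    have : (S.card : ℝ) * (φ : ℝ) ≤ D * (φ : ℝ) := by nlinarith
    exact le_of_mul_le_mul_right this hφR
  · -- Case B
    push Not at hA
    have h3 : ∀ χ ∈ S, (3 : ℝ) ≤ (a χ : ℝ) := by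
      intro χ hχ
      have : 3 ≤ a χ := by
        by_cases hχT : χ ∈ T0
        · obtain ⟨k, hk'⟩ := haodd χ hχT
          have h1 := ha1 χ hχ
          have h2 := hA χ hχ
          omega
        · exact ha3 χ hχ hχT
      exact_mod_cast this
    have hsum : (φ : ℝ) * ∑ χ ∈ S, (a χ : ℝ) = (φ : ℝ) * (D * ((S.card : ℝ) - (l : ℝ))) := by
      rw [Finset.mul_sum]
      calc ∑ χ ∈ S, (φ : ℝ) * (a χ : ℝ) = ∑ χ ∈ S, ∑ γ ∈ Γ, (D - r γ χ) := by
            apply Finset.sum_congr rfl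
            intro χ hχ
            rw [ha χ hχ]
        _ = ∑ γ ∈ Γ, ∑ χ ∈ S, (D - r γ χ) := Finset.sum_comm
        _ = ∑ γ ∈ Γ, (D * ((S.card : ℝ) - (l : ℝ))) := by
            apply Finset.sum_congr rfl
            intro γ hγ
            rw [Finset.sum_sub_distrib, htr γ hγ, Finset.sum_const, nsmul_eq_mul]
            ring
        _ = (φ : ℝ) * (D * ((S.card : ℝ) - (l : ℝ))) := by
            rw [Finset.sum_const, nsmul_eq_mul, hΓcard]
    have hsum' : ∑ χ ∈ S, (a χ : ℝ) = D * ((S.card : ℝ) - (l : ℝ)) :=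
      mul_left_cancel₀ hφR.ne' hsum
    have hlow : 3 * (S.card : ℝ) ≤ ∑ χ ∈ S, (a χ : ℝ) := by
      calc 3 * (S.card : ℝ) = ∑ _χ ∈ S, (3 : ℝ) := by
            rw [Finset.sum_const, nsmul_eq_mul]; ring
        _ ≤ ∑ χ ∈ S, (a χ : ℝ) := Finset.sum_le_sum h3
    have hk' : (S.card : ℝ) - (l : ℝ) ≤ 3 := by
      have : (S.card : ℝ) ≤ (l : ℝ) + 3 := by exact_mod_cast hk
      linarith
    have : D * ((S.card : ℝ) - (l : ℝ)) ≤ D * 3 := mul_le_mul_of_nonneg_left hk' hD0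
    linarith

end Cfsg.Agent.Helper97.Samb

end
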