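/-
helper97: `SelfNorm` (self-normalizing Sylow 2-subgroups) passes to quotients and to subgroups of
odd index.  Pieces (SQ) of helper81's plan for S4581.
-/
import Cfsg.Agent.Helper81.RO2
import Cfsg.Agent.Helper65.RO_Q1

set_option autoImplicit false

namespace Cfsg.Agent.Helper97.ROSQ

open Cfsg Cfsg.Agent.Helper81.RO

universe u

/-- an element conjugating a finite subgroup into itself normalizes it -/
theorem mem_normalizer_of_conj_mem {G : Type*} [Group G] (P : Subgroup G) [Finite P] (a : G)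
    (ha : ∀ y ∈ P, a * y * a⁻¹ ∈ P) : a ∈ Subgroup.normalizer (P : Set G) := by
  rw [Subgroup.mem_normalizer_iff]
  intro h
  refine ⟨ha h, fun hh => ?_⟩
  let f : P → P := fun y => ⟨a * y * a⁻¹, ha y y.2⟩
  have hinj : Function.Injective f := by
    intro y y' hyy'
    have h1 : a * (y : G) * a⁻¹ = a * (y' : G) * a⁻¹ := congrArg Subtype.val hyy'
    exact Subtype.ext (mul_left_cancel (mul_right_cancel h1))
  obtain ⟨y, hy⟩ := (Finite.injective_iff_surjective.1 hinj) ⟨a * h * a⁻¹, hh⟩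
  have h1 : a * (y : G) * a⁻¹ = a * h * a⁻¹ := congrArg Subtype.val hy
  have h2 : (y : G) = h := mul_left_cancel (mul_right_cancel h1)
  rw [← h2]; exact y.2

theorem selfNorm_quotient {G : Type u} [Group G] [Finite G] (h : SelfNorm G) (V : Subgroup G)
    [V.Normal] : SelfNorm (G ⧸ V) := by
  intro Q hQ hidx
  have : Fact (Nat.Prime 2) := ⟨Nat.prime_two⟩
  have hs : Function.Surjective (QuotientGroup.mk' V) := QuotientGroup.mk'_surjective V
  obtain ⟨P, hP⟩ := Sylow.mapSurjective_surjective hs 2 (hQ.toSylow hidx)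
  have hPQ : ∀ q : G ⧸ V, q ∈ Q ↔ q ∈ (P : Subgroup G).map (QuotientGroup.mk' V) := by
    intro q
    rw [← Sylow.coe_mapSurjective hs P, hP]
    exact (IsPGroup.mem_toSylow hQ hidx).symm
  intro x hx
  obtain ⟨g, rfl⟩ := hs x
  have hg : ∀ y ∈ (P : Subgroup G), g * y * g⁻¹ ∈ (P : Subgroup G) ⊔ V := by
    intro y hy
    have h1 : QuotientGroup.mk' V y ∈ Q := (hPQ _).2 ⟨y, hy, rfl⟩
    have h2 := (Subgroup.mem_normalizer_iff.1 hx _).1 h1
    obtain ⟨y', hy', hyy'⟩ := (hPQ _).1 h2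
    have h3 : y'⁻¹ * (g * y * g⁻¹) ∈ V := by
      rw [← QuotientGroup.eq_one_iff, QuotientGroup.mk_mul, QuotientGroup.mk_inv]
      have h4 : ((y' : G) : G ⧸ V) = QuotientGroup.mk' V g * QuotientGroup.mk' V y *
          (QuotientGroup.mk' V g)⁻¹ := hyy'
      rw [h4]
      simp only [QuotientGroup.mk'_apply, QuotientGroup.mk_mul, QuotientGroup.mk_inv]
      group
    have h5 : g * y * g⁻¹ = y' * (y'⁻¹ * (g * y * g⁻¹)) := by group
    rw [h5]
    exact Subgroup.mul_mem_sup hy' h3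
  obtain ⟨v, hv, hn⟩ := Cfsg.Agent.Helper65.ROQ1.exists_lift_normalizing (p := 2)
    (P : Subgroup G) P.2 P.not_dvd_index V g hg
  have h1 : v * g ∈ Subgroup.normalizer ((P : Subgroup G) : Set G) :=
    mem_normalizer_of_conj_mem _ _ hn
  have h2 : v * g ∈ (P : Subgroup G) := h _ P.2 P.not_dvd_index h1
  rw [hPQ]
  refine ⟨v * g, h2, ?_⟩
  show ((v * g : G) : G ⧸ V) = (g : G ⧸ V)
  rw [QuotientGroup.mk_mul, (QuotientGroup.eq_one_iff v).mpr hv, one_mul]

theorem selfNorm_subgroup {G : Type u} [Group G] [Finite G] (h : SelfNorm G) (T : Subgroup G)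
    (hT : ¬ 2 ∣ T.index) : SelfNorm T := by
  intro Q hQ hidx
  have hQ' : IsPGroup 2 ↥(Q.map T.subtype) := hQ.map T.subtype
  have hidx' : ¬ 2 ∣ (Q.map T.subtype).index := by
    rw [Subgroup.index_map_subtype]
    exact Nat.Prime.not_dvd_mul Nat.prime_two hidx hT
  have hN := h _ hQ' hidx'
  intro x hx
  have hx' : (x : G) ∈ Subgroup.normalizer ((Q.map T.subtype : Subgroup G) : Set G) := by
    rw [Subgroup.mem_normalizer_iff]
    intro t
    constructor
    · rintro ⟨q, hq, rfl⟩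
      exact ⟨x * q * x⁻¹, (Subgroup.mem_normalizer_iff.1 hx q).1 hq, by simp⟩
    · rintro ⟨q', hq', heq⟩
      refine ⟨x⁻¹ * q' * x, ?_, ?_⟩
      · show x⁻¹ * q' * x ∈ Q
        rw [Subgroup.mem_normalizer_iff.1 hx (x⁻¹ * q' * x)]
        have : x * (x⁻¹ * q' * x) * x⁻¹ = q' := by group
        rw [this]; exact hq'
      · have h1 : (T.subtype q') = (x : G) * t * (x : G)⁻¹ := heq
        simp only [map_mul, map_inv, Subgroup.subtype_apply] at h1 ⊢
        rw [h1]; group
  obtain ⟨q, hq, hqx⟩ := hN hx'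
  have : q = x := Subtype.ext hqx
  rw [← this]; exact hq

end Cfsg.Agent.Helper97.ROSQ
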