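import Mathlib
import Cfsg.Prelude.Def_Classical
import Cfsg.Agent.Helper86.Spec4.DefsU

/-!
# S2511 farm (helper86), piece (V2b): the polynomial dichotomy (helper97)
-/

set_option autoImplicit false

namespace Cfsg.Agent.Helper97.Spec4U

open Matrix Polynomial Cfsg.Agent.Helper86.Spec4

variable {F : Type*} [Field F]

theorem V2b_pstar_mul (bar : F →+* F) (f g : F[X]) :
    pstar bar (f * g) = pstar bar f * pstar bar g := by
  unfold pstar
  rw [Polynomial.map_mul, reverse_mul_of_domain]

theorem V2b_reverse_reverse (f : F[X]) (hf : f.coeff 0 ≠ 0) : f.reverse.reverse = f := by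
  have htd : f.natTrailingDegree = 0 := natTrailingDegree_eq_zero.2 (Or.inr hf)
  have hdeg : f.reverse.natDegree = f.natDegree := by rw [reverse_natDegree, htd, Nat.sub_zero]
  ext n
  rw [coeff_reverse, hdeg, coeff_reverse, revAt_invol]

theorem V2b_reverse_map (bar : F →+* F) (f : F[X]) : (f.map bar).reverse = f.reverse.map bar := by
  unfold reverse
  rw [natDegree_map, reflect_map]

theorem V2b_pstar_pstar (bar : F →+* F) (hbar2 : ∀ x, bar (bar x) = x) (f : F[X])
    (hf : f.coeff 0 ≠ 0) : pstar bar (pstar bar f) = f := by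
  unfold pstar
  rw [← V2b_reverse_map, Polynomial.map_map]
  have hid : bar.comp bar = RingHom.id F := RingHom.ext fun x => hbar2 x
  rw [hid, Polynomial.map_id, V2b_reverse_reverse f hf]

theorem V2b_pstar_ne_zero (bar : F →+* F) (f : F[X]) (hf : f ≠ 0) : pstar bar f ≠ 0 := by
  unfold pstar
  rw [Ne, reverse_eq_zero, Polynomial.map_eq_zero]
  exact hf

theorem V2b_natDegree_pstar (bar : F →+* F) (f : F[X]) (hf : f.coeff 0 ≠ 0) :
    (pstar bar f).natDegree = f.natDegree := by
  unfold pstar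
  have h0 : (f.map bar).coeff 0 ≠ 0 := by
    rw [coeff_map]
    exact fun h => hf ((map_eq_zero bar).1 h)
  have htd : (f.map bar).natTrailingDegree = 0 := natTrailingDegree_eq_zero.2 (Or.inr h0)
  rw [reverse_natDegree, htd, Nat.sub_zero, natDegree_map]

/-- (V2b) the polynomial dichotomy. -/
theorem poly_dichotomy (bar : F →+* F) (hbar2 : ∀ x, bar (bar x) = x) (μ : F[X]) (hμ0 : μ.coeff 0 ≠ 0)
    (hsq : Squarefree μ) (hnu : ¬ IsUnit μ) (hst : Associated (pstar bar μ) μ)
    (H : ∀ P H : F[X], μ = P * H → IsCoprime P H → Associated (pstar bar P) P →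
      Associated (pstar bar H) H → IsUnit P ∨ IsUnit H) :
    Irreducible μ ∨ ∃ f : F[X], f.Monic ∧ Irreducible f ∧ f.coeff 0 ≠ 0 ∧
      IsCoprime f (pstar bar f) ∧ Associated μ (f * pstar bar f) := by
  have hμne : μ ≠ 0 := by rintro rfl; simp at hμ0
  obtain ⟨f₀, hf₀, hf₀μ⟩ := WfDvdMonoid.exists_irreducible_factor hnu hμne
  have hlc : f₀.leadingCoeff⁻¹ ≠ 0 := inv_ne_zero (leadingCoeff_ne_zero.2 hf₀.ne_zero)
  have hcu : IsUnit (C f₀.leadingCoeff⁻¹ : F[X]) := isUnit_C.2 (isUnit_iff_ne_zero.2 hlc)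
  obtain ⟨f, hf⟩ : ∃ f, f = f₀ * C f₀.leadingCoeff⁻¹ := ⟨_, rfl⟩
  have hfirr : Irreducible f := hf ▸ (associated_mul_unit_right f₀ _ hcu).irreducible hf₀
  have hfmonic : f.Monic := hf ▸ monic_mul_leadingCoeff_inv hf₀.ne_zero
  have hfμ : f ∣ μ := hf ▸ (associated_mul_unit_left f₀ _ hcu).dvd.trans hf₀μ
  obtain ⟨g, hg⟩ := hfμ
  have hf0 : f.coeff 0 ≠ 0 := by
    intro h0
    apply hμ0
    rw [hg, mul_coeff_zero, h0, zero_mul]
  have hfne : f ≠ 0 := hfirr.ne_zero
  -- coprimality from squarefreeness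
  have key_cop : ∀ P Q : F[X], μ = P * Q → IsCoprime P Q := by
    intro P Q hPQ
    have h1 := hsq
    rw [hPQ, squarefree_mul_iff] at h1
    exact h1.1.isCoprime
  -- star-stability of the cofactor
  have key_star : ∀ P Q : F[X], μ = P * Q → P ≠ 0 → Associated (pstar bar P) P →
      Associated (pstar bar Q) Q := by
    intro P Q hPQ hP hPs
    have h1 : Associated (pstar bar P * pstar bar Q) (P * Q) := by
      rw [← V2b_pstar_mul, ← hPQ]; exact hst
    exact Associated.of_mul_left h1 hPs (V2b_pstar_ne_zero bar P hP)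
  by_cases hass : Associated (pstar bar f) f
  · left
    rcases H f g hg (key_cop f g hg) hass (key_star f g hg hfne hass) with hu | hu
    · exact absurd hu hfirr.not_isUnit
    · rw [hg]
      exact (associated_mul_unit_right f g hu).irreducible hfirr
  · right
    have hndvd : ¬ f ∣ pstar bar f := by
      rintro ⟨c, hc⟩
      apply hass
      have hpne : pstar bar f ≠ 0 := V2b_pstar_ne_zero bar f hfne
      have hcne : c ≠ 0 := by rintro rfl; exact hpne (by rw [hc, mul_zero])
      have hdeg := V2b_natDegree_pstar bar f hf0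
      rw [hc, natDegree_mul hfne hcne] at hdeg
      have hc0 : c.natDegree = 0 := by omega
      have hcu : IsUnit c := by
        rw [eq_C_of_natDegree_eq_zero hc0] at hcne ⊢
        exact isUnit_C.2 (isUnit_iff_ne_zero.2 (fun h => hcne (by rw [h, C_0])))
      rw [hc]
      exact associated_mul_unit_left f c hcu
    have hcop : IsCoprime f (pstar bar f) := hfirr.coprime_iff_not_dvd.2 hndvd
    have hpfμ : pstar bar f ∣ μ := by
      have h1 : pstar bar f ∣ pstar bar μ := by
        rw [hg, V2b_pstar_mul]; exact dvd_mul_right _ _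
      exact h1.trans hst.dvd
    obtain ⟨H₁, hH₁⟩ := hcop.mul_dvd (Dvd.intro g hg.symm) hpfμ
    have hPne : f * pstar bar f ≠ 0 := mul_ne_zero hfne (V2b_pstar_ne_zero bar f hfne)
    have hassP : Associated (pstar bar (f * pstar bar f)) (f * pstar bar f) := by
      rw [V2b_pstar_mul, V2b_pstar_pstar bar hbar2 f hf0, mul_comm]
    refine ⟨f, hfmonic, hfirr, hf0, hcop, ?_⟩
    rcases H _ H₁ hH₁ (key_cop _ H₁ hH₁) hassP (key_star _ H₁ hH₁ hPne hassP) with hu | hu
    · exact absurd (isUnit_of_mul_isUnit_left hu) hfirr.not_isUnit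
    · rw [hH₁]
      exact associated_mul_unit_left _ H₁ hu

end Cfsg.Agent.Helper97.Spec4U
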