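import Mathlib

/-!
# S2511 farm (helper86), piece (X1): irreducible factors of the characteristic polynomial divide the
minimal polynomial (helper97)
-/

set_option autoImplicit false

namespace Cfsg.Agent.Helper97.Spec4U

open Matrix Polynomial

/-- (X1) irreducible factors of the characteristic polynomial divide the minimal polynomial. -/
theorem dvd_minpoly_of_dvd_charpoly {K : Type*} [Field K] {n : ℕ} (t : Matrix (Fin n) (Fin n) K)
    (h : K[X]) (hh : Irreducible h) (hdvd : h ∣ t.charpoly) : h ∣ minpoly K t := by
  rcases Nat.eq_zero_or_pos n with hn | hn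
  · subst hn
    exfalso
    have h1 : t.charpoly = 1 := by
      have hm := Matrix.charpoly_monic t
      have hd := Matrix.charpoly_natDegree_eq_dim t
      rw [Fintype.card_fin] at hd
      exact Polynomial.eq_one_of_monic_natDegree_zero hm hd
    rw [h1] at hdvd
    exact hh.not_isUnit (isUnit_of_dvd_one hdvd)
  have : Nonempty (Fin n) := ⟨⟨0, hn⟩⟩
  have : Fact (Irreducible h) := ⟨hh⟩
  set K' := AdjoinRoot h with hK'
  set α : K' := AdjoinRoot.root h with hα
  let φ : Matrix (Fin n) (Fin n) K →ₐ[K] Matrix (Fin n) (Fin n) K' := (Algebra.ofId K K').mapMatrix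
  set t' : Matrix (Fin n) (Fin n) K' := φ t with ht'
  have ht'map : t' = t.map (algebraMap K K') := rfl
  -- `α` is a root of the characteristic polynomial of `t'`
  have hroot : IsRoot t'.charpoly α := by
    rw [ht'map, Matrix.charpoly_map, IsRoot.def, eval_map]
    exact eval₂_eq_zero_of_dvd_of_eval₂_eq_zero _ _ hdvd (AdjoinRoot.eval₂_root h)
  have hspec : α ∈ spectrum K' t' := Matrix.mem_spectrum_iff_isRoot_charpoly.2 hroot
  -- the minimal polynomial of `t` kills `t'`
  have hkill : aeval t' ((minpoly K t).map (algebraMap K K')) = 0 := by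
    rw [aeval_map_algebraMap, ht', aeval_algHom_apply, minpoly.aeval, map_zero]
  have h0 : eval α ((minpoly K t).map (algebraMap K K')) ∈ spectrum K' (0 : Matrix (Fin n) (Fin n) K') := by
    rw [← hkill]
    exact spectrum.subset_polynomial_aeval t' _ ⟨α, hspec, rfl⟩
  rw [spectrum.zero_eq, Set.mem_singleton_iff, eval_map_algebraMap] at h0
  have h1 : minpoly K α ∣ minpoly K t := minpoly.dvd K α h0
  rw [hα, AdjoinRoot.minpoly_root hh.ne_zero] at h1
  exact dvd_of_mul_right_dvd h1

end Cfsg.Agent.Helper97.Spec4U
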