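-- (E3) of board #5347 (for helper88, S5320): the subgroup E = Q8 ∘ D8 of Sp4(F) is self-centralizing modulo the center.
-- Also the generic lemma eq_one_or_neg_of_commute (comm_xy): the centralizer in SL2(F) of a quaternion pair is ±1.
import Cfsg.Agent.Helper88.PSp4Hyp
set_option autoImplicit false
open Matrix Equiv Cfsg.Agent.Helper42 Cfsg.Agent.Helper85 Cfsg.Agent.Helper84 Cfsg.Agent.Helper88.PSp4F

namespace Cfsg.Agent.Helper97.PSp4E3

variable {F : Type*} [Field F]

/-- entries of an element of `SL₂` -/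
def ent (a : SL2 F) (i j : Fin 2) : F := (a : Matrix (Fin 2) (Fin 2) F) i j

theorem ent_mul (a b : SL2 F) (i j : Fin 2) :
    ent (a * b) i j = ent a i 0 * ent b 0 j + ent a i 1 * ent b 1 j := by
  show (a.1 * b.1) i j = a.1 i 0 * b.1 0 j + a.1 i 1 * b.1 1 j
  rw [Matrix.mul_apply, Fin.sum_univ_two]

theorem ent_negOneSL (i j : Fin 2) : ent (negOneSL F) i j = if i = j then -1 else 0 := by
  unfold ent
  fin_cases i <;> fin_cases j <;> simp [negOneSL]

theorem ent_one (i j : Fin 2) : ent (1 : SL2 F) i j = if i = j then 1 else 0 := by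
  unfold ent
  fin_cases i <;> fin_cases j <;> simp

theorem ent_det (a : SL2 F) : ent a 0 0 * ent a 1 1 - ent a 0 1 * ent a 1 0 = 1 := by
  have := a.2
  rw [Matrix.det_fin_two] at this
  exact this

theorem ent_ext {a b : SL2 F} (h : ∀ i j, ent a i j = ent b i j) : a = b := by
  apply Subtype.ext
  ext i j
  exact h i j

/-- trace zero from square `-1` -/
theorem trace_zero_of_sq {x : SL2 F} (hx : x * x = negOneSL F) :
    ent x 1 1 = - ent x 0 0 := by
  have e00 := congrArg (fun M : SL2 F => ent M 0 0) hx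
  have e11 := congrArg (fun M : SL2 F => ent M 1 1) hx
  simp only [ent_mul, ent_negOneSL] at e00 e11
  have hdet := ent_det x
  have h0 : (ent x 0 0 + ent x 1 1) ^ 2 = 0 := by
    simp at e00 e11
    linear_combination e00 + e11 + 2 * hdet
  have := pow_eq_zero_iff (two_ne_zero) |>.mp h0
  linear_combination this

/-- generic lemma: the centralizer of a quaternion pair in `SL₂` is `±1` -/
theorem eq_one_or_neg_of_commute (h2 : (2 : F) ≠ 0) {x y a : SL2 F} (hx : x * x = negOneSL F)
    (hy : y * y = negOneSL F) (hxy : y * x = negOneSL F * (x * y)) (hax : a * x = x * a)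
    (hay : a * y = y * a) : a = 1 ∨ a = negOneSL F := by
  have hx11 := trace_zero_of_sq hx
  have hy11 := trace_zero_of_sq hy
  have X1 := congrArg (fun M : SL2 F => ent M 0 0) hx
  have Y1 := congrArg (fun M : SL2 F => ent M 0 0) hy
  have XY := congrArg (fun M : SL2 F => ent M 0 0) hxy
  have AX00 := congrArg (fun M : SL2 F => ent M 0 0) hax
  have AX01 := congrArg (fun M : SL2 F => ent M 0 1) hax
  have AX10 := congrArg (fun M : SL2 F => ent M 1 0) hax
  have AY00 := congrArg (fun M : SL2 F => ent M 0 0) hay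
  have AY01 := congrArg (fun M : SL2 F => ent M 0 1) hay
  have AY10 := congrArg (fun M : SL2 F => ent M 1 0) hay
  simp only [ent_mul, ent_negOneSL, hx11, hy11] at X1 Y1 XY AX00 AX01 AX10 AY00 AY01 AY10
  simp at X1 Y1 XY
  have hdet := ent_det a
  set p := ent x 0 0
  set q := ent x 0 1
  set r := ent x 1 0
  set p' := ent y 0 0
  set q' := ent y 0 1
  set r' := ent y 1 0
  set a00 := ent a 0 0
  set b := ent a 0 1
  set c := ent a 1 0
  set d := ent a 1 1
  set t := (a00 - d) * p + b * r + c * q with ht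
  set t' := (a00 - d) * p' + b * r' + c * q' with ht'
  have T1 : (a00 - d) + t * p = 0 := by
    rw [ht]; linear_combination (a00 - d) * X1 + p * AX00 + q * AX10
  have T2 : 2 * b + t * q = 0 := by
    rw [ht]; linear_combination 2 * b * X1 + p * AX01 + (-q) * AX00
  have T3 : 2 * c + t * r = 0 := by
    rw [ht]; linear_combination 2 * c * X1 + (-p) * AX10 + r * AX00
  have T1' : (a00 - d) + t' * p' = 0 := by
    rw [ht']; linear_combination (a00 - d) * Y1 + p' * AY00 + q' * AY10
  have T2' : 2 * b + t' * q' = 0 := by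
    rw [ht']; linear_combination 2 * b * Y1 + p' * AY01 + (-q') * AY00
  have T3' : 2 * c + t' * r' = 0 := by
    rw [ht']; linear_combination 2 * c * Y1 + (-p') * AY10 + r' * AY00
  have hT : 2 * t = 0 := by
    rw [ht]; linear_combination 2 * p * T1' + r * T2' + q * T3' - t' * XY
  have ht0 : t = 0 := by
    rcases mul_eq_zero.mp hT with h | h
    · exact absurd h h2
    · exact h
  rw [ht0] at T1 T2 T3
  have hb : b = 0 := by
    rcases mul_eq_zero.mp (by linear_combination T2 : 2 * b = 0) with h | h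
    · exact absurd h h2
    · exact h
  have hc : c = 0 := by
    rcases mul_eq_zero.mp (by linear_combination T3 : 2 * c = 0) with h | h
    · exact absurd h h2
    · exact h
  have had : d = a00 := by linear_combination -T1
  have hsq : (a00 - 1) * (a00 + 1) = 0 := by
    rw [hb, hc, had] at hdet
    linear_combination hdet
  rcases mul_eq_zero.mp hsq with h | h
  · left
    apply ent_ext
    intro i j
    rw [ent_one]
    fin_cases i <;> fin_cases j <;> simp
    · show a00 = 1
      linear_combination h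
    · exact hb
    · exact hc
    · show d = 1
      rw [had]; linear_combination h
  · right
    apply ent_ext
    intro i j
    rw [ent_negOneSL]
    fin_cases i <;> fin_cases j <;> simp
    · show a00 = -1
      linear_combination h
    · exact hb
    · exact hc
    · show d = -1
      rw [had]; linear_combination h

/-! ### signatures -/

/-- if `u` and `c` have the same commutator with `x`, then `c⁻¹ u` commutes with `x` -/
theorem commute_of_same_comm {G : Type*} [Group G] {u c x : G}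
    (h : u * x * u⁻¹ * x⁻¹ = c * x * c⁻¹ * x⁻¹) : (c⁻¹ * u) * x = x * (c⁻¹ * u) := by
  have h1 : u * x * u⁻¹ = c * x * c⁻¹ := by
    have := congrArg (fun w => w * x) h
    simpa using this
  have h2 : u * x = c * x * c⁻¹ * u := by
    have := congrArg (fun w => w * u) h1
    simpa using this
  calc (c⁻¹ * u) * x = c⁻¹ * (u * x) := by group
    _ = c⁻¹ * (c * x * c⁻¹ * u) := by rw [h2]
    _ = x * (c⁻¹ * u) := by group

section quat

variable {Q : Subgroup (SL2 F)} {x y : SL2 F}

theorem negOneSL_comm (a : SL2 F) : a * negOneSL F = negOneSL F * a :=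
  (Subgroup.mem_center_iff.mp negOneSL_mem_center a)

theorem sig_y_x (h : Q8Data Q x y) : y * x * y⁻¹ * x⁻¹ = negOneSL F := by
  rw [h.hxy]
  group

theorem sig_x_y (h : Q8Data Q x y) : x * y * x⁻¹ * y⁻¹ = negOneSL F := by
  have h1 : x * y = negOneSL F * (y * x) := by
    rw [h.hxy, ← mul_assoc, negOneSL_mul_self, one_mul]
  rw [h1]
  group

theorem sig_xy_x (h : Q8Data Q x y) : (x * y) * x * (x * y)⁻¹ * x⁻¹ = negOneSL F := by
  have h1 : (x * y) * x * (x * y)⁻¹ * x⁻¹ = x * (y * x * y⁻¹ * x⁻¹) * x⁻¹ := by group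
  rw [h1, sig_y_x h, negOneSL_comm, mul_assoc, mul_inv_cancel, mul_one]

theorem sig_xy_y (h : Q8Data Q x y) : (x * y) * y * (x * y)⁻¹ * y⁻¹ = negOneSL F := by
  have h1 : (x * y) * y * (x * y)⁻¹ * y⁻¹ = x * y * x⁻¹ * y⁻¹ := by group
  rw [h1, sig_x_y h]

/-- an element whose commutators with `x` and `y` are `±1` is `±1, ±x, ±y, ±xy`; more precisely it is `c` or `-c` for
a `c ∈ {1, x, y, xy}` determined by the two signs -/
theorem eq_or_neg_of_sig (h2 : (2 : F) ≠ 0) (h : Q8Data Q x y) {u c : SL2 F}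
    (hx : u * x * u⁻¹ * x⁻¹ = c * x * c⁻¹ * x⁻¹) (hy : u * y * u⁻¹ * y⁻¹ = c * y * c⁻¹ * y⁻¹) :
    u = c ∨ u = c * negOneSL F := by
  have h1 := commute_of_same_comm hx
  have h2' := commute_of_same_comm hy
  rcases eq_one_or_neg_of_commute h2 h.hx h.hy h.hxy h1 h2' with h3 | h3
  · left
    have := congrArg (fun w => c * w) h3
    simpa using this
  · right
    have := congrArg (fun w => c * w) h3
    simpa using this

end quat


/-- (E3) -/
theorem EQ_self_centralizing (h2 : (2 : F) ≠ 0) {Q : Subgroup (SL2 F)} {x y : SL2 F}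
    (h : Q8Data Q x y) (h5 : HG5 F) (g : Sp4 F)
    (hg : ∀ r ∈ EQ Q, g * r * g⁻¹ * r⁻¹ ∈ Subgroup.center (Sp4 F)) : g ∈ EQ Q := by
  -- membership facts
  have hzQ : negOneSL F ∈ Q := (h.mem _).mpr (Or.inr (Or.inl rfl))
  have hxQ : x ∈ Q := (h.mem _).mpr (Or.inr (Or.inr (Or.inl rfl)))
  have hyQ : y ∈ Q := (h.mem _).mpr (Or.inr (Or.inr (Or.inr (Or.inr (Or.inl rfl)))))
  have hxyQ : x * y ∈ Q := Q.mul_mem hxQ hyQ
  have ht0E : t0 F ∈ EQ Q :=
    Subgroup.mem_sup_right (Subgroup.subset_closure (Set.mem_insert _ _))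
  have htwE : (tw : Sp4 F) ∈ EQ Q :=
    Subgroup.mem_sup_right (Subgroup.subset_closure (Set.mem_insert_of_mem _ rfl))
  have hdE : ∀ c ∈ Q, io c c ∈ EQ Q := fun c hc => Subgroup.mem_sup_left ⟨c, hc, rfl⟩
  have hnIE : nI F ∈ EQ Q := by
    rw [← io_neg_neg]
    exact hdE _ hzQ
  have hcen : ∀ z ∈ Subgroup.center (Sp4 F), z = 1 ∨ z = nI F := fun z hz =>
    (Cfsg.Agent.S0246.mem_center_iff (by norm_num) z).mp hz
  have hnIc : ∀ w : Sp4 F, w * nI F = nI F * w :=
    Subgroup.mem_center_iff.mp Cfsg.Agent.S0246.negOne_mem_center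
  have hnInI : nI F * nI F = 1 := by
    rw [← io_neg_neg, io_mul, negOneSL_mul_self, io_one]
  -- the shape of `g`
  obtain ⟨a, b, hgab⟩ : ∃ a b : SL2 F, g = io a b ∨ g = io a b * tw := by
    rcases hcen _ (hg _ ht0E) with h1 | h1
    · have h3 : g * t0 F = t0 F * g := by
        have := congrArg (fun w => w * t0 F * g) h1
        simpa [mul_assoc] using this
      obtain ⟨a, b, hab⟩ := h5 g h3
      exact ⟨a, b, Or.inl hab⟩
    · have h3 : g * t0 F * g⁻¹ = nI F * t0 F := by
        have := congrArg (fun w => w * t0 F) h1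
        simpa [mul_assoc] using this
      have h4 : (tw * g) * t0 F * (tw * g)⁻¹ = t0 F := by
        calc (tw * g) * t0 F * (tw * g)⁻¹ = tw * (g * t0 F * g⁻¹) * tw⁻¹ := by group
          _ = tw * (nI F * t0 F) * tw⁻¹ := by rw [h3]
          _ = (tw * nI F) * t0 F * tw⁻¹ := by group
          _ = (nI F * tw) * t0 F * tw⁻¹ := by rw [hnIc tw]
          _ = nI F * (tw * t0 F * tw⁻¹) := by group
          _ = nI F * (nI F * t0 F) := by rw [tw_t0_tw]
          _ = t0 F := by rw [← mul_assoc, hnInI, one_mul]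
      have h6 : (tw * g) * t0 F = t0 F * (tw * g) := by
        have := congrArg (fun w => w * (tw * g)) h4
        simpa [mul_assoc] using this
      obtain ⟨a, b, hab⟩ := h5 _ h6
      refine ⟨b, a, Or.inr ?_⟩
      have h7 : g = tw * io a b := by
        rw [← hab, ← mul_assoc, tw_mul_tw, one_mul]
      rw [h7, tw_io]
  -- conjugation of the diagonal elements
  have hconj : ∀ c : SL2 F, g * io c c * g⁻¹ = io (a * c * a⁻¹) (b * c * b⁻¹) := by
    intro c
    rcases hgab with h1 | h1
    · rw [h1, io_inv, io_mul, io_mul]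
    · rw [h1]
      have : io a b * tw * io c c * (io a b * tw)⁻¹ = io a b * (tw * io c c * tw⁻¹) * (io a b)⁻¹ := by
        group
      rw [this, tw_io_tw, io_inv, io_mul, io_mul]
  have hsig : ∀ c ∈ Q, (a * c * a⁻¹ * c⁻¹ = 1 ∧ b * c * b⁻¹ * c⁻¹ = 1) ∨
      (a * c * a⁻¹ * c⁻¹ = negOneSL F ∧ b * c * b⁻¹ * c⁻¹ = negOneSL F) := by
    intro c hc
    have h1 : g * io c c * g⁻¹ * (io c c)⁻¹ = io (a * c * a⁻¹ * c⁻¹) (b * c * b⁻¹ * c⁻¹) := by
      rw [hconj c, io_inv, io_mul]
    rcases hcen _ (hg _ (hdE c hc)) with h3 | h3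
    · rw [h1, ← io_one] at h3
      exact Or.inl (io_injective h3)
    · rw [h1, ← io_neg_neg] at h3
      exact Or.inr (io_injective h3)
  have key : ∀ c0 ∈ Q, a * x * a⁻¹ * x⁻¹ = c0 * x * c0⁻¹ * x⁻¹ →
      a * y * a⁻¹ * y⁻¹ = c0 * y * c0⁻¹ * y⁻¹ → b * x * b⁻¹ * x⁻¹ = c0 * x * c0⁻¹ * x⁻¹ →
      b * y * b⁻¹ * y⁻¹ = c0 * y * c0⁻¹ * y⁻¹ → io a b ∈ EQ Q := by
    intro c0 hc0 hax hay hbx hby
    have ha := eq_or_neg_of_sig h2 h hax hay
    have hb := eq_or_neg_of_sig h2 h hbx hby
    have e1 : ∀ e1 e2 : SL2 F, io (c0 * e1) (c0 * e2) = io c0 c0 * io e1 e2 :=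
      fun e1 e2 => (io_mul _ _ _ _).symm
    rcases ha with ha | ha <;> rcases hb with hb | hb
    · rw [ha, hb]
      exact hdE c0 hc0
    · rw [ha, hb]
      have := e1 1 (negOneSL F)
      rw [mul_one] at this
      rw [this, ← nI_mul_t0]
      exact (EQ Q).mul_mem (hdE c0 hc0) ((EQ Q).mul_mem hnIE ht0E)
    · rw [ha, hb]
      have := e1 (negOneSL F) 1
      rw [mul_one] at this
      rw [this]
      exact (EQ Q).mul_mem (hdE c0 hc0) ht0E
    · rw [ha, hb, e1, io_neg_neg]
      exact (EQ Q).mul_mem (hdE c0 hc0) hnIE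
  have hab : io a b ∈ EQ Q := by
    rcases hsig x hxQ with ⟨hax, hbx⟩ | ⟨hax, hbx⟩ <;> rcases hsig y hyQ with ⟨hay, hby⟩ | ⟨hay, hby⟩
    · refine key 1 Q.one_mem ?_ ?_ ?_ ?_
      · rw [hax]; group
      · rw [hay]; group
      · rw [hbx]; group
      · rw [hby]; group
    · refine key x hxQ ?_ ?_ ?_ ?_
      · rw [hax]; group
      · rw [hay, sig_x_y h]
      · rw [hbx]; group
      · rw [hby, sig_x_y h]
    · refine key y hyQ ?_ ?_ ?_ ?_
      · rw [hax, sig_y_x h]
      · rw [hay]; group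
      · rw [hbx, sig_y_x h]
      · rw [hby]; group
    · refine key (x * y) hxyQ ?_ ?_ ?_ ?_
      · rw [hax, sig_xy_x h]
      · rw [hay, sig_xy_y h]
      · rw [hbx, sig_xy_x h]
      · rw [hby, sig_xy_y h]
  rcases hgab with h1 | h1
  · rw [h1]
    exact hab
  · rw [h1]
    exact (EQ Q).mul_mem hab htwE

end Cfsg.Agent.Helper97.PSp4E3
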