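import Mathlib
import Cfsg.Agent.Helper89.TT59Defs

/-!
# (LA)+(LA2) for S5559 (helper97 for helper89, board #8609): the key lemma

A 3-group `S` with an involutory automorphism `δ`, generated by the inverted elements, which all have
order dividing 3, without an inverted `3 × 3`, and with `Ω₁(Z(S))` of order at most 3, has at most 9
inverted elements.
-/

set_option autoImplicit false
set_option linter.unusedSectionVars false
set_option linter.unusedVariables false
set_option linter.style.haveILetI false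

namespace Cfsg.Agent.Helper97.TT59

open Cfsg.Agent.Helper89.TT59

/-! ### the fibre count for `t ↦ t * (δ t)⁻¹` -/

section fibre

variable {T : Type*} [Group T] (δ : T →* T)

/-- the fixed points of an endomorphism -/
def fixedSub : Subgroup T := MonoidHom.eqLocus δ (MonoidHom.id T)

theorem mem_fixedSub {t : T} : t ∈ fixedSub δ ↔ δ t = t := Iff.rfl

theorem twist_mem (hδ : ∀ t, δ (δ t) = t) (t : T) : δ (t * (δ t)⁻¹) = (t * (δ t)⁻¹)⁻¹ := by
  rw [map_mul, map_inv, hδ, mul_inv_rev, inv_inv]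

/-- the map `t ↦ t * (δ t)⁻¹` on the left cosets of the fixed subgroup -/
def twist (hδ : ∀ t, δ (δ t) = t) : T ⧸ fixedSub δ → {t : T | δ t = t⁻¹} :=
  Quotient.lift (s := QuotientGroup.leftRel (fixedSub δ))
    (fun t => (⟨t * (δ t)⁻¹, twist_mem δ hδ t⟩ : {t : T | δ t = t⁻¹}))
    (by
      intro a b hab0
      have hab : a⁻¹ * b ∈ fixedSub δ := QuotientGroup.leftRel_apply.mp hab0
      rw [mem_fixedSub, map_mul, map_inv] at hab
      apply Subtype.ext
      change a * (δ a)⁻¹ = b * (δ b)⁻¹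
      have h1 : δ b = δ a * (a⁻¹ * b) := by rw [← hab]; group
      rw [h1]
      group)

theorem twist_mk (hδ : ∀ t, δ (δ t) = t) (t : T) :
    ((twist δ hδ (QuotientGroup.mk t) : {t : T | δ t = t⁻¹}) : T) = t * (δ t)⁻¹ := rfl

theorem twist_injective (hδ : ∀ t, δ (δ t) = t) : Function.Injective (twist δ hδ) := by
  intro x y
  refine Quotient.inductionOn₂' x y ?_
  intro a b hab
  have h1 : a * (δ a)⁻¹ = b * (δ b)⁻¹ := congrArg Subtype.val hab
  apply Quotient.sound'
  apply QuotientGroup.leftRel_apply.mpr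
  rw [mem_fixedSub, map_mul, map_inv]
  have h2 : a⁻¹ * b = (δ a)⁻¹ * δ b := by
    have : b = a * (δ a)⁻¹ * δ b := by rw [h1]; group
    calc a⁻¹ * b = a⁻¹ * (a * (δ a)⁻¹ * δ b) := by rw [← this]
      _ = (δ a)⁻¹ * δ b := by group
  exact h2.symm

theorem twist_surjective (hδ : ∀ t, δ (δ t) = t) (h3 : ∀ t : T, δ t = t⁻¹ → t ^ 3 = 1) :
    Function.Surjective (twist δ hδ) := by
  rintro ⟨y, hy⟩
  have hy' : δ y = y⁻¹ := hy
  refine ⟨QuotientGroup.mk y⁻¹, ?_⟩
  apply Subtype.ext
  rw [twist_mk, map_inv, hy', inv_inv]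
  have h := h3 y hy'
  have : y⁻¹ * y⁻¹ = y := by
    have : y ^ 3 = y * y * y := by rw [pow_succ, pow_two]
    rw [this] at h
    calc y⁻¹ * y⁻¹ = y⁻¹ * y⁻¹ * (y * y * y) := by rw [h, mul_one]
      _ = y := by group
  exact this

theorem card_le_fixed_mul_inverted [Finite T] (hδ : ∀ t, δ (δ t) = t) :
    Nat.card T ≤ Nat.card (fixedSub δ) * Nat.card {t : T | δ t = t⁻¹} := by
  rw [Subgroup.card_eq_card_quotient_mul_card_subgroup (fixedSub δ), mul_comm]
  exact Nat.mul_le_mul_left _ (Nat.card_le_card_of_injective _ (twist_injective δ hδ))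

theorem card_eq_fixed_mul_inverted [Finite T] (hδ : ∀ t, δ (δ t) = t)
    (h3 : ∀ t : T, δ t = t⁻¹ → t ^ 3 = 1) :
    Nat.card T = Nat.card (fixedSub δ) * Nat.card {t : T | δ t = t⁻¹} := by
  rw [Subgroup.card_eq_card_quotient_mul_card_subgroup (fixedSub δ), mul_comm]
  congr 1
  exact Nat.card_eq_of_bijective _ ⟨twist_injective δ hδ, twist_surjective δ hδ h3⟩

end fibre

/-! ### the second centre -/

section second

variable {S : Type*} [Group S]

/-- the "second centre" predicate -/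
def Z2 (g : S) : Prop := ∀ x : S, g⁻¹ * x⁻¹ * g * x ∈ Subgroup.center S

theorem Z2_mul {g h : S} (hg : Z2 g) (hh : Z2 h) : Z2 (g * h) := by
  intro x
  have hc : ∀ w : S, w * (g⁻¹ * x⁻¹ * g * x) = (g⁻¹ * x⁻¹ * g * x) * w :=
    fun w => Subgroup.mem_center_iff.1 (hg x) w
  have : (g * h)⁻¹ * x⁻¹ * (g * h) * x = (g⁻¹ * x⁻¹ * g * x) * (h⁻¹ * x⁻¹ * h * x) := by
    calc (g * h)⁻¹ * x⁻¹ * (g * h) * x = h⁻¹ * (g⁻¹ * x⁻¹ * g * x) * (x⁻¹ * h * x) := by group
      _ = (g⁻¹ * x⁻¹ * g * x) * h⁻¹ * (x⁻¹ * h * x) := by rw [hc h⁻¹]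
      _ = (g⁻¹ * x⁻¹ * g * x) * (h⁻¹ * x⁻¹ * h * x) := by group
  rw [this]
  exact Subgroup.mul_mem _ (hg x) (hh x)

theorem Z2_inv {g : S} (hg : Z2 g) : Z2 g⁻¹ := by
  intro x
  have hc : ∀ w : S, w * (g⁻¹ * x⁻¹ * g * x)⁻¹ = (g⁻¹ * x⁻¹ * g * x)⁻¹ * w :=
    fun w => Subgroup.mem_center_iff.1 (Subgroup.inv_mem _ (hg x)) w
  have : g⁻¹⁻¹ * x⁻¹ * g⁻¹ * x = (g⁻¹ * x⁻¹ * g * x)⁻¹ := by
    calc g⁻¹⁻¹ * x⁻¹ * g⁻¹ * x = g * (g⁻¹ * x⁻¹ * g * x)⁻¹ * g⁻¹ := by group
      _ = (g⁻¹ * x⁻¹ * g * x)⁻¹ * g * g⁻¹ := by rw [hc g]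
      _ = (g⁻¹ * x⁻¹ * g * x)⁻¹ := by group
  rw [this]
  exact Subgroup.inv_mem _ (hg x)

theorem map_mem_center (δ : S ≃* S) (hδ : ∀ s, δ (δ s) = s) {z : S}
    (hz : z ∈ Subgroup.center S) : δ z ∈ Subgroup.center S := by
  rw [Subgroup.mem_center_iff]
  intro w
  have h1 := Subgroup.mem_center_iff.1 hz (δ w)
  have h2 := congrArg δ h1
  rw [map_mul, map_mul, hδ] at h2
  exact h2

theorem Z2_map (δ : S ≃* S) (hδ : ∀ s, δ (δ s) = s) {g : S} (hg : Z2 g) : Z2 (δ g) := by
  intro x
  have h1 := map_mem_center δ hδ (hg (δ x))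
  rw [map_mul, map_mul, map_mul, map_inv, map_inv, hδ] at h1
  exact h1

/-- `x ↦ g⁻¹ x⁻¹ g x` is a homomorphism for `g` in the second centre -/
def commHom (g : S) (hg : Z2 g) : S →* S where
  toFun x := g⁻¹ * x⁻¹ * g * x
  map_one' := by group
  map_mul' x y := by
    have hc : ∀ w : S, w * (g⁻¹ * x⁻¹ * g * x) = (g⁻¹ * x⁻¹ * g * x) * w :=
      fun w => Subgroup.mem_center_iff.1 (hg x) w
    calc g⁻¹ * (x * y)⁻¹ * g * (x * y) = g⁻¹ * y⁻¹ * g * ((g⁻¹ * x⁻¹ * g * x) * y) := by group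
      _ = g⁻¹ * y⁻¹ * g * (y * (g⁻¹ * x⁻¹ * g * x)) := by rw [← hc y]
      _ = (g⁻¹ * x⁻¹ * g * x) * (g⁻¹ * y⁻¹ * g * y) := by rw [← mul_assoc, hc]

theorem commHom_apply (g : S) (hg : Z2 g) (x : S) : commHom g hg x = g⁻¹ * x⁻¹ * g * x := rfl

theorem commHom_eq_one_iff (g : S) (hg : Z2 g) (x : S) : commHom g hg x = 1 ↔ g * x = x * g := by
  rw [commHom_apply]
  constructor
  · intro h
    calc g * x = x * g * (g⁻¹ * x⁻¹ * g * x) := by group
      _ = x * g := by rw [h, mul_one]
  · intro h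
    calc g⁻¹ * x⁻¹ * g * x = g⁻¹ * x⁻¹ * (g * x) := by group
      _ = g⁻¹ * x⁻¹ * (x * g) := by rw [h]
      _ = 1 := by group

/-- a nonabelian finite `3`-group has an element of the second centre outside the centre -/
theorem exists_Z2_not_center [Finite S] (hS : IsPGroup 3 S) (hna : ∃ a b : S, a * b ≠ b * a) :
    ∃ g : S, Z2 g ∧ g ∉ Subgroup.center S := by
  haveI : Fact (Nat.Prime 3) := ⟨Nat.prime_three⟩
  have hQ : IsPGroup 3 (S ⧸ Subgroup.center S) := hS.to_quotient _
  haveI : Nontrivial (S ⧸ Subgroup.center S) := by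
    obtain ⟨a, b, hab⟩ := hna
    refine ⟨⟨(a : S ⧸ Subgroup.center S), 1, ?_⟩⟩
    intro h
    have ha : a ∈ Subgroup.center S := (QuotientGroup.eq_one_iff a).1 h
    exact hab ((Subgroup.mem_center_iff.1 ha b).symm)
  haveI := hQ.center_nontrivial
  obtain ⟨⟨q, hq⟩, hq1⟩ := exists_ne (1 : Subgroup.center (S ⧸ Subgroup.center S))
  obtain ⟨g, rfl⟩ := QuotientGroup.mk_surjective q
  refine ⟨g, ?_, ?_⟩
  · intro x
    rw [← QuotientGroup.eq_one_iff]
    have h1 := Subgroup.mem_center_iff.1 hq (x : S ⧸ Subgroup.center S)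
    rw [QuotientGroup.mk_mul, QuotientGroup.mk_mul, QuotientGroup.mk_mul, QuotientGroup.mk_inv,
      QuotientGroup.mk_inv]
    calc ((g : S ⧸ Subgroup.center S))⁻¹ * (x : S ⧸ Subgroup.center S)⁻¹ * g * x
        = ((g : S ⧸ Subgroup.center S))⁻¹ * (x : S ⧸ Subgroup.center S)⁻¹ * (g * x) := by group
      _ = ((g : S ⧸ Subgroup.center S))⁻¹ * (x : S ⧸ Subgroup.center S)⁻¹ * (x * g) := by
          rw [h1]
      _ = 1 := by group
  · intro hg
    apply hq1
    apply Subtype.ext
    exact (QuotientGroup.eq_one_iff g).2 hg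

end second

/-! ### the key lemma -/

section key

variable {S : Type*} [Group S] [Finite S]

/-- (LA) **the key lemma** -/
theorem card_inverted_le_nine (hS : IsPGroup 3 S) (δ : S ≃* S)
    (hδ : ∀ s, δ (δ s) = s)
    (hgen : Subgroup.closure {s : S | δ s = s⁻¹} = ⊤)
    (h3 : ∀ s : S, δ s = s⁻¹ → s ^ 3 = 1)
    (hcomm : ∀ s t : S, δ s = s⁻¹ → δ t = t⁻¹ → s * t = t * s → s = 1 ∨ t ∈ Subgroup.zpowers s)
    (hZ : ∀ z z' : S, z ∈ Subgroup.center S → z' ∈ Subgroup.center S → z ^ 3 = 1 → z' ^ 3 = 1 →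
      z = 1 ∨ z' ∈ Subgroup.zpowers z) :
    Nat.card {s : S | δ s = s⁻¹} ≤ 9 := by
  classical
  haveI : Fact (Nat.Prime 3) := ⟨Nat.prime_three⟩
  -- `zpowers` of an element with cube one has at most 3 elements
  have hzp : ∀ s : S, s ^ 3 = 1 → Nat.card (Subgroup.zpowers s) ≤ 3 := by
    intro s hs
    rw [Nat.card_zpowers]
    exact Nat.le_of_dvd (by norm_num) (orderOf_dvd_of_pow_eq_one hs)
  by_cases hna : ∃ a b : S, a * b ≠ b * a
  swap
  · -- abelian case
    push Not at hna
    by_cases hI : ∃ s : S, δ s = s⁻¹ ∧ s ≠ 1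
    · obtain ⟨s, hs, hs1⟩ := hI
      have hsub : ∀ t : {t : S | δ t = t⁻¹}, (t : S) ∈ Subgroup.zpowers s := by
        rintro ⟨t, ht⟩
        rcases hcomm s t hs ht (hna s t) with h | h
        · exact absurd h hs1
        · exact h
      have hle : Nat.card {t : S | δ t = t⁻¹} ≤ Nat.card (Subgroup.zpowers s) :=
        Nat.card_le_card_of_injective
          (fun t => (⟨(t : S), hsub t⟩ : Subgroup.zpowers s))
          (by
            intro a b hab
            have h := congrArg Subtype.val hab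
            exact Subtype.ext h)
      have := hzp s (h3 s hs)
      omega
    · push Not at hI
      have : Nat.card {t : S | δ t = t⁻¹} ≤ 1 := by
        apply Finite.card_le_one_iff_subsingleton.2
        constructor
        rintro ⟨a, ha⟩ ⟨b, hb⟩
        apply Subtype.ext
        change a = b
        rw [hI a ha, hI b hb]
      omega
  -- nonabelian case: a central element of order 3
  haveI : Nontrivial S := by
    obtain ⟨a, b, hab⟩ := hna
    exact ⟨⟨a * b, b * a, hab⟩⟩
  haveI := hS.center_nontrivial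
  have hZ3 : IsPGroup 3 (Subgroup.center S) := hS.to_subgroup _
  obtain ⟨z0, hz0c, hz0o⟩ : ∃ z0 : S, z0 ∈ Subgroup.center S ∧ orderOf z0 = 3 := by
    obtain ⟨n, hn⟩ := hZ3.exists_card_eq
    have hn0 : n ≠ 0 := by
      rintro rfl
      rw [pow_zero] at hn
      have : 1 < Nat.card (Subgroup.center S) :=
        Finite.one_lt_card_iff_nontrivial.2 inferInstance
      omega
    have hdvd : 3 ∣ Nat.card (Subgroup.center S) := by rw [hn]; exact dvd_pow_self 3 hn0
    obtain ⟨z, hz⟩ := exists_prime_orderOf_dvd_card' 3 hdvd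
    exact ⟨z.1, z.2, by rw [← hz]; exact Subgroup.orderOf_coe z⟩
  have hz0_3 : z0 ^ 3 = 1 := by rw [← hz0o]; exact pow_orderOf_eq_one z0
  have hz0ne : z0 ≠ 1 := by
    intro h
    rw [h, orderOf_one] at hz0o
    omega
  -- everything central of exponent 3 lies in `⟨z0⟩`
  have hΩ : ∀ z' ∈ Subgroup.center S, z' ^ 3 = 1 → z' ∈ Subgroup.zpowers z0 := by
    intro z' hz' h
    rcases hZ z0 z' hz0c hz' hz0_3 h with h1 | h1
    · exact absurd h1 hz0ne
    · exact h1
  -- a central inverted element is trivial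
  have hcentI : ∀ w : S, w ∈ Subgroup.center S → δ w = w⁻¹ → w = 1 := by
    intro w hwc hwI
    by_contra hw1
    have hall : ∀ t : S, δ t = t⁻¹ → t ∈ Subgroup.zpowers w := by
      intro t ht
      rcases hcomm w t hwI ht ((Subgroup.mem_center_iff.1 hwc t).symm) with h | h
      · exact absurd h hw1
      · exact h
    have htop : (⊤ : Subgroup S) ≤ Subgroup.zpowers w := by
      rw [← hgen, Subgroup.closure_le]
      exact fun t ht => hall t ht
    obtain ⟨a, b, hab⟩ := hna
    apply hab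
    obtain ⟨m, rfl⟩ := Subgroup.mem_zpowers_iff.1 (htop (Subgroup.mem_top a))
    obtain ⟨n, rfl⟩ := Subgroup.mem_zpowers_iff.1 (htop (Subgroup.mem_top b))
    exact (Commute.refl w).zpow_zpow m n
  have hδz0 : δ z0 = z0 := by
    have h1 := hcentI (z0 * (δ z0)⁻¹)
      (Subgroup.mul_mem _ hz0c (Subgroup.inv_mem _ (map_mem_center δ hδ hz0c)))
      (by rw [map_mul, map_inv, hδ, mul_inv_rev, inv_inv])
    exact (mul_inv_eq_one.1 h1).symm
  have hfix : ∀ u ∈ Subgroup.zpowers z0, δ u = u := by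
    intro u hu
    obtain ⟨n, rfl⟩ := Subgroup.mem_zpowers_iff.1 hu
    rw [map_zpow, hδz0]
  obtain ⟨g, hgZ2, hgc⟩ := exists_Z2_not_center hS hna
  -- the commutator homomorphisms take values in `⟨z0⟩`
  have hA : ∀ (g' : S) (hg' : Z2 g') (x : S), commHom g' hg' x ∈ Subgroup.zpowers z0 := by
    intro g' hg' x
    have hle : (⊤ : Subgroup S) ≤ (Subgroup.zpowers z0).comap (commHom g' hg') := by
      rw [← hgen, Subgroup.closure_le]
      intro t ht
      rw [SetLike.mem_coe, Subgroup.mem_comap]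
      apply hΩ
      · exact hg' t
      · rw [← map_pow, h3 t ht, map_one]
    exact hle (Subgroup.mem_top x)
  set k := g * (δ g)⁻¹ with hk
  have hkI : δ k = k⁻¹ := by rw [hk, map_mul, map_inv, hδ, mul_inv_rev, inv_inv]
  have hkZ2 : Z2 k := Z2_mul hgZ2 (Z2_inv (Z2_map δ hδ hgZ2))
  by_cases hkc : k ∈ Subgroup.center S
  · -- impossible: then `δ g = g` and `g` centralises all inverted elements
    exfalso
    have hk1 : k = 1 := hcentI k hkc hkI
    have hδg : δ g = g := (mul_inv_eq_one.1 hk1).symm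
    apply hgc
    have hcomI : ∀ x : S, δ x = x⁻¹ → g * x = x * g := by
      intro x hx
      rw [← commHom_eq_one_iff g hgZ2]
      have hu0 : commHom g hgZ2 x ∈ Subgroup.zpowers z0 := hA g hgZ2 x
      have hδu : δ (commHom g hgZ2 x) = commHom g hgZ2 x := hfix _ hu0
      have hδu' : δ (commHom g hgZ2 x) = (commHom g hgZ2 x)⁻¹ := by
        rw [← map_inv (commHom g hgZ2) x, commHom_apply, commHom_apply, map_mul, map_mul,
          map_mul, map_inv, map_inv, hδg, hx]
      have hu2 : commHom g hgZ2 x * commHom g hgZ2 x = 1 :=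
        mul_eq_one_iff_eq_inv.2 (hδu.symm.trans hδu')
      have hu3 : commHom g hgZ2 x ^ 3 = 1 := by rw [← map_pow, h3 x hx, map_one]
      calc commHom g hgZ2 x
          = commHom g hgZ2 x ^ 3 * (commHom g hgZ2 x * commHom g hgZ2 x)⁻¹ := by group
        _ = 1 := by rw [hu3, hu2]; group
    have hle : (⊤ : Subgroup S) ≤ Subgroup.centralizer {g} := by
      rw [← hgen, Subgroup.closure_le]
      intro x hx
      rw [SetLike.mem_coe, Subgroup.mem_centralizer_iff]
      intro y hy
      rw [Set.mem_singleton_iff] at hy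
      subst hy
      exact hcomI x hx
    rw [Subgroup.mem_center_iff]
    intro y
    have := Subgroup.mem_centralizer_iff.1 (hle (Subgroup.mem_top y)) g rfl
    exact this.symm
  · -- the count
    have hk1 : k ≠ 1 := fun h => hkc (h ▸ Subgroup.one_mem _)
    have hk3 : k ^ 3 = 1 := h3 k hkI
    set T : Subgroup S := (commHom k hkZ2).ker with hT
    have hTmem : ∀ x, x ∈ T ↔ k * x = x * k := fun x => by
      rw [hT, MonoidHom.mem_ker, commHom_eq_one_iff]
    have hidx : T.index ≤ 3 := by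
      rw [hT, Subgroup.index_ker]
      have hrange : (commHom k hkZ2).range ≤ Subgroup.zpowers z0 := by
        rintro _ ⟨x, rfl⟩
        exact hA k hkZ2 x
      calc Nat.card (commHom k hkZ2).range ≤ Nat.card (Subgroup.zpowers z0) :=
            Subgroup.card_le_of_le hrange
        _ ≤ 3 := hzp z0 hz0_3
    have hTδ : ∀ x ∈ T, δ x ∈ T := by
      intro x hx
      rw [hTmem] at hx ⊢
      have hkk : k = δ k⁻¹ := by rw [map_inv, hkI, inv_inv]
      have h1 : k⁻¹ * x = x * k⁻¹ := by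
        calc k⁻¹ * x = k⁻¹ * (x * k) * k⁻¹ := by group
          _ = k⁻¹ * (k * x) * k⁻¹ := by rw [hx]
          _ = x * k⁻¹ := by group
      rw [hkk, ← map_mul, ← map_mul, h1]
    let δT : ↥T →* ↥T :=
      ((δ : S →* S).comp T.subtype).codRestrict T (fun x => hTδ x.1 x.2)
    have hδT : ∀ t : ↥T, ((δT t : ↥T) : S) = δ (t : S) := fun t => rfl
    have hδT2 : ∀ t : ↥T, δT (δT t) = t := fun t => Subtype.ext (by rw [hδT, hδT, hδ])
    have hcount := card_le_fixed_mul_inverted δT hδT2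
    have hC : Nat.card (fixedSub δT) ≤ Nat.card (fixedSub (δ : S →* S)) := by
      refine Nat.card_le_card_of_injective
        (fun t : fixedSub δT => (⟨((t : ↥T) : S), ?_⟩ : fixedSub (δ : S →* S))) ?_
      · have h1 := (mem_fixedSub δT).1 t.2
        have h2 := congrArg Subtype.val h1
        exact h2
      · intro a b hab
        have h := congrArg Subtype.val hab
        exact Subtype.ext (Subtype.ext h)
    have hI3 : Nat.card {t : ↥T | δT t = t⁻¹} ≤ 3 := by
      have hmem : ∀ t : {t : ↥T | δT t = t⁻¹}, ((t : ↥T) : S) ∈ Subgroup.zpowers k := by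
        rintro ⟨⟨t, htT⟩, ht⟩
        have ht' : δ t = t⁻¹ := congrArg Subtype.val ht
        rcases hcomm k t hkI ht' ((hTmem t).1 htT) with h | h
        · exact absurd h hk1
        · exact h
      calc Nat.card {t : ↥T | δT t = t⁻¹} ≤ Nat.card (Subgroup.zpowers k) :=
            Nat.card_le_card_of_injective
              (fun t => (⟨((t : ↥T) : S), hmem t⟩ : Subgroup.zpowers k))
              (by
                intro a b hab
                have h := congrArg Subtype.val hab
                exact Subtype.ext (Subtype.ext h))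
        _ ≤ 3 := hzp k hk3
    have hS_eq : Nat.card S =
        Nat.card (fixedSub (δ : S →* S)) * Nat.card {s : S | δ s = s⁻¹} :=
      card_eq_fixed_mul_inverted (δ : S →* S) hδ h3
    have hST : Nat.card S = T.index * Nat.card T := (Subgroup.index_mul_card T).symm
    have hCpos : 0 < Nat.card (fixedSub (δ : S →* S)) := Nat.card_pos
    have hfin : Nat.card (fixedSub (δ : S →* S)) * Nat.card {s : S | δ s = s⁻¹} ≤
        Nat.card (fixedSub (δ : S →* S)) * 9 := by
      calc Nat.card (fixedSub (δ : S →* S)) * Nat.card {s : S | δ s = s⁻¹}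
          = Nat.card S := hS_eq.symm
        _ = T.index * Nat.card T := hST
        _ ≤ 3 * (Nat.card (fixedSub δT) * Nat.card {t : ↥T | δT t = t⁻¹}) :=
            Nat.mul_le_mul hidx hcount
        _ ≤ 3 * (Nat.card (fixedSub (δ : S →* S)) * 3) :=
            Nat.mul_le_mul_left _ (Nat.mul_le_mul hC hI3)
        _ = Nat.card (fixedSub (δ : S →* S)) * 9 := by ring
    exact Nat.le_of_mul_le_mul_left hfin hCpos

end key

/-! ### the same inside an ambient group -/

section ambient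

variable {K : Type*} [Group K] [Finite K]

/-- (LA2) the same inside an ambient group -/
theorem card_Inv_le_nine {P : Subgroup K} {d : K} (hS : Setup P d)
    (hcomm : ∀ s ∈ Inv P d, ∀ t ∈ Inv P d, s * t = t * s → s = 1 ∨ t ∈ Subgroup.zpowers s)
    (hZ : ∀ z ∈ P, ∀ z' ∈ P, (∀ x ∈ P, x * z = z * x) → (∀ x ∈ P, x * z' = z' * x) →
      z ^ 3 = 1 → z' ^ 3 = 1 → z = 1 ∨ z' ∈ Subgroup.zpowers z) :
    Nat.card (Inv P d) ≤ 9 := by
  classical
  haveI := hS.normal
  have hdinv : d⁻¹ = d := inv_eq_of_mul_eq_one_right hS.dd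
  set δ : ↥P ≃* ↥P := MulAut.conjNormal d with hδdef
  have hδval : ∀ s : ↥P, ((δ s : ↥P) : K) = d * (s : K) * d := by
    intro s
    rw [hδdef, MulAut.conjNormal_apply, hdinv]
  have hδ : ∀ s, δ (δ s) = s := by
    intro s
    apply Subtype.ext
    rw [hδval, hδval]
    calc d * (d * (s : K) * d) * d = (d * d) * (s : K) * (d * d) := by group
      _ = (s : K) := by rw [hS.dd, one_mul, mul_one]
  have hIiff : ∀ s : ↥P, δ s = s⁻¹ ↔ (s : K) ∈ Inv P d := by
    intro s
    rw [mem_Inv]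
    constructor
    · intro h
      refine ⟨s.2, ?_⟩
      have := congrArg Subtype.val h
      rw [hδval] at this
      exact this
    · rintro ⟨-, h⟩
      apply Subtype.ext
      rw [hδval]
      exact h
  -- transfer of the hypotheses
  have hgen : Subgroup.closure {s : ↥P | δ s = s⁻¹} = ⊤ := by
    apply Subgroup.map_injective P.subtype_injective
    rw [MonoidHom.map_closure, ← MonoidHom.range_eq_map, Subgroup.range_subtype]
    have himg : (P.subtype '' {s : ↥P | δ s = s⁻¹}) = Inv P d := by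
      ext x
      constructor
      · rintro ⟨s, hs, rfl⟩
        exact (hIiff s).1 hs
      · intro hx
        exact ⟨⟨x, hx.1⟩, (hIiff ⟨x, hx.1⟩).2 hx, rfl⟩
    rw [himg, hS.gen]
  have h3 : ∀ s : ↥P, δ s = s⁻¹ → s ^ 3 = 1 := by
    intro s hs
    apply Subtype.ext
    rw [Subgroup.coe_pow, Subgroup.coe_one]
    exact hS.pow_three ((hIiff s).1 hs)
  have hzpow : ∀ s t : ↥P, (t : K) ∈ Subgroup.zpowers (s : K) → t ∈ Subgroup.zpowers s := by
    intro s t h
    obtain ⟨n, hn⟩ := Subgroup.mem_zpowers_iff.1 h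
    rw [Subgroup.mem_zpowers_iff]
    refine ⟨n, Subtype.ext ?_⟩
    rw [Subgroup.coe_zpow]
    exact hn
  have hcomm' : ∀ s t : ↥P, δ s = s⁻¹ → δ t = t⁻¹ → s * t = t * s →
      s = 1 ∨ t ∈ Subgroup.zpowers s := by
    intro s t hs ht hst
    have hst' : (s : K) * (t : K) = (t : K) * (s : K) := by
      have := congrArg Subtype.val hst
      rw [Subgroup.coe_mul, Subgroup.coe_mul] at this
      exact this
    rcases hcomm (s : K) ((hIiff s).1 hs) (t : K) ((hIiff t).1 ht) hst' with h | h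
    · left
      exact Subtype.ext h
    · right
      exact hzpow s t h
  have hcent : ∀ z : ↥P, z ∈ Subgroup.center ↥P → ∀ x ∈ P, x * (z : K) = (z : K) * x := by
    intro z hz x hx
    have := Subgroup.mem_center_iff.1 hz ⟨x, hx⟩
    have h2 := congrArg Subtype.val this
    rw [Subgroup.coe_mul, Subgroup.coe_mul] at h2
    exact h2
  have hZ' : ∀ z z' : ↥P, z ∈ Subgroup.center ↥P → z' ∈ Subgroup.center ↥P → z ^ 3 = 1 →
      z' ^ 3 = 1 → z = 1 ∨ z' ∈ Subgroup.zpowers z := by
    intro z z' hz hz' h h'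
    have hv : (z : K) ^ 3 = 1 := by
      have := congrArg Subtype.val h
      rw [Subgroup.coe_pow, Subgroup.coe_one] at this
      exact this
    have hv' : (z' : K) ^ 3 = 1 := by
      have := congrArg Subtype.val h'
      rw [Subgroup.coe_pow, Subgroup.coe_one] at this
      exact this
    rcases hZ (z : K) z.2 (z' : K) z'.2 (hcent z hz) (hcent z' hz') hv hv' with h1 | h1
    · left
      exact Subtype.ext h1
    · right
      exact hzpow z z' h1
  have hmain := card_inverted_le_nine hS.p3 δ hδ hgen h3 hcomm' hZ'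
  refine le_trans ?_ hmain
  refine Nat.card_le_card_of_injective
    (fun x : Inv P d => (⟨⟨(x : K), x.2.1⟩, (hIiff ⟨(x : K), x.2.1⟩).2 x.2⟩ :
      {s : ↥P | δ s = s⁻¹})) ?_
  intro a b hab
  have h := congrArg (fun y : {s : ↥P | δ s = s⁻¹} => ((y : ↥P) : K)) hab
  exact Subtype.ext h

end ambient

end Cfsg.Agent.Helper97.TT59
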