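import Mathlib
import Cfsg.Prelude.Def_PLocal
import Cfsg.Agent.Lib.Cores
import Cfsg.Agent.Helper11.ThompsonFact
import Cfsg.Agent.Helper51.GlauFamily
import Cfsg.Agent.Helper55.SolvCore
import Cfsg.Agent.Helper70.PSolvable
import Cfsg.Agent.Helper97.QuadSection
import Cfsg.Agent.S0608
import Cfsg.Agent.S0625

set_option autoImplicit false

/-!
# Thompson factorization for solvable groups (Gorenstein 8.2.11-type)
-/

namespace Cfsg.Agent.Helper97.ThompsonFactSolv

open Cfsg.Agent.Helper11 Cfsg.Agent.Lib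
open scoped commutatorElement

variable {G : Type*} [Group G]

/-- `W = ⟨Ω₁Z(S) : S ∈ Syl_p(G)⟩` -/
abbrev WW (p : ℕ) (G : Type*) [Group G] : Subgroup G :=
  ⨆ S : Sylow p G, omegaZ p (S : Subgroup G)

instance (p : ℕ) : (WW p G).Normal := iSup_omegaZ_normal

theorem omegaZ_le_WW (p : ℕ) (S : Sylow p G) : omegaZ p (S : Subgroup G) ≤ WW p G :=
  le_iSup (fun S : Sylow p G => omegaZ p (S : Subgroup G)) S

/-- `O_p(G / C_G(W)) = 1`. -/
theorem pCore_quot_centralizer_WW [Finite G] {p : ℕ} [Fact p.Prime] :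
    Cfsg.pCore p (G ⧸ Subgroup.centralizer (WW p G : Set G)) = ⊥ := by
  set C := Subgroup.centralizer (WW p G : Set G) with hC
  rw [eq_bot_iff]
  intro y hy
  obtain ⟨y, rfl⟩ := QuotientGroup.mk_surjective y
  rw [Subgroup.mem_bot, QuotientGroup.eq_one_iff]
  -- `y` commutes with every generator of `W`
  have hle : WW p G ≤ Subgroup.centralizer ({y} : Set G) := by
    apply iSup_le
    intro S
    unfold omegaZ Cfsg.omegaOne
    rw [Subgroup.closure_le]
    rintro x ⟨hx, hxp⟩
    have hxW : x ∈ WW p G := omegaZ_le_WW p S (Subgroup.subset_closure ⟨hx, hxp⟩)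
    rw [Subgroup.mem_inf] at hx
    -- the image of `S` is a Sylow subgroup of the quotient
    have hsurj : Function.Surjective (QuotientGroup.mk' C) := QuotientGroup.mk'_surjective C
    have hyS : (QuotientGroup.mk' C y) ∈ ((S.mapSurjective hsurj : Sylow p (G ⧸ C)) :
        Subgroup (G ⧸ C)) := pCore_le_sylow _ hy
    rw [Sylow.coe_mapSurjective] at hyS
    obtain ⟨s, hs, hsy⟩ := hyS
    have hc : s⁻¹ * y ∈ C := by
      rw [← QuotientGroup.eq]
      exact hsy
    rw [SetLike.mem_coe, Subgroup.mem_centralizer_iff]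
    intro z hz
    rw [Set.mem_singleton_iff] at hz
    subst hz
    have h1 : s * x = x * s := Subgroup.mem_centralizer_iff.1 hx.2 s hs
    have h2 : x * (s⁻¹ * z) = (s⁻¹ * z) * x := Subgroup.mem_centralizer_iff.1 hc x hxW
    calc z * x = s * ((s⁻¹ * z) * x) := by group
      _ = s * (x * (s⁻¹ * z)) := by rw [h2]
      _ = (s * x) * (s⁻¹ * z) := by group
      _ = (x * s) * (s⁻¹ * z) := by rw [h1]
      _ = x * z := by group
  rw [Subgroup.mem_centralizer_iff]
  intro w hw
  have := Subgroup.mem_centralizer_iff.1 (hle hw) y rfl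
  exact this.symm

section solvable

variable [Finite G] {p : ℕ} [Fact p.Prime] [Group.IsSolvable G]

/-- `W ≤ Z(O_p(G))` and `W` has exponent `p` (solvable, trivial `p'`-core). -/
theorem WW_facts (hO : Cfsg.pPrimeCore p G = ⊥) :
    (∀ u ∈ WW p G, ∀ v ∈ WW p G, u * v = v * u) ∧ (∀ v ∈ WW p G, v ^ p = 1) ∧
      WW p G ≤ Cfsg.pCore p G := by
  have hHH := Cfsg.Agent.Helper55.centralizer_pCore_le (G := G) p hO
  -- the subgroup of elements of order dividing `p` in `Z(O_p(G))`
  let E : Subgroup G :=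
    { carrier := {x | (x ∈ Cfsg.pCore p G ∧ x ∈ Subgroup.centralizer (Cfsg.pCore p G : Set G)) ∧
        x ^ p = 1}
      one_mem' := ⟨⟨one_mem _, one_mem _⟩, one_pow _⟩
      mul_mem' := by
        rintro x y ⟨⟨hx1, hx2⟩, hx3⟩ ⟨⟨hy1, hy2⟩, hy3⟩
        refine ⟨⟨mul_mem hx1 hy1, mul_mem hx2 hy2⟩, ?_⟩
        have hc : Commute x y := (Subgroup.mem_centralizer_iff.1 hy2 x hx1)
        rw [hc.mul_pow, hx3, hy3, one_mul]
      inv_mem' := by
        rintro x ⟨⟨hx1, hx2⟩, hx3⟩
        exact ⟨⟨inv_mem hx1, inv_mem hx2⟩, by rw [inv_pow, hx3, inv_one]⟩ }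
  have hWE : WW p G ≤ E := by
    apply iSup_le
    intro S
    unfold omegaZ Cfsg.omegaOne
    rw [Subgroup.closure_le]
    rintro x ⟨hx, hxp⟩
    rw [Subgroup.mem_inf] at hx
    have hxc : x ∈ Subgroup.centralizer (Cfsg.pCore p G : Set G) :=
      Subgroup.centralizer_le (pCore_le_sylow S) hx.2
    exact ⟨⟨hHH hxc, hxc⟩, hxp⟩
  refine ⟨fun u hu v hv => ?_, fun v hv => (hWE hv).2, fun v hv => (hWE hv).1.1⟩
  exact Subgroup.mem_centralizer_iff.1 (hWE hv).1.2 u (hWE hu).1.1

/-- the action of `G` on `W` is `p`-stable -/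
theorem isPStableOn_WW (hp : p ≠ 2) (h3 : p = 3 → ∀ T : Sylow 2 G, IsMulCommutative T)
    (hO : Cfsg.pPrimeCore p G = ⊥) : Cfsg.IsPStableOn p (WW p G) := by
  obtain ⟨hab, hexp, -⟩ := WW_facts (p := p) hO
  by_cases hp3 : p = 3
  · exact Cfsg.Agent.Helper97.QuadSection.isPStableOn_of_comm_sylow_two hp default
      (h3 hp3 default) (WW p G) hab hexp
  · have hpp : p.Prime := Fact.out
    have hp5 : 5 ≤ p := by
      have h2 := hpp.two_le
      rcases Nat.lt_or_ge p 5 with h | h
      · interval_cases p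
        · exact absurd rfl hp
        · exact absurd rfl hp3
        · exact absurd hpp (by decide)
      · exact h
    exact Cfsg.Agent.S0625.isPStableOn_of_isPSolvable hp5
      (Cfsg.Agent.Helper70.isPSolvable_of_isSolvable p) (WW p G) hab hexp

end solvable

section main

variable [Finite G] {p : ℕ} [Fact p.Prime] [Group.IsSolvable G]

/-- `J(G)` centralizes `W`. -/
theorem thompsonSubgroup_le_centralizer_WW (hp : p ≠ 2)
    (h3 : p = 3 → ∀ T : Sylow 2 G, IsMulCommutative T) (hO : Cfsg.pPrimeCore p G = ⊥) :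
    Cfsg.thompsonSubgroup p G ≤ Subgroup.centralizer (WW p G : Set G) := by
  obtain ⟨hWab, hWexp, hWle⟩ := WW_facts (p := p) hO
  have hst := isPStableOn_WW hp h3 hO
  have hcore := pCore_quot_centralizer_WW (G := G) (p := p)
  unfold Cfsg.thompsonSubgroup
  apply sSup_le
  intro A hA
  by_contra hnot
  have hAe := hA.1
  have hAp : IsPGroup p A := isElementaryAbelian_isPGroup hAe
  obtain ⟨S, hAS⟩ := hAp.exists_le_sylow
  have hWS : WW p G ≤ (S : Subgroup G) := hWle.trans (pCore_le_sylow S)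
  -- the replacement family
  let F : Set (Subgroup (S : Subgroup G)) :=
    {X | X.map (S : Subgroup G).subtype ∈ Cfsg.maxElementaryAbelianSubgroups p G}
  let B : Subgroup (S : Subgroup G) := (WW p G).subgroupOf S
  have hBn : B.Normal := Subgroup.normal_subgroupOf
  have hinj : Function.Injective (S : Subgroup G).subtype := Subgroup.subtype_injective _
  have hF : ∀ X ∈ F, IsMulCommutative X ∧ X ≤ (⊤ : Subgroup (S : Subgroup G)) := by
    intro X hX
    refine ⟨⟨⟨fun x y => ?_⟩⟩, le_top⟩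
    have hc := hX.1.1
    have := hc.is_comm.comm ⟨(x : (S : Subgroup G)), Subgroup.mem_map_of_mem _ x.2⟩
      ⟨(y : (S : Subgroup G)), Subgroup.mem_map_of_mem _ y.2⟩
    apply Subtype.ext
    apply Subtype.ext
    have h2 := congrArg Subtype.val this
    simpa using h2
  have hrep : ∀ X ∈ F, ∀ X' : Subgroup (S : Subgroup G), X' ≤ ⊤ → IsMulCommutative X' →
      Nat.card X' = Nat.card X → Monoid.exponent X' ∣ Monoid.exponent X → X' ∈ F := by
    intro X hX X' _ hX'c hcard hexp
    have hXp : ∀ a : X, a ^ p = 1 := by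
      intro a
      have := hX.1.2 _ (Subgroup.mem_map_of_mem (S : Subgroup G).subtype a.2)
      apply Subtype.ext
      apply Subtype.ext
      simpa using this
    have hexpX : Monoid.exponent X ∣ p := Monoid.exponent_dvd_of_forall_pow_eq_one hXp
    have hX'p : ∀ a : X', a ^ p = 1 :=
      Monoid.exponent_dvd_iff_forall_pow_eq_one.1 (hexp.trans hexpX)
    refine ⟨⟨Subgroup.map_isMulCommutative _ _, ?_⟩, ?_⟩
    · rintro _ ⟨a, ha, rfl⟩
      have := hX'p ⟨a, ha⟩
      have h2 := congrArg (fun z : X' => ((z : (S : Subgroup G)) : G)) this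
      simpa using h2
    · intro C hC
      rw [Subgroup.card_map_of_injective hinj, hcard, ← Subgroup.card_map_of_injective hinj]
      exact hX.2 C hC
  have hBcomm : ⁅B, B⁆ = ⊥ := by
    rw [eq_bot_iff, Subgroup.commutator_le]
    intro u hu v hv
    rw [Subgroup.mem_bot, commutatorElement_eq_one_iff_commute]
    apply Subtype.ext
    exact hWab u (Subgroup.mem_subgroupOf.1 hu) v (Subgroup.mem_subgroupOf.1 hv)
  have hU : ∃ U ∈ F, ⁅B, B⁆ ≤ U ∧ ¬ B ≤ U := by
    refine ⟨A.subgroupOf S, ?_, by rw [hBcomm]; exact bot_le, ?_⟩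
    · have : (A.subgroupOf S).map (S : Subgroup G).subtype ∈
          Cfsg.maxElementaryAbelianSubgroups p G := by
        rw [Subgroup.subgroupOf_map_subtype, inf_eq_left.2 hAS]
        exact hA
      exact this
    · intro hBU
      apply hnot
      have hWA : WW p G ≤ A := by
        intro w hw
        have : (⟨w, hWS hw⟩ : (S : Subgroup G)) ∈ A.subgroupOf S :=
          hBU (Subgroup.mem_subgroupOf.2 hw)
        exact Subgroup.mem_subgroupOf.1 this
      intro a ha
      rw [Subgroup.mem_centralizer_iff]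
      intro w hw
      have := hAe.1.is_comm.comm ⟨w, hWA hw⟩ ⟨a, ha⟩
      exact congrArg Subtype.val this
  obtain ⟨A', hA'F, -, hnBA', hBN⟩ :=
    Cfsg.Agent.Helper51.replacement_family S.isPGroup' hp ⊤ F hF hrep B hU
  set A'' : Subgroup G := A'.map (S : Subgroup G).subtype with hA''
  have hA''m : A'' ∈ Cfsg.maxElementaryAbelianSubgroups p G := hA'F
  have hA''S : A'' ≤ (S : Subgroup G) := Subgroup.map_subtype_le _
  have hA''c : ∀ x ∈ A'', ∀ y ∈ A'', x * y = y * x := by
    intro x hx y hy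
    have := hA''m.1.1.is_comm.comm ⟨x, hx⟩ ⟨y, hy⟩
    exact congrArg Subtype.val this
  -- `W` normalizes `A''`
  have hconj : ∀ w ∈ WW p G, ∀ a ∈ A'', w * a * w⁻¹ ∈ A'' := by
    intro w hw a ha
    obtain ⟨x, hx, rfl⟩ := ha
    have hwB : (⟨w, hWS hw⟩ : (S : Subgroup G)) ∈ B := Subgroup.mem_subgroupOf.2 hw
    have := (Subgroup.mem_normalizer_iff.1 (hBN hwB) x).1 hx
    exact ⟨_, this, rfl⟩
  -- every element of `A''` acts quadratically on `W`, hence centralizes it
  have hA''C : A'' ≤ Subgroup.centralizer (WW p G : Set G) := by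
    intro a ha
    have h1 : ⁅WW p G, Subgroup.zpowers a⁆ ≤ A'' := by
      rw [Subgroup.commutator_le]
      intro w hw z hz
      have hzA : z ∈ A'' := (Subgroup.zpowers_le.2 ha) hz
      rw [commutatorElement_def]
      exact mul_mem (hconj w hw z hzA) (inv_mem hzA)
    have h2 : ⁅⁅WW p G, Subgroup.zpowers a⁆, Subgroup.zpowers a⁆ = ⊥ := by
      rw [eq_bot_iff]
      refine (Subgroup.commutator_mono h1 (Subgroup.zpowers_le.2 ha)).trans ?_
      rw [Subgroup.commutator_le]
      intro x hx y hy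
      rw [Subgroup.mem_bot, commutatorElement_eq_one_iff_commute]
      exact hA''c x hx y hy
    have h3' := hst a h2
    rw [hcore, Subgroup.mem_bot, QuotientGroup.eq_one_iff] at h3'
    exact h3'
  -- `W ⊔ A''` is elementary abelian
  have hcomm : ∀ w ∈ WW p G, ∀ a ∈ A'', w * a = a * w := by
    intro w hw a ha
    exact (Subgroup.mem_centralizer_iff.1 (hA''C ha) w hw)
  have hsup : Cfsg.IsElementaryAbelian p (WW p G ⊔ A'') := by
    have hmem : ∀ z ∈ WW p G ⊔ A'', ∃ w ∈ WW p G, ∃ a ∈ A'', z = w * a := by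
      intro z hz
      rw [Subgroup.mem_sup_of_normal_left] at hz
      obtain ⟨w, hw, a, ha, rfl⟩ := hz
      exact ⟨w, hw, a, ha, rfl⟩
    refine ⟨⟨⟨fun x y => ?_⟩⟩, fun z hz => ?_⟩
    · obtain ⟨w, hw, a, ha, hx⟩ := hmem x x.2
      obtain ⟨w', hw', a', ha', hy⟩ := hmem y y.2
      apply Subtype.ext
      show (x : G) * y = y * x
      rw [hx, hy]
      calc w * a * (w' * a') = w * (a * w') * a' := by group
        _ = w * (w' * a) * a' := by rw [hcomm w' hw' a ha]
        _ = (w * w') * (a * a') := by group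
        _ = (w' * w) * (a' * a) := by rw [hWab w hw w' hw', hA''c a ha a' ha']
        _ = w' * (w * a') * a := by group
        _ = w' * (a' * w) * a := by rw [hcomm w hw a' ha']
        _ = w' * a' * (w * a) := by group
    · obtain ⟨w, hw, a, ha, rfl⟩ := hmem z hz
      have hc : Commute w a := hcomm w hw a ha
      rw [hc.mul_pow, hWexp w hw, hA''m.1.2 a ha, one_mul]
  have hcard := hA''m.2 _ hsup
  have heq : A'' = WW p G ⊔ A'' :=
    Subgroup.eq_of_le_of_card_ge le_sup_right hcard
  have hWA'' : WW p G ≤ A'' := by rw [heq]; exact le_sup_left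
  apply hnBA'
  intro b hb
  have hbW : (b : G) ∈ WW p G := Subgroup.mem_subgroupOf.1 hb
  obtain ⟨x, hx, hxb⟩ := hWA'' hbW
  have : x = b := hinj hxb
  rw [← this]; exact hx

end main

end Cfsg.Agent.Helper97.ThompsonFactSolv
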