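import Mathlib
import Cfsg.Agent.Helper44.CT.Defs
import Cfsg.Agent.Helper5.SLn
import Cfsg.Agent.Helper97.CT_W1

/-!
# S3351 (helper44's farm #15082), leaf (A2) `range_phi_le` (helper97)
-/

set_option autoImplicit false

namespace Cfsg.Agent.Helper97.CT

open Cfsg.Agent.Helper44.CT Cfsg.Agent.Helper96.StN Cfsg.Agent.Helper34.StNF Matrix
open scoped commutatorElement

universe u v

variable {F : Type u} [Field F] {G : Type v} [Group G]

/-- (A2) -/
theorem range_phi_le (φ : ℕ → SL2 F →* G) {n : ℕ} (ρ : SpecialLinearGroup (Fin (n + 1)) F →* G)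
    (hρ : ∀ (i j : Fin (n + 1)) (h : i ≠ j) (t : F),
      ρ (SpecialLinearGroup.transvection h t) = XX φ i j t) {k : ℕ} (hk : k < n) :
    (φ k).range ≤ ρ.range := by
  rw [MonoidHom.range_eq_map, ← Cfsg.Agent.Helper5.closure_transvection_eq_top (ι := Fin 2) (F := F),
    MonoidHom.map_closure, Subgroup.closure_le]
  rintro _ ⟨M, ⟨i, j, hij, a, rfl⟩, rfl⟩
  have hk0 : k < n + 1 := by omega
  have hk1 : k + 1 < n + 1 := by omega
  have hne : (⟨k, hk0⟩ : Fin (n + 1)) ≠ ⟨k + 1, hk1⟩ := by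
    intro h
    have := congrArg Fin.val h
    simp at this
  have hcases : (i = 0 ∧ j = 1) ∨ (i = 1 ∧ j = 0) := by
    fin_cases i <;> fin_cases j <;> simp at hij ⊢
  rcases hcases with ⟨rfl, rfl⟩ | ⟨rfl, rfl⟩
  · refine ⟨SpecialLinearGroup.transvection hne a, ?_⟩
    rw [hρ]
    change XX φ k (k + 1) a = _
    rw [XX_node_up', TX_of_ne hij]
  · refine ⟨SpecialLinearGroup.transvection hne.symm a, ?_⟩
    rw [hρ]
    change XX φ (k + 1) k a = _
    rw [XX_node_dn', TX_of_ne hij]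

end Cfsg.Agent.Helper97.CT
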