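import Mathlib
import Cfsg.Agent.Helper44.CT.Defs
import Cfsg.Agent.Helper97.CT_P6b

/-!
# S3351 (helper44's farm #15082), leaf (NA) `exists_not_commute` (helper97)
-/

set_option autoImplicit false

namespace Cfsg.Agent.Helper97.CT

open Cfsg.Agent.Helper44.CT Cfsg.Agent.Helper96.StN Cfsg.Agent.Helper34.StNF
open scoped commutatorElement

universe u v

variable {F : Type u} [Field F] {G : Type v} [Group G]

/-- (NA) -/
theorem exists_not_commute (L : Subgroup G) (e : SL2 F ≃* L) : ∃ a b : G, a * b ≠ b * a := by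
  refine ⟨(e (TX 2 F 0 1 1) : G), (e (TX 2 F 1 0 1) : G), ?_⟩
  intro h
  have h1 : e (TX 2 F 0 1 1) * e (TX 2 F 1 0 1) = e (TX 2 F 1 0 1) * e (TX 2 F 0 1 1) :=
    Subtype.ext h
  rw [← map_mul, ← map_mul] at h1
  have h2 := TX01_TX10_comm (e.injective h1)
  rw [mul_one] at h2
  exact one_ne_zero h2

end Cfsg.Agent.Helper97.CT
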