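import Mathlib

/-!
helper97: the centralizer of a normal section `U / V`, as a subgroup of the ambient group.
-/

set_option autoImplicit false

namespace Cfsg.Agent.Helper97

variable {G : Type*} [Group G]

/-- `{g | ∀ u ∈ U, g u g⁻¹ u⁻¹ ∈ V}`: the centralizer in `G` of the section `U / V`
(`V` normal in `G`). -/
def centMod (U V : Subgroup G) [hV : V.Normal] : Subgroup G where
  carrier := {g | ∀ u ∈ U, g * u * g⁻¹ * u⁻¹ ∈ V}
  one_mem' := fun u _ => by simp
  mul_mem' := by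
    intro a b ha hb u hu
    have h1 := hV.conj_mem _ (hb u hu) a
    have h2 := ha u hu
    have : a * b * u * (a * b)⁻¹ * u⁻¹ =
        (a * (b * u * b⁻¹ * u⁻¹) * a⁻¹) * (a * u * a⁻¹ * u⁻¹) := by group
    rw [this]
    exact V.mul_mem h1 h2
  inv_mem' := by
    intro a ha u hu
    have h1 := hV.conj_mem _ (V.inv_mem (ha u hu)) a⁻¹
    have : a⁻¹ * u * a⁻¹⁻¹ * u⁻¹ = a⁻¹ * (a * u * a⁻¹ * u⁻¹)⁻¹ * a⁻¹⁻¹ := by group
    rw [this]
    exact h1

theorem mem_centMod {U V : Subgroup G} [V.Normal] {g : G} :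
    g ∈ centMod U V ↔ ∀ u ∈ U, g * u * g⁻¹ * u⁻¹ ∈ V := Iff.rfl

instance centMod_normal (U V : Subgroup G) [hU : U.Normal] [hV : V.Normal] :
    (centMod U V).Normal := by
  constructor
  intro a ha k u hu
  have hu' : k⁻¹ * u * k ∈ U := by
    have := hU.conj_mem u hu k⁻¹
    simpa using this
  have h1 := hV.conj_mem _ (ha _ hu') k
  have : k * a * k⁻¹ * u * (k * a * k⁻¹)⁻¹ * u⁻¹ =
      k * (a * (k⁻¹ * u * k) * a⁻¹ * (k⁻¹ * u * k)⁻¹) * k⁻¹ := by group
  rw [this]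
  exact h1

end Cfsg.Agent.Helper97
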