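import Cfsg.Agent.Helper33.LocalGlobal
import Cfsg.Agent.Helper53.NormalComplement

/-!
# A centric local-global theorem for conjugacy functors (helper97)

Refinement of `Cfsg.Agent.Helper33.controlsStrongFusion_of_local`: if the conjugacy functor `W` satisfies
`Z(S) ≤ W X` whenever `Z(S) ≤ X ≤ S`, then to prove that `N_G(W S)` controls strong fusion in the Sylow
`p`-subgroup `S` it is enough to know that `W` controls strong fusion in `N_G(T)` for the well-placed
subgroups `T` of `S` that CONTAIN `Z(S)`. Subgroups `R` not containing `Z(S)` are handled by the Frattini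
argument `N_G(R) = C_G(R) N_{N_G(R)}(C_S(R))`, which pushes the problem up to `R C_S(R) > R`.
-/

set_option autoImplicit false

namespace Cfsg.Agent.Helper97.CLG

open Cfsg.Agent.Helper33 Subgroup

variable {G : Type*} [Group G]

local notation:max H "⟪" g "⟫" => Subgroup.map (MulEquiv.toMonoidHom (MulAut.conj g)) H

theorem Ctl.mono {M : Subgroup G} {A B : Set G} {g : G} (h : Ctl M B g) (hAB : A ⊆ B) : Ctl M A g := by
  obtain ⟨c, hc, n, hn, rfl⟩ := h
  exact ⟨c, Subgroup.centralizer_le hAB hc, n, hn, rfl⟩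

theorem Ctl.mul {M : Subgroup G} {A : Set G} {g h : G} (h1 : Ctl M A g) (h2 : Ctl M (conjR g A) h) :
    Ctl M A (g * h) := by
  obtain ⟨c, hc, n, hn, rfl⟩ := h1
  obtain ⟨c', hc', n', hn', rfl⟩ := h2
  refine ⟨(c * n) * c' * (c * n)⁻¹ * c, ?_, n * n', M.mul_mem hn hn', by group⟩
  apply Subgroup.mul_mem _ _ hc
  rw [Subgroup.mem_centralizer_iff]
  intro a ha
  have h1 : (c * n)⁻¹ * a * (c * n) ∈ conjR (c * n) A := ⟨a, ha, rfl⟩
  have h2 := Subgroup.mem_centralizer_iff.mp hc' _ h1
  calc a * ((c * n) * c' * (c * n)⁻¹) = (c * n) * (((c * n)⁻¹ * a * (c * n)) * c') * (c * n)⁻¹ := by group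
    _ = (c * n) * (c' * ((c * n)⁻¹ * a * (c * n))) * (c * n)⁻¹ := by rw [h2]
    _ = _ := by group

theorem Ctl.inv {M : Subgroup G} {A : Set G} {g : G} (h : Ctl M A g) : Ctl M (conjR g A) g⁻¹ := by
  obtain ⟨c, hc, n, hn, rfl⟩ := h
  refine ⟨n⁻¹ * c⁻¹ * n, ?_, n⁻¹, M.inv_mem hn, by group⟩
  rw [Subgroup.mem_centralizer_iff]
  rintro _ ⟨a, ha, rfl⟩
  have h1 : Commute a c := Subgroup.mem_centralizer_iff.mp hc a ha
  have h2 : a * c⁻¹ = c⁻¹ * a := h1.inv_right
  have h3 : c⁻¹ * a * c = a := by rw [← h2, mul_assoc, inv_mul_cancel, mul_one]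
  calc (c * n)⁻¹ * a * (c * n) * (n⁻¹ * c⁻¹ * n) = n⁻¹ * (c⁻¹ * a) * n := by group
    _ = n⁻¹ * (c⁻¹ * (c⁻¹ * a * c)) * n := by rw [h3]
    _ = n⁻¹ * c⁻¹ * n * ((c * n)⁻¹ * a * (c * n)) := by group

theorem Ctl.of_mem_centralizer_mul {M : Subgroup G} {A : Set G} {c g : G}
    (hc : c ∈ Subgroup.centralizer A) (h : Ctl M A g) : Ctl M A (c * g) := by
  obtain ⟨c', hc', n, hn, rfl⟩ := h
  exact ⟨c * c', Subgroup.mul_mem _ hc hc', n, hn, by group⟩

theorem card_map_conj [Finite G] (H : Subgroup G) (g : G) : Nat.card (H⟪g⟫) = Nat.card H :=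
  Subgroup.card_map_of_injective (MulAut.conj g).injective

theorem map_conj_mul (A : Subgroup G) (a b : G) : A⟪a * b⟫ = (A⟪b⟫)⟪a⟫ :=
  (map_conj_map_conj A b a).symm

theorem map_conj_eq_of_le [Finite G] {H : Subgroup G} {g : G} (h : H⟪g⟫ ≤ H) : H⟪g⟫ = H :=
  Subgroup.eq_of_le_of_card_ge h (card_map_conj H g).ge

section

variable {p : ℕ} {W : Subgroup G → Subgroup G} (hW : Cfsg.IsConjugacyFunctor p W)
variable (S : Sylow p G)

/-- The centre of `S`, as a subgroup of `G`. -/
abbrev ZS : Subgroup G := (S : Subgroup G) ⊓ Subgroup.centralizer ((S : Subgroup G) : Set G)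

include hW

theorem Z_le_tower
    (hZW : ∀ X : Subgroup G, X ≤ (S : Subgroup G) → ZS S ≤ X → ZS S ≤ W X)
    {T : Subgroup G} (hTS : T ≤ (S : Subgroup G)) (hZT : ZS S ≤ T) (i : ℕ) :
    ZS S ≤ Cfsg.functorTower W (S : Subgroup G) T i := by
  cases i with
  | zero => exact hZT
  | succ i =>
    rw [functorTower_succ]
    apply hZW _ inf_le_left
    refine le_inf inf_le_left ?_
    refine le_trans inf_le_right ?_
    refine le_trans ?_ (Subgroup.centralizer_le_normalizer _)
    exact Subgroup.centralizer_le (tower_le hW S hTS i)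

variable [Fact p.Prime] [Finite G]

/-- Elements of the normalizer of a well-placed subgroup containing `Z(S)` are controlled by `N(W S)`. -/
theorem ctl_of_wellPlaced_above
    (hZW : ∀ X : Subgroup G, X ≤ (S : Subgroup G) → ZS S ≤ X → ZS S ≤ W X)
    (hloc : ∀ T : Subgroup G, ZS S ≤ T → Cfsg.IsWellPlaced p W (S : Subgroup G) T →
      Cfsg.ControlsStrongFusionIn p W (Subgroup.normalizer ((T : Subgroup G) : Set G)))
    {T : Subgroup G} (hT : Cfsg.IsWellPlaced p W (S : Subgroup G) T) (hZT : ZS S ≤ T) {x : G}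
    (hx : x ∈ Subgroup.normalizer (T : Set G)) {B : Set G} (hB : B ⊆ (T : Set G)) :
    Ctl (Subgroup.normalizer ((W (S : Subgroup G) : Subgroup G) : Set G)) B x := by
  have key : ∀ m : ℕ, ∃ c ∈ Subgroup.centralizer B,
      ∃ y ∈ Subgroup.normalizer ((Cfsg.functorTower W (S : Subgroup G) T m : Subgroup G) : Set G),
        x = c * y := by
    intro m
    induction m with
    | zero => exact ⟨1, Subgroup.one_mem _, x, hx, by simp⟩
    | succ m ih =>
      obtain ⟨c, hc, y, hy, rfl⟩ := ih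
      have hctl := hloc _ (Z_le_tower hW S hZW hT.1 hZT m) (isWellPlaced_tower hW S hT m)
      have hBN : B ⊆ (((S : Subgroup G) ⊓ Subgroup.normalizer
          ((Cfsg.functorTower W (S : Subgroup G) T m : Subgroup G) : Set G) : Subgroup G) : Set G) := by
        intro b hb
        exact (le_trans (le_nm_zero W hT.1) (nm_mono hW S T (Nat.zero_le m))) (hB hb)
      have hyB : conjR y B ⊆ (((S : Subgroup G) ⊓ Subgroup.normalizer
          ((Cfsg.functorTower W (S : Subgroup G) T m : Subgroup G) : Set G) : Subgroup G) : Set G) := by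
        have h1 : conjR (c * y) B = conjR y B := by
          rw [conjR_mul, conjR_eq_of_mem_centralizer hc]
        rw [← h1]
        intro z hz
        have : z ∈ conjR (c * y) (T : Set G) := conjR_mono hB hz
        rw [conjR_coe_eq_of_mem_normalizer hx] at this
        exact (le_trans (le_nm_zero W hT.1) (nm_mono hW S T (Nat.zero_le m))) this
      obtain ⟨c', hc', n, hn, rfl⟩ := controlsStrongFusionIn_factor hW hctl inf_le_right
        (S.2.to_le inf_le_left) (hT.2 m) B y hy hBN hyB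
      refine ⟨c * c', Subgroup.mul_mem _ hc hc', n, ?_, by group⟩
      rw [functorTower_succ]
      exact (Subgroup.mem_inf.mp hn).2
  obtain ⟨c, hc, y, hy, rfl⟩ := key (Nat.card (S : Subgroup G) + 1)
  rw [tower_eq_functor_top hW S T (Nat.lt_succ_self _)] at hy
  exact ⟨c, hc, y, hy, rfl⟩

omit hW in
/-- Frattini argument: `N_G(R) = C_G(R) · N_{N_G(R)}(C_S(R))` when `N_S(R)` is a Sylow subgroup of `N_G(R)`. -/
theorem frattini_centralizer {R : Subgroup G}
    (hidx : ¬ p ∣ ((S : Subgroup G) ⊓ normalizer (R : Set G)).relIndex (normalizer (R : Set G)))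
    {m : G} (hm : m ∈ normalizer (R : Set G)) :
    ∃ c ∈ centralizer (R : Set G), ∃ m' ∈ normalizer (R : Set G),
      ((S : Subgroup G) ⊓ centralizer (R : Set G))⟪m'⟫ = (S : Subgroup G) ⊓ centralizer (R : Set G) ∧
        m = c * m' := by
  set N := normalizer (R : Set G) with hN
  set C := centralizer (R : Set G) with hC
  set P := (S : Subgroup G) ⊓ N with hP
  set D := (S : Subgroup G) ⊓ C with hD
  have hCN : C ≤ N := Subgroup.centralizer_le_normalizer _
  -- conjugation by elements of `N` preserves `C`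
  have hconj : ∀ n ∈ N, ∀ y ∈ C, n * y * n⁻¹ ∈ C := by
    intro n hn y hy
    rw [hC, Subgroup.mem_centralizer_iff]
    intro j hj
    have hj' : n⁻¹ * j * n ∈ R := by
      have := (Subgroup.mem_normalizer_iff.mp (Subgroup.inv_mem _ hn) j).mp hj
      simpa using this
    have h1 := (Subgroup.mem_centralizer_iff.mp hy) _ hj'
    calc j * (n * y * n⁻¹) = n * (n⁻¹ * j * n * y) * n⁻¹ := by group
      _ = n * (y * (n⁻¹ * j * n)) * n⁻¹ := by rw [h1]
      _ = n * y * n⁻¹ * j := by group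
  have hCnormal : (C.subgroupOf N).Normal := by
    refine ⟨fun y hy n => ?_⟩
    rw [Subgroup.mem_subgroupOf] at hy ⊢
    exact hconj n.1 n.2 y.1 hy
  have hPp : IsPGroup p (P.subgroupOf N) := (S.2.to_le inf_le_left).comap_subtype
  set PX : Sylow p ↥N := hPp.toSylow hidx with hPX
  have hPXc : (PX : Subgroup ↥N) = P.subgroupOf N := IsPGroup.toSylow_coe hPp hidx
  have h1 := Cfsg.Agent.Helper53.not_dvd_relIndex_sylow_of_normal PX (C.subgroupOf N)
  rw [hPXc, Subgroup.relIndex_subgroupOf hCN, ← Subgroup.inf_relIndex_right] at h1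
  have hPC : P ⊓ C = D := by
    rw [hP, hD, inf_assoc, inf_eq_right.mpr hCN]
  rw [hPC] at h1
  -- the conjugate `D⟪m⟫` is a `p`-subgroup of `C`
  have hD1C : D⟪m⟫ ≤ C := by
    rintro _ ⟨y, hy, rfl⟩
    exact hconj m hm y hy.2
  have hDp : IsPGroup p D := S.2.to_le inf_le_left
  have hD1p : IsPGroup p (D⟪m⟫) := hDp.map _
  obtain ⟨c₀, hc₀, hc₀D⟩ := exists_conj_le_of_not_dvd_relIndex (inf_le_right : D ≤ C) hDp h1 hD1C hD1p
  refine ⟨c₀⁻¹, Subgroup.inv_mem _ hc₀, c₀ * m, Subgroup.mul_mem _ (hCN hc₀) hm, ?_, by group⟩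
  apply map_conj_eq_of_le
  rw [← map_conj_map_conj]
  rintro _ ⟨y, hy, rfl⟩
  exact hc₀D y hy

/-- The main induction. -/
theorem ctl_of_local_above_aux
    (hZW : ∀ X : Subgroup G, X ≤ (S : Subgroup G) → ZS S ≤ X → ZS S ≤ W X)
    (hloc : ∀ T : Subgroup G, ZS S ≤ T → Cfsg.IsWellPlaced p W (S : Subgroup G) T →
      Cfsg.ControlsStrongFusionIn p W (Subgroup.normalizer ((T : Subgroup G) : Set G))) :
    ∀ (k : ℕ) (Q : Subgroup G), Q ≤ (S : Subgroup G) → Nat.card (S : Subgroup G) ≤ Nat.card Q + k →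
      ∀ g : G, conjR g (Q : Set G) ⊆ ((S : Subgroup G) : Set G) →
        Ctl (normalizer ((W (S : Subgroup G) : Subgroup G) : Set G)) (Q : Set G) g := by
  -- the case `Q = S`
  have htop : ∀ g : G, conjR g ((S : Subgroup G) : Set G) ⊆ ((S : Subgroup G) : Set G) →
      Ctl (normalizer ((W (S : Subgroup G) : Subgroup G) : Set G)) ((S : Subgroup G) : Set G) g := by
    intro g hg
    rw [← coe_map_conj_inv] at hg
    have h1 : (S : Subgroup G)⟪g⁻¹⟫ = S := map_conj_eq_of_le hg
    have h2 : g⁻¹ ∈ normalizer ((S : Subgroup G) : Set G) := Subgroup.mem_normalizer_iff_map_conj_eq.mpr h1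
    have h3 : g ∈ normalizer ((S : Subgroup G) : Set G) := by simpa using Subgroup.inv_mem _ h2
    exact ⟨1, Subgroup.one_mem _, g, normalizer_le_normalizer_functor hW S.2 h3, by simp⟩
  intro k
  induction k with
  | zero =>
    intro Q hQS hcard g hg
    have : Q = S := Subgroup.eq_of_le_of_card_ge hQS (by simpa using hcard)
    subst this
    exact htop g hg
  | succ k ih =>
    intro Q hQS hcard g hg
    by_cases hQ : Q = S
    · subst hQ; exact htop g hg
    set NW := normalizer ((W (S : Subgroup G) : Subgroup G) : Set G) with hNW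
    -- bigger subgroups are controlled
    have hbig : ∀ Q₂ : Subgroup G, Q₂ ≤ (S : Subgroup G) → Nat.card Q < Nat.card Q₂ →
        ∀ g : G, conjR g (Q₂ : Set G) ⊆ ((S : Subgroup G) : Set G) → Ctl NW (Q₂ : Set G) g := by
      intro Q₂ hQ₂S hlt g hg
      exact ih Q₂ hQ₂S (by omega) g hg
    -- normalizers grow
    have hgrow : ∀ Q₁ : Subgroup G, Q₁ ≤ (S : Subgroup G) → Nat.card Q₁ = Nat.card Q →
        Nat.card Q < Nat.card ((S : Subgroup G) ⊓ normalizer (Q₁ : Set G) : Subgroup G) := by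
      intro Q₁ hQ₁S hc
      have hne : Q₁ ≠ S := by
        intro h
        apply hQ
        apply Subgroup.eq_of_le_of_card_ge hQS
        rw [← hc, h]
      obtain ⟨x, hxS, hxN, hxQ⟩ := exists_mem_normalizer_not_mem S.2 hQ₁S hne
      have hlt : Q₁ < (S : Subgroup G) ⊓ normalizer (Q₁ : Set G) := by
        refine lt_of_le_of_ne (le_inf hQ₁S Subgroup.le_normalizer) ?_
        intro h
        apply hxQ
        rw [h]
        exact ⟨hxS, hxN⟩
      rw [← hc]
      exact card_lt_card_of_lt' hlt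
    -- a well-placed conjugate `R` of `Q`
    obtain ⟨h, hwp⟩ := exists_wellPlaced_conj hW S hQS
    set R := Q⟪h⟫ with hR
    have hRS : R ≤ (S : Subgroup G) := hwp.1
    have htame : ¬ p ∣ ((S : Subgroup G) ⊓ normalizer (R : Set G)).relIndex (normalizer (R : Set G)) :=
      hwp.2 0
    have hRcard : Nat.card R = Nat.card Q := card_map_conj Q h
    -- control of the normalizer of `R`
    have hNR : ∀ m ∈ normalizer (R : Set G), Ctl NW (R : Set G) m := by
      intro m hm
      by_cases hZ : ZS S ≤ R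
      · exact ctl_of_wellPlaced_above hW S hZW hloc hwp hZ hm subset_rfl
      · obtain ⟨c, hc, m', hm'N, hm'D, rfl⟩ := frattini_centralizer S htame hm
        apply Ctl.of_mem_centralizer_mul hc
        set D := (S : Subgroup G) ⊓ centralizer (R : Set G) with hD
        have hQ₂S : R ⊔ D ≤ (S : Subgroup G) := sup_le hRS inf_le_left
        have hZD : ZS S ≤ D := le_inf inf_le_left (le_trans inf_le_right (Subgroup.centralizer_le hRS))
        have hlt : R < R ⊔ D := by
          refine lt_of_le_of_ne le_sup_left ?_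
          intro h
          apply hZ
          rw [h]
          exact le_trans hZD le_sup_right
        have hRm' : R⟪m'⟫ = R := Subgroup.mem_normalizer_iff_map_conj_eq.mp hm'N
        have hnorm : (R ⊔ D)⟪m'⟫ = R ⊔ D := by
          rw [Subgroup.map_sup, hm'D, hRm']
        have hm'Q₂ : m' ∈ normalizer ((R ⊔ D : Subgroup G) : Set G) :=
          Subgroup.mem_normalizer_iff_map_conj_eq.mpr hnorm
        have hsub : conjR m' ((R ⊔ D : Subgroup G) : Set G) ⊆ ((S : Subgroup G) : Set G) := by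
          rw [conjR_coe_eq_of_mem_normalizer hm'Q₂]
          exact hQ₂S
        have := hbig (R ⊔ D) hQ₂S (by rw [← hRcard]; exact card_lt_card_of_lt' hlt) m' hsub
        exact Ctl.mono this (by exact_mod_cast (le_sup_left : R ≤ R ⊔ D))
    -- conjugating `Q` to `R`
    obtain ⟨h₁, hh₁, hh₁S⟩ := exists_conj_tame' S htame h rfl
    -- conjugating `Q' = g⁻¹ Q g` to `R`
    set Q' := Q⟪g⁻¹⟫ with hQ'
    have hQ'S : Q' ≤ (S : Subgroup G) := by
      intro y hy
      have : y ∈ ((Q⟪g⁻¹⟫ : Subgroup G) : Set G) := hy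
      rw [coe_map_conj_inv] at this
      exact hg this
    have hQ'R : Q'⟪h * g⟫ = R := by
      rw [hQ', ← map_conj_mul, hR, mul_assoc, mul_inv_cancel, mul_one]
    obtain ⟨h₂, hh₂, hh₂S⟩ := exists_conj_tame' S htame (h * g) hQ'R
    have hQ'card : Nat.card Q' = Nat.card Q := card_map_conj Q g⁻¹
    -- the three pieces
    have c1 : Ctl NW (Q : Set G) h₁⁻¹ := by
      have hsub : conjR h₁⁻¹ (((S : Subgroup G) ⊓ normalizer (Q : Set G) : Subgroup G) : Set G) ⊆
          ((S : Subgroup G) : Set G) := by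
        rw [← coe_map_conj_inv, inv_inv]
        exact hh₁S
      have := hbig _ inf_le_left (hgrow Q hQS rfl) h₁⁻¹ hsub
      exact Ctl.mono this (by exact_mod_cast (le_inf hQS Subgroup.le_normalizer :
        Q ≤ (S : Subgroup G) ⊓ normalizer (Q : Set G)))
    have c3' : Ctl NW (Q' : Set G) h₂⁻¹ := by
      have hsub : conjR h₂⁻¹ (((S : Subgroup G) ⊓ normalizer (Q' : Set G) : Subgroup G) : Set G) ⊆
          ((S : Subgroup G) : Set G) := by
        rw [← coe_map_conj_inv, inv_inv]
        exact hh₂S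
      have := hbig _ inf_le_left (hgrow Q' hQ'S hQ'card) h₂⁻¹ hsub
      exact Ctl.mono this (by exact_mod_cast (le_inf hQ'S Subgroup.le_normalizer :
        Q' ≤ (S : Subgroup G) ⊓ normalizer (Q' : Set G)))
    have e1 : conjR h₁⁻¹ (Q : Set G) = (R : Set G) := by
      rw [← coe_map_conj_inv, inv_inv, hh₁]
    have e3 : conjR h₂⁻¹ (Q' : Set G) = (R : Set G) := by
      rw [← coe_map_conj_inv, inv_inv, hh₂]
    have c3 : Ctl NW (R : Set G) h₂ := by
      have := Ctl.inv c3'
      rwa [e3, inv_inv] at this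
    -- the middle element normalizes `R`
    have hmid : h₁ * g * h₂⁻¹ ∈ normalizer (R : Set G) := by
      rw [Subgroup.mem_normalizer_iff_map_conj_eq]
      show R⟪h₁ * g * h₂⁻¹⟫ = R
      have e : R⟪h₁ * g * h₂⁻¹⟫ = ((R⟪h₂⁻¹⟫)⟪g⟫)⟪h₁⟫ := by
        rw [map_conj_mul R (h₁ * g) h₂⁻¹, map_conj_mul _ h₁ g]
      have e' : R⟪h₂⁻¹⟫ = Q' := by
        rw [← hh₂, ← map_conj_mul, inv_mul_cancel, map_conj_one]
      have e'' : Q'⟪g⟫ = Q := by
        rw [hQ', ← map_conj_mul, mul_inv_cancel, map_conj_one]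
      rw [e, e', e'', hh₁]
    have c2 := hNR _ hmid
    have hg_eq : g = h₁⁻¹ * (h₁ * g * h₂⁻¹) * h₂ := by group
    rw [hg_eq]
    refine Ctl.mul (Ctl.mul c1 ?_) ?_
    · rw [e1]; exact c2
    · rw [conjR_mul, e1, conjR_coe_eq_of_mem_normalizer hmid]
      exact c3

/-- **Centric local-global theorem.** -/
theorem ctl_of_local_above
    (hZW : ∀ X : Subgroup G, X ≤ (S : Subgroup G) → ZS S ≤ X → ZS S ≤ W X)
    (hloc : ∀ T : Subgroup G, ZS S ≤ T → Cfsg.IsWellPlaced p W (S : Subgroup G) T →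
      Cfsg.ControlsStrongFusionIn p W (Subgroup.normalizer ((T : Subgroup G) : Set G)))
    (A : Set G) (g : G) (hAS : A ⊆ ((S : Subgroup G) : Set G))
    (hgA : conjR g A ⊆ ((S : Subgroup G) : Set G)) :
    Ctl (normalizer ((W (S : Subgroup G) : Subgroup G) : Set G)) A g := by
  have hcl : Subgroup.closure A ≤ (S : Subgroup G) := (Subgroup.closure_le _).mpr hAS
  have hg : conjR g ((Subgroup.closure A : Subgroup G) : Set G) ⊆ (S : Subgroup G) := by
    rw [← coe_map_conj_inv, MonoidHom.map_closure]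
    have : Subgroup.closure ((MulAut.conj g⁻¹).toMonoidHom '' A) ≤ (S : Subgroup G) := by
      rw [Subgroup.closure_le]
      rintro _ ⟨a, ha, rfl⟩
      apply hgA
      exact ⟨a, ha, by simp⟩
    exact_mod_cast this
  have := ctl_of_local_above_aux hW S hZW hloc (Nat.card (S : Subgroup G)) (Subgroup.closure A) hcl
    (by omega) g hg
  exact Ctl.mono this Subgroup.subset_closure

end

end Cfsg.Agent.Helper97.CLG
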