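import Mathlib

/-!
# Pieces (MS) and (NE) of board #6717 (for helper35, S4184, Chen's lemma)
-/

set_option autoImplicit false
set_option linter.style.haveILetI false

namespace Cfsg.Agent.Helper97.Chen

open Subgroup

/-- (MS) -/
theorem mside {M : Type*} [Group M] [Finite M] (A : Set ℕ)
    (hA : ∀ a ∈ A, ∀ b ∉ A, a.Prime → b.Prime → a ∣ Nat.card M → b ∣ Nat.card M →
      ¬ ∃ x : M, orderOf x = a * b)
    (x : M) (r : ℕ) (hr : r.Prime) (hrx : r ∣ orderOf x) (hrA : r ∈ A) (b : ℕ) (hb : b.Prime)
    (hbA : b ∉ A) :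
    ((centralizer ({x} : Set M)).index).factorization b = (Nat.card M).factorization b := by
  have hnd : ¬ b ∣ Nat.card (centralizer ({x} : Set M)) := by
    intro hdvd
    haveI : Fact b.Prime := ⟨hb⟩
    obtain ⟨y, hy⟩ := exists_prime_orderOf_dvd_card' b hdvd
    have hyM : orderOf (y : M) = b := by rw [Subgroup.orderOf_coe, hy]
    have hxy : Commute x (y : M) := by
      have := mem_centralizer_iff.mp y.2 x (Set.mem_singleton x)
      exact this
    have hx0 : orderOf x ≠ 0 := (orderOf_pos x).ne'
    have hx' : orderOf (x ^ (orderOf x / r)) = r := orderOf_pow_orderOf_div hx0 hrx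
    have hcomm : Commute (x ^ (orderOf x / r)) (y : M) := hxy.pow_left _
    have hrb : r ≠ b := by
      rintro rfl
      exact hbA hrA
    have hcop : (orderOf (x ^ (orderOf x / r))).Coprime (orderOf (y : M)) := by
      rw [hx', hyM]
      exact (Nat.coprime_primes hr hb).mpr hrb
    have hord := hcomm.orderOf_mul_eq_mul_orderOf_of_coprime hcop
    rw [hx', hyM] at hord
    have hrM : r ∣ Nat.card M := hrx.trans (orderOf_dvd_natCard x)
    have hbM : b ∣ Nat.card M := hdvd.trans (Subgroup.card_subgroup_dvd_card _)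
    exact hA r hrA b hbA hr hb hrM hbM ⟨_, hord⟩
  have h1 := (centralizer ({x} : Set M)).card_mul_index
  have hC0 : Nat.card (centralizer ({x} : Set M)) ≠ 0 := Nat.card_pos.ne'
  have hi0 : (centralizer ({x} : Set M)).index ≠ 0 := Subgroup.index_ne_zero_of_finite
  rw [← h1, Nat.factorization_mul hC0 hi0, Finsupp.add_apply,
    Nat.factorization_eq_zero_of_not_dvd hnd, zero_add]

/-- (NE) -/
theorem index_centralizer_ne_card {M : Type*} [Group M] [Finite M] [Nontrivial M] (x : M) :
    (centralizer ({x} : Set M)).index ≠ Nat.card M := by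
  intro h
  have h1 := (centralizer ({x} : Set M)).card_mul_index
  rw [h] at h1
  have hM0 : 0 < Nat.card M := Nat.card_pos
  have hC1 : Nat.card (centralizer ({x} : Set M)) = 1 := by
    have : Nat.card (centralizer ({x} : Set M)) * Nat.card M = 1 * Nat.card M := by
      rw [h1, one_mul]
    exact Nat.eq_of_mul_eq_mul_right hM0 this
  have hbot : centralizer ({x} : Set M) = ⊥ := Subgroup.card_eq_one.mp hC1
  have hx : x ∈ centralizer ({x} : Set M) := by
    rw [mem_centralizer_iff]
    intro y hy
    rw [Set.mem_singleton_iff.mp hy]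
  rw [hbot, mem_bot] at hx
  subst hx
  have htop : centralizer ({(1 : M)} : Set M) = ⊤ := by
    rw [eq_top_iff]
    intro y _
    rw [mem_centralizer_iff]
    intro z hz
    rw [Set.mem_singleton_iff.mp hz, one_mul, mul_one]
  rw [htop] at hbot
  exact (bot_ne_top (α := Subgroup M)) hbot.symm

end Cfsg.Agent.Helper97.Chen
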