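/-
Helper97: in a finite solvable group, a maximal normal subgroup of nilpotency class at most two
contains its own centraliser.
-/
import Mathlib

set_option autoImplicit false

namespace Cfsg.Agent.Helper97

open scoped commutatorElement

variable {G : Type*} [Group G]

/-- The iterated commutator series of a subgroup `C` of `G`, as subgroups of `G`. -/
def dser (C : Subgroup G) : ℕ → Subgroup G
  | 0 => C
  | (i + 1) => ⁅dser C i, dser C i⁆

lemma dser_zero (C : Subgroup G) : dser C 0 = C := rfl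

lemma dser_succ (C : Subgroup G) (i : ℕ) : dser C (i + 1) = ⁅dser C i, dser C i⁆ := rfl

lemma dser_normal (C : Subgroup G) [hC : C.Normal] (i : ℕ) : (dser C i).Normal := by
  induction i with
  | zero => exact hC
  | succ i ih =>
    rw [dser_succ]
    have := ih
    infer_instance

lemma dser_le_derivedSeries (C : Subgroup G) (i : ℕ) : dser C i ≤ derivedSeries G i := by
  induction i with
  | zero => simp [dser_zero]
  | succ i ih =>
    rw [dser_succ, derivedSeries_succ]
    exact Subgroup.commutator_mono ih ih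

lemma dser_le (C : Subgroup G) (i : ℕ) : dser C i ≤ C := by
  induction i with
  | zero => exact le_rfl
  | succ i ih =>
    rw [dser_succ]
    exact (Subgroup.commutator_mono ih ih).trans (Subgroup.commutator_le_self C)

/-- `N` is a normal subgroup of class at most two. -/
def IsNormalClassTwo (N : Subgroup G) : Prop :=
  N.Normal ∧ ⁅N, N⁆ ≤ Subgroup.centralizer (N : Set G)

lemma isNormalClassTwo_bot : IsNormalClassTwo (⊥ : Subgroup G) := by
  refine ⟨inferInstance, ?_⟩
  rw [Subgroup.commutator_bot_left]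
  exact bot_le

/-- Key step: if `N` is normal of class at most two in a solvable group and its centraliser is not inside it,
then `N` is properly contained in a larger normal subgroup of class at most two. -/
lemma exists_larger_classTwo [Group.IsSolvable G] (N : Subgroup G) (hN : IsNormalClassTwo N)
    (hC : ¬ Subgroup.centralizer (N : Set G) ≤ N) :
    ∃ M : Subgroup G, IsNormalClassTwo M ∧ N < M := by
  obtain ⟨hNn, hN2⟩ := hN
  have := hNn
  set C : Subgroup G := Subgroup.centralizer (N : Set G) with hCdef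
  have hCn : C.Normal := by rw [hCdef]; infer_instance
  -- find the last term of the commutator series of C not inside N
  obtain ⟨k, hk⟩ := (Group.isSolvable_def G).mp inferInstance
  have hex : ∃ i, dser C i ≤ N := ⟨k, (dser_le_derivedSeries C k).trans (hk ▸ bot_le)⟩
  classical
  set i := Nat.find hex with hi
  have hi_spec : dser C i ≤ N := Nat.find_spec hex
  have hi_pos : i ≠ 0 := by
    intro h0
    rw [h0, dser_zero] at hi_spec
    exact hC hi_spec
  obtain ⟨j, hj⟩ := Nat.exists_eq_succ_of_ne_zero hi_pos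
  have hj_not : ¬ dser C j ≤ N := by
    have : j < i := by omega
    exact Nat.find_min hex this
  set M₂ := dser C j with hM₂
  have hM₂n : M₂.Normal := dser_normal C j
  have hM₂C : M₂ ≤ C := dser_le C j
  have hM₂comm : ⁅M₂, M₂⁆ ≤ N := by
    have : dser C (j + 1) ≤ N := by rw [← Nat.succ_eq_add_one, ← hj]; exact hi_spec
    simpa [dser_succ] using this
  -- elements of M₂ commute with elements of N
  have hcomm : ∀ m ∈ M₂, ∀ n ∈ N, n * m = m * n := by
    intro m hm n hn
    have := hM₂C hm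
    rw [hCdef, Subgroup.mem_centralizer_iff] at this
    exact this n hn
  -- the centre of N, as a subgroup of G
  set Z : Subgroup G := N ⊓ C with hZ
  have hNNZ : ⁅N, N⁆ ≤ Z := le_inf (Subgroup.commutator_le_self N) hN2
  have hMMZ : ⁅M₂, M₂⁆ ≤ Z :=
    le_inf hM₂comm ((Subgroup.commutator_le_self M₂).trans hM₂C)
  refine ⟨M₂ ⊔ N, ⟨inferInstance, ?_⟩, ?_⟩
  · -- class two
    have hcommZ : ⁅M₂ ⊔ N, M₂ ⊔ N⁆ ≤ Z := by
      rw [Subgroup.commutator_le]
      intro g₁ hg₁ g₂ hg₂
      obtain ⟨m, hm, n, hn, rfl⟩ := Subgroup.mem_sup_of_normal_right.mp hg₁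
      obtain ⟨m', hm', n', hn', rfl⟩ := Subgroup.mem_sup_of_normal_right.mp hg₂
      have key : ⁅m * n, m' * n'⁆ = ⁅m, m'⁆ * ⁅n, n'⁆ := by
        simp only [commutatorElement_def, mul_inv_rev]
        have h1 := hcomm m hm n hn
        have h2 := hcomm m' hm' n hn
        have h3 := hcomm m hm n' hn'
        have h4 := hcomm m' hm' n' hn'
        have h5 := hcomm m⁻¹ (M₂.inv_mem hm) n hn
        have h6 := hcomm m'⁻¹ (M₂.inv_mem hm') n hn
        have h7 := hcomm m⁻¹ (M₂.inv_mem hm) n' hn'
        have h8 := hcomm m⁻¹ (M₂.inv_mem hm) n⁻¹ (N.inv_mem hn)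
        have h9 := hcomm m'⁻¹ (M₂.inv_mem hm') n⁻¹ (N.inv_mem hn)
        have h10 := hcomm m'⁻¹ (M₂.inv_mem hm') n'⁻¹ (N.inv_mem hn')
        have h11 := hcomm m⁻¹ (M₂.inv_mem hm) n'⁻¹ (N.inv_mem hn')
        -- m n m' n' n⁻¹ m⁻¹ n'⁻¹ m'⁻¹ = m m' m⁻¹ m'⁻¹ n n' n⁻¹ n'⁻¹
        calc m * n * (m' * n') * (n⁻¹ * m⁻¹) * (n'⁻¹ * m'⁻¹)
            = m * (n * m') * n' * (n⁻¹ * m⁻¹) * (n'⁻¹ * m'⁻¹) := by group
          _ = m * (m' * n) * n' * (m⁻¹ * n⁻¹) * (m'⁻¹ * n'⁻¹) := by rw [h2, h8, h10]
          _ = m * m' * (n * n' * m⁻¹) * n⁻¹ * (m'⁻¹ * n'⁻¹) := by group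
          _ = m * m' * (m⁻¹ * (n * n')) * n⁻¹ * (m'⁻¹ * n'⁻¹) := by
              rw [show n * n' * m⁻¹ = m⁻¹ * (n * n') from hcomm m⁻¹ (M₂.inv_mem hm) (n * n') (N.mul_mem hn hn')]
          _ = m * m' * m⁻¹ * (n * n' * n⁻¹ * m'⁻¹) * n'⁻¹ := by group
          _ = m * m' * m⁻¹ * (m'⁻¹ * (n * n' * n⁻¹)) * n'⁻¹ := by
              rw [show n * n' * n⁻¹ * m'⁻¹ = m'⁻¹ * (n * n' * n⁻¹) from
                hcomm m'⁻¹ (M₂.inv_mem hm') (n * n' * n⁻¹) (N.mul_mem (N.mul_mem hn hn') (N.inv_mem hn))]
          _ = m * m' * m⁻¹ * m'⁻¹ * (n * n' * n⁻¹ * n'⁻¹) := by group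
      rw [key]
      exact Z.mul_mem (hMMZ (Subgroup.commutator_mem_commutator hm hm'))
        (hNNZ (Subgroup.commutator_mem_commutator hn hn'))
    refine hcommZ.trans ?_
    intro z hz
    rw [hZ, Subgroup.mem_inf] at hz
    obtain ⟨hzN, hzC⟩ := hz
    rw [Subgroup.mem_centralizer_iff]
    intro x hx
    obtain ⟨m, hm, n, hn, rfl⟩ := Subgroup.mem_sup_of_normal_right.mp (SetLike.mem_coe.mp hx)
    have h1 : n * z = z * n := by
      rw [hCdef, Subgroup.mem_centralizer_iff] at hzC
      exact hzC n hn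
    have h2 : z * m = m * z := hcomm m hm z hzN
    calc m * n * z = m * (n * z) := by group
      _ = m * (z * n) := by rw [h1]
      _ = (m * z) * n := by group
      _ = (z * m) * n := by rw [h2]
      _ = z * (m * n) := by group
  · -- strictly larger
    refine lt_of_le_of_ne le_sup_right ?_
    intro h
    apply hj_not
    calc M₂ ≤ M₂ ⊔ N := le_sup_left
      _ = N := h.symm

/-- In a finite solvable group there is a normal subgroup of class at most two containing its own centraliser. -/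
theorem exists_classTwo_selfCentralizing [Finite G] [Group.IsSolvable G] :
    ∃ N : Subgroup G, N.Normal ∧ ⁅N, N⁆ ≤ Subgroup.centralizer (N : Set G) ∧
      Subgroup.centralizer (N : Set G) ≤ N := by
  obtain ⟨N, -, hmax⟩ := Finite.exists_le_maximal (p := fun N : Subgroup G => IsNormalClassTwo N)
    isNormalClassTwo_bot
  refine ⟨N, hmax.prop.1, hmax.prop.2, ?_⟩
  by_contra hC
  obtain ⟨M, hM, hlt⟩ := exists_larger_classTwo N hmax.prop hC
  exact absurd (hmax.le_of_ge hM hlt.le) (not_le_of_gt hlt)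

end Cfsg.Agent.Helper97
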