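/-
Helper97: Clifford theory for a subalgebra `K` of `End_F V` normalised by a group `G` of units acting
irreducibly and primitively on `V`: `V` is a semisimple isotypic `K`-module.
-/
import Mathlib

set_option autoImplicit false

namespace Cfsg.Agent.Helper97

variable {F : Type*} [Field F] {V : Type*} [AddCommGroup V] [Module F V]

lemma units_inv_apply_apply (x : (Module.End F V)ˣ) (v : V) :
    ((x⁻¹ : (Module.End F V)ˣ) : Module.End F V) ((x : Module.End F V) v) = v := by
  rw [← Module.End.mul_apply, Units.inv_mul, Module.End.one_apply]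

lemma units_apply_inv_apply (x : (Module.End F V)ˣ) (v : V) :
    (x : Module.End F V) (((x⁻¹ : (Module.End F V)ˣ) : Module.End F V) v) = v := by
  rw [← Module.End.mul_apply, Units.mul_inv, Module.End.one_apply]

lemma units_injective (x : (Module.End F V)ˣ) : Function.Injective (x : Module.End F V) := by
  intro a b h
  have := congrArg ((x⁻¹ : (Module.End F V)ˣ) : Module.End F V) h
  simpa [units_inv_apply_apply] using this

/-- The units of `End_F V` that normalise the subalgebra `K`. -/
def algNormalizer (K : Subalgebra F (Module.End F V)) : Subgroup (Module.End F V)ˣ where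
  carrier := {x | ∀ k ∈ K, (x : Module.End F V) * k * ((x⁻¹ : (Module.End F V)ˣ) : Module.End F V) ∈ K ∧
    ((x⁻¹ : (Module.End F V)ˣ) : Module.End F V) * k * (x : Module.End F V) ∈ K}
  mul_mem' := by
    intro a b ha hb k hk
    constructor
    · have h1 := (hb k hk).1
      have h2 := (ha _ h1).1
      have : ((a * b : (Module.End F V)ˣ) : Module.End F V) * k *
          (((a * b)⁻¹ : (Module.End F V)ˣ) : Module.End F V) =
          (a : Module.End F V) * ((b : Module.End F V) * k *
            ((b⁻¹ : (Module.End F V)ˣ) : Module.End F V)) *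
            ((a⁻¹ : (Module.End F V)ˣ) : Module.End F V) := by
        rw [mul_inv_rev, Units.val_mul, Units.val_mul]
        noncomm_ring
      rw [this]; exact h2
    · have h1 := (ha k hk).2
      have h2 := (hb _ h1).2
      have : (((a * b)⁻¹ : (Module.End F V)ˣ) : Module.End F V) * k *
          ((a * b : (Module.End F V)ˣ) : Module.End F V) =
          ((b⁻¹ : (Module.End F V)ˣ) : Module.End F V) *
            (((a⁻¹ : (Module.End F V)ˣ) : Module.End F V) * k * (a : Module.End F V)) *
            (b : Module.End F V) := by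
        rw [mul_inv_rev, Units.val_mul, Units.val_mul]
        noncomm_ring
      rw [this]; exact h2
  one_mem' := by
    intro k hk
    simpa using hk
  inv_mem' := by
    intro a ha k hk
    constructor
    · simpa using (ha k hk).2
    · simpa using (ha k hk).1

lemma mem_algNormalizer {K : Subalgebra F (Module.End F V)} {x : (Module.End F V)ˣ} :
    x ∈ algNormalizer K ↔ ∀ k ∈ K,
      (x : Module.End F V) * k * ((x⁻¹ : (Module.End F V)ˣ) : Module.End F V) ∈ K ∧
      ((x⁻¹ : (Module.End F V)ˣ) : Module.End F V) * k * (x : Module.End F V) ∈ K := Iff.rfl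

variable (K : Subalgebra F (Module.End F V))

lemma subalgebra_smul_eq (k : K) (v : V) : k • v = (k : Module.End F V) v := rfl

/-- The translate of a `K`-submodule by a unit normalising `K`. -/
def tr (x : (Module.End F V)ˣ) (hx : x ∈ algNormalizer K) (W : Submodule K V) : Submodule K V where
  carrier := {v | ((x⁻¹ : (Module.End F V)ˣ) : Module.End F V) v ∈ W}
  add_mem' := by
    intro a b ha hb
    simp only [Set.mem_ofPred_eq, map_add] at *
    exact W.add_mem ha hb
  zero_mem' := by simp
  smul_mem' := by
    intro k v hv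
    simp only [Set.mem_ofPred_eq] at *
    have hk := (hx k k.2).2
    have : ((x⁻¹ : (Module.End F V)ˣ) : Module.End F V) (k • v) =
        (⟨_, hk⟩ : K) • (((x⁻¹ : (Module.End F V)ˣ) : Module.End F V) v) := by
      rw [subalgebra_smul_eq, subalgebra_smul_eq]
      simp only [Module.End.mul_apply, units_apply_inv_apply]
    rw [this]
    exact W.smul_mem _ hv

variable {K}

lemma mem_tr {x : (Module.End F V)ˣ} {hx : x ∈ algNormalizer K} {W : Submodule K V} {v : V} :
    v ∈ tr K x hx W ↔ ((x⁻¹ : (Module.End F V)ˣ) : Module.End F V) v ∈ W := Iff.rfl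

lemma apply_mem_tr {x : (Module.End F V)ˣ} {hx : x ∈ algNormalizer K} {W : Submodule K V} {v : V}
    (hv : v ∈ W) : (x : Module.End F V) v ∈ tr K x hx W := by
  rw [mem_tr, units_inv_apply_apply]; exact hv

lemma tr_mono {x : (Module.End F V)ˣ} {hx : x ∈ algNormalizer K} {W W' : Submodule K V}
    (h : W ≤ W') : tr K x hx W ≤ tr K x hx W' := fun _ hv => h hv

lemma tr_inv_tr {x : (Module.End F V)ˣ} (hx : x ∈ algNormalizer K) (W : Submodule K V) :
    tr K x⁻¹ ((algNormalizer K).inv_mem hx) (tr K x hx W) = W := by
  ext v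
  simp only [mem_tr, inv_inv, units_inv_apply_apply]

lemma tr_tr_inv {x : (Module.End F V)ˣ} (hx : x ∈ algNormalizer K) (W : Submodule K V) :
    tr K x hx (tr K x⁻¹ ((algNormalizer K).inv_mem hx) W) = W := by
  ext v
  simp only [mem_tr, inv_inv, units_apply_inv_apply]

lemma tr_mul {x y : (Module.End F V)ˣ} (hx : x ∈ algNormalizer K) (hy : y ∈ algNormalizer K)
    (W : Submodule K V) :
    tr K (x * y) ((algNormalizer K).mul_mem hx hy) W = tr K x hx (tr K y hy W) := by
  ext v
  simp only [mem_tr, mul_inv_rev, Units.val_mul, Module.End.mul_apply]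

/-- Translation by a normalising unit as an order isomorphism of the lattice of `K`-submodules. -/
def trIso {x : (Module.End F V)ˣ} (hx : x ∈ algNormalizer K) : Submodule K V ≃o Submodule K V where
  toFun := tr K x hx
  invFun := tr K x⁻¹ ((algNormalizer K).inv_mem hx)
  left_inv := tr_inv_tr hx
  right_inv := tr_tr_inv hx
  map_rel_iff' := by
    intro W W'
    constructor
    · intro h
      have := tr_mono (x := x⁻¹) (hx := (algNormalizer K).inv_mem hx) h
      simpa [tr_inv_tr] using this
    · exact tr_mono (hx := hx)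

@[simp] lemma trIso_apply {x : (Module.End F V)ˣ} (hx : x ∈ algNormalizer K) (W : Submodule K V) :
    trIso hx W = tr K x hx W := rfl

lemma tr_restrictScalars {x : (Module.End F V)ˣ} (hx : x ∈ algNormalizer K) (W : Submodule K V) :
    (tr K x hx W).restrictScalars F = (W.restrictScalars F).map (x : Module.End F V) := by
  ext v
  simp only [Submodule.restrictScalars_mem, mem_tr, Submodule.mem_map]
  constructor
  · intro h
    exact ⟨_, h, units_apply_inv_apply x v⟩
  · rintro ⟨w, hw, rfl⟩
    rw [units_inv_apply_apply]; exact hw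


/-- Conjugating a `K`-linear map between submodules by a normalising unit. -/
def trMap {x : (Module.End F V)ˣ} (hx : x ∈ algNormalizer K) {m S : Submodule K V} (f : m →ₗ[K] S) :
    tr K x hx m →ₗ[K] tr K x hx S where
  toFun v := ⟨(x : Module.End F V) (f ⟨((x⁻¹ : (Module.End F V)ˣ) : Module.End F V) v, v.2⟩ : V),
    apply_mem_tr (f _).2⟩
  map_add' := by
    intro a b
    apply Subtype.ext
    simp only [Submodule.coe_add, map_add]
    have : (⟨((x⁻¹ : (Module.End F V)ˣ) : Module.End F V) (a : V) +
        ((x⁻¹ : (Module.End F V)ˣ) : Module.End F V) (b : V), m.add_mem (mem_tr.mp a.2) (mem_tr.mp b.2)⟩ : m) =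
        ⟨((x⁻¹ : (Module.End F V)ˣ) : Module.End F V) a, a.2⟩ +
        ⟨((x⁻¹ : (Module.End F V)ˣ) : Module.End F V) b, b.2⟩ := rfl
    rw [this, map_add, Submodule.coe_add, map_add]
  map_smul' := by
    intro k v
    apply Subtype.ext
    simp only [RingHom.id_apply, Submodule.coe_smul]
    have hk := (hx k k.2).2
    have h1 : (⟨((x⁻¹ : (Module.End F V)ˣ) : Module.End F V) (k • (v : V)), mem_tr.mp (k • v).2⟩ : m) =
        (⟨_, hk⟩ : K) • (⟨((x⁻¹ : (Module.End F V)ˣ) : Module.End F V) v, v.2⟩ : m) := by
      apply Subtype.ext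
      simp only [Submodule.coe_smul]
      rw [subalgebra_smul_eq, subalgebra_smul_eq]
      simp only [Module.End.mul_apply, units_apply_inv_apply]
    rw [h1, map_smul, Submodule.coe_smul, subalgebra_smul_eq, subalgebra_smul_eq]
    simp only [Module.End.mul_apply, units_apply_inv_apply]

lemma trMap_apply_coe {x : (Module.End F V)ˣ} (hx : x ∈ algNormalizer K) {m S : Submodule K V}
    (f : m →ₗ[K] S) (v : tr K x hx m) :
    (trMap hx f v : V) =
      (x : Module.End F V) (f ⟨((x⁻¹ : (Module.End F V)ˣ) : Module.End F V) v, v.2⟩ : V) := rfl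

/-- Translating isomorphic submodules gives isomorphic submodules. -/
def trEquiv {x : (Module.End F V)ˣ} (hx : x ∈ algNormalizer K) {m S : Submodule K V} (e : m ≃ₗ[K] S) :
    tr K x hx m ≃ₗ[K] tr K x hx S :=
  LinearEquiv.ofLinearMap (trMap hx e.toLinearMap) (trMap hx e.symm.toLinearMap)
    (by
      ext v
      simp only [LinearMap.coe_comp, Function.comp_apply, LinearMap.id_coe, id_eq, trMap_apply_coe,
        LinearEquiv.coe_coe, units_inv_apply_apply, Subtype.coe_eta, LinearEquiv.apply_symm_apply]
      exact units_apply_inv_apply x v)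
    (by
      ext v
      simp only [LinearMap.coe_comp, Function.comp_apply, LinearMap.id_coe, id_eq, trMap_apply_coe,
        LinearEquiv.coe_coe, units_inv_apply_apply, Subtype.coe_eta, LinearEquiv.symm_apply_apply]
      exact units_apply_inv_apply x v)


lemma isSimpleModule_tr {x : (Module.End F V)ˣ} (hx : x ∈ algNormalizer K) (S : Submodule K V)
    (hS : IsSimpleModule K S) : IsSimpleModule K (tr K x hx S) := by
  rw [isSimpleModule_iff_isAtom] at hS ⊢
  exact ((trIso hx).isAtom_iff S).mpr hS

lemma tr_isotypicComponent {x : (Module.End F V)ˣ} (hx : x ∈ algNormalizer K) (S : Submodule K V) :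
    tr K x hx (isotypicComponent K V S) = isotypicComponent K V (tr K x hx S) := by
  unfold isotypicComponent
  rw [← trIso_apply, OrderIso.map_sSup]
  apply le_antisymm
  · refine iSup₂_le ?_
    rintro m ⟨e⟩
    exact le_sSup ⟨trEquiv hx e⟩
  · refine sSup_le ?_
    rintro m' ⟨e⟩
    have hx' := (algNormalizer K).inv_mem hx
    have e' : tr K x⁻¹ hx' m' ≃ₗ[K] S :=
      (trEquiv hx' e).trans (LinearEquiv.ofEq _ _ (tr_inv_tr hx S))
    have : m' = trIso hx (tr K x⁻¹ hx' m') := by
      rw [trIso_apply, tr_tr_inv]
    rw [this]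
    exact le_iSup₂ (f := fun (a : Submodule K V) (_ : a ∈ {m : Submodule K V | Nonempty (m ≃ₗ[K] S)}) =>
      trIso hx a) (tr K x⁻¹ hx' m') ⟨e'⟩

lemma tr_mem_isotypicComponents {x : (Module.End F V)ˣ} (hx : x ∈ algNormalizer K) {c : Submodule K V}
    (hc : c ∈ isotypicComponents K V) : tr K x hx c ∈ isotypicComponents K V := by
  obtain ⟨S, hS, rfl⟩ := hc
  exact ⟨tr K x hx S, isSimpleModule_tr hx S hS, tr_isotypicComponent hx S⟩

end Cfsg.Agent.Helper97
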