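/-
Helper97: Clifford theory, main theorem: if a group `G` of units of `End_F V` acts irreducibly and
primitively on `V` and normalises a subalgebra `K`, then `V` is a semisimple isotypic `K`-module.
-/
import Mathlib
import Cfsg.Agent.Helper97.Clifford

set_option autoImplicit false

namespace Cfsg.Agent.Helper97

variable {F : Type*} [Field F] {V : Type*} [AddCommGroup V] [Module F V]
variable {K : Subalgebra F (Module.End F V)}

/-- Irreducibility of a set of units acting on `V`. -/
def UnitsIrreducible (G : Subgroup (Module.End F V)ˣ) : Prop :=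
  ∀ W : Submodule F V, (∀ x ∈ G, W.map (x : Module.End F V) ≤ W) → W = ⊥ ∨ W = ⊤

/-- Primitivity of a group of units acting on `V`: no decomposition into at least two independent
subspaces of equal positive dimension spanning `V` is permuted by `G`. -/
def UnitsPrimitive (G : Subgroup (Module.End F V)ˣ) : Prop :=
  ∀ (m t : ℕ) (D : Fin t → Submodule F V), 2 ≤ t → 0 < m → (∀ i, Module.finrank F (D i) = m) →
    iSupIndep D → iSup D = ⊤ →
    ¬ ∀ x ∈ G, ∃ σ : Equiv.Perm (Fin t), ∀ i, (D i).map (x : Module.End F V) = D (σ i)

section

variable [FiniteDimensional F V] (G : Subgroup (Module.End F V)ˣ) (hGK : G ≤ algNormalizer K)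
include hGK

lemma restrictScalars_eq_of_invariant (hirr : UnitsIrreducible G) (T : Submodule K V)
    (hT : ∀ x (hx : x ∈ G), tr K x (hGK hx) T ≤ T) : T = ⊥ ∨ T = ⊤ := by
  have := hirr (T.restrictScalars F) (by
    intro x hx
    rw [← tr_restrictScalars (hGK hx)]
    exact Submodule.restrictScalars_mono F (hT x hx))
  rcases this with h | h
  · left; exact (Submodule.restrictScalars_eq_bot_iff F K V).mp h
  · right; exact (Submodule.restrictScalars_eq_top_iff F K V).mp h

theorem isSemisimpleModule_of_irreducible (hirr : UnitsIrreducible G) : IsSemisimpleModule K V := by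
  have : IsArtinian K V := isArtinian_of_tower F (inferInstance : IsArtinian F V)
  apply IsSemisimpleModule.of_sSup_simples_eq_top
  set T := sSup {m : Submodule K V | IsSimpleModule K m} with hT
  have hinv : ∀ x (hx : x ∈ G), tr K x (hGK hx) T ≤ T := by
    intro x hx
    rw [← trIso_apply, hT, OrderIso.map_sSup]
    refine iSup₂_le ?_
    intro m hm
    exact le_sSup (isSimpleModule_tr (hGK hx) m hm)
  rcases restrictScalars_eq_of_invariant G hGK hirr T hinv with h | h
  · -- no simple submodules: V must be trivial
    by_cases hV : (⊤ : Submodule K V) = ⊥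
    · rw [h, hV]
    · exfalso
      obtain ⟨a, ha, -⟩ := (eq_bot_or_exists_atom_le (⊤ : Submodule K V)).resolve_left hV
      have hale : a ≤ T := le_sSup (isSimpleModule_iff_isAtom.mpr ha)
      rw [h] at hale
      exact ha.1 (le_bot_iff.mp hale)
  · exact h


theorem isIsotypic_of_primitive [Nontrivial V] (hirr : UnitsIrreducible G) (hprim : UnitsPrimitive G) :
    IsSemisimpleModule K V ∧ IsIsotypic K V := by
  have ss : IsSemisimpleModule K V := isSemisimpleModule_of_irreducible G hGK hirr
  refine ⟨ss, ?_⟩
  have hnoeth : IsNoetherian K V := isNoetherian_of_tower F (inferInstance : IsNoetherian F V)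
  obtain ⟨S₀, hS₀⟩ := IsSemisimpleModule.exists_simple_submodule K V
  set c₀ := isotypicComponent K V S₀ with hc₀def
  have hc₀ : c₀ ∈ isotypicComponents K V := ⟨S₀, hS₀, rfl⟩
  -- transitivity of G on the isotypic components
  have htrans : ∀ c ∈ isotypicComponents K V, ∃ x, ∃ hx : x ∈ G, c = tr K x (hGK hx) c₀ := by
    intro c hc
    by_contra hcon
    push Not at hcon
    set O : Set (Submodule K V) := {c' | ∃ x, ∃ hx : x ∈ G, c' = tr K x (hGK hx) c₀} with hO
    have hO_sub : O ⊆ isotypicComponents K V \ {c} := by
      rintro c' ⟨x, hx, rfl⟩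
      exact ⟨tr_mem_isotypicComponents _ hc₀, fun h => hcon x hx (Set.mem_singleton_iff.mp h).symm⟩
    have hO_inv : ∀ x (hx : x ∈ G), tr K x (hGK hx) (sSup O) ≤ sSup O := by
      intro x hx
      rw [← trIso_apply, OrderIso.map_sSup]
      refine iSup₂_le ?_
      rintro c' ⟨y, hy, rfl⟩
      apply le_sSup
      exact ⟨x * y, G.mul_mem hx hy, by rw [trIso_apply, tr_mul]⟩
    have hO_top : sSup O = ⊤ := by
      rcases restrictScalars_eq_of_invariant G hGK hirr _ hO_inv with h | h
      · exfalso
        have hle : c₀ ≤ sSup O := le_sSup ⟨1, G.one_mem, by ext v; simp [mem_tr]⟩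
        rw [h] at hle
        exact (bot_lt_isotypicComponents hc₀).ne' (le_bot_iff.mp hle)
      · exact h
    have hdisj := (sSupIndep_isotypicComponents K V) hc
    have hd : Disjoint c (sSup O) := hdisj.mono_right (sSup_le_sSup hO_sub)
    rw [hO_top, disjoint_top] at hd
    exact (bot_lt_isotypicComponents hc).ne' hd
  -- count the components
  have hfin : Finite (isotypicComponents K V) := inferInstance
  set t := Nat.card (isotypicComponents K V) with ht
  have ht2 : t < 2 := by
    by_contra hge
    push Not at hge
    let e : Fin t ≃ isotypicComponents K V := (Finite.equivFin _).symm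
    let D : Fin t → Submodule F V := fun i => (e i).1.restrictScalars F
    refine hprim (Module.finrank F (c₀.restrictScalars F)) t D hge ?_ ?_ ?_ ?_ ?_
    · -- positivity
      apply Nat.pos_of_ne_zero
      intro h0
      rw [Submodule.finrank_eq_zero] at h0
      exact (bot_lt_isotypicComponents hc₀).ne' ((Submodule.restrictScalars_eq_bot_iff F K V).mp h0)
    · -- equal dimensions
      intro i
      obtain ⟨x, hx, h⟩ := htrans (e i).1 (e i).2
      show Module.finrank F ((e i).1.restrictScalars F) = _
      rw [h, tr_restrictScalars (hGK hx)]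
      exact (Submodule.equivMapOfInjective _ (units_injective x) _).finrank_eq.symm
    · -- independence
      have h1 : iSupIndep (fun i : Fin t => (e i).1) :=
        ((sSupIndep_iff _).mp (sSupIndep_isotypicComponents K V)).comp e.injective
      intro i
      have h2 := h1 i
      rw [disjoint_iff] at h2 ⊢
      have h3 : (⨆ j, ⨆ (_ : j ≠ i), D j) =
          (⨆ j, ⨆ (_ : j ≠ i), (e j).1).restrictScalars F := by
        simp only [Submodule.restrictScalars_iSup]
        rfl
      rw [h3]
      show (e i).1.restrictScalars F ⊓ _ = ⊥
      rw [← Submodule.restrictScalars_inf, h2, Submodule.restrictScalars_bot]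
    · -- spanning
      have h1 : (⨆ i, (e i).1) = ⊤ := by
        rw [← sSup_isotypicComponents K V, sSup_eq_iSup']
        exact e.iSup_comp (g := fun c : isotypicComponents K V => c.1)
      show (⨆ i, (e i).1.restrictScalars F) = ⊤
      rw [← Submodule.restrictScalars_iSup, h1, Submodule.restrictScalars_top]
    · -- G permutes the components
      intro x hx
      let π : Equiv.Perm (isotypicComponents K V) :=
        { toFun := fun c => ⟨tr K x (hGK hx) c.1, tr_mem_isotypicComponents _ c.2⟩
          invFun := fun c => ⟨tr K x⁻¹ ((algNormalizer K).inv_mem (hGK hx)) c.1,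
            tr_mem_isotypicComponents _ c.2⟩
          left_inv := fun c => Subtype.ext (tr_inv_tr (hGK hx) _)
          right_inv := fun c => Subtype.ext (tr_tr_inv (hGK hx) _) }
      refine ⟨(e.trans π).trans e.symm, fun i => ?_⟩
      show ((e i).1.restrictScalars F).map (x : Module.End F V) = (e _).1.restrictScalars F
      rw [← tr_restrictScalars (hGK hx)]
      simp [π]
  -- a single component
  have hsub : Subsingleton (isotypicComponents K V) :=
    (Finite.card_le_one_iff_subsingleton).mp (by omega)
  have hctop : c₀ = ⊤ := by
    apply top_unique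
    rw [← sSup_isotypicComponents K V]
    apply sSup_le
    intro c hc
    have : (⟨c, hc⟩ : isotypicComponents K V) = ⟨c₀, hc₀⟩ := Subsingleton.elim _ _
    exact (Subtype.ext_iff.mp this).le
  exact (isotypicComponent_eq_top_iff.mp hctop).isIsotypic

end

end Cfsg.Agent.Helper97
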