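/-
Helper97: consequences of Clifford theory for abelian normal subgroups of a primitive irreducible
linear group: non-identity elements are fixed-point-free.
-/
import Mathlib
import Cfsg.Agent.Helper97.Clifford2

set_option autoImplicit false

namespace Cfsg.Agent.Helper97

variable {F : Type*} [Field F] {V : Type*} [AddCommGroup V] [Module F V]

section

variable {K : Subalgebra F (Module.End F V)}
variable [FiniteDimensional F V] (G : Subgroup (Module.End F V)ˣ) (hGK : G ≤ algNormalizer K)
include hGK

/-- In the primitive situation, a non-zero element of a commutative normalised subalgebra is injective. -/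
theorem ker_eq_bot_of_comm [Nontrivial V] (hirr : UnitsIrreducible G) (hprim : UnitsPrimitive G)
    (hcomm : ∀ a ∈ K, ∀ b ∈ K, a * b = b * a) (k : Module.End F V) (hk : k ∈ K) (hk0 : k ≠ 0) :
    LinearMap.ker k = ⊥ := by
  obtain ⟨ss, iso⟩ := isIsotypic_of_primitive G hGK hirr hprim
  let W : Submodule K V :=
    { carrier := {v | k v = 0}
      add_mem' := by
        intro a b ha hb
        simp only [Set.mem_ofPred_eq] at *
        rw [map_add, ha, hb, add_zero]
      zero_mem' := by simp
      smul_mem' := by
        intro k' v hv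
        simp only [Set.mem_ofPred_eq] at *
        rw [subalgebra_smul_eq, ← Module.End.mul_apply, hcomm k hk k' k'.2, Module.End.mul_apply, hv,
          map_zero] }
  have hW : ∀ v, v ∈ W ↔ k v = 0 := fun v => Iff.rfl
  by_contra hne
  have hWne : W ≠ ⊥ := by
    intro h
    apply hne
    rw [eq_bot_iff]
    intro v hv
    have : v ∈ W := (hW v).mpr (LinearMap.mem_ker.mp hv)
    rw [h] at this
    exact this
  obtain ⟨S, hSW, hS⟩ := (IsSemisimpleModule.eq_bot_or_exists_simple_le W).resolve_left hWne
  have hWtop : W = ⊤ := by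
    apply top_unique
    rw [← IsSemisimpleModule.sSup_simples_eq_top K V]
    apply sSup_le
    intro S' hS'
    have hS'' : IsSimpleModule K S' := hS'
    obtain ⟨e⟩ := iso S S'
    intro u hu
    rw [hW]
    have h1 : (⟨k, hk⟩ : K) • e ⟨u, hu⟩ = 0 := by
      apply Subtype.ext
      rw [Submodule.coe_smul, subalgebra_smul_eq, Submodule.coe_zero]
      exact (hW _).mp (hSW (e ⟨u, hu⟩).2)
    rw [← map_smul, map_eq_zero_iff _ e.injective] at h1
    have h2 := congrArg Subtype.val h1
    rw [Submodule.coe_smul, subalgebra_smul_eq, Submodule.coe_zero] at h2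
    exact h2
  apply hk0
  ext v
  have : v ∈ W := by rw [hWtop]; trivial
  exact (hW v).mp this

end

section

variable [FiniteDimensional F V]

/-- The subalgebra of `End_F V` spanned by a subgroup of units. -/
def groupAlg (Z : Subgroup (Module.End F V)ˣ) : Subalgebra F (Module.End F V) :=
  Algebra.adjoin F ((fun x : (Module.End F V)ˣ => (x : Module.End F V)) '' (Z : Set (Module.End F V)ˣ))

lemma le_algNormalizer_groupAlg (G Z : Subgroup (Module.End F V)ˣ)
    (hZn : ∀ g ∈ G, ∀ z ∈ Z, g * z * g⁻¹ ∈ Z) : G ≤ algNormalizer (groupAlg Z) := by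
  have key : ∀ g ∈ G, ∀ k ∈ groupAlg Z,
      (g : Module.End F V) * k * ((g⁻¹ : (Module.End F V)ˣ) : Module.End F V) ∈ groupAlg Z := by
    intro g hg k hk
    unfold groupAlg at hk ⊢
    induction hk using Algebra.adjoin_induction with
    | mem x hx =>
      obtain ⟨z, hz, rfl⟩ := hx
      apply Algebra.subset_adjoin
      exact ⟨g * z * g⁻¹, hZn g hg z hz, by simp [Units.val_mul]⟩
    | algebraMap r =>
      have : (g : Module.End F V) * (algebraMap F (Module.End F V) r) *
          ((g⁻¹ : (Module.End F V)ˣ) : Module.End F V) = algebraMap F (Module.End F V) r := by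
        rw [← Algebra.commutes r (g : Module.End F V), mul_assoc, Units.mul_inv, mul_one]
      rw [this]
      exact Subalgebra.algebraMap_mem _ r
    | add x y _ _ hx hy =>
      rw [mul_add, add_mul]
      exact Subalgebra.add_mem _ hx hy
    | mul x y _ _ hx hy =>
      have : (g : Module.End F V) * (x * y) * ((g⁻¹ : (Module.End F V)ˣ) : Module.End F V) =
          ((g : Module.End F V) * x * ((g⁻¹ : (Module.End F V)ˣ) : Module.End F V)) *
          ((g : Module.End F V) * y * ((g⁻¹ : (Module.End F V)ˣ) : Module.End F V)) := by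
        have h1 : ((g⁻¹ : (Module.End F V)ˣ) : Module.End F V) * (g : Module.End F V) = 1 :=
          Units.inv_mul g
        calc (g : Module.End F V) * (x * y) * ((g⁻¹ : (Module.End F V)ˣ) : Module.End F V)
            = (g : Module.End F V) * x * 1 * y * ((g⁻¹ : (Module.End F V)ˣ) : Module.End F V) := by
              noncomm_ring
          _ = _ := by rw [← h1]; noncomm_ring
      rw [this]
      exact Subalgebra.mul_mem _ hx hy
  intro g hg k hk
  refine ⟨key g hg k hk, ?_⟩
  have := key g⁻¹ (G.inv_mem hg) k hk
  simpa using this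

/-- Non-identity elements of an abelian normal subgroup of a primitive irreducible linear group have no
non-zero fixed vectors. -/
theorem eigenspace_one_eq_bot_of_abelian_normal [Nontrivial V] (G Z : Subgroup (Module.End F V)ˣ)
    (hirr : UnitsIrreducible G) (hprim : UnitsPrimitive G)
    (hZn : ∀ g ∈ G, ∀ z ∈ Z, g * z * g⁻¹ ∈ Z) (hZab : ∀ a ∈ Z, ∀ b ∈ Z, a * b = b * a)
    (z : (Module.End F V)ˣ) (hz : z ∈ Z) (hz1 : z ≠ 1) :
    Module.End.eigenspace (z : Module.End F V) 1 = ⊥ := by
  have hGK := le_algNormalizer_groupAlg G Z hZn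
  have hcomm : ∀ a ∈ groupAlg Z, ∀ b ∈ groupAlg Z, a * b = b * a := by
    have : IsMulCommutative (groupAlg Z) := by
      unfold groupAlg
      apply Algebra.isMulCommutative_adjoin
      rintro _ ⟨a, ha, rfl⟩ _ ⟨b, hb, rfl⟩
      rw [← Units.val_mul, ← Units.val_mul, hZab a ha b hb]
    intro a ha b hb
    exact setLike_mul_comm ha hb
  have hk : (z : Module.End F V) - 1 ∈ groupAlg Z := by
    apply Subalgebra.sub_mem
    · exact Algebra.subset_adjoin ⟨z, hz, rfl⟩
    · exact Subalgebra.one_mem _
  have hk0 : (z : Module.End F V) - 1 ≠ 0 := by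
    intro h
    apply hz1
    apply Units.ext
    rw [Units.val_one]
    exact sub_eq_zero.mp h
  have := ker_eq_bot_of_comm G hGK hirr hprim hcomm _ hk hk0
  rw [Module.End.eigenspace_def, one_smul]
  exact this

end

end Cfsg.Agent.Helper97
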