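import Mathlib
import Cfsg.Agent.Helper93.ParabolicMax

/-!
helper97: the stabiliser in `GL_n(F)` of a proper nonzero subspace is a maximal subgroup
(on top of helper93's `SL_n` version).
-/

set_option autoImplicit false

namespace Cfsg.Agent.Helper97

open Cfsg.Geo Cfsg.Agent.Helper93 Matrix

variable {F : Type*} [Field F] {n : ℕ}

/-- the coordinate subspace spanned by the first `k` basis vectors -/
def coordSub (F : Type*) [Field F] (n k : ℕ) : Submodule F (Fin n → F) where
  carrier := {v | ∀ i : Fin n, k ≤ (i : ℕ) → v i = 0}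
  add_mem' := by
    intro a b ha hb i hi
    simp [ha i hi, hb i hi]
  zero_mem' := by
    intro i _
    rfl
  smul_mem' := by
    intro c v hv i hi
    simp [hv i hi]

theorem mem_coordSub {k : ℕ} {v : Fin n → F} :
    v ∈ coordSub F n k ↔ ∀ i : Fin n, k ≤ (i : ℕ) → v i = 0 := Iff.rfl

theorem coordSub_ne_bot {k : ℕ} (hk0 : 0 < k) (hkn : k < n) : coordSub F n k ≠ ⊥ := by
  intro h
  have hmem : (Pi.single (⟨0, by omega⟩ : Fin n) (1 : F)) ∈ coordSub F n k := by
    intro i hi
    have : i ≠ (⟨0, by omega⟩ : Fin n) := by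
      intro hi0
      rw [hi0] at hi
      simp at hi
      omega
    simp [this]
  rw [h, Submodule.mem_bot] at hmem
  have := congrFun hmem (⟨0, by omega⟩ : Fin n)
  simp at this

theorem coordSub_ne_top {k : ℕ} (hkn : k < n) : coordSub F n k ≠ ⊤ := by
  intro h
  have hmem : (Pi.single (⟨k, hkn⟩ : Fin n) (1 : F)) ∈ coordSub F n k := by
    rw [h]; exact Submodule.mem_top
  have := hmem ⟨k, hkn⟩ le_rfl
  simp at this

/-- a diagonal matrix with one entry `c ≠ 0` and the others `1` -/
noncomputable def diagOne (i₀ : Fin n) (c : F) (hc : c ≠ 0) : Matrix.GeneralLinearGroup (Fin n) F :=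
  Matrix.GeneralLinearGroup.mkOfDetNeZero
    (Matrix.diagonal (fun i => if i = i₀ then c else 1))
    (by rw [Matrix.det_diagonal, Finset.prod_ite_eq' Finset.univ i₀ (fun _ => c)]; simpa using hc)

theorem diagOne_det (i₀ : Fin n) (c : F) (hc : c ≠ 0) :
    ((diagOne i₀ c hc : Matrix.GeneralLinearGroup (Fin n) F) : Matrix (Fin n) (Fin n) F).det = c := by
  show (Matrix.diagonal (fun i => if i = i₀ then c else 1)).det = c
  rw [Matrix.det_diagonal, Finset.prod_ite_eq' Finset.univ i₀ (fun _ => c)]; simp

theorem diagOne_mem_stab (i₀ : Fin n) (c : F) (hc : c ≠ 0) (k : ℕ) :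
    diagOne i₀ c hc ∈ subspaceStabilizer (coordSub F n k) := by
  rw [mem_subspaceStabilizer_iff]
  intro v
  have hmv : ∀ i, ((diagOne i₀ c hc : Matrix.GeneralLinearGroup (Fin n) F) :
      Matrix (Fin n) (Fin n) F).mulVec v i = (if i = i₀ then c else 1) * v i := by
    intro i
    show (Matrix.diagonal (fun i => if i = i₀ then c else 1)).mulVec v i = _
    rw [Matrix.mulVec_diagonal]
  constructor
  · intro hv i hi
    rw [hmv, hv i hi, mul_zero]
  · intro hv i hi
    have := hv i hi
    rw [hmv] at this
    rcases mul_eq_zero.mp this with h | h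
    · exfalso
      split_ifs at h
      · exact hc h
      · exact one_ne_zero h
    · exact h

/-- the stabiliser in `GL_n` of a proper nonzero coordinate subspace is a coatom -/
theorem subspaceStabilizer_coordSub_isCoatom {k : ℕ} (hk0 : 0 < k) (hkn : k < n) :
    IsCoatom (subspaceStabilizer (coordSub F n k)) := by
  have hn : 2 ≤ n := by omega
  have : Nontrivial (Fin n) := Fin.nontrivial_iff_two_le.mpr hn
  set W := coordSub F n k with hW
  constructor
  · intro htop
    obtain ⟨g, _, hg⟩ := exists_sl_not_stab W (coordSub_ne_bot hk0 hkn) (coordSub_ne_top hkn)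
    exact hg (by rw [htop]; trivial)
  · intro M hlt
    have hP : subspaceStabilizer W ⊓ specialLinear (Fin n) F ≤ M := inf_le_left.trans hlt.le
    obtain ⟨g, hgM, hgW⟩ := SetLike.exists_of_lt hlt
    have hdir : dirSub M = ⊤ := by
      rw [mem_subspaceStabilizer_iff] at hgW
      push Not at hgW
      obtain ⟨x, hx⟩ := hgW
      rcases hx with ⟨hxW, hgx⟩ | ⟨hxW, hgx⟩
      · exact dirSub_eq_top W hP (dirSet_map (le_dirSub W hP hxW) hgM) hgx
      · have := dirSet_map (le_dirSub W hP hgx) (M.inv_mem hgM)
        rw [gl_inv_mulVec'] at this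
        exact dirSub_eq_top W hP this hxW
    have hSL : specialLinear (Fin n) F ≤ M := sl_le_of_dirSub_eq_top hdir
    rw [eq_top_iff]
    intro g _
    have hc : (g : Matrix (Fin n) (Fin n) F).det ≠ 0 := by
      have := (Matrix.GeneralLinearGroup.det g).ne_zero
      simpa using this
    set d := diagOne (⟨0, by omega⟩ : Fin n) _ hc with hd
    have hdM : d ∈ M := hlt.le (diagOne_mem_stab _ _ hc k)
    have hdet : Matrix.GeneralLinearGroup.det d = Matrix.GeneralLinearGroup.det g := by
      apply Units.ext
      simp only [Matrix.GeneralLinearGroup.val_det_apply]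
      exact diagOne_det _ _ hc
    have hs : g * d⁻¹ ∈ specialLinear (Fin n) F := by
      show Matrix.GeneralLinearGroup.det (g * d⁻¹) = 1
      rw [map_mul, map_inv, hdet, mul_inv_cancel]
    have : g = (g * d⁻¹) * d := by group
    rw [this]
    exact M.mul_mem (hSL hs) hdM

end Cfsg.Agent.Helper97
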