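import Mathlib
import Cfsg.Agent.Helper97.CoordParabolic

/-!
helper97: stabilisers of coordinate subspaces in `GL_n(F)`: zero-block characterisation,
the duality `P_k ≃* P_{n-k}`, invariant subspaces of a parabolic, dimension of `coordSub`.
-/

set_option autoImplicit false

namespace Cfsg.Agent.Helper97

open Cfsg.Geo Cfsg.Agent.Helper93 Matrix

variable {F : Type*} [Field F] {n : ℕ}

/-- it suffices to map `W` into `W` -/
theorem mem_subspaceStabilizer_of_forall (W : Submodule F (Fin n → F))
    (g : Matrix.GeneralLinearGroup (Fin n) F)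
    (h : ∀ v ∈ W, (g : Matrix (Fin n) (Fin n) F).mulVec v ∈ W) : g ∈ subspaceStabilizer W := by
  rw [mem_subspaceStabilizer_iff]
  intro v
  refine ⟨h v, fun hv => ?_⟩
  set f : (Fin n → F) →ₗ[F] (Fin n → F) := Matrix.mulVecLin (g : Matrix (Fin n) (Fin n) F) with hf
  have hfW : ∀ w ∈ W, f w ∈ W := fun w hw => h w hw
  have hinj : Function.Injective f := by
    intro a b hab
    have : (g : Matrix (Fin n) (Fin n) F).mulVec a = (g : Matrix (Fin n) (Fin n) F).mulVec b := hab
    have h2 := congrArg (fun y => ((g⁻¹ : Matrix.GeneralLinearGroup (Fin n) F) :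
      Matrix (Fin n) (Fin n) F).mulVec y) this
    simpa [gl_inv_mulVec'] using h2
  have hrinj : Function.Injective (f.restrict hfW) := by
    intro a b hab
    apply Subtype.ext
    apply hinj
    exact congrArg Subtype.val hab
  have hrsurj : Function.Surjective (f.restrict hfW) :=
    LinearMap.surjective_of_injective hrinj
  obtain ⟨w, hw⟩ := hrsurj ⟨(g : Matrix (Fin n) (Fin n) F).mulVec v, hv⟩
  have h3 : f w = f v := congrArg Subtype.val hw
  have h4 : (w : Fin n → F) = v := hinj h3
  rw [← h4]
  exact w.2

/-- zero-block characterisation of the stabiliser of a coordinate subspace -/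
theorem mem_stab_coordSub_iff (g : Matrix.GeneralLinearGroup (Fin n) F) (j : ℕ) :
    g ∈ subspaceStabilizer (coordSub F n j) ↔
      ∀ a b : Fin n, j ≤ (a : ℕ) → (b : ℕ) < j → (g : Matrix (Fin n) (Fin n) F) a b = 0 := by
  constructor
  · intro hg a b ha hb
    rw [mem_subspaceStabilizer_iff] at hg
    have hmem : (Pi.single b (1 : F)) ∈ coordSub F n j := by
      intro i hi
      have : i ≠ b := by
        intro hib
        rw [hib] at hi
        omega
      simp [this]
    have := (hg _).mp hmem a ha
    rw [Matrix.mulVec_single_one] at this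
    exact this
  · intro h
    apply mem_subspaceStabilizer_of_forall
    intro v hv a ha
    rw [Matrix.mulVec, dotProduct]
    apply Finset.sum_eq_zero
    intro b _
    by_cases hb : (b : ℕ) < j
    · rw [h a b ha hb, zero_mul]
    · rw [hv b (by omega), mul_zero]

/-- the duality map `g ↦ (g⁻¹)ᵀ` conjugated by the reversal of coordinates -/
def dualMat (g : Matrix.GeneralLinearGroup (Fin n) F) : Matrix.GeneralLinearGroup (Fin n) F where
  val := ((g⁻¹ : Matrix.GeneralLinearGroup (Fin n) F) : Matrix (Fin n) (Fin n) F).transpose.submatrix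
    Fin.revPerm Fin.revPerm
  inv := (g : Matrix (Fin n) (Fin n) F).transpose.submatrix Fin.revPerm Fin.revPerm
  val_inv := by
    rw [Matrix.submatrix_mul_equiv, ← Matrix.transpose_mul, ← Units.val_mul, mul_inv_cancel]
    simp
  inv_val := by
    rw [Matrix.submatrix_mul_equiv, ← Matrix.transpose_mul, ← Units.val_mul, inv_mul_cancel]
    simp

theorem dualMat_apply (g : Matrix.GeneralLinearGroup (Fin n) F) (a b : Fin n) :
    (dualMat g : Matrix (Fin n) (Fin n) F) a b =
      ((g⁻¹ : Matrix.GeneralLinearGroup (Fin n) F) : Matrix (Fin n) (Fin n) F) (Fin.rev b) (Fin.rev a) :=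
  rfl

theorem dualMat_mul (g h : Matrix.GeneralLinearGroup (Fin n) F) :
    dualMat (g * h) = dualMat g * dualMat h := by
  apply Units.ext
  show ((( (g * h)⁻¹ : Matrix.GeneralLinearGroup (Fin n) F) : Matrix (Fin n) (Fin n) F).transpose.submatrix
    Fin.revPerm Fin.revPerm) = _
  rw [Units.val_mul]
  show _ = (((g⁻¹ : Matrix.GeneralLinearGroup (Fin n) F) : Matrix (Fin n) (Fin n) F).transpose.submatrix
    Fin.revPerm Fin.revPerm) * (((h⁻¹ : Matrix.GeneralLinearGroup (Fin n) F) :
    Matrix (Fin n) (Fin n) F).transpose.submatrix Fin.revPerm Fin.revPerm)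
  rw [Matrix.submatrix_mul_equiv, ← Matrix.transpose_mul, ← Units.val_mul, _root_.mul_inv_rev]

theorem dualMat_inv (g : Matrix.GeneralLinearGroup (Fin n) F) :
    ((dualMat g)⁻¹ : Matrix.GeneralLinearGroup (Fin n) F) = dualMat g⁻¹ := by
  apply Units.ext
  show (g : Matrix (Fin n) (Fin n) F).transpose.submatrix Fin.revPerm Fin.revPerm = _
  show _ = (((g⁻¹)⁻¹ : Matrix.GeneralLinearGroup (Fin n) F) :
    Matrix (Fin n) (Fin n) F).transpose.submatrix Fin.revPerm Fin.revPerm
  rw [inv_inv]

theorem dualMat_dualMat (g : Matrix.GeneralLinearGroup (Fin n) F) : dualMat (dualMat g) = g := by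
  apply Units.ext
  ext a b
  rw [dualMat_apply, dualMat_inv, dualMat_apply, inv_inv, Fin.rev_rev, Fin.rev_rev]

/-- duality maps `P_j` into `P_{n-j}` -/
theorem dualMat_mem_stab {j : ℕ} (hj : j ≤ n) {g : Matrix.GeneralLinearGroup (Fin n) F}
    (hg : g ∈ subspaceStabilizer (coordSub F n j)) :
    dualMat g ∈ subspaceStabilizer (coordSub F n (n - j)) := by
  rw [mem_stab_coordSub_iff]
  intro a b ha hb
  rw [dualMat_apply]
  have hg' := (mem_stab_coordSub_iff g⁻¹ j).mp (Subgroup.inv_mem _ hg)
  apply hg'
  · rw [Fin.val_rev]; omega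
  · rw [Fin.val_rev]; omega

/-- the isomorphism `P_j ≃* P_{n-j}` -/
def stabDual {j : ℕ} (hj : j ≤ n) :
    ↥(subspaceStabilizer (coordSub F n j)) ≃* ↥(subspaceStabilizer (coordSub F n (n - j))) where
  toFun x := ⟨dualMat x.1, dualMat_mem_stab hj x.2⟩
  invFun y := ⟨dualMat y.1, by
    have := dualMat_mem_stab (F := F) (Nat.sub_le n j) y.2
    rwa [Nat.sub_sub_self hj] at this⟩
  left_inv x := Subtype.ext (dualMat_dualMat x.1)
  right_inv y := Subtype.ext (dualMat_dualMat y.1)
  map_mul' x y := Subtype.ext (dualMat_mul x.1 y.1)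

/-- A subspace invariant under the stabiliser of `W` is `⊥`, `W` or `⊤`. -/
theorem invariant_subspace_trichotomy (W U : Submodule F (Fin n → F))
    (hU : ∀ g ∈ subspaceStabilizer W, ∀ u ∈ U, (g : Matrix (Fin n) (Fin n) F).mulVec u ∈ U) :
    U = ⊥ ∨ U = W ∨ U = ⊤ := by
  by_cases hUW : U ≤ W
  · by_cases hbot : U = ⊥
    · exact Or.inl hbot
    · right; left
      obtain ⟨u, hu, hu0⟩ := Submodule.exists_mem_ne_zero_of_ne_bot hbot
      apply le_antisymm hUW
      intro v hv
      by_cases huv : u ∈ Submodule.span F {v}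
      · rw [Submodule.mem_span_singleton] at huv
        obtain ⟨c, hc⟩ := huv
        have hc0 : c ≠ 0 := by
          rintro rfl
          rw [zero_smul] at hc
          exact hu0 hc.symm
        have : v = c⁻¹ • u := by rw [← hc, smul_smul, inv_mul_cancel₀ hc0, one_smul]
        rw [this]
        exact U.smul_mem _ hu
      · obtain ⟨φ, hφu, hφv⟩ := exists_dual_one_zero _ u huv
        have hφv0 : φ v = 0 := hφv v (Submodule.mem_span_singleton_self v)
        have ht := hU _ (tv_mem_stab_of_mem W φ v hφv0 hv) u hu
        rw [tv_mulVec, hφu, one_smul] at ht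
        exact (U.add_mem_iff_right hu).mp ht
  · right; right
    obtain ⟨u, hu, huW⟩ := SetLike.not_le_iff_exists.mp hUW
    have hWU : W ≤ U := by
      intro v hv
      have hnot : u ∉ W ⊔ Submodule.span F {v} := by
        have : W ⊔ Submodule.span F {v} = W := by
          rw [sup_eq_left, Submodule.span_singleton_le_iff_mem]; exact hv
        rw [this]; exact huW
      obtain ⟨g, _, hgW, hgu⟩ := exists_sl_stab_move W u v hnot
      have := hU g hgW u hu
      rw [hgu] at this
      exact (U.add_mem_iff_right hu).mp this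
    rw [eq_top_iff]
    intro x _
    by_cases hnot : u ∉ W ⊔ Submodule.span F {x - u}
    · obtain ⟨g, _, hgW, hgu⟩ := exists_sl_stab_move W u (x - u) hnot
      have := hU g hgW u hu
      rw [hgu] at this
      have hx : u + (x - u) = x := by abel
      rwa [hx] at this
    · push Not at hnot
      rw [Submodule.mem_sup] at hnot
      obtain ⟨w, hw, y, hy, hwy⟩ := hnot
      rw [Submodule.mem_span_singleton] at hy
      obtain ⟨c, rfl⟩ := hy
      have hc0 : c ≠ 0 := by
        rintro rfl
        rw [zero_smul, add_zero] at hwy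
        exact huW (hwy ▸ hw)
      have hx : x = c⁻¹ • ((1 + c) • u - w) := by
        have h1 : c • x = (1 + c) • u - w := by
          have h2 : w = u - c • (x - u) := eq_sub_of_add_eq hwy
          rw [h2]
          module
        rw [← h1, smul_smul, inv_mul_cancel₀ hc0, one_smul]
      rw [hx]
      exact U.smul_mem _ (U.sub_mem (U.smul_mem _ hu) (hWU hw))

/-- `coordSub F n j` has dimension `j` -/
theorem finrank_coordSub {j : ℕ} (hj : j ≤ n) : Module.finrank F (coordSub F n j) = j := by
  let e : ↥(coordSub F n j) ≃ₗ[F] (Fin j → F) :=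
    { toFun := fun v i => v.1 (Fin.castLE hj i)
      map_add' := fun v w => by ext i; simp
      map_smul' := fun c v => by ext i; simp
      invFun := fun w => ⟨fun i => if h : (i : ℕ) < j then w ⟨i, h⟩ else 0, by
        intro i hi
        have : ¬ (i : ℕ) < j := by omega
        simp [this]⟩
      left_inv := by
        intro v
        apply Subtype.ext
        funext i
        by_cases h : (i : ℕ) < j
        · simp only [h, dite_true]
          congr 1
        · simp only [h, dite_false]
          exact (v.2 i (by omega)).symm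
      right_inv := by
        intro w
        funext i
        simp }
  rw [e.finrank_eq, Module.finrank_fin_fun]

end Cfsg.Agent.Helper97
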