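/-
Helper97: dimension counts for fixed-point spaces of linear maps (two-translate arguments).
-/
import Mathlib

set_option autoImplicit false

namespace Cfsg.Agent.Helper97

variable {F : Type*} [Field F] {V : Type*} [AddCommGroup V] [Module F V]

lemma finrank_map_of_injective (f : V →ₗ[F] V) (hf : Function.Injective f) (p : Submodule F V) :
    Module.finrank F (p.map f) = Module.finrank F p :=
  (Submodule.equivMapOfInjective f hf p).finrank_eq.symm

/-- If an injective map `x` carries the fixed space of `y` into the fixed space of `w`, and `y`, `w` have
no common non-zero fixed vector, then the fixed space of `y` has dimension at most half of `dim V`. -/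
lemma two_mul_finrank_fixed_le [FiniteDimensional F V] (y w x : Module.End F V) (hx : Function.Injective x)
    (h1 : ∀ v, y v = v → w (x v) = x v) (h2 : ∀ v, y v = v → w v = v → v = 0) :
    2 * Module.finrank F (Module.End.eigenspace y 1) ≤ Module.finrank F V := by
  set P := Module.End.eigenspace y 1 with hP
  set Q := Module.End.eigenspace w 1 with hQ
  have hPQ : P.map x ≤ Q := by
    rintro _ ⟨v, hv, rfl⟩
    rw [hQ, Module.End.mem_eigenspace_iff, one_smul]
    apply h1
    have := hv
    rw [SetLike.mem_coe, hP, Module.End.mem_eigenspace_iff, one_smul] at this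
    exact this
  have hdisj : Disjoint P Q := by
    rw [Submodule.disjoint_def]
    intro v hvP hvQ
    rw [hP, Module.End.mem_eigenspace_iff, one_smul] at hvP
    rw [hQ, Module.End.mem_eigenspace_iff, one_smul] at hvQ
    exact h2 v hvP hvQ
  have h3 := Submodule.finrank_add_finrank_le_of_disjoint hdisj
  have h4 : Module.finrank F P ≤ Module.finrank F Q := by
    rw [← finrank_map_of_injective x hx P]
    exact Submodule.finrank_mono hPQ
  omega

/-- If `fix g ∩ b (fix g) ⊆ fix y` for an injective `b`, and `fix y` has dimension at most half of `dim V`,
then `fix g` has dimension at most three quarters of `dim V`. -/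
lemma four_mul_finrank_fixed_le [FiniteDimensional F V] (g y b : Module.End F V) (hb : Function.Injective b)
    (h : ∀ v, g v = v → g (b v) = b v → y (b v) = b v)
    (hy : 2 * Module.finrank F (Module.End.eigenspace y 1) ≤ Module.finrank F V) :
    4 * Module.finrank F (Module.End.eigenspace g 1) ≤ 3 * Module.finrank F V := by
  set P := Module.End.eigenspace g 1 with hP
  set Q := Module.End.eigenspace y 1 with hQ
  have hle : P ⊓ P.map b ≤ Q := by
    rintro v ⟨hv1, u, hu, rfl⟩
    rw [SetLike.mem_coe, hP, Module.End.mem_eigenspace_iff, one_smul] at hv1 hu
    rw [hQ, Module.End.mem_eigenspace_iff, one_smul]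
    exact h u hu hv1
  have h1 := Submodule.finrank_sup_add_finrank_inf_eq P (P.map b)
  have h2 : Module.finrank F (P.map b) = Module.finrank F P := finrank_map_of_injective b hb P
  have h3 : Module.finrank F (P ⊓ P.map b : Submodule F V) ≤ Module.finrank F Q :=
    Submodule.finrank_mono hle
  have h4 : Module.finrank F (P ⊔ P.map b : Submodule F V) ≤ Module.finrank F V :=
    Submodule.finrank_le _
  omega

end Cfsg.Agent.Helper97
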