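import Mathlib

/-!
# (GAG-B) of board #5685 (for helper95, S4839 Gagola): `p` odd, every `p`-element lies in `N`
-/

set_option autoImplicit false

namespace Cfsg.Agent.Helper97.GagolaB

/-- (GAG-B) -/
theorem pElement_mem_of_odd {G : Type*} [Group G] [Finite G] {p : ℕ} [Fact p.Prime] (hp2 : p ≠ 2)
    (N : Subgroup G) [N.Normal] (hNp : IsPGroup p N) (hcomm : ∀ a ∈ N, ∀ b ∈ N, a * b = b * a)
    (hcent : ∀ x ∈ N, x ≠ 1 → IsPGroup p (Subgroup.centralizer ({x} : Set G)))
    (hcam : ∀ g : G, g ∉ N → ∀ n ∈ N, ∃ c : G, c * g * c⁻¹ = g * n)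
    (hCN : Subgroup.centralizer (N : Set G) ≤ N) (heven : 2 ∣ Nat.card G) (hN1 : N ≠ ⊥)
    (y : G) (k : ℕ) (hy : y ^ p ^ k = 1) : y ∈ N := by
  classical
  by_contra hyN
  have hp : p.Prime := Fact.out
  have hnorm : ∀ (g : G) (a : G), a ∈ N → g * a * g⁻¹ ∈ N := fun g a ha =>
    (inferInstance : N.Normal).conj_mem a ha g
  have hinvol : ∀ s : G, orderOf s = 2 → s * s = 1 ∧ s⁻¹ = s := by
    intro s hs
    have hs2 : s * s = 1 := by rw [← pow_two, ← hs, pow_orderOf_eq_one]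
    exact ⟨hs2, inv_eq_of_mul_eq_one_right hs2⟩
  -- (1) involutions invert `N`
  have INV : ∀ s : G, orderOf s = 2 → ∀ a ∈ N, s * a * s⁻¹ = a⁻¹ := by
    intro s hs a ha
    obtain ⟨hs2, hsinv⟩ := hinvol s hs
    have hsa : s * a * s⁻¹ ∈ N := hnorm s a ha
    by_contra hne
    have hbN : a * (s * a * s⁻¹) ∈ N := N.mul_mem ha hsa
    have hb1 : a * (s * a * s⁻¹) ≠ 1 := by
      intro h1
      exact hne (eq_inv_of_mul_eq_one_right h1)
    have hsb : s * (a * (s * a * s⁻¹)) * s⁻¹ = a * (s * a * s⁻¹) := by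
      have e1 : s * (a * (s * a * s⁻¹)) * s⁻¹ = (s * a * s⁻¹) * ((s * s) * a * (s * s)⁻¹) := by
        group
      rw [e1, hs2]
      simp only [one_mul, inv_one, mul_one]
      exact hcomm _ hsa _ ha
    have hsC : s ∈ Subgroup.centralizer ({a * (s * a * s⁻¹)} : Set G) := by
      rw [Subgroup.mem_centralizer_singleton_iff]
      calc s * (a * (s * a * s⁻¹)) = (s * (a * (s * a * s⁻¹)) * s⁻¹) * s := by group
        _ = a * (s * a * s⁻¹) * s := by rw [hsb]
    obtain ⟨j, hj⟩ := hcent _ hbN hb1 ⟨s, hsC⟩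
    have hj' : s ^ p ^ j = 1 := by simpa using congrArg Subtype.val hj
    have h2 : orderOf s ∣ p ^ j := orderOf_dvd_of_pow_eq_one hj'
    rw [hs] at h2
    have h3 : 2 ∣ p := Nat.Prime.dvd_of_dvd_pow Nat.prime_two h2
    exact hp2 ((Nat.prime_dvd_prime_iff_eq Nat.prime_two hp).mp h3).symm
  -- (2) products of two involutions lie in `N`
  have PROD : ∀ s s1 : G, orderOf s = 2 → orderOf s1 = 2 → s * s1 ∈ N := by
    intro s s1 hs hs1
    apply hCN
    rw [Subgroup.mem_centralizer_iff]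
    intro a ha
    have h1 := INV s1 hs1 a ha
    have h2 := INV s hs a⁻¹ (N.inv_mem ha)
    rw [inv_inv] at h2
    have h3 : (s * s1) * a * (s * s1)⁻¹ = a := by
      calc (s * s1) * a * (s * s1)⁻¹ = s * (s1 * a * s1⁻¹) * s⁻¹ := by group
        _ = a := by rw [h1, h2]
    calc a * (s * s1) = ((s * s1) * a * (s * s1)⁻¹) * (s * s1) := by rw [h3]
      _ = (s * s1) * a := by group
  -- (3) an involution `t`
  have : Fact (Nat.Prime 2) := ⟨Nat.prime_two⟩
  obtain ⟨t, ht⟩ := exists_prime_orderOf_dvd_card' 2 heven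
  obtain ⟨ht2, htinv⟩ := hinvol t ht
  have hs1 : orderOf (y * t * y⁻¹) = 2 := by
    have : y * t * y⁻¹ = MulAut.conj y t := rfl
    rw [this, MulEquiv.orderOf_eq, ht]
  set m : G := t * (y * t * y⁻¹) with hm
  have hmN : m ∈ N := PROD t _ ht hs1
  have htyt : t * y * t⁻¹ = m * y := by
    rw [hm, htinv]; group
  -- (4) a square root of `m`
  have hoddN : Odd (Nat.card N) := by
    obtain ⟨j, hj⟩ := IsPGroup.iff_card.mp hNp
    rw [hj]
    exact Odd.pow (hp.odd_of_ne_two hp2)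
  have hsqrt : ∀ b ∈ N, ∃ n ∈ N, n * n = b := by
    intro b hb
    obtain ⟨r, hr⟩ := hoddN
    refine ⟨b ^ (r + 1), N.pow_mem hb _, ?_⟩
    have h1 : b ^ Nat.card N = 1 := by
      have h0 : (⟨b, hb⟩ : N) ^ Nat.card N = 1 := pow_card_eq_one'
      have h00 := congrArg Subtype.val h0
      rwa [Subgroup.coe_pow, Subgroup.coe_one] at h00
    rw [← pow_add]
    have : r + 1 + (r + 1) = Nat.card N + 1 := by omega
    rw [this, pow_succ, h1, one_mul]
  obtain ⟨n1, hn1N, hn1⟩ := hsqrt m hmN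
  set h : G := n1 * y with hh
  have hhN : h ∉ N := by
    intro hcon
    apply hyN
    have : y = n1⁻¹ * h := by rw [hh]; group
    rw [this]
    exact N.mul_mem (N.inv_mem hn1N) hcon
  have hth : t * h * t⁻¹ = h := by
    have e1 : t * h * t⁻¹ = (t * n1 * t⁻¹) * (t * y * t⁻¹) := by rw [hh]; group
    rw [e1, INV t ht n1 hn1N, htyt, ← hn1, hh]
    group
  -- (5) `C_N(h) = 1`
  have hCNh : ∀ a ∈ N, a * h = h * a → a = 1 := by
    -- the map `φ a = (h⁻¹ a⁻¹ h) a` on `N`
    let φ : N → N := fun a => ⟨(h⁻¹ * (a : G)⁻¹ * h) * (a : G), N.mul_mem (by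
      have := hnorm h⁻¹ (a : G)⁻¹ (N.inv_mem a.2)
      simpa using this) a.2⟩
    have hsurj : Function.Surjective φ := by
      intro b
      obtain ⟨n, hnN, hnb⟩ := hsqrt b b.2
      obtain ⟨c, hc⟩ := hcam h hhN n hnN
      have ht1 : orderOf (c * t * c⁻¹) = 2 := by
        have : c * t * c⁻¹ = MulAut.conj c t := rfl
        rw [this, MulEquiv.orderOf_eq, ht]
      have hwN : t * (c * t * c⁻¹) ∈ N := PROD t _ ht ht1
      set w : G := t * (c * t * c⁻¹) with hw
      have ht1w : c * t * c⁻¹ = t * w := by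
        rw [hw, ← mul_assoc, ht2, one_mul]
      -- `t1` commutes with `h n`
      have hcomm1 : (c * t * c⁻¹) * (h * n) * (c * t * c⁻¹)⁻¹ = h * n := by
        rw [← hc]
        calc (c * t * c⁻¹) * (c * h * c⁻¹) * (c * t * c⁻¹)⁻¹ = c * (t * h * t⁻¹) * c⁻¹ := by group
          _ = c * h * c⁻¹ := by rw [hth]
      -- expand
      have e1 : (t * w) * (h * n) * (t * w)⁻¹
          = (t * w * t⁻¹) * (t * h * t⁻¹) * (t * w * t⁻¹)⁻¹ * (t * (w * n * w⁻¹) * t⁻¹) := by group
      rw [ht1w, e1, INV t ht w hwN, hth] at hcomm1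
      have hwn : w * n * w⁻¹ = n := by
        rw [hcomm w hwN n hnN, mul_assoc, mul_inv_cancel, mul_one]
      rw [hwn, INV t ht n hnN, inv_inv] at hcomm1
      -- hcomm1 : w⁻¹ * h * w * n⁻¹ = h * n
      refine ⟨⟨w, hwN⟩, ?_⟩
      apply Subtype.ext
      show (h⁻¹ * w⁻¹ * h) * w = (b : G)
      rw [← hnb]
      have : h⁻¹ * w⁻¹ * h * w = h⁻¹ * (w⁻¹ * h * w * n⁻¹) * n := by group
      rw [this, hcomm1]
      group
    have hinj : Function.Injective φ := Finite.injective_iff_surjective.mpr hsurj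
    intro a ha hah
    have h1 : φ ⟨a, ha⟩ = φ 1 := by
      apply Subtype.ext
      show (h⁻¹ * a⁻¹ * h) * a = (h⁻¹ * (1 : G)⁻¹ * h) * 1
      have : a⁻¹ * h = h * a⁻¹ := by
        calc a⁻¹ * h = a⁻¹ * (h * a) * a⁻¹ := by group
          _ = a⁻¹ * (a * h) * a⁻¹ := by rw [hah]
          _ = h * a⁻¹ := by group
      rw [mul_assoc h⁻¹, this]
      group
    have := hinj h1
    exact congrArg Subtype.val this
  -- (6) `h` is a `p`-element
  have hhpk : h ^ p ^ k = 1 := by
    apply hCNh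
    · -- in `N`: image in the quotient
      rw [← QuotientGroup.eq_one_iff, QuotientGroup.mk_pow]
      have : (h : G ⧸ N) = (y : G ⧸ N) := by
        rw [hh, QuotientGroup.mk_mul, (QuotientGroup.eq_one_iff n1).mpr hn1N, one_mul]
      rw [this, ← QuotientGroup.mk_pow, hy, QuotientGroup.mk_one]
    · exact (pow_mul_comm' h (p ^ k))
  -- the `p`-group `⟨h⟩` acts on `N` by conjugation
  let H : Subgroup G := Subgroup.zpowers h
  have hHp : IsPGroup p H := by
    rintro ⟨g, hg⟩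
    obtain ⟨i, rfl⟩ := Subgroup.mem_zpowers_iff.mp hg
    refine ⟨k, Subtype.ext ?_⟩
    show (h ^ i) ^ p ^ k = 1
    rw [← zpow_natCast, ← zpow_mul, mul_comm, zpow_mul, zpow_natCast, hhpk, one_zpow]
  let _ : MulAction H N := MulAction.compHom N ((MulAut.conjNormal (H := N)).comp H.subtype)
  have hsm : ∀ (z : H) (a : N), ((z • a : N) : G) = (z : G) * (a : G) * (z : G)⁻¹ := by
    intro z a
    rfl
  have h1 := hHp.card_modEq_card_fixedPoints N
  have hpN : p ∣ Nat.card N := by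
    obtain ⟨j, hj⟩ := IsPGroup.iff_card.mp hNp
    rw [hj]
    rcases Nat.eq_zero_or_pos j with h0 | h0
    · exfalso
      rw [h0, pow_zero] at hj
      exact hN1 (Subgroup.card_eq_one.mp hj)
    · exact dvd_pow_self p h0.ne'
  have hfix : MulAction.fixedPoints H N = {1} := by
    ext a
    simp only [MulAction.mem_fixedPoints, Set.mem_singleton_iff]
    constructor
    · intro ha
      have h2 := ha ⟨h, Subgroup.mem_zpowers h⟩
      have h3 : h * (a : G) * h⁻¹ = a := by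
        rw [← hsm ⟨h, Subgroup.mem_zpowers h⟩ a, h2]
      have h4 : (a : G) * h = h * (a : G) := by
        calc (a : G) * h = (h * (a : G) * h⁻¹) * h := by rw [h3]
          _ = h * (a : G) := by group
      exact Subtype.ext (hCNh a a.2 h4)
    · rintro rfl z
      apply Subtype.ext
      rw [hsm]
      simp
  rw [hfix] at h1
  have h5 : Nat.card N ≡ 1 [MOD p] := by simpa using h1
  have h6 : (0 : ℕ) ≡ 1 [MOD p] := ((Nat.modEq_zero_iff_dvd.mpr hpN).symm).trans h5
  have h7 : p ∣ 1 := by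
    have := (Nat.modEq_zero_iff_dvd.mp h6.symm)
    exact this
  exact hp.one_lt.ne' (Nat.dvd_one.mp h7)

end Cfsg.Agent.Helper97.GagolaB
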