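import Mathlib
import Cfsg.Agent.Helper64.GrossDefs

/-!
# Gross (S3795), piece (A3) of board #6202 (for helper64): Claim A2 from its ambient form

`H := G ⋊ ⟨σ⟩` (copy of `Helper1/SGW12.lean` with `p = 2` and target `F₂`).
-/

set_option autoImplicit false
set_option linter.style.haveILetI false

namespace Cfsg.Agent.Helper97.Gross

open Subgroup Cfsg.Agent.Helper64.Gross Cfsg.Agent.Helper47.SG
open scoped commutatorElement

universe u

/-- the Fitting subgroup is mapped into the Fitting subgroup by an isomorphism -/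
theorem map_fittingSubgroup_equiv_le {G K : Type*} [Group G] [Group K] (e : G ≃* K) :
    (Cfsg.fittingSubgroup G).map (e : G →* K) ≤ Cfsg.fittingSubgroup K := by
  rw [Subgroup.map_le_iff_le_comap]
  apply sSup_le
  rintro N ⟨hN, hnil⟩
  rw [← Subgroup.map_le_iff_le_comap]
  apply Cfsg.Agent.Lib.le_fittingSubgroup
  · exact Subgroup.Normal.map hN (e : G →* K) e.surjective
  · haveI := hnil
    exact Group.nilpotent_of_mulEquiv (e.subgroupMap N)

theorem map_fittingSubgroup_equiv {G K : Type*} [Group G] [Group K] (e : G ≃* K) :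
    (Cfsg.fittingSubgroup G).map (e : G →* K) = Cfsg.fittingSubgroup K := by
  apply le_antisymm (map_fittingSubgroup_equiv_le e)
  intro y hy
  refine ⟨e.symm y, ?_, by simp⟩
  have h1 := map_fittingSubgroup_equiv_le e.symm
  exact h1 ⟨y, hy, rfl⟩

/-- `F₂` is preserved by isomorphisms -/
theorem mem_fitting2_equiv {G K : Type*} [Group G] [Group K] (e : G ≃* K) (x : G)
    (hx : x ∈ fitting2 G) : e x ∈ fitting2 K := by
  haveI := fitting_normal G
  haveI := fitting_normal K
  have hx' : (QuotientGroup.mk' (Cfsg.fittingSubgroup G)) x ∈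
      Cfsg.fittingSubgroup (G ⧸ Cfsg.fittingSubgroup G) := hx
  let ebar := QuotientGroup.congr (Cfsg.fittingSubgroup G) (Cfsg.fittingSubgroup K) e
    (map_fittingSubgroup_equiv e)
  have h1 := map_fittingSubgroup_equiv_le ebar
  have h2 : ebar ((QuotientGroup.mk' (Cfsg.fittingSubgroup G)) x) ∈
      Cfsg.fittingSubgroup (K ⧸ Cfsg.fittingSubgroup K) := h1 ⟨_, hx', rfl⟩
  exact h2

/-- (A3) -/
theorem claimA2_of (h : ClaimA2AmbStmt.{u}) : ClaimA2Stmt.{u} := by
  intro G _ _ n σ hsol hσ hfpf g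
  classical
  haveI : Fact (2 : ℕ).Prime := ⟨Nat.prime_two⟩
  let A : Subgroup (MulAut G) := zpowers σ
  let H := G ⋊[A.subtype] A
  haveI : Finite (MulAut G) := Finite.of_injective (fun e : MulAut G => (e : G → G))
    (fun a b hab => MulEquiv.ext (fun x => congrFun hab x))
  haveI : Finite H := Finite.of_equiv _ (SemidirectProduct.equivProd (φ := A.subtype)).symm
  let iL : G →* H := SemidirectProduct.inl
  let iR : A →* H := SemidirectProduct.inr
  have hiL : Function.Injective iL := SemidirectProduct.inl_injective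
  have hconj : ∀ (a : A) (g : G), iR a * iL g * (iR a)⁻¹ = iL ((a : MulAut G) g) := by
    intro a g
    have := SemidirectProduct.inl_aut (φ := A.subtype) a g
    rw [map_inv] at this
    exact this.symm
  -- `A` is a `2`-group
  have hApg : IsPGroup 2 A := by
    intro a
    refine ⟨n + 1, ?_⟩
    obtain ⟨a, ha⟩ := a
    obtain ⟨k, rfl⟩ := mem_zpowers_iff.mp ha
    apply Subtype.ext
    show (σ ^ k) ^ (2 ^ (n + 1)) = 1
    rw [← zpow_natCast, ← zpow_mul, mul_comm, zpow_mul, zpow_natCast, hσ, one_zpow]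
  -- `2 ∤ |G|`
  have hpG : ¬ 2 ∣ Nat.card G := by
    have h1 := hApg.card_modEq_card_fixedPoints (α := G)
    have h2 : Nat.card (MulAction.fixedPoints A G) = 1 := by
      rw [Nat.card_eq_one_iff_unique]
      refine ⟨⟨?_⟩, ⟨⟨1, fun a => by
        show (a : MulAut G) • (1 : G) = 1
        rw [MulAut.smul_def, map_one]⟩⟩⟩
      rintro ⟨x, hx⟩ ⟨y, hy⟩
      apply Subtype.ext
      show x = y
      have hx1 : x = 1 := hfpf x (by
        have := hx ⟨σ, mem_zpowers σ⟩
        exact this)
      have hy1 : y = 1 := hfpf y (by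
        have := hy ⟨σ, mem_zpowers σ⟩
        exact this)
      rw [hx1, hy1]
    rw [h2] at h1
    intro hdvd
    have h3 : Nat.card G ≡ 0 [MOD 2] := (Nat.modEq_zero_iff_dvd).mpr hdvd
    have h4 : 1 ≡ 0 [MOD 2] := h1.symm.trans h3
    have h5 : 2 ∣ 1 := (Nat.modEq_zero_iff_dvd).mp h4
    omega
  -- the data in `H`
  set G' : Subgroup H := iL.range with hG'
  have hGn : G'.Normal := by
    rw [hG', show iL.range = (SemidirectProduct.rightHom (φ := A.subtype)).ker from
      SemidirectProduct.range_inl_eq_ker_rightHom]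
    infer_instance
  haveI := hGn
  have hHsol : Group.IsSolvable H := by
    haveI : Group.IsSolvable A := by
      haveI : IsMulCommutative A := ⟨⟨fun a b => by
        obtain ⟨a, ha⟩ := a
        obtain ⟨b, hb⟩ := b
        obtain ⟨k, rfl⟩ := mem_zpowers_iff.mp ha
        obtain ⟨l, rfl⟩ := mem_zpowers_iff.mp hb
        apply Subtype.ext
        show σ ^ k * σ ^ l = σ ^ l * σ ^ k
        rw [← zpow_add, ← zpow_add, add_comm]⟩⟩
      infer_instance
    exact Group.isSolvable_of_ker_le_range (iL : G →* H) (SemidirectProduct.rightHom (φ := A.subtype))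
      (by rw [SemidirectProduct.range_inl_eq_ker_rightHom])
  have hcardG' : Nat.card G' = Nat.card G :=
    Nat.card_congr (MonoidHom.ofInjective hiL).toEquiv.symm
  have hpG' : ¬ 2 ∣ Nat.card G' := by rw [hcardG']; exact hpG
  set x : H := iR ⟨σ, mem_zpowers σ⟩ with hx
  have hxpow : ∀ k : ℕ, x ^ k = iR ⟨σ ^ k, Subgroup.pow_mem _ (mem_zpowers σ) k⟩ := by
    intro k
    rw [hx, ← map_pow]
    rfl
  have hxp : x ^ (2 ^ (n + 1)) = 1 := by
    rw [hxpow]
    have : (⟨σ ^ (2 ^ (n + 1)), Subgroup.pow_mem _ (mem_zpowers σ) _⟩ : A) = 1 :=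
      Subtype.ext hσ
    rw [this, map_one]
  have hfix : ∀ g' ∈ G', x * g' = g' * x → g' = 1 := by
    rintro _ ⟨g, rfl⟩ hc
    have h2 : x * iL g * x⁻¹ = iL g := by rw [hc, mul_inv_cancel_right]
    rw [hx, hconj] at h2
    have : σ g = g := hiL h2
    rw [hfpf g this, map_one]
  have hmain := h H G' x n hHsol hpG' hxp hfix (iL g) ⟨g, rfl⟩
  -- translate the commutator
  have hcomm : ⁅x ^ (2 ^ n), iL g⁆ = iL ((σ ^ (2 ^ n)) g * g⁻¹) := by
    rw [commutatorElement_def, hxpow, hconj, map_mul, map_inv]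
  rw [hcomm] at hmain
  -- pull back `F₂`
  obtain ⟨y, hy, hyeq⟩ := hmain
  let e : G ≃* G' := MonoidHom.ofInjective hiL
  have h1 := mem_fitting2_equiv e.symm y hy
  have h2 : e.symm y = (σ ^ (2 ^ n)) g * g⁻¹ := by
    rw [MulEquiv.symm_apply_eq]
    apply Subtype.ext
    exact hyeq
  rw [h2] at h1
  exact h1

end Cfsg.Agent.Helper97.Gross
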