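import Mathlib
import Cfsg.Agent.Helper64.GrossDefs
import Cfsg.Agent.Lib.Cores
import Cfsg.Agent.S0032
import Cfsg.Agent.S3794
import Cfsg.Agent.Helper70.FrattiniAction
import Cfsg.Agent.Helper97.GrossA3

/-!
# Gross (S3795), piece (CH) of board #6202 (for helper64): the Fitting chain of length `2 n - 2`
from Claim A2, by induction on `n ≥ 2` (base: S3794)
-/

set_option autoImplicit false
set_option linter.style.haveILetI false

namespace Cfsg.Agent.Helper97.Gross

open Subgroup Cfsg.Agent.Helper64.Gross Cfsg.Agent.Helper47.SG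
open scoped commutatorElement

universe u

/-- a chain of normal subgroups from `B` to `⊤` with nilpotent factors -/
def IsChainFrom {G : Type*} [Group G] (B : Subgroup G) (L : ℕ) (F : Fin (L + 1) → Subgroup G) :
    Prop :=
  F 0 = B ∧ F (Fin.last L) = ⊤ ∧ Monotone F ∧ (∀ i, (F i).Normal) ∧
    ∀ i : Fin L, ∃ k : ℕ, (F i.succ).lowerCentralSeries k ≤ F i.castSucc

theorem isChainFrom_top {G : Type*} [Group G] :
    IsChainFrom (⊤ : Subgroup G) 0 (fun _ => ⊤) :=
  ⟨rfl, rfl, fun _ _ _ => le_rfl, fun _ => inferInstance, fun i => i.elim0⟩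

theorem isChainFrom_cons {G : Type*} [Group G] {N B : Subgroup G} {L : ℕ}
    {F : Fin (L + 1) → Subgroup G} (hF : IsChainFrom N L F) (hBN : B ≤ N) (hB : B.Normal)
    (hk : ∃ k : ℕ, N.lowerCentralSeries k ≤ B) :
    IsChainFrom B (L + 1) (Fin.cons B F : Fin (L + 1 + 1) → Subgroup G) := by
  obtain ⟨h0, hl, hm, hn, hc⟩ := hF
  refine ⟨rfl, ?_, ?_, ?_, ?_⟩
  · rw [show Fin.last (L + 1) = (Fin.last L).succ from (Fin.succ_last L).symm, Fin.cons_succ, hl]
  · intro i j hij
    rcases Fin.eq_zero_or_eq_succ i with rfl | ⟨i', rfl⟩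
    · rw [Fin.cons_zero]
      rcases Fin.eq_zero_or_eq_succ j with rfl | ⟨j', rfl⟩
      · rw [Fin.cons_zero]
      · rw [Fin.cons_succ]
        have h1 : F 0 ≤ F j' := hm (Fin.zero_le j')
        rw [h0] at h1
        exact hBN.trans h1
    · rcases Fin.eq_zero_or_eq_succ j with rfl | ⟨j', rfl⟩
      · exact absurd hij (by simp)
      · rw [Fin.cons_succ, Fin.cons_succ]
        exact hm (Fin.succ_le_succ_iff.mp hij)
  · intro i
    rcases Fin.eq_zero_or_eq_succ i with rfl | ⟨i', rfl⟩
    · rw [Fin.cons_zero]; exact hB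
    · rw [Fin.cons_succ]; exact hn i'
  · intro i
    rcases Fin.eq_zero_or_eq_succ i with rfl | ⟨i', rfl⟩
    · obtain ⟨k, hk⟩ := hk
      refine ⟨k, ?_⟩
      rw [Fin.cons_succ, Fin.castSucc_zero, Fin.cons_zero, h0]
      exact hk
    · obtain ⟨k, hk⟩ := hc i'
      refine ⟨k, ?_⟩
      rw [show (Fin.succ i').castSucc = (i'.castSucc).succ from rfl, Fin.cons_succ, Fin.cons_succ]
      exact hk

theorem isChainFrom_comap {G : Type*} [Group G] (M : Subgroup G) [M.Normal] {L : ℕ}
    {Fb : Fin (L + 1) → Subgroup (G ⧸ M)} (hF : IsChainFrom ⊥ L Fb) :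
    IsChainFrom M L (fun i => (Fb i).comap (QuotientGroup.mk' M)) := by
  obtain ⟨h0, hl, hm, hn, hc⟩ := hF
  have hπ : Function.Surjective (QuotientGroup.mk' M) := QuotientGroup.mk'_surjective M
  refine ⟨?_, ?_, ?_, ?_, ?_⟩
  · show (Fb 0).comap (QuotientGroup.mk' M) = M
    rw [h0, MonoidHom.comap_bot, QuotientGroup.ker_mk']
  · show (Fb (Fin.last L)).comap (QuotientGroup.mk' M) = ⊤
    rw [hl]
    rfl
  · intro i j hij
    exact Subgroup.comap_mono (hm hij)
  · intro i
    have := hn i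
    show ((Fb i).comap (QuotientGroup.mk' M)).Normal
    infer_instance
  · intro i
    obtain ⟨k, hk⟩ := hc i
    refine ⟨k, ?_⟩
    show ((Fb i.succ).comap (QuotientGroup.mk' M)).lowerCentralSeries k ≤
      (Fb i.castSucc).comap (QuotientGroup.mk' M)
    rw [← Subgroup.map_le_iff_le_comap]
    have h2 : ((Fb i.succ).comap (QuotientGroup.mk' M)).map (QuotientGroup.mk' M) = Fb i.succ :=
      Subgroup.map_comap_eq_self_of_surjective hπ _
    rw [Subgroup.map_lowerCentralSeries, h2]
    exact hk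

theorem fitting2_normal (G : Type*) [Group G] : (fitting2 G).Normal := by
  haveI := fitting_normal G
  haveI : (Cfsg.fittingSubgroup (G ⧸ Cfsg.fittingSubgroup G)).Normal := fitting_normal _
  exact Subgroup.Normal.comap inferInstance _

theorem fitting2_characteristic (G : Type*) [Group G] : (fitting2 G).Characteristic := by
  rw [Subgroup.characteristic_iff_map_le]
  rintro φ _ ⟨x, hx, rfl⟩
  exact mem_fitting2_equiv φ x hx

theorem fittingSubgroup_le_fitting2 (G : Type*) [Group G] :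
    Cfsg.fittingSubgroup G ≤ fitting2 G := by
  haveI := fitting_normal G
  intro x hx
  show (QuotientGroup.mk' (Cfsg.fittingSubgroup G)) x ∈
    Cfsg.fittingSubgroup (G ⧸ Cfsg.fittingSubgroup G)
  have h1 : (QuotientGroup.mk' (Cfsg.fittingSubgroup G)) x = 1 :=
    (QuotientGroup.eq_one_iff x).mpr hx
  rw [h1]
  exact Subgroup.one_mem _

theorem fitting2_lowerCentralSeries_le (G : Type*) [Group G] [Finite G] :
    ∃ k : ℕ, (fitting2 G).lowerCentralSeries k ≤ Cfsg.fittingSubgroup G := by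
  haveI := fitting_normal G
  have hnil : Group.IsNilpotent (Cfsg.fittingSubgroup (G ⧸ Cfsg.fittingSubgroup G)) :=
    Cfsg.Agent.Lib.isNilpotent_fittingSubgroup
  obtain ⟨k, hk⟩ := (Subgroup.isNilpotent_iff_lowerCentralSeries _).mp hnil
  refine ⟨k, ?_⟩
  have hπ : Function.Surjective (QuotientGroup.mk' (Cfsg.fittingSubgroup G)) :=
    QuotientGroup.mk'_surjective _
  have h2 : (fitting2 G).map (QuotientGroup.mk' (Cfsg.fittingSubgroup G)) =
      Cfsg.fittingSubgroup (G ⧸ Cfsg.fittingSubgroup G) :=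
    Subgroup.map_comap_eq_self_of_surjective hπ _
  have h3 : ((fitting2 G).lowerCentralSeries k).map (QuotientGroup.mk' (Cfsg.fittingSubgroup G)) =
      ⊥ := by
    rw [Subgroup.map_lowerCentralSeries, h2, hk]
  intro x hx
  have h4 : (QuotientGroup.mk' (Cfsg.fittingSubgroup G)) x ∈
      ((fitting2 G).lowerCentralSeries k).map (QuotientGroup.mk' (Cfsg.fittingSubgroup G)) :=
    ⟨x, hx, rfl⟩
  rw [h3, Subgroup.mem_bot] at h4
  exact (QuotientGroup.eq_one_iff x).mp h4

theorem gross_chain_aux (hA : ClaimA2Stmt.{u}) :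
    ∀ n : ℕ, 2 ≤ n → ∀ L : ℕ, L = 2 * n - 2 → ∀ (G : Type u) [Group G] [Finite G],
      Group.IsSolvable G → ∀ σ : MulAut G, σ ^ (2 ^ n) = 1 → (∀ g : G, σ g = g → g = 1) →
      ∃ F : Fin (L + 1) → Subgroup G, IsChainFrom ⊥ L F := by
  intro n hn
  induction n, hn using Nat.le_induction with
  | base =>
    intro L hL G _ _ hG σ hσ hfpf
    have hL2 : L = 0 + 1 + 1 := by omega
    subst hL2
    have hnil : Group.IsNilpotent (commutator G) :=
      Cfsg.Agent.S3794.result hG σ (by simpa using hσ) hfpf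
    have hcn : (commutator G).Normal := inferInstance
    have h1 := isChainFrom_cons (isChainFrom_top (G := G)) (B := commutator G) le_top hcn
      ⟨1, by rw [Subgroup.top_lowerCentralSeries_one]⟩
    obtain ⟨k, hk⟩ := (Subgroup.isNilpotent_iff_lowerCentralSeries _).mp hnil
    have h2 := isChainFrom_cons h1 (B := ⊥) bot_le inferInstance ⟨k, hk.le⟩
    exact ⟨_, h2⟩
  | succ n hn ih =>
    intro L hL G _ _ hG σ hσ hfpf
    obtain ⟨L', rfl⟩ : ∃ L', L = L' + 1 + 1 := ⟨L - 2, by omega⟩
    have hchar : (fitting2 G).Characteristic := fitting2_characteristic G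
    have hFn : (Cfsg.fittingSubgroup G).Normal := fitting_normal G
    set N : Subgroup G := fitting2 G with hNdef
    have hNn : N.Normal := fitting2_normal G
    let σb : MulAut (G ⧸ N) := Cfsg.Agent.Helper70.autQuot N σ
    have hσb : σb ^ (2 ^ n) = 1 := by
      have h1 : σb ^ (2 ^ n) = Cfsg.Agent.Helper70.autQuot N (σ ^ (2 ^ n)) :=
        (map_pow (Cfsg.Agent.Helper70.autQuot N) σ (2 ^ n)).symm
      rw [h1]
      ext x
      induction x using QuotientGroup.induction_on with
      | H g =>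
        rw [Cfsg.Agent.Helper70.autQuot_mk]
        change ((σ ^ (2 ^ n)) g : G ⧸ N) = (g : G ⧸ N)
        rw [QuotientGroup.eq]
        have h2 := hA G n σ hG hσ hfpf g
        generalize (σ ^ (2 ^ n)) g = t at h2 ⊢
        have h4 : t⁻¹ * g = t⁻¹ * (t * g⁻¹)⁻¹ * (t⁻¹)⁻¹ := by
          group
        rw [h4]
        exact hNn.conj_mem _ (N.inv_mem h2) _
    have hσN : ∀ x ∈ N, σ x ∈ N := by
      intro x hx
      have := (Subgroup.characteristic_iff_map_eq.mp hchar σ)
      rw [← this]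
      exact Subgroup.mem_map_of_mem _ hx
    have hfpfb : ∀ x : G ⧸ N, σb x = x → x = 1 := by
      intro x
      induction x using QuotientGroup.induction_on with
      | H g =>
        intro hx
        rw [show σb (g : G ⧸ N) = ((σ g : G) : G ⧸ N) from rfl, QuotientGroup.eq] at hx
        have hg : g ∈ N := Cfsg.Agent.S0032.result σ hfpf N hσN g hx
        exact (QuotientGroup.eq_one_iff g).mpr hg
    have : Finite (G ⧸ N) := inferInstance
    have hGb : Group.IsSolvable (G ⧸ N) := inferInstance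
    obtain ⟨Fb, hFb⟩ := ih L' (by omega) (G ⧸ N) hGb σb hσb hfpfb
    have h1 := isChainFrom_comap N hFb
    have h2 := isChainFrom_cons h1 (B := Cfsg.fittingSubgroup G) (fittingSubgroup_le_fitting2 G) hFn
      (fitting2_lowerCentralSeries_le G)
    have hnil : Group.IsNilpotent (Cfsg.fittingSubgroup G) :=
      Cfsg.Agent.Lib.isNilpotent_fittingSubgroup
    obtain ⟨k, hk⟩ := (Subgroup.isNilpotent_iff_lowerCentralSeries _).mp hnil
    have h3 := isChainFrom_cons h2 (B := ⊥) bot_le inferInstance ⟨k, hk.le⟩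
    exact ⟨_, h3⟩

/-- (CH) -/
theorem gross_chain_of (hA : ClaimA2Stmt.{u}) : GrossChainStmt.{u} := by
  intro n hn G _ _ hG σ hσ hfpf
  obtain ⟨F, hF⟩ := gross_chain_aux hA n hn (2 * n - 2) rfl G hG σ hσ hfpf
  exact ⟨F, hF⟩

end Cfsg.Agent.Helper97.Gross
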