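import Mathlib
import Cfsg.Agent.Helper64.GrossMidDefs
import Cfsg.Agent.S3736
import Cfsg.Agent.S0027
import Cfsg.Agent.Helper97.MinimalAction

/-!
# Gross (S3795), piece (HH) of board #6324 (for helper64): the Hall–Higman reduction of a minimal
counterexample to the three level lemma
-/

set_option autoImplicit false
set_option linter.style.haveILetI false

namespace Cfsg.Agent.Helper97.Gross

open Subgroup Cfsg.Agent.Helper64.Gross Cfsg.Agent.Helper47.SG
open scoped commutatorElement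

universe uΓ uW

/-- if `τ` centralizes `Q` and `a` normalizes `Q` then `⁅a, τ⁆` centralizes `Q` -/
theorem commutator_centralizes_of_centralizes {Γ : Type*} [Group Γ] {Q : Subgroup Γ} {a τ : Γ}
    (ha : a ∈ normalizer (Q : Set Γ)) (hτ : ∀ g ∈ Q, τ * g = g * τ) :
    ∀ g ∈ Q, ⁅a, τ⁆ * g = g * ⁅a, τ⁆ := by
  intro g hg
  have h1 : a⁻¹ * g * a ∈ Q := (mem_normalizer_iff''.mp ha g).mp hg
  have h2 : τ * (a⁻¹ * g * a) = (a⁻¹ * g * a) * τ := hτ _ h1
  have h3 : τ * g = g * τ := hτ g hg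
  have h4 : τ⁻¹ * g = g * τ⁻¹ := by
    calc τ⁻¹ * g = τ⁻¹ * (g * τ) * τ⁻¹ := by group
      _ = τ⁻¹ * (τ * g) * τ⁻¹ := by rw [h3]
      _ = g * τ⁻¹ := by group
  rw [commutatorElement_def]
  calc a * τ * a⁻¹ * τ⁻¹ * g = a * τ * a⁻¹ * (τ⁻¹ * g) := by group
    _ = a * τ * a⁻¹ * (g * τ⁻¹) := by rw [h4]
    _ = a * (τ * (a⁻¹ * g * a)) * a⁻¹ * τ⁻¹ := by group
    _ = a * ((a⁻¹ * g * a) * τ) * a⁻¹ * τ⁻¹ := by rw [h2]
    _ = g * (a * τ * a⁻¹ * τ⁻¹) := by group

/-- (HH) -/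
theorem hh_data (hAC : AbelianCentStmt.{uΓ, uW}) {Γ : Type uΓ} [Group Γ] [Finite Γ] {W : Type uW}
    [CommGroup W] [Finite W] {φ : Γ →* MulAut W} {Q S : Subgroup Γ} {x : Γ} {q s r n : ℕ}
    (c : MinCfg φ Q S x q s r n) : HHData Q S x q n := by
  classical
  haveI : Fact q.Prime := ⟨c.hq⟩
  haveI : Fact s.Prime := ⟨c.hs⟩
  obtain ⟨τ, hτ⟩ : ∃ τ : Γ, τ = x ^ (2 ^ n) := ⟨_, rfl⟩
  obtain ⟨a₀, ha₀, g₀, hg₀, hbad⟩ := c.hbad
  have hAC' := fun U : Subgroup Γ => hAC Γ W q r n φ U x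
  have hSmin := c.hSmin
  have hQmin := c.hQmin
  rw [← hτ] at hbad hAC' hSmin hQmin
  have hτ2 : τ * τ = 1 := by
    rw [hτ, ← pow_add, ← two_mul, ← pow_succ']
    exact c.hx
  have hτQ : τ ∈ normalizer (Q : Set Γ) := by rw [hτ]; exact Subgroup.pow_mem _ c.hxQ _
  have hτS : τ ∈ normalizer (S : Set Γ) := by rw [hτ]; exact Subgroup.pow_mem _ c.hxS _
  have hT : zpowers τ ≤ normalizer (S : Set Γ) := by rw [zpowers_le]; exact hτS
  have hc : Commute τ x := by rw [hτ]; exact Commute.pow_self x _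
  have hxT : x ∈ normalizer ((zpowers τ : Subgroup Γ) : Set Γ) := by
    apply centralizer_le_normalizer
    rw [mem_centralizer_iff]
    intro t ht
    obtain ⟨k, rfl⟩ := mem_zpowers_iff.mp ht
    exact (Commute.zpow_left hc k).eq
  have hzp : ∀ t ∈ zpowers τ, t = 1 ∨ t = τ := by
    intro t ht
    obtain ⟨k, rfl⟩ := mem_zpowers_iff.mp ht
    have h2 : τ ^ (2 : ℤ) = 1 := by rw [zpow_two]; exact hτ2
    have hk : τ ^ k = τ ^ (k % 2) := by
      conv_lhs => rw [← Int.emod_add_mul_ediv k 2, zpow_add, zpow_mul, h2, one_zpow, mul_one]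
    rcases Int.emod_two_eq_zero_or_one k with h | h
    · left; rw [hk, h, zpow_zero]
    · right; rw [hk, h, zpow_one]
  -- commutators with `τ` centralizing `U` generate a subgroup centralizing `U`
  have hcl : ∀ (S' U : Subgroup Γ), (∀ a ∈ S', ∀ g ∈ U, ⁅a, τ⁆ * g = g * ⁅a, τ⁆) →
      ⁅S', zpowers τ⁆ ≤ centralizer (U : Set Γ) := by
    intro S' U h
    rw [commutator_le]
    intro a ha t ht
    rcases hzp t ht with rfl | rfl
    · rw [commutatorElement_one_right]; exact one_mem _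
    · rw [mem_centralizer_iff]
      intro g hg
      exact (h a ha g hg).symm
  have hcopTS : (Nat.card (zpowers τ)).Coprime (Nat.card S) := by
    obtain ⟨k, hk⟩ := (IsPGroup.iff_card).mp c.hS
    rw [Nat.card_zpowers, hk]
    have h1 : orderOf τ ∣ 2 := orderOf_dvd_of_pow_eq_one (by rw [pow_two]; exact hτ2)
    have h2 : Nat.Coprime 2 (s ^ k) :=
      Nat.Coprime.pow_right k ((Nat.coprime_primes Nat.prime_two c.hs).mpr (Ne.symm c.hs2))
    exact Nat.Coprime.coprime_dvd_left h1 h2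
  have hSsolv : Group.IsSolvable S := by
    haveI := c.hS.isNilpotent
    infer_instance
  have h27 := Cfsg.Agent.S0027.result (zpowers τ) S hT hcopTS (Or.inr hSsolv)
  have hS'le : ⁅S, zpowers τ⁆ ≤ S := le_normalizer_iff_commutator_le_left.mp hT
  have hxS' : x ∈ normalizer ((⁅S, zpowers τ⁆ : Subgroup Γ) : Set Γ) :=
    Cfsg.Agent.Helper97.mem_normalizer_commutator c.hxS hxT
  have ha₀S' : ⁅a₀, τ⁆ ∈ ⁅S, zpowers τ⁆ := commutator_mem_commutator ha₀ (mem_zpowers τ)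
  -- (i)
  have commS : ⁅S, zpowers τ⁆ = S := by
    by_contra hne
    have hlt : ⁅S, zpowers τ⁆ < S := lt_of_le_of_ne hS'le hne
    have h1 := hcl _ Q (hSmin _ hlt hxS')
    rw [h27] at h1
    have h2 := h1 ha₀S'
    rw [mem_centralizer_iff] at h2
    exact hbad (h2 g₀ hg₀).symm
  -- (ii)
  have hmin' : ∀ U : Subgroup Γ, U < Q → S ≤ normalizer (U : Set Γ) → x ∈ normalizer (U : Set Γ) →
      S ≤ centralizer (U : Set Γ) := by
    intro U hU hSU hxU
    have h1 := hcl S U (hQmin U hU hSU hxU)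
    rwa [commS] at h1
  have hnotcent : ¬ S ≤ centralizer (Q : Set Γ) := by
    intro h1
    have h2 : ⁅a₀, τ⁆ ∈ S := commS ▸ ha₀S'
    have h3 := h1 h2
    rw [mem_centralizer_iff] at h3
    exact hbad (h3 g₀ hg₀).symm
  have tauQ : ¬ ∀ g ∈ Q, τ * g = g * τ := by
    intro h1
    exact hbad (commutator_centralizes_of_centralizes (c.hSQ ha₀) h1 g₀ hg₀)
  -- (iii)
  have hBle : ∀ U : Subgroup Γ, S ⊔ zpowers x ≤ normalizer (U : Set Γ) ↔
      S ≤ normalizer (U : Set Γ) ∧ x ∈ normalizer (U : Set Γ) := by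
    intro U
    rw [sup_le_iff, zpowers_le]
  have hcopSq : (Nat.card S).Coprime q := by
    obtain ⟨k, hk⟩ := (IsPGroup.iff_card).mp c.hS
    rw [hk]
    exact Nat.Coprime.pow_left k ((Nat.coprime_primes c.hs c.hq).mpr (Ne.symm c.hqs))
  have hnt : ⁅Q, S⁆ ≠ ⊥ := by
    intro h1
    rw [commutator_eq_bot_iff_le_centralizer] at h1
    exact hnotcent (le_centralizer_iff.mp h1)
  have hmin : ∀ U : Subgroup Γ, U < Q → S ⊔ zpowers x ≤ normalizer (U : Set Γ) → ⁅U, S⁆ = ⊥ := by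
    intro U hU hB
    obtain ⟨hSU, hxU⟩ := (hBle U).mp hB
    rw [commutator_eq_bot_iff_le_centralizer]
    exact le_centralizer_iff.mp (hmin' U hU hSU hxU)
  obtain ⟨-, h2, h3, h4⟩ := Cfsg.Agent.S3736.result (S ⊔ zpowers x) S Q c.hQ
    ((hBle Q).mpr ⟨c.hSQ, c.hxQ⟩) le_sup_left ((hBle S).mpr ⟨le_normalizer, c.hxS⟩) hcopSq hnt hmin
  rcases h2 with hab | hsp
  · -- abelian: impossible
    exfalso
    obtain ⟨hcommQ, -⟩ := hab
    apply tauQ
    apply hAC' Q c.hq c.hr c.hq2 c.hr2 c.hqr c.hexp c.hQ ?_ c.hxQ c.hx c.hfaith c.hWfix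
    intro a ha b hb
    have := hcommQ.is_comm.comm (⟨a, ha⟩ : Q) ⟨b, hb⟩
    exact congrArg Subtype.val this
  · obtain ⟨-, hfrat, hcomm⟩ := hsp
    have hD : (commutator ↥Q).map Q.subtype = ⁅Q, Q⁆ := by
      rw [commutator_def, map_commutator, ← MonoidHom.range_eq_map, range_subtype]
    have frat : (frattini ↥Q).map Q.subtype = ⁅Q, Q⁆ := by rw [hfrat, ← hcomm, hD]
    have Dcent : ∀ d ∈ ⁅Q, Q⁆, ∀ g ∈ Q, g * d = d * g := by
      intro d hd g hg
      rw [← hD, hcomm] at hd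
      obtain ⟨d', hd', rfl⟩ := hd
      have := mem_center_iff.mp hd' ⟨g, hg⟩
      exact congrArg Subtype.val this
    have hDQ : ⁅Q, Q⁆ ≤ Q := by
      rw [← hD]
      exact map_subtype_le _
    have hDlt : ⁅Q, Q⁆ < Q := by
      refine lt_of_le_of_ne hDQ ?_
      intro heq
      apply hnotcent
      have hbot : ⁅Q, Q⁆ = ⊥ := by
        rw [commutator_eq_bot_iff_le_centralizer]
        intro g hg
        rw [mem_centralizer_iff]
        intro d hd
        rw [← heq] at hd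
        exact (Dcent d hd g hg).symm
      rw [hbot] at heq
      rw [← heq]
      intro a _
      rw [mem_centralizer_iff]
      intro g hg
      rw [SetLike.mem_coe, mem_bot] at hg
      rw [hg, one_mul, mul_one]
    have hSD : S ≤ normalizer ((⁅Q, Q⁆ : Subgroup Γ) : Set Γ) := fun a ha =>
      Cfsg.Agent.Helper97.mem_normalizer_commutator (c.hSQ ha) (c.hSQ ha)
    have hxD : x ∈ normalizer ((⁅Q, Q⁆ : Subgroup Γ) : Set Γ) :=
      Cfsg.Agent.Helper97.mem_normalizer_commutator c.hxQ c.hxQ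
    refine
      { commS := by rw [← hτ]; exact commS, expQ := h4 c.hq2, frat := frat, Dcent := Dcent,
        SD := ?_, tauD := ?_, irr := ?_, tauQ := by rw [← hτ]; exact tauQ }
    · intro a ha d hd
      have h1 := hmin' _ hDlt hSD hxD ha
      rw [mem_centralizer_iff] at h1
      exact (h1 d hd).symm
    · rw [← hτ]
      apply hAC' ⁅Q, Q⁆ c.hq c.hr c.hq2 c.hr2 c.hqr c.hexp (c.hQ.to_le hDQ) ?_ hxD c.hx
        (fun a ha => c.hfaith a (hDQ ha)) c.hWfix
      intro a ha b hb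
      exact (Dcent b hb a (hDQ ha))
    · intro U hDU hUQ hSU hxU
      have := h3 U (frat ▸ hDU) hUQ ((hBle U).mpr ⟨hSU, hxU⟩)
      rwa [frat] at this

end Cfsg.Agent.Helper97.Gross
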