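import Mathlib
import Cfsg.Agent.Helper64.GrossDefs

/-!
# Gross (S3795), piece (K0) of board #6202 (for helper64): the three level lemma from the
non-existence of a minimal counterexample (induction on `|Q| + |S|`)
-/

set_option autoImplicit false
set_option linter.style.haveILetI false

namespace Cfsg.Agent.Helper97.Gross

open Subgroup Cfsg.Agent.Helper64.Gross Cfsg.Agent.Helper47.SG
open scoped commutatorElement

universe uΓ uW

theorem card_lt_card_of_lt {Γ : Type*} [Group Γ] [Finite Γ] {A B : Subgroup Γ} (h : A < B) :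
    Nat.card A < Nat.card B := by
  by_contra hge
  push Not at hge
  exact h.ne (Subgroup.eq_of_le_of_card_ge h.le hge)

/-- (K0) -/
theorem kl3_of (h : KL3MinStmt.{uΓ, uW}) : KL3Stmt.{uΓ, uW} := by
  intro Γ _ _ W _ _ q s r n φ Q S x hq hs hr hq2 hs2 hr2 hqr hqs hexp hQ hS hSQ hxQ hxS hx hfaith
    hQfix hWfix
  have H : ∀ N : ℕ, ∀ Q S : Subgroup Γ, Nat.card Q + Nat.card S = N →
      IsPGroup q Q → IsPGroup s S → S ≤ normalizer (Q : Set Γ) → x ∈ normalizer (Q : Set Γ) →
      x ∈ normalizer (S : Set Γ) →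
      (∀ a ∈ Q, φ a = 1 → a = 1) → (∀ a ∈ Q, x * a = a * x → a = 1) →
      ∀ a ∈ S, ∀ g ∈ Q, ⁅a, x ^ (2 ^ n)⁆ * g = g * ⁅a, x ^ (2 ^ n)⁆ := by
    intro N
    induction N using Nat.strong_induction_on with
    | _ N ih =>
      intro Q S hN hQ hS hSQ hxQ hxS hfaith hQfix
      by_contra hcon
      push Not at hcon
      obtain ⟨a, ha, g, hg, hne⟩ := hcon
      apply h Γ W q s r n φ Q S x
      refine
        { hq := hq, hs := hs, hr := hr, hq2 := hq2, hs2 := hs2, hr2 := hr2, hqr := hqr, hqs := hqs,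
          hexp := hexp, hQ := hQ, hS := hS, hSQ := hSQ, hxQ := hxQ, hxS := hxS, hx := hx,
          hfaith := hfaith, hQfix := hQfix, hWfix := hWfix, hSmin := ?_, hQmin := ?_,
          hbad := ⟨a, ha, g, hg, hne⟩ }
      · intro S' hS' hxS'
        have hlt : Nat.card S' < Nat.card S := card_lt_card_of_lt hS'
        exact ih (Nat.card Q + Nat.card S') (by omega) Q S' rfl hQ (hS.to_le hS'.le)
          (hS'.le.trans hSQ) hxQ hxS' hfaith hQfix
      · intro Q' hQ' hSQ' hxQ'
        have hlt : Nat.card Q' < Nat.card Q := card_lt_card_of_lt hQ'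
        exact ih (Nat.card Q' + Nat.card S) (by omega) Q' S rfl (hQ.to_le hQ'.le) hS hSQ' hxQ' hxS
          (fun a ha => hfaith a (hQ'.le ha)) (fun a ha => hQfix a (hQ'.le ha))
  exact H _ Q S rfl hQ hS hSQ hxQ hxS hfaith hQfix

end Cfsg.Agent.Helper97.Gross
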