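import Cfsg.Agent.Helper78.HKDefs
import Cfsg.Agent.Helper77.PIndexNilpotent

/-!
# Harris–Knörr (S4674), piece KH2: the stable covered block with defect group `D ⊓ N`,
transported from the ambient group `↥H` with normal subgroup `N.subgroupOf H` to the flat
subgroup `H ⊓ N` of `G`.  (helper97, for helper78.)
-/

set_option autoImplicit false
set_option linter.unusedSectionVars false

namespace Cfsg.Agent.Helper97.HKKH2

open Cfsg Cfsg.Agent.Helper78

universe u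

variable {G : Type u} [Group G] [Fintype G] {M : Ideal AlgInt} {p : ℕ}

/-- The identification of the flat `H ⊓ N` with `N.subgroupOf H`. -/
def flatIso (H N : Subgroup G) : ↥(H ⊓ N) ≃* ↥(N.subgroupOf H) where
  toFun l := ⟨⟨(l : G), l.2.1⟩, Subgroup.mem_subgroupOf.mpr l.2.2⟩
  invFun l := ⟨((l : ↥H) : G), ⟨(l : ↥H).2, Subgroup.mem_subgroupOf.mp l.2⟩⟩
  left_inv _ := rfl
  right_inv _ := rfl
  map_mul' _ _ := rfl

theorem flatIso_coe (H N : Subgroup G) (l : ↥(H ⊓ N)) :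
    (((flatIso H N l : ↥(N.subgroupOf H)) : ↥H) : G) = (l : G) := rfl

theorem flatIso_symm_coe (H N : Subgroup G) (l : ↥(N.subgroupOf H)) :
    (((flatIso H N).symm l : ↥(H ⊓ N)) : G) = ((l : ↥H) : G) := rfl

theorem map_flatIso_symm (H N D : Subgroup G) :
    ((((D.subgroupOf H) ⊓ (N.subgroupOf H)).subgroupOf (N.subgroupOf H)).map
      ((flatIso H N).symm : ↥(N.subgroupOf H) →* ↥(H ⊓ N))) = (D ⊓ N).subgroupOf (H ⊓ N) := by
  ext l
  constructor
  · rintro ⟨l', hl', rfl⟩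
    rw [Subgroup.mem_subgroupOf]
    have h1 := Subgroup.mem_subgroupOf.mp hl'
    have h2 : ((l' : ↥H) : G) ∈ D := Subgroup.mem_subgroupOf.mp h1.1
    have h3 : ((l' : ↥H) : G) ∈ N := Subgroup.mem_subgroupOf.mp h1.2
    exact ⟨h2, h3⟩
  · intro hl
    have h1 := Subgroup.mem_subgroupOf.mp hl
    refine ⟨flatIso H N l, ?_, ?_⟩
    · show flatIso H N l ∈ (((D.subgroupOf H) ⊓ (N.subgroupOf H)).subgroupOf (N.subgroupOf H))
      rw [Subgroup.mem_subgroupOf]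
      exact ⟨Subgroup.mem_subgroupOf.mpr h1.1, Subgroup.mem_subgroupOf.mpr h1.2⟩
    · exact (flatIso H N).symm_apply_apply l

variable (N : Subgroup G) [hN : N.Normal] [Fintype N]

theorem exists_covered_block_defect_flat [Fact p.Prime] (hM : IsPModular p M) (H : Subgroup G)
    [Fintype ↥(H ⊓ N)] {c : Set (IrrCharacter ↥H)} (hc : IsPBlock M c) {D : Subgroup G}
    (hDH : D ≤ H) (hD : IsDefectGroup p M c (D.subgroupOf H)) :
    ∃ e₁ : Set (IrrCharacter ↥(H ⊓ N)), IsPBlock M e₁ ∧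
      (∃ ψ ∈ c, ∃ ξ ∈ e₁, classInner (fun l : ↥(H ⊓ N) => (ψ : ↥H → ℂ)
        (Subgroup.inclusion inf_le_left l)) (ξ : ↥(H ⊓ N) → ℂ) ≠ 0) ∧
      IsDefectGroup p M e₁ ((D ⊓ N).subgroupOf (H ⊓ N)) := by
  classical
  have hMp : M.IsPrime := Cfsg.Agent.Helper16.IsPModular.isPrime hM
  letI : Fintype ↥H := Fintype.ofFinite _
  have hLHn : (N.subgroupOf H).Normal := Subgroup.normal_subgroupOf
  letI : Fintype ↥(N.subgroupOf H) := Fintype.ofFinite _
  -- (a) `c` covers some block of `LH`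
  obtain ⟨ψ₀, hψ₀⟩ := isPBlock_nonempty hMp hc
  obtain ⟨ξ₀, hξ₀⟩ := Cfsg.Agent.Helper77.exists_constituent_res (N.subgroupOf H) ψ₀
  have he₀ : IsPBlock M (blockOf M (ξ₀ : ↥(N.subgroupOf H) → ℂ)) := ⟨ξ₀, rfl⟩
  have hcov₀ : ∃ χ ∈ c, ∃ θ ∈ blockOf M (ξ₀ : ↥(N.subgroupOf H) → ℂ),
      classInner (fun n : ↥(N.subgroupOf H) => (χ : ↥H → ℂ) n) (θ : ↥(N.subgroupOf H) → ℂ) ≠ 0 :=
    ⟨ψ₀, hψ₀, ξ₀, mem_blockOf_self hMp ξ₀, hξ₀⟩
  -- (b) the stable covered block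
  obtain ⟨e', he', ⟨g, hg⟩, -, hdef'⟩ :=
    Cfsg.Agent.Helper16.exists_stable_covered_block_defect (N.subgroupOf H) hM he₀ hc hcov₀ hD
  have hcov' := Cfsg.Agent.Helper16.covers_conjBlk (N.subgroupOf H) hcov₀ g
  rw [← hg] at hcov'
  obtain ⟨ψ, hψ, θ, hθ, hne⟩ := hcov'
  -- (c) transport to the flat subgroup
  refine ⟨irrMap (flatIso H N).symm '' e', Cfsg.Agent.Helper77.isPBlock_image_irrMap _ he',
    ⟨ψ, hψ, irrMap (flatIso H N).symm θ, Set.mem_image_of_mem _ hθ, ?_⟩, ?_⟩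
  · have key := classInner_comp_mulEquiv (flatIso H N)
      (fun n : ↥(N.subgroupOf H) => (ψ : ↥H → ℂ) n) (θ : ↥(N.subgroupOf H) → ℂ)
    have h1 : (fun l : ↥(H ⊓ N) => (ψ : ↥H → ℂ) (Subgroup.inclusion inf_le_left l)) =
        (fun a : ↥(H ⊓ N) => (fun n : ↥(N.subgroupOf H) => (ψ : ↥H → ℂ) n) (flatIso H N a)) := by
      funext l
      rfl
    have h2 : ((irrMap (flatIso H N).symm θ : IrrCharacter ↥(H ⊓ N)) : ↥(H ⊓ N) → ℂ) =
        (fun a : ↥(H ⊓ N) => (θ : ↥(N.subgroupOf H) → ℂ) (flatIso H N a)) := by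
      funext l
      rw [irrMap_apply, MulEquiv.symm_symm]
    rw [h1, h2]
    convert hne using 1
  · have := isDefectGroup_image_irrMap p (flatIso H N).symm hdef'
    rw [map_flatIso_symm] at this
    exact this

end Cfsg.Agent.Helper97.HKKH2
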