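import Mathlib
import Cfsg.Prelude.Def_OddOrderLocal
import Cfsg.Agent.S3969
import Cfsg.Agent.Helper2.Basic
import Cfsg.Agent.Helper63.Frattini
import Cfsg.Agent.Helper53.Conj
import Cfsg.Agent.Helper29.CoprimeCount
import Cfsg.Agent.Helper24.OddOmega

/-!
# Metacyclic `p`-groups: two generators, small Frattini quotient, and `p'`-automorphisms

* `exists_two_generators_of_le_metacyclic` : a subgroup of a metacyclic group is generated by two
  elements.
* `card_quotient_frattini_le_sq` : a two-generated finite `p`-group has Frattini quotient of order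
  at most `p ^ 2`.
* `prime_dvd_sq_sub_one_of_not_centralize` : an `r`-element (`r ≠ p`) normalizing but not centralizing
  a two-generated `p`-subgroup forces `r ∣ p ^ 2 - 1`.
-/

set_option autoImplicit false

namespace Cfsg.Agent.Helper97

/-- A subgroup of a metacyclic group is generated by two elements. -/
theorem exists_two_generators_of_le_metacyclic {G : Type*} [Group G] {P Q : Subgroup G}
    (hP : Cfsg.IsMetacyclic ↥P) (hQP : Q ≤ P) :
    ∃ a b : ↥Q, Subgroup.closure ({a, b} : Set ↥Q) = ⊤ := by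
  obtain ⟨N, hN, hNc, hQc⟩ := hP
  let f : ↥Q →* ↥P ⧸ N := (QuotientGroup.mk' N).comp (Subgroup.inclusion hQP)
  have : IsCyclic ↥f.range := Subgroup.isCyclic _
  obtain ⟨⟨g, ⟨b, rfl⟩⟩, hg⟩ := IsCyclic.exists_generator (α := ↥f.range)
  have hker : IsCyclic ↥f.ker := by
    let ι : ↥f.ker →* ↥N :=
      { toFun := fun k => ⟨Subgroup.inclusion hQP k.1, by
          have h := k.2
          rw [MonoidHom.mem_ker] at h
          exact (QuotientGroup.eq_one_iff _).1 h⟩
        map_one' := rfl
        map_mul' := fun _ _ => rfl }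
    refine isCyclic_of_injective ι ?_
    intro x y h
    have h1 : Subgroup.inclusion hQP x.1 = Subgroup.inclusion hQP y.1 := congrArg Subtype.val h
    exact Subtype.ext (Subgroup.inclusion_injective hQP h1)
  obtain ⟨a, ha⟩ := hker.exists_generator
  refine ⟨a.1, b, ?_⟩
  rw [eq_top_iff]
  intro q _
  have h1 := hg ⟨f q, q, rfl⟩
  obtain ⟨k, hk⟩ := Subgroup.mem_zpowers_iff.1 h1
  have hk' : f b ^ k = f q := by
    have := congrArg Subtype.val hk
    simpa using this
  have h2 : q * b ^ (-k) ∈ f.ker := by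
    rw [MonoidHom.mem_ker, map_mul, map_zpow, ← hk', zpow_neg, mul_inv_cancel]
  obtain ⟨j, hj⟩ := Subgroup.mem_zpowers_iff.1 (ha ⟨_, h2⟩)
  have hj' : (a.1 : ↥Q) ^ j = q * b ^ (-k) := by
    have := congrArg Subtype.val hj
    simpa using this
  have hq : q = a.1 ^ j * b ^ k := by
    rw [hj', zpow_neg, inv_mul_cancel_right]
  rw [hq]
  exact mul_mem (zpow_mem (Subgroup.subset_closure (by simp)) _)
    (zpow_mem (Subgroup.subset_closure (by simp)) _)

/-- A two-generated finite `p`-group has Frattini quotient of order at most `p ^ 2`. -/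
theorem card_quotient_frattini_le_sq {Q : Type*} [Group Q] [Finite Q] {p : ℕ} [Fact p.Prime]
    (hQ : IsPGroup p Q) (a b : Q) (hab : Subgroup.closure ({a, b} : Set Q) = ⊤) :
    Nat.card (Q ⧸ frattini Q) ≤ p ^ 2 := by
  classical
  have hp : p.Prime := Fact.out
  have : Group.IsNilpotent Q := hQ.isNilpotent
  have hcomm : commutator Q ≤ frattini Q := Cfsg.Agent.Helper2.commutator_le_frattini
  have hc : IsMulCommutative (Q ⧸ frattini Q) :=
    (Subgroup.Normal.quotient_commutative_iff_commutator_le (N := frattini Q)).2 hcomm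
  let _ : CommGroup (Q ⧸ frattini Q) :=
    { (inferInstance : Group (Q ⧸ frattini Q)) with mul_comm := fun x y => mul_comm' x y }
  have hexp : ∀ x : Q ⧸ frattini Q, x ^ p = 1 := by
    intro x
    induction x using QuotientGroup.induction_on with
    | H g =>
      rw [← QuotientGroup.mk_pow]
      exact (QuotientGroup.eq_one_iff _).2 (Cfsg.Agent.Helper63.pow_prime_mem_frattini hQ g)
  let S : Finset (Q ⧸ frattini Q) := {(QuotientGroup.mk a : Q ⧸ frattini Q), QuotientGroup.mk b}
  have h1 := Cfsg.Agent.S3969.card_closure_le hp.pos hexp S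
  have hS : Subgroup.closure (S : Set (Q ⧸ frattini Q)) = ⊤ := by
    have h2 : (S : Set (Q ⧸ frattini Q)) = (QuotientGroup.mk' (frattini Q)) '' ({a, b} : Set Q) := by
      rw [Set.image_pair]
      simp [S]
    rw [h2, ← MonoidHom.map_closure, hab, ← MonoidHom.range_eq_map,
      MonoidHom.range_eq_top.2 (QuotientGroup.mk'_surjective _)]
  rw [hS, Subgroup.card_top] at h1
  refine h1.trans (Nat.pow_le_pow_right hp.pos ?_)
  exact Finset.card_le_two

/-- An element normalizing two subgroups normalizes their join. -/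
theorem normalizer_inf_normalizer_le_sup {G : Type*} [Group G] (A B : Subgroup G) :
    Subgroup.normalizer (A : Set G) ⊓ Subgroup.normalizer (B : Set G) ≤
      Subgroup.normalizer ((A ⊔ B : Subgroup G) : Set G) := by
  have key : ∀ g : G, g ∈ Subgroup.normalizer (A : Set G) ⊓ Subgroup.normalizer (B : Set G) →
      ∀ y ∈ A ⊔ B, g * y * g⁻¹ ∈ A ⊔ B := by
    intro g hg y hy
    have hle : A ⊔ B ≤ (A ⊔ B).comap (MulAut.conj g).toMonoidHom := by
      refine sup_le ?_ ?_
      · intro a ha
        exact (le_sup_left : A ≤ A ⊔ B) ((Subgroup.mem_normalizer_iff.1 hg.1 a).1 ha)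
      · intro b hb
        exact (le_sup_right : B ≤ A ⊔ B) ((Subgroup.mem_normalizer_iff.1 hg.2 b).1 hb)
    exact hle hy
  intro g hg
  refine Cfsg.Agent.Helper24.mem_normalizer_of_forall_conj_mem (key g hg) ?_
  intro y hy
  have := key g⁻¹ (inv_mem hg) y hy
  simpa using this

/-- Let `Q` be a two-generated `p`-subgroup of the finite group `G` and `x` an `r`-element (`r ≠ p`
prime) normalizing but not centralizing `Q`. Then `r ∣ p ^ 2 - 1`. -/
theorem prime_dvd_sq_sub_one_of_not_centralize {G : Type*} [Group G] [Finite G] {p r : ℕ}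
    [Fact p.Prime] [Fact r.Prime] (hrp : r ≠ p) {Q : Subgroup G} (hQ : IsPGroup p ↥Q)
    (h2 : ∃ a b : ↥Q, Subgroup.closure ({a, b} : Set ↥Q) = ⊤)
    {x : G} (hx : IsPGroup r ↥(Subgroup.zpowers x))
    (hxN : x ∈ Subgroup.normalizer (Q : Set G))
    (hxC : x ∉ Subgroup.centralizer (Q : Set G)) : r ∣ p ^ 2 - 1 := by
  classical
  have hp : p.Prime := Fact.out
  have hr : r.Prime := Fact.out
  set R : Subgroup G := Subgroup.zpowers x with hR
  set Φ : Subgroup G := (frattini ↥Q).map Q.subtype with hΦ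
  set C : Subgroup G := Q ⊓ Subgroup.centralizer (R : Set G) with hC
  set D : Subgroup G := C ⊔ Φ with hD
  have hΦQ : Φ ≤ Q := Subgroup.map_subtype_le _
  have hCQ : C ≤ Q := inf_le_left
  have hDQ : D ≤ Q := sup_le hCQ hΦQ
  have hΦsub : Φ.subgroupOf Q = frattini ↥Q :=
    Subgroup.comap_map_eq_self_of_injective (Subgroup.subtype_injective Q) (frattini ↥Q)
  -- normalizers
  have hRNQ : R ≤ Subgroup.normalizer (Q : Set G) := by
    rw [hR, Subgroup.zpowers_le]; exact hxN
  have hRNΦ : R ≤ Subgroup.normalizer (Φ : Set G) :=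
    hRNQ.trans (Cfsg.Agent.Helper53.char_map_normalizer_le Q (frattini ↥Q) frattini_characteristic)
  have hRcen : R ≤ Subgroup.centralizer (R : Set G) := by
    rw [hR, Subgroup.zpowers_le, Subgroup.mem_centralizer_iff]
    intro z hz
    obtain ⟨k, rfl⟩ := Subgroup.mem_zpowers_iff.1 hz
    exact ((Commute.refl x).zpow_left k).eq
  have hRNC : R ≤ Subgroup.normalizer (C : Set G) :=
    (le_inf hRNQ (hRcen.trans Subgroup.le_normalizer)).trans
      (Cfsg.Agent.Helper29.normalizer_inf_normalizer_le Q (Subgroup.centralizer (R : Set G)))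
  have hRND : R ≤ Subgroup.normalizer (D : Set G) :=
    (le_inf hRNC hRNΦ).trans (normalizer_inf_normalizer_le_sup C Φ)
  -- congruences
  have e1 := Cfsg.Agent.Helper29.card_modEq_card_inf_centralizer hx hRNQ
  have e2 := Cfsg.Agent.Helper29.card_modEq_card_inf_centralizer hx hRND
  have hDC : D ⊓ Subgroup.centralizer (R : Set G) = C :=
    le_antisymm (le_inf (inf_le_left.trans hDQ) inf_le_right) (le_inf le_sup_left inf_le_right)
  rw [hDC] at e2
  have e3 : Nat.card ↥D ≡ Nat.card ↥Q [MOD r] := e2.trans e1.symm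
  -- `D < Q`
  have hDne : ¬ Q ≤ D := by
    intro hle
    have h3 : C.subgroupOf Q ⊔ frattini ↥Q = ⊤ := by
      have h4 : D.subgroupOf Q = ⊤ := Subgroup.subgroupOf_eq_top.2 hle
      rw [hD, Subgroup.subgroupOf_sup hCQ hΦQ, hΦsub] at h4
      exact h4
    have h4 := frattini_nongenerating h3
    have h5 : Q ≤ C := Subgroup.subgroupOf_eq_top.1 h4
    apply hxC
    rw [Subgroup.mem_centralizer_iff]
    intro q hq
    have h6 : q ∈ Subgroup.centralizer (R : Set G) := (h5 hq).2
    rw [Subgroup.mem_centralizer_iff] at h6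
    exact (h6 x (Subgroup.mem_zpowers x)).symm
  -- indices
  set m := D.relIndex Q with hm
  have hcard : Nat.card ↥D * m = Nat.card ↥Q := by
    have h3 := (D.subgroupOf Q).card_mul_index
    rwa [Nat.card_congr (Subgroup.subgroupOfEquivOfLe hDQ).toEquiv] at h3
  obtain ⟨k, hk⟩ := IsPGroup.iff_card.1 hQ
  obtain ⟨i, hi⟩ := IsPGroup.iff_card.1 (hQ.to_le hDQ)
  have hmdvd : m ∣ p ^ k := by rw [← hk, ← hcard]; exact Dvd.intro_left _ rfl
  obtain ⟨j, -, hj⟩ := (Nat.dvd_prime_pow hp).1 hmdvd
  obtain ⟨a, b, hab⟩ := h2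
  have hfr := card_quotient_frattini_le_sq hQ a b hab
  have hmΦ : m ∣ Nat.card (↥Q ⧸ frattini ↥Q) := by
    have h3 : D.relIndex Q ∣ Φ.relIndex Q := Subgroup.relIndex_dvd_of_le_left Q le_sup_right
    rwa [Subgroup.relIndex, Subgroup.relIndex, hΦsub, Subgroup.index_eq_card] at h3
  have hmle : m ≤ p ^ 2 := (Nat.le_of_dvd Nat.card_pos hmΦ).trans hfr
  have hj2 : j ≤ 2 := by
    rw [hj] at hmle
    exact (Nat.pow_le_pow_iff_right hp.one_lt).1 hmle
  have hj0 : j ≠ 0 := by
    intro h0
    rw [h0, pow_zero] at hj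
    exact hDne (Subgroup.relIndex_eq_one.1 hj)
  -- `r ∣ m - 1`
  have hle : Nat.card ↥D ≤ Nat.card ↥Q := Subgroup.card_le_of_le hDQ
  have hdvd : r ∣ Nat.card ↥Q - Nat.card ↥D := (Nat.modEq_iff_dvd' hle).1 e3
  have hfac : Nat.card ↥Q - Nat.card ↥D = Nat.card ↥D * (m - 1) := by
    rw [← hcard, Nat.mul_sub, mul_one]
  rw [hfac, hi] at hdvd
  have hrm : r ∣ m - 1 := by
    rcases (Nat.Prime.dvd_mul hr).1 hdvd with h | h
    · exact absurd ((Nat.prime_dvd_prime_iff_eq hr hp).1 (hr.dvd_of_dvd_pow h)) hrp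
    · exact h
  rw [hj] at hrm
  have hj12 : j = 1 ∨ j = 2 := by omega
  rcases hj12 with rfl | rfl
  · rw [pow_one] at hrm
    have h3 : p ^ 2 - 1 = (p - 1) * (p + 1) := by
      obtain ⟨n, rfl⟩ : ∃ n, p = n + 1 := ⟨p - 1, by have := hp.one_lt; omega⟩
      have h4 : (n + 1) ^ 2 = (n + 1 - 1) * (n + 1 + 1) + 1 := by
        rw [Nat.add_sub_cancel]; ring
      rw [h4, Nat.add_sub_cancel]
    rw [h3]
    exact Dvd.dvd.mul_right hrm _
  · exact hrm

end Cfsg.Agent.Helper97
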