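import Mathlib

/-! (ARITH) for helper58's S3613 farm (#9337): the arithmetic contradiction
`p = q + 2` twin primes, `q > 5`, `q ∣ m ∣ q (q - 1)`, `2 m ≡ 1 mod p`. -/

set_option autoImplicit false

namespace Cfsg.Agent.Helper97.N3

/-- (ARITH) -/
theorem arith_false (p q m : ℕ) (hp : p.Prime) (hq : q.Prime) (hpq : p = q + 2) (hq5 : 5 < q)
    (hm : m ∣ q * (q - 1)) (hqm : q ∣ m) (hmod : 2 * m ≡ 1 [MOD p]) : False := by
  obtain ⟨e, rfl⟩ := hqm
  have he : e ∣ q - 1 := Nat.dvd_of_mul_dvd_mul_left hq.pos hm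
  obtain ⟨f, hf⟩ := he
  have hq1 : 0 < q - 1 := by omega
  have he0 : 0 < e := by
    rcases Nat.eq_zero_or_pos e with h | h
    · rw [h, zero_mul] at hf; omega
    · exact h
  -- `p ∣ 4 e + 1`
  have hdvd : ((q + 2 : ℕ) : ℤ) ∣ 4 * (e : ℤ) + 1 := by
    have h1 := (Nat.modEq_iff_dvd.mp hmod)
    rw [hpq] at h1
    have h2 : ((q + 2 : ℕ) : ℤ) ∣ 2 * (e : ℤ) * ((q + 2 : ℕ) : ℤ) := Dvd.intro_left _ rfl
    have h3 := dvd_add h1 h2
    have h4 : ((1 : ℕ) : ℤ) - ((2 * (q * e) : ℕ) : ℤ) + 2 * (e : ℤ) * ((q + 2 : ℕ) : ℤ)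
        = 4 * (e : ℤ) + 1 := by
      push_cast; ring
    rw [h4] at h3
    exact h3
  have hdvd' : (q + 2) ∣ 4 * e + 1 := by
    have : ((q + 2 : ℕ) : ℤ) ∣ ((4 * e + 1 : ℕ) : ℤ) := by
      push_cast at hdvd ⊢; exact hdvd
    exact Int.natCast_dvd_natCast.mp this
  obtain ⟨k, hk⟩ := hdvd'
  -- `e ≤ q - 1`
  have hele : e ≤ q - 1 := Nat.le_of_dvd hq1 ⟨f, hf⟩
  have hk4 : k < 4 := by
    by_contra hcon
    push Not at hcon
    have : (q + 2) * 4 ≤ (q + 2) * k := Nat.mul_le_mul_left _ hcon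
    omega
  have hf0 : 0 < f := by
    rcases Nat.eq_zero_or_pos f with h | h
    · rw [h, mul_zero] at hf; omega
    · exact h
  interval_cases k
  · omega
  · -- `4 e + 1 = q + 2`
    have h1 : e * f = 4 * e - 2 := by omega
    have hf4 : f < 4 := by
      by_contra hcon
      push Not at hcon
      have : e * 4 ≤ e * f := Nat.mul_le_mul_left _ hcon
      omega
    interval_cases f
    · omega
    · omega
    · have he2 : e = 2 := by omega
      have hq7 : q = 7 := by omega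
      rw [hq7] at hpq
      rw [hpq] at hp
      norm_num at hp
  · omega
  · -- `4 e + 1 = 3 (q + 2)`
    have hf2 : f < 2 := by
      by_contra hcon
      push Not at hcon
      have : e * 2 ≤ e * f := Nat.mul_le_mul_left _ hcon
      omega
    interval_cases f
    have he8 : e = 8 := by omega
    have hq9 : q = 9 := by omega
    rw [hq9] at hq
    norm_num at hq

end Cfsg.Agent.Helper97.N3
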