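import Mathlib
import Cfsg.Agent.Helper2.NormIdeal

/-!
# Base change for the norm ideal (pieces (C), (D) of board #4541, for helper2)
-/

set_option autoImplicit false

namespace Cfsg.Agent.Helper97.NormIdealCD

open MonoidAlgebra Cfsg.Agent.Helper2.NormIdeal

variable {X : Type*} [Group X]

theorem mapRingHom_normElt {R S : Type*} [CommRing R] [CommRing S] (f : R →+* S) (c : X) :
    mapRingHom X f (normElt R c) = normElt S c := by
  unfold normElt
  rw [map_sum]
  refine Finset.sum_congr rfl fun i _ => ?_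
  simp [MonoidAlgebra.of_apply]

theorem mapRingHom_gen {R S : Type*} [CommRing R] [CommRing S] (f : R →+* S) (h c : X) :
    mapRingHom X f (MonoidAlgebra.of R X h * normElt R c) =
      MonoidAlgebra.of S X h * normElt S c := by
  rw [map_mul, mapRingHom_normElt]
  simp [MonoidAlgebra.of_apply]

theorem mapRingHom_smul {R S : Type*} [CommRing R] [CommRing S] (f : R →+* S) (r : R)
    (y : MonoidAlgebra R X) :
    mapRingHom X f (r • y) = f r • mapRingHom X f y := by
  ext g
  simp [coeff_smul]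

/-- base change maps the norm ideal into the norm ideal -/
theorem mapRingHom_mem {R S : Type*} [CommRing R] [CommRing S] (f : R →+* S)
    {y : MonoidAlgebra R X} (hy : y ∈ normSpan R (X := X)) :
    mapRingHom X f y ∈ normSpan S (X := X) := by
  unfold normSpan at hy ⊢
  induction hy using Submodule.span_induction with
  | mem x hx =>
    obtain ⟨h, c, hc, rfl⟩ := hx
    rw [mapRingHom_gen]
    exact Submodule.subset_span ⟨h, c, hc, rfl⟩
  | zero => simp
  | add x y _ _ hx hy => rw [map_add]; exact Submodule.add_mem _ hx hy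
  | smul r x _ hx => rw [mapRingHom_smul]; exact Submodule.smul_mem _ _ hx

/-- along a surjective base change, the norm ideal lifts -/
theorem exists_lift_of_surjective {R S : Type*} [CommRing R] [CommRing S] (f : R →+* S)
    (hf : Function.Surjective f) {x : MonoidAlgebra S X} (hx : x ∈ normSpan S (X := X)) :
    ∃ y ∈ normSpan R (X := X), mapRingHom X f y = x := by
  unfold normSpan at hx
  induction hx using Submodule.span_induction with
  | mem x hx =>
    obtain ⟨h, c, hc, rfl⟩ := hx
    exact ⟨_, gen_mem h c hc, mapRingHom_gen f h c⟩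
  | zero => exact ⟨0, Submodule.zero_mem _, map_zero _⟩
  | add x y _ _ hx hy =>
    obtain ⟨a, ha, rfl⟩ := hx
    obtain ⟨b, hb, rfl⟩ := hy
    exact ⟨a + b, Submodule.add_mem _ ha hb, map_add _ _ _⟩
  | smul r x _ hx =>
    obtain ⟨a, ha, rfl⟩ := hx
    obtain ⟨s, rfl⟩ := hf r
    exact ⟨s • a, Submodule.smul_mem _ _ ha, mapRingHom_smul f s a⟩

/-! ### (D), second half: from `ℚ` to `ℤ` -/

theorem NFZ_of_NF_rat {X : Type*} [Group X] (h : NF ℚ X) : NFZ X := by
  intro m hm hmem
  apply h
  have h1 := mapRingHom_mem (Int.castRingHom ℚ) hmem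
  have h2 : mapRingHom X (Int.castRingHom ℚ) ((m : ℤ) : MonoidAlgebra ℤ X) =
      (m : ℚ) • (1 : MonoidAlgebra ℚ X) := by
    rw [map_intCast]
    ext g
    simp [MonoidAlgebra.intCast_def, one_def]
  rw [h2] at h1
  have h3 := Submodule.smul_mem (normSpan ℚ (X := X)) ((m : ℚ)⁻¹) h1
  rw [smul_smul, inv_mul_cancel₀ (by exact_mod_cast hm), one_smul] at h3
  exact h3


/-! ### (D), first half: from `ℤ` to a field of characteristic zero -/

theorem mapRingHom_injective {R S : Type*} [CommRing R] [CommRing S] (f : R →+* S)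
    (hf : Function.Injective f) : Function.Injective (mapRingHom X f) := by
  intro a b hab
  ext g
  apply hf
  rw [← coeff_mapRingHom, ← coeff_mapRingHom, hab]

theorem mapRingHom_intCast_eq {S : Type*} [CommRing S] (f : ℤ →+* S) (m : ℤ) :
    mapRingHom X f ((m : ℤ) : MonoidAlgebra ℤ X) = (f m) • (1 : MonoidAlgebra S X) := by
  rw [map_intCast]
  ext g
  simp [MonoidAlgebra.intCast_def, one_def]

/-- clearing denominators -/
theorem exists_int_smul_lift {x : MonoidAlgebra ℚ X} (hx : x ∈ normSpan ℚ (X := X)) :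
    ∃ m : ℤ, m ≠ 0 ∧ ∃ y ∈ normSpan ℤ (X := X),
      mapRingHom X (Int.castRingHom ℚ) y = (m : ℚ) • x := by
  unfold normSpan at hx
  induction hx using Submodule.span_induction with
  | mem x hx =>
    obtain ⟨h, c, hc, rfl⟩ := hx
    refine ⟨1, one_ne_zero, _, gen_mem h c hc, ?_⟩
    rw [mapRingHom_gen]
    simp
  | zero => exact ⟨1, one_ne_zero, 0, Submodule.zero_mem _, by simp⟩
  | add x y _ _ hx hy =>
    obtain ⟨m, hm, a, ha, ea⟩ := hx
    obtain ⟨n, hn, b, hb, eb⟩ := hy
    refine ⟨m * n, mul_ne_zero hm hn, n • a + m • b,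
      Submodule.add_mem _ (Submodule.smul_mem _ _ ha) (Submodule.smul_mem _ _ hb), ?_⟩
    rw [map_add, mapRingHom_smul, mapRingHom_smul, ea, eb, smul_add, smul_smul, smul_smul]
    simp only [eq_intCast]
    push_cast
    rw [mul_comm (n : ℚ) (m : ℚ)]
  | smul r x _ hx =>
    obtain ⟨m, hm, a, ha, ea⟩ := hx
    refine ⟨(r.den : ℤ) * m, mul_ne_zero (by exact_mod_cast r.den_nz) hm, r.num • a,
      Submodule.smul_mem _ _ ha, ?_⟩
    rw [mapRingHom_smul, ea, smul_smul, smul_smul]
    congr 1
    push_cast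
    have h1 : (r.den : ℚ) * r = r.num := by
      have := Rat.mul_den_eq_num r
      rw [mul_comm]; exact this
    calc ((r.num : ℤ) : ℚ) * (m : ℚ) = ((r.den : ℚ) * r) * m := by rw [h1]
      _ = (r.den : ℚ) * (m : ℚ) * r := by ring

theorem gen_eq_sum {R : Type*} [CommRing R] (h c : X) :
    MonoidAlgebra.of R X h * normElt R c =
      ∑ i ∈ Finset.range (orderOf c), MonoidAlgebra.single (h * c ^ i) (1 : R) := by
  unfold normElt
  rw [Finset.mul_sum]
  refine Finset.sum_congr rfl fun i _ => ?_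
  rw [← map_mul, MonoidAlgebra.of_apply]

/-- coefficientwise application of a `ℚ`-linear map -/
noncomputable def coeffMap {K : Type*} [Field K] [CharZero K] (π : K →ₗ[ℚ] ℚ) :
    MonoidAlgebra K X →ₗ[ℚ] MonoidAlgebra ℚ X :=
  (coeffLinearEquiv ℚ).symm.toLinearMap ∘ₗ (Finsupp.mapRange.linearMap π) ∘ₗ
    (coeffLinearEquiv ℚ).toLinearMap

omit [Group X] in
theorem coeffMap_single {K : Type*} [Field K] [CharZero K] (π : K →ₗ[ℚ] ℚ) (g : X) (r : K) :
    coeffMap π (MonoidAlgebra.single g r) = MonoidAlgebra.single g (π r) := by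
  ext k
  simp [coeffMap]

theorem coeffMap_smul_gen {K : Type*} [Field K] [CharZero K] (π : K →ₗ[ℚ] ℚ) (r : K) (h c : X) :
    coeffMap π (r • (MonoidAlgebra.of K X h * normElt K c)) =
      π r • (MonoidAlgebra.of ℚ X h * normElt ℚ c) := by
  rw [gen_eq_sum, gen_eq_sum, Finset.smul_sum, Finset.smul_sum, map_sum]
  refine Finset.sum_congr rfl fun i _ => ?_
  rw [MonoidAlgebra.smul_single, MonoidAlgebra.smul_single, coeffMap_single]
  simp

theorem coeffMap_mem {K : Type*} [Field K] [CharZero K] (π : K →ₗ[ℚ] ℚ)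
    {x : MonoidAlgebra K X} (hx : x ∈ normSpan K (X := X)) :
    coeffMap π x ∈ normSpan ℚ (X := X) := by
  have key : ∀ r : K, coeffMap π (r • x) ∈ normSpan ℚ (X := X) := by
    unfold normSpan at hx
    induction hx using Submodule.span_induction with
    | mem x hx =>
      intro r
      obtain ⟨h, c, hc, rfl⟩ := hx
      rw [coeffMap_smul_gen]
      exact Submodule.smul_mem _ _ (gen_mem h c hc)
    | zero => intro r; simp
    | add x y _ _ hx hy =>
      intro r
      rw [smul_add, map_add]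
      exact Submodule.add_mem _ (hx r) (hy r)
    | smul s x _ hx =>
      intro r
      rw [smul_smul]
      exact hx (r * s)
  have := key 1
  rwa [one_smul] at this

theorem NF_of_NFZ {X : Type*} [Group X] (K : Type*) [Field K] [CharZero K] (h : NFZ X) :
    NF K X := by
  intro h1
  -- a `ℚ`-linear retraction
  obtain ⟨f, hf⟩ : ∃ f : Module.Dual ℚ K, f 1 ≠ 0 := by
    by_contra hcon
    simp only [not_exists, not_not] at hcon
    exact one_ne_zero ((Module.forall_dual_apply_eq_zero_iff ℚ (1 : K)).mp hcon)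
  let π : K →ₗ[ℚ] ℚ := (f 1)⁻¹ • f
  have hπ : π 1 = 1 := by
    simp [π, inv_mul_cancel₀ hf]
  have h2 := coeffMap_mem π h1
  have h3 : coeffMap π (1 : MonoidAlgebra K X) = 1 := by
    rw [one_def, coeffMap_single, hπ, one_def]
  rw [h3] at h2
  obtain ⟨m, hm, y, hy, ey⟩ := exists_int_smul_lift h2
  have h4 : y = ((m : ℤ) : MonoidAlgebra ℤ X) := by
    apply mapRingHom_injective (Int.castRingHom ℚ) Int.cast_injective
    rw [ey, mapRingHom_intCast_eq]
    simp
  rw [h4] at hy
  exact h m hm hy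


/-! ### (C): from `ℤ` to `ZMod l` -/

/-- an element all of whose coefficients are divisible by `l` is `l` times something -/
theorem exists_eq_smul_of_dvd_coeff (l : ℤ) (x : MonoidAlgebra ℤ X)
    (hx : ∀ g, l ∣ x.coeff g) : ∃ z : MonoidAlgebra ℤ X, x = l • z := by
  refine ⟨MonoidAlgebra.ofCoeff (x.coeff.mapRange (fun n => n / l) (by simp)), ?_⟩
  ext g
  rw [coeff_smul]
  simp only [Finsupp.smul_apply, Finsupp.mapRange_apply, smul_eq_mul]
  exact (Int.mul_ediv_cancel' (hx g)).symm

theorem NF_zmod_of_NFZ {X : Type*} [Group X] [Finite X] (h : NFZ X) (l : ℕ) (hl : l.Prime) :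
    NF (ZMod l) X := by
  intro h1
  obtain ⟨y, hy, ey⟩ :=
    exists_lift_of_surjective (Int.castRingHom (ZMod l)) ZMod.intCast_surjective h1
  -- `1 - y` has all coefficients divisible by `l`
  have hker : mapRingHom X (Int.castRingHom (ZMod l)) (1 - y) = 0 := by
    rw [map_sub, map_one, ey, sub_self]
  obtain ⟨z, hz⟩ : ∃ z : MonoidAlgebra ℤ X, 1 - y = (l : ℤ) • z := by
    apply exists_eq_smul_of_dvd_coeff
    intro g
    have := congrArg (fun t => t.coeff g) hker
    simp only [coeff_mapRingHom, coeff_zero, Finsupp.coe_zero, Pi.zero_apply, eq_intCast] at this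
    exact (ZMod.intCast_zmod_eq_zero_iff_dvd _ _).mp this
  -- Nakayama on the quotient
  have : Module.Finite ℤ (MonoidAlgebra ℤ X) := Module.Finite.of_basis (MonoidAlgebra.basis X ℤ)
  let N : Submodule ℤ (MonoidAlgebra ℤ X) := normSpan ℤ (X := X)
  have hfg : (⊤ : Submodule ℤ (MonoidAlgebra ℤ X ⧸ N)).FG := Module.Finite.fg_top
  have hle : (⊤ : Submodule ℤ (MonoidAlgebra ℤ X ⧸ N)) ≤
      Ideal.span {(l : ℤ)} • (⊤ : Submodule ℤ (MonoidAlgebra ℤ X ⧸ N)) := by
    intro v _
    obtain ⟨a, rfl⟩ := Submodule.Quotient.mk_surjective N v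
    have ha : a = a * y + (l : ℤ) • (a * z) := by
      rw [← mul_smul_comm, ← hz, ← mul_add]
      simp
    have hmk : (Submodule.Quotient.mk a : MonoidAlgebra ℤ X ⧸ N) =
        (l : ℤ) • Submodule.Quotient.mk (a * z) := by
      rw [← Submodule.Quotient.mk_smul, eq_comm, Submodule.Quotient.eq]
      have : (l : ℤ) • (a * z) - a = - (a * y) := by
        nth_rewrite 2 [ha]
        abel
      rw [this]
      exact Submodule.neg_mem _ (mul_mem_left a hy)
    rw [hmk]
    exact Submodule.smul_mem_smul (Ideal.subset_span rfl) Submodule.mem_top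
  obtain ⟨r, hr1, hr2⟩ :=
    Submodule.exists_sub_one_mem_and_smul_eq_zero_of_fg_of_le_smul _ _ hfg hle
  have hr0 : r ≠ 0 := by
    rintro rfl
    rw [Ideal.mem_span_singleton] at hr1
    have h2 : (l : ℤ) ∣ 1 := by
      have := (dvd_neg (a := (l : ℤ)) (b := (0 - 1 : ℤ))).mpr hr1
      simpa using this
    have h3 : l ∣ 1 := by exact_mod_cast h2
    exact hl.one_lt.ne' (Nat.dvd_one.mp h3)
  have h5 := hr2 (Submodule.Quotient.mk 1) Submodule.mem_top
  rw [← Submodule.Quotient.mk_smul, Submodule.Quotient.mk_eq_zero] at h5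
  apply h r hr0
  have h6 : ((r : ℤ) : MonoidAlgebra ℤ X) = r • (1 : MonoidAlgebra ℤ X) := by
    simp
  rw [h6]
  exact h5

end Cfsg.Agent.Helper97.NormIdealCD
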