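import Mathlib

/-!
# (OB1) of board #6578 (for helper5, S2607/S2608): a `D₈`-kernel and a cyclic quotient with a section
centralising a four-group give a direct product `D₈ × C_f`
-/

set_option autoImplicit false
set_option linter.style.haveILetI false

namespace Cfsg.Agent.Helper97.OutPlus

open Subgroup

/-- `D₈` is not abelian -/
theorem dihedral4_noncomm :
    (DihedralGroup.r (1 : ZMod 4)) * DihedralGroup.sr 0 ≠ DihedralGroup.sr 0 * DihedralGroup.r 1 := by
  decide

/-- the centre of `D₈` has at most one nontrivial element -/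
theorem dihedral4_center_unique : ∀ z z' : DihedralGroup 4, (∀ k, k * z = z * k) →
    (∀ k, k * z' = z' * k) → z ≠ 1 → z' ≠ 1 → z = z' := by
  decide

section

variable {K : Type*} [Group K] (V : Subgroup K)

theorem commute_of_mul_self (hV2 : ∀ v ∈ V, v * v = 1) {v w : K} (hv : v ∈ V) (hw : w ∈ V) :
    v * w = w * v := by
  have hwv2 : (w * v) * (w * v) = 1 := hV2 _ (V.mul_mem hw hv)
  calc v * w = (w * w) * (v * w) * (v * v) := by rw [hV2 w hw, hV2 v hv, one_mul, mul_one]
    _ = w * ((w * v) * (w * v)) * v := by group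
    _ = w * v := by rw [hwv2, mul_one]

/-- an automorphism fixing a subgroup `V` of index two and exponent two pointwise multiplies the
elements outside `V` by a central element of `V` -/
theorem aut_fix_index_two (hidx : V.index = 2) (hV2 : ∀ v ∈ V, v * v = 1) (g : K) (hg : g ∉ V)
    (β : K ≃* K) (hβ : ∀ v ∈ V, β v = v) :
    g⁻¹ * β g ∈ V ∧ (∀ k, k * (g⁻¹ * β g) = (g⁻¹ * β g) * k) ∧
      ∀ k, k ∉ V → β k = k * (g⁻¹ * β g) := by
  have hmul : ∀ a b : K, a * b ∈ V ↔ (a ∈ V ↔ b ∈ V) := fun a b =>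
    Subgroup.mul_mem_iff_of_index_two hidx
  have hginv : g⁻¹ ∉ V := by rwa [inv_mem_iff]
  have hβg : β g ∉ V := by
    intro h
    have h1 := hβ _ h
    have h2 : β g = g := β.injective h1
    exact hg (h2 ▸ h)
  obtain ⟨v, hvdef⟩ : ∃ v, v = g⁻¹ * β g := ⟨_, rfl⟩
  rw [← hvdef]
  have hv : v ∈ V := by
    rw [hvdef]
    exact (hmul _ _).mpr (iff_of_false hginv hβg)
  have hβg' : β g = g * v := by rw [hvdef, mul_inv_cancel_left]
  have hgg : g * g ∈ V := (hmul g g).mpr Iff.rfl
  have h1 : g * v * (g * v) = g * g := by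
    have := hβ _ hgg
    rwa [map_mul, hβg'] at this
  have h2 : v * (g * v) = g := by
    have h3 : g * (v * (g * v)) = g * g := by rw [← h1]; group
    exact mul_left_cancel h3
  have hvg : v * g = g * v := by
    calc v * g = v * g * (v * v) := by rw [hV2 v hv, mul_one]
      _ = (v * (g * v)) * v := by group
      _ = g * v := by rw [h2]
  have hcover : ∀ k, k ∉ V → g⁻¹ * k ∈ V := fun k hk => (hmul _ _).mpr (iff_of_false hginv hk)
  have hcentral : ∀ k, k * v = v * k := by
    intro k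
    by_cases hk : k ∈ V
    · exact commute_of_mul_self V hV2 hk hv
    · have hw := hcover k hk
      have hk' : k = g * (g⁻¹ * k) := by rw [mul_inv_cancel_left]
      have hwv := commute_of_mul_self V hV2 hw hv
      calc k * v = g * ((g⁻¹ * k) * v) := by rw [← mul_assoc, ← hk']
        _ = g * (v * (g⁻¹ * k)) := by rw [hwv]
        _ = (g * v) * (g⁻¹ * k) := by rw [mul_assoc]
        _ = (v * g) * (g⁻¹ * k) := by rw [hvg]
        _ = v * k := by rw [mul_assoc, ← hk']
  refine ⟨hv, hcentral, fun k hk => ?_⟩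
  have hw := hcover k hk
  have hk' : k = g * (g⁻¹ * k) := by rw [mul_inv_cancel_left]
  have hwv := commute_of_mul_self V hV2 hw hv
  calc β k = β (g * (g⁻¹ * k)) := by rw [← hk']
    _ = g * v * (g⁻¹ * k) := by rw [map_mul, hβg', hβ _ hw]
    _ = g * ((g⁻¹ * k) * v) := by rw [mul_assoc, hwv]
    _ = k * v := by rw [← mul_assoc, ← hk']

/-- an automorphism of `D₈` fixing a four-group `V` pointwise is the identity or conjugation by a
non-central element of `V` -/
theorem aut_cases (e : K ≃* DihedralGroup 4) (hV4 : Nat.card V = 4) (hV2 : ∀ v ∈ V, v * v = 1)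
    (α : K ≃* K) (hα : ∀ v ∈ V, α v = v) :
    (∀ k, α k = k) ∨ ∃ a ∈ V, (∃ k, a * k ≠ k * a) ∧ ∀ k, α k = a * k * a⁻¹ := by
  haveI : Finite K := Finite.of_equiv _ e.symm.toEquiv
  have hK8 : Nat.card K = 8 := by rw [Nat.card_congr e.toEquiv, DihedralGroup.nat_card]
  have hidx : V.index = 2 := by
    have := V.card_mul_index
    rw [hV4, hK8] at this
    omega
  obtain ⟨g, hg⟩ : ∃ g, g ∉ V := by
    by_contra h
    push Not at h
    have h1 : V = ⊤ := (eq_top_iff' V).mpr h
    rw [h1, index_top] at hidx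
    omega
  have hmul : ∀ a b : K, a * b ∈ V ↔ (a ∈ V ↔ b ∈ V) := fun a b =>
    Subgroup.mul_mem_iff_of_index_two hidx
  have hginv : g⁻¹ ∉ V := by rwa [inv_mem_iff]
  obtain ⟨hv, hvc, hvf⟩ := aut_fix_index_two V hidx hV2 g hg α hα
  have htransport : ∀ z : K, (∀ k, k * z = z * k) → ∀ d : DihedralGroup 4, d * e z = e z * d := by
    intro z hz d
    have h1 := congrArg e (hz (e.symm d))
    rwa [map_mul, map_mul, e.apply_symm_apply] at h1
  by_cases hv1 : g⁻¹ * α g = 1
  · left
    intro k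
    by_cases hk : k ∈ V
    · exact hα k hk
    · rw [hvf k hk, hv1, mul_one]
  · right
    have hna : ∃ a ∈ V, a * g ≠ g * a := by
      by_contra hcon
      push Not at hcon
      have hVc : ∀ w1 ∈ V, ∀ w2 ∈ V, Commute w1 w2 := fun w1 h1 w2 h2 =>
        commute_of_mul_self V hV2 h1 h2
      have hgc : ∀ w ∈ V, Commute g w := fun w hw => (hcon w hw).symm
      have hcover : ∀ k, ∃ w ∈ V, k = w ∨ k = g * w := by
        intro k
        by_cases hk : k ∈ V
        · exact ⟨k, hk, Or.inl rfl⟩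
        · exact ⟨g⁻¹ * k, (hmul _ _).mpr (iff_of_false hginv hk), Or.inr (by rw [mul_inv_cancel_left])⟩
      have hab : ∀ k1 k2 : K, Commute k1 k2 := by
        intro k1 k2
        obtain ⟨w1, hw1, h1⟩ := hcover k1
        obtain ⟨w2, hw2, h2⟩ := hcover k2
        rcases h1 with h1 | h1 <;> rcases h2 with h2 | h2 <;> rw [h1, h2]
        · exact hVc w1 hw1 w2 hw2
        · exact (hgc w1 hw1).symm.mul_right (hVc w1 hw1 w2 hw2)
        · exact (hgc w2 hw2).mul_left (hVc w1 hw1 w2 hw2)
        · exact ((Commute.refl g).mul_right (hgc w2 hw2)).mul_left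
            ((hgc w1 hw1).symm.mul_right (hVc w1 hw1 w2 hw2))
      have h1 := congrArg e (hab (e.symm (DihedralGroup.r 1)) (e.symm (DihedralGroup.sr 0))).eq
      rw [map_mul, map_mul, e.apply_symm_apply, e.apply_symm_apply] at h1
      exact dihedral4_noncomm h1
    obtain ⟨a, ha, hag⟩ := hna
    have hβ : ∀ w ∈ V, (MulAut.conj a) w = w := by
      intro w hw
      rw [MulAut.conj_apply, commute_of_mul_self V hV2 ha hw, mul_inv_cancel_right]
    obtain ⟨hz, hzc, hzf⟩ := aut_fix_index_two V hidx hV2 g hg (MulAut.conj a) hβ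
    have hz1 : g⁻¹ * (MulAut.conj a) g ≠ 1 := by
      intro h
      apply hag
      rw [MulAut.conj_apply, inv_mul_eq_one] at h
      calc a * g = (a * g * a⁻¹) * a := by group
        _ = g * a := by rw [← h]
    have heq : g⁻¹ * α g = g⁻¹ * (MulAut.conj a) g := by
      apply e.injective
      apply dihedral4_center_unique _ _ (htransport _ hvc) (htransport _ hzc)
      · intro h
        exact hv1 (e.injective (by rw [h, map_one]))
      · intro h
        exact hz1 (e.injective (by rw [h, map_one]))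
    refine ⟨a, ha, ⟨g, hag⟩, fun k => ?_⟩
    by_cases hk : k ∈ V
    · rw [hα k hk, ← MulAut.conj_apply, hβ k hk]
    · rw [hvf k hk, heq, ← hzf k hk, MulAut.conj_apply]

end

/-- (OB1) -/
theorem nonempty_mulEquiv_dihedral_prod_of_klein {G C : Type*} [Group G] [Group C] [IsCyclic C]
    (t : G →* C) (s : C →* G) (hts : ∀ c, t (s c) = c)
    (e : ↥t.ker ≃* DihedralGroup 4)
    (V : Subgroup G) (hVK : V ≤ t.ker) (hV4 : Nat.card V = 4) (hV2 : ∀ v ∈ V, v * v = 1)
    (hcent : ∀ (c : C), ∀ v ∈ V, s c * v = v * s c)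
    {f : ℕ} (hf : 0 < f) (hC : Nat.card C = f) :
    Nonempty (G ≃* DihedralGroup 4 × Multiplicative (ZMod f)) := by
  classical
  obtain ⟨c0, hc0⟩ := IsCyclic.exists_generator (α := C)
  haveI : Finite C := Nat.finite_of_card_ne_zero (by omega)
  have hord : orderOf c0 = f := by rw [← hC]; exact orderOf_eq_card_of_forall_mem_zpowers hc0
  obtain ⟨σ0, hσ0⟩ : ∃ σ0, σ0 = s c0 := ⟨_, rfl⟩
  have hσ0f : σ0 ^ f = 1 := by rw [hσ0, ← map_pow, ← hord, pow_orderOf_eq_one, map_one]
  have hV'4 : Nat.card (V.subgroupOf t.ker) = 4 := by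
    rw [← hV4]
    exact Nat.card_congr (Subgroup.subgroupOfEquivOfLe hVK).toEquiv
  have hV'2 : ∀ v ∈ V.subgroupOf t.ker, v * v = 1 := fun v hv =>
    Subtype.ext (hV2 v.1 (Subgroup.mem_subgroupOf.mp hv))
  have hα : ∀ v ∈ V.subgroupOf t.ker, (MulAut.conjNormal σ0 : MulAut t.ker) v = v := by
    intro v hv
    apply Subtype.ext
    rw [MulAut.conjNormal_apply, hσ0, hcent c0 v.1 (mem_subgroupOf.mp hv), mul_inv_cancel_right]
  -- a generator of a complement centralising the kernel
  obtain ⟨σ1, hσ1t, hσ1f, hσ1c⟩ :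
      ∃ σ1 : G, t σ1 = c0 ∧ σ1 ^ f = 1 ∧ ∀ k ∈ t.ker, σ1 * k = k * σ1 := by
    rcases aut_cases (V.subgroupOf t.ker) e hV'4 hV'2 (MulAut.conjNormal σ0) hα with
      h | ⟨a, ha, ⟨k0, hk0⟩, h⟩
    · refine ⟨σ0, by rw [hσ0]; exact hts c0, hσ0f, fun k hk => ?_⟩
      have h1 := congrArg Subtype.val (h ⟨k, hk⟩)
      rw [MulAut.conjNormal_apply] at h1
      have h2 : σ0 * k * σ0⁻¹ = k := h1
      rw [mul_inv_eq_iff_eq_mul] at h2
      exact h2
    · have haV : (a : G) ∈ V := mem_subgroupOf.mp ha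
      have ha2 : a * a = 1 := hV'2 a ha
      have hσa : Commute σ0 (a : G) := by rw [hσ0]; exact hcent c0 a haV
      have hαf : (MulAut.conjNormal σ0 : MulAut t.ker) ^ f = 1 := by
        rw [← map_pow, hσ0f, map_one]
      have hαa : (MulAut.conjNormal σ0 : MulAut t.ker) = MulAut.conj a :=
        MulEquiv.ext (fun k => by rw [h k, MulAut.conj_apply])
      have haf : a ^ f = 1 := by
        rcases Nat.even_or_odd' f with ⟨m, rfl | rfl⟩
        · rw [pow_mul, pow_two, ha2, one_pow]
        · exfalso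
          have h1 : a ^ (2 * m + 1) = a := by rw [pow_succ, pow_mul, pow_two, ha2, one_pow, one_mul]
          rw [hαa, ← map_pow, h1] at hαf
          have h2 := congrArg (fun β : MulAut t.ker => β k0) hαf
          simp only [MulAut.conj_apply, MulAut.one_apply] at h2
          apply hk0
          rw [mul_inv_eq_iff_eq_mul] at h2
          exact h2
      refine ⟨σ0 * (a : G), ?_, ?_, ?_⟩
      · rw [map_mul, hσ0, hts, MonoidHom.mem_ker.mp a.2, mul_one]
      · rw [hσa.mul_pow, hσ0f, one_mul, ← Subgroup.coe_pow, haf, Subgroup.coe_one]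
      · intro k hk
        have h1 := congrArg Subtype.val (h (a * ⟨k, hk⟩ * a⁻¹))
        rw [MulAut.conjNormal_apply] at h1
        have h2 : σ0 * ((a : G) * k * (a : G)⁻¹) * σ0⁻¹ = (a : G) * ((a : G) * k * (a : G)⁻¹) * (a : G)⁻¹ := by
          simpa using h1
        have ha2' : (a : G) * (a : G) = 1 := hV2 _ haV
        have h3 : (a : G) * ((a : G) * k * (a : G)⁻¹) * (a : G)⁻¹ = k := by
          calc (a : G) * ((a : G) * k * (a : G)⁻¹) * (a : G)⁻¹
              = ((a : G) * (a : G)) * k * ((a : G) * (a : G))⁻¹ := by group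
            _ = k := by rw [ha2', one_mul, inv_one, mul_one]
        rw [h3] at h2
        have h4 : σ0 * (a : G) * k * (σ0 * (a : G))⁻¹ = k := by
          calc σ0 * (a : G) * k * (σ0 * (a : G))⁻¹
              = σ0 * ((a : G) * k * (a : G)⁻¹) * σ0⁻¹ := by group
            _ = k := h2
        rw [mul_inv_eq_iff_eq_mul] at h4
        exact h4
  have hdvd : orderOf σ1 ∣ orderOf c0 := by rw [hord]; exact orderOf_dvd_of_pow_eq_one hσ1f
  have hs'0 : monoidHomOfForallMemZpowers hc0 hdvd c0 = σ1 :=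
    monoidHomOfForallMemZpowers_apply_gen hc0 hdvd
  obtain ⟨s', hs'⟩ : ∃ s' : C →* G, s' = monoidHomOfForallMemZpowers hc0 hdvd := ⟨_, rfl⟩
  rw [← hs'] at hs'0
  have hs't : ∀ c, t (s' c) = c := by
    intro c
    obtain ⟨j, rfl⟩ := mem_zpowers_iff.mp (hc0 c)
    rw [map_zpow, map_zpow, hs'0, hσ1t]
  have hs'c : ∀ c, ∀ k ∈ t.ker, s' c * k = k * s' c := by
    intro c k hk
    obtain ⟨j, rfl⟩ := mem_zpowers_iff.mp (hc0 c)
    rw [map_zpow, hs'0]
    exact (Commute.zpow_left (hσ1c k hk) j).eq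
  -- the isomorphism
  let Φ : t.ker × C →* G :=
    { toFun := fun p => (p.1 : G) * s' p.2
      map_one' := by simp
      map_mul' := by
        rintro ⟨k1, c1⟩ ⟨k2, c2⟩
        show ((k1 * k2 : t.ker) : G) * s' (c1 * c2) = (k1 : G) * s' c1 * ((k2 : G) * s' c2)
        rw [Subgroup.coe_mul, map_mul, mul_assoc, mul_assoc, ← mul_assoc (k2 : G),
          ← hs'c c1 k2 k2.2, mul_assoc] }
  have hΦ : Function.Bijective Φ := by
    constructor
    · rw [injective_iff_map_eq_one]
      rintro ⟨k, c⟩ h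
      have h1 : (k : G) * s' c = 1 := h
      have h2 := congrArg t h1
      rw [map_mul, map_one, hs't, MonoidHom.mem_ker.mp k.2, one_mul] at h2
      subst h2
      rw [map_one, mul_one] at h1
      exact Prod.ext (Subtype.ext h1) rfl
    · intro g
      refine ⟨(⟨g * (s' (t g))⁻¹, ?_⟩, t g), ?_⟩
      · rw [MonoidHom.mem_ker, map_mul, map_inv, hs't, mul_inv_cancel]
      · show g * (s' (t g))⁻¹ * s' (t g) = g
        rw [inv_mul_cancel_right]
  subst hC
  exact ⟨((MulEquiv.ofBijective Φ hΦ).symm).trans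
    (MulEquiv.prodCongr e (zmodCyclicMulEquiv ‹IsCyclic C›).symm)⟩

end Cfsg.Agent.Helper97.OutPlus
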