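import Mathlib

/-! (D5t) for helper99's S6000 farm (#8930): for `p ≡ 1 mod 4`, `p ≡ ±1 mod 5`, the field of
characteristic `p` contains a root of `τ² + τ - 1` (quadratic reciprocity). -/

set_option autoImplicit false

namespace Cfsg.Agent.Helper97.P4

variable {F : Type*} [Field F]

/-- (D5t) -/
theorem exists_tau [Fintype F] {p : ℕ} [Fact p.Prime] [CharP F p]
    (hF : Fintype.card F = p) (hp4 : p % 4 = 1) (hp5 : p % 5 = 1 ∨ p % 5 = 4) :
    ∃ τ : F, τ ^ 2 + τ - 1 = 0 := by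
  have _ := hF
  have : Fact (Nat.Prime 5) := ⟨by norm_num⟩
  -- `p` is a square mod `5`
  have hsq5 : IsSquare ((p : ℕ) : ZMod 5) := by
    have hcast : ((p : ℕ) : ZMod 5) = ((p % 5 : ℕ) : ZMod 5) := by
      rw [ZMod.natCast_mod]
    rw [hcast]
    rcases hp5 with h | h <;> rw [h]
    · exact ⟨1, by norm_num⟩
    · refine ⟨2, ?_⟩
      norm_num
  -- hence `5` is a square mod `p`
  have hsqp : IsSquare (((5 : ℕ) : ZMod p)) :=
    (ZMod.exists_sq_eq_prime_iff_of_mod_four_eq_one (p := p) (q := 5) hp4 (by norm_num)).mpr hsq5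
  obtain ⟨a, ha⟩ := hsqp
  -- transport to `F`
  let φ : ZMod p →+* F := ZMod.castHom (dvd_refl p) F
  have hs : φ a * φ a = 5 := by
    rw [← map_mul, ← ha, map_natCast]
    norm_num
  -- `2 ≠ 0`
  have h2 : (2 : F) ≠ 0 := by
    intro h
    have h2' : ((2 : ℕ) : F) = 0 := by exact_mod_cast h
    rw [CharP.cast_eq_zero_iff F p] at h2'
    have hp2 : p ≤ 2 := Nat.le_of_dvd (by norm_num) h2'
    have hp1 : 1 < p := (Fact.out : p.Prime).one_lt
    have : p = 2 := by omega
    omega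
  refine ⟨(φ a - 1) / 2, ?_⟩
  field_simp
  linear_combination hs

end Cfsg.Agent.Helper97.P4
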