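import Mathlib

/-! (KR) for helper99's S6000 farm (#8930): `r`-th roots exist in a finite field when
`gcd (q - 1, r) = 1`. -/

set_option autoImplicit false

namespace Cfsg.Agent.Helper97.P4

variable {F : Type*} [Field F]

/-- (KR) -/
theorem exists_root [Fintype F] (r : ℕ) (hr0 : 0 < r) (hr : (Fintype.card F - 1).Coprime r) (z : F) :
    ∃ c : F, c ^ r = z := by
  classical
  by_cases hz : z = 0
  · exact ⟨0, by rw [hz, zero_pow hr0.ne']⟩
  · have hcard : Nat.card Fˣ = Fintype.card F - 1 := by
      rw [Nat.card_eq_fintype_card, Fintype.card_units]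
    have hco : (Nat.card Fˣ).Coprime r := by rw [hcard]; exact hr
    obtain ⟨c, hc⟩ := (powCoprime hco).surjective (Units.mk0 z hz)
    refine ⟨(c : F), ?_⟩
    have := congrArg (fun u : Fˣ => (u : F)) hc
    simpa [powCoprime] using this

end Cfsg.Agent.Helper97.P4
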