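import Mathlib
import Cfsg.Agent.Helper38.Cov2P5.Defs

/-!
# Leaf (HT) of helper38's S2500 part 5 farm: the point stabiliser of `SU_3(q)` is proper
-/

set_option autoImplicit false

namespace Cfsg.Agent.Helper97.P5

open Matrix Cfsg.Agent.Helper38.Cov2 Cfsg.Agent.Helper45.GU

variable {F : Type*} [Field F] [Fintype F] {q : ℕ}

/-- (HT) the point stabiliser is proper -/
theorem ptStab_ne_top (bar : F →+* F) (hbar : ∀ x, bar x = x ^ q) : ptStab F q ≠ ⊤ := by
  intro h
  have hσ : Equiv.Perm.sign (finRotate 3) = 1 := by decide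
  have hm : pmSU 3 bar hbar (finRotate 3) hσ ∈ ptStab F q := by rw [h]; exact Subgroup.mem_top _
  rw [mem_ptStab] at hm
  have h20 := hm 2 (by decide)
  have e : mat (pmSU 3 bar hbar (finRotate 3) hσ) = (finRotate 3).permMatrix F := rfl
  rw [e, Equiv.Perm.permMatrix, PEquiv.toMatrix_apply] at h20
  simp at h20

end Cfsg.Agent.Helper97.P5
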