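import Mathlib
import Cfsg.Prelude.Def_LocalStructure
import Cfsg.Agent.Helper49.CharP
import Cfsg.Agent.Helper49.SelfCent
import Cfsg.Agent.Helper31.CharPChain
import Cfsg.Agent.Helper54.PConstrained
import Cfsg.Agent.Helper25.PGroupBasic
import Cfsg.Agent.Helper9.SubnormalSylow

/-!
# Parabolic characteristic `p` passes to subnormal subgroups

If `G` has parabolic characteristic `p`, `S` is a Sylow `p`-subgroup, `G₁` is subnormal in `G` and
`Z(S ∩ G₁) ≤ Z(S)`, then `G₁` has parabolic characteristic `p`.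
-/

set_option autoImplicit false

namespace Cfsg.Agent.Helper97

open Cfsg Cfsg.Agent.Helper49

section transport

variable {H : Type*} [Group H] {H' : Type*} [Group H'] {p : ℕ}

/-- `C_H(O_p(H)) ≤ O_p(H)` is invariant under isomorphism. -/
theorem centralizer_pCore_le_of_equiv (e : H ≃* H')
    (h : Subgroup.centralizer (pCore p H : Set H) ≤ pCore p H) :
    Subgroup.centralizer (pCore p H' : Set H') ≤ pCore p H' := by
  intro y hy
  have h1 : e.symm y ∈ pCore p H := by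
    apply h
    rw [Subgroup.mem_centralizer_iff]
    intro u hu
    have hu' : e u ∈ pCore p H' := (Cfsg.Agent.Helper54.mem_pCore_equiv e).mpr hu
    have hc := (Subgroup.mem_centralizer_iff.mp hy) (e u) hu'
    apply e.injective
    rw [map_mul, map_mul, e.apply_symm_apply]
    exact hc
  have := (Cfsg.Agent.Helper54.mem_pCore_equiv e).mpr h1
  rwa [e.apply_symm_apply] at this

/-- Characteristic `p` in ambient form can be checked after an injective homomorphism. -/
theorem charPIn_of_map (f : H →* H') (hf : Function.Injective f) (L : Subgroup H)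
    (h : CharPIn p (L.map f)) : CharPIn p L := by
  rw [charPIn_iff] at h ⊢
  exact centralizer_pCore_le_of_equiv (L.equivMapOfInjective f hf).symm h

end transport

section main

variable {G : Type*} [Group G] [Finite G] {p : ℕ} [Fact p.Prime]

/-- In a group of parabolic characteristic `p`, the centralizer of a nontrivial element of the centre
of a Sylow `p`-subgroup has characteristic `p`. -/
theorem charPIn_centralizer_of_mem_center_sylow (hG : Cfsg.IsOfParabolicCharacteristic p G)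
    (S : Sylow p G) {z : G} (hzS : z ∈ (S : Subgroup G))
    (hzc : ∀ s ∈ (S : Subgroup G), s * z = z * s) (hz1 : z ≠ 1) :
    CharPIn p (Subgroup.centralizer ({z} : Set G)) := by
  set U : Subgroup G := Subgroup.zpowers z with hU
  have hUS : U ≤ (S : Subgroup G) := by
    rw [hU, Subgroup.zpowers_le]; exact hzS
  have hUp : IsPGroup p U := S.isPGroup'.to_le hUS
  have hU1 : U ≠ ⊥ := by
    rw [hU]; exact Subgroup.zpowers_ne_bot.2 hz1
  have hSC : (S : Subgroup G) ≤ Subgroup.centralizer (U : Set G) := by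
    rw [hU, Cfsg.Agent.Helper31.centralizer_zpowers_eq]
    intro s hs
    rw [Subgroup.mem_centralizer_iff]
    intro h hh
    rw [Set.mem_singleton_iff] at hh
    rw [hh]
    exact (hzc s hs).symm
  have hpar : Cfsg.IsParabolic p (Subgroup.normalizer (U : Set G)) :=
    ⟨S, hSC.trans (Subgroup.centralizer_le_normalizer _)⟩
  have hN : CharPIn p (Subgroup.normalizer (U : Set G)) :=
    (charPIn_iff _).2 (hG U hUp hU1 hpar)
  have hC : CharPIn p (Subgroup.centralizer (U : Set G)) :=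
    charPIn_of_normalized hN (Subgroup.centralizer_le_normalizer _)
      ((coreIn_le _).trans (normalizer_le_normalizer_centralizer U))
  rwa [hU, Cfsg.Agent.Helper31.centralizer_zpowers_eq] at hC

omit [Finite G] in
theorem le_normalizer_inf_of_le {X A B : Subgroup G} (hA : X ≤ Subgroup.normalizer (A : Set G))
    (hB : X ≤ Subgroup.normalizer (B : Set G)) :
    X ≤ Subgroup.normalizer ((A ⊓ B : Subgroup G) : Set G) := by
  intro s hs
  rw [Subgroup.mem_normalizer_iff]
  intro x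
  rw [Subgroup.mem_inf, Subgroup.mem_inf, ← Subgroup.mem_normalizer_iff.mp (hA hs) x,
    ← Subgroup.mem_normalizer_iff.mp (hB hs) x]

/-- Characteristic `p` passes to intersections with subnormal subgroups. -/
theorem charPIn_inf_of_isSubnormal {K C : Subgroup G} (hK : K.IsSubnormal) (hC : CharPIn p C) :
    CharPIn p (K ⊓ C) := by
  induction hK with
  | top => rwa [top_inf_eq]
  | step L K hle _ hN ih =>
    have hKn : K ≤ Subgroup.normalizer (L : Set G) :=
      (Subgroup.normal_subgroupOf_iff_le_normalizer hle).mp hN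
    have h1 : K ⊓ C ≤ Subgroup.normalizer ((L ⊓ C : Subgroup G) : Set G) :=
      le_normalizer_inf_of_le (inf_le_left.trans hKn) (inf_le_right.trans Subgroup.le_normalizer)
    exact charPIn_of_normalized ih (inf_le_inf hle le_rfl) ((coreIn_le _).trans h1)

omit [Finite G] [Fact p.Prime] in
theorem mem_smul_sylow_iff (P : Sylow p G) (g x : G) :
    x ∈ ((g • P : Sylow p G) : Subgroup G) ↔ g⁻¹ * x * g ∈ (P : Subgroup G) := by
  rw [Sylow.smul_def, Sylow.pointwise_smul_def, Subgroup.mem_pointwise_smul_iff_inv_smul_mem]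
  simp [MulAut.smul_def]

omit [Finite G] [Fact p.Prime] in
theorem map_conj_centralizer_singleton (g z₀ : G) :
    (Subgroup.centralizer ({g * z₀ * g⁻¹} : Set G)).map (MulAut.conj g⁻¹).toMonoidHom =
      Subgroup.centralizer ({z₀} : Set G) := by
  ext x
  constructor
  · rintro ⟨y, hy, rfl⟩
    have hy' := Subgroup.mem_centralizer_iff.1 hy
    rw [Subgroup.mem_centralizer_iff]
    intro h hh
    rw [Set.mem_singleton_iff] at hh
    rw [hh]
    have h1 := hy' _ rfl
    show z₀ * (g⁻¹ * y * g⁻¹⁻¹) = (g⁻¹ * y * g⁻¹⁻¹) * z₀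
    calc z₀ * (g⁻¹ * y * g⁻¹⁻¹) = g⁻¹ * ((g * z₀ * g⁻¹) * y) * g := by group
      _ = g⁻¹ * (y * (g * z₀ * g⁻¹)) * g := by rw [h1]
      _ = (g⁻¹ * y * g⁻¹⁻¹) * z₀ := by group
  · intro hx
    refine ⟨g * x * g⁻¹, ?_, ?_⟩
    · show g * x * g⁻¹ ∈ Subgroup.centralizer ({g * z₀ * g⁻¹} : Set G)
      rw [Subgroup.mem_centralizer_iff] at hx ⊢
      intro h hh
      rw [Set.mem_singleton_iff] at hh
      rw [hh]
      have h1 := hx _ rfl
      calc g * z₀ * g⁻¹ * (g * x * g⁻¹) = g * (z₀ * x) * g⁻¹ := by group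
        _ = g * (x * z₀) * g⁻¹ := by rw [h1]
        _ = g * x * g⁻¹ * (g * z₀ * g⁻¹) := by group
    · show g⁻¹ * (g * x * g⁻¹) * g⁻¹⁻¹ = x
      group

omit [Finite G] [Fact p.Prime] in
theorem map_subtype_centralizer_singleton (G₁ : Subgroup G) (z₀ : ↥G₁) :
    (Subgroup.centralizer ({z₀} : Set ↥G₁)).map G₁.subtype =
      G₁ ⊓ Subgroup.centralizer ({(z₀ : G)} : Set G) := by
  ext x
  constructor
  · rintro ⟨y, hy, rfl⟩
    refine Subgroup.mem_inf.2 ⟨y.2, ?_⟩
    have hy' := Subgroup.mem_centralizer_iff.1 hy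
    rw [Subgroup.mem_centralizer_iff]
    intro h hh
    rw [Set.mem_singleton_iff] at hh
    rw [hh]
    exact congrArg Subtype.val (hy' z₀ rfl)
  · intro hx
    obtain ⟨hxG, hxC⟩ := Subgroup.mem_inf.1 hx
    refine ⟨⟨x, hxG⟩, ?_, rfl⟩
    show (⟨x, hxG⟩ : ↥G₁) ∈ Subgroup.centralizer ({z₀} : Set ↥G₁)
    rw [Subgroup.mem_centralizer_iff] at hxC ⊢
    intro h hh
    rw [Set.mem_singleton_iff] at hh
    rw [hh]
    exact Subtype.ext (hxC _ rfl)

/-- **Parabolic characteristic `p` passes to subnormal subgroups** `G₁` with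
`Z(S ∩ G₁) ≤ Z(S)`. -/
theorem isOfParabolicCharacteristic_of_isSubnormal (hG : Cfsg.IsOfParabolicCharacteristic p G)
    (S : Sylow p G) (G₁ : Subgroup G) (hsn : G₁.IsSubnormal)
    (hle : ((S : Subgroup G) ⊓ G₁) ⊓
        Subgroup.centralizer (((S : Subgroup G) ⊓ G₁ : Subgroup G) : Set G) ≤
      (S : Subgroup G) ⊓ Subgroup.centralizer ((S : Subgroup G) : Set G)) :
    Cfsg.IsOfParabolicCharacteristic p ↥G₁ := by
  classical
  -- the Sylow subgroup `S ∩ G₁` of `G₁`
  have hidx : ¬ p ∣ ((S : Subgroup G).subgroupOf G₁).index :=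
    Cfsg.Agent.Helper9.not_dvd_relIndex_of_isSubnormal p S hsn
  have hPg : IsPGroup p ((S : Subgroup G).subgroupOf G₁) := S.isPGroup'.comap_subtype
  set S₁ : Sylow p ↥G₁ := hPg.toSylow hidx with hS₁
  have hS₁coe : (S₁ : Subgroup ↥G₁) = (S : Subgroup G).subgroupOf G₁ := hPg.toSylow_coe hidx
  -- nontrivial elements of `Z(S₁)` have centralizers in `G₁` of characteristic `p`
  have hkey : ∀ z₀ : ↥G₁, z₀ ∈ (S₁ : Subgroup ↥G₁) →
      (∀ s ∈ (S₁ : Subgroup ↥G₁), s * z₀ = z₀ * s) → z₀ ≠ 1 →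
      CharPIn p (Subgroup.centralizer ({z₀} : Set ↥G₁)) := by
    intro z₀ hz₀S hz₀c hz₀1
    have hzZ : (z₀ : G) ∈ ((S : Subgroup G) ⊓ G₁) ⊓
        Subgroup.centralizer (((S : Subgroup G) ⊓ G₁ : Subgroup G) : Set G) := by
      rw [hS₁coe, Subgroup.mem_subgroupOf] at hz₀S
      refine Subgroup.mem_inf.2 ⟨Subgroup.mem_inf.2 ⟨hz₀S, z₀.2⟩, ?_⟩
      rw [Subgroup.mem_centralizer_iff]
      intro y hy
      obtain ⟨hyS, hyG⟩ := Subgroup.mem_inf.1 hy
      have hy' : (⟨y, hyG⟩ : ↥G₁) ∈ (S₁ : Subgroup ↥G₁) := by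
        rw [hS₁coe, Subgroup.mem_subgroupOf]; exact hyS
      exact congrArg Subtype.val (hz₀c _ hy')
    obtain ⟨hzS, hzC⟩ := Subgroup.mem_inf.1 (hle hzZ)
    have hz1 : (z₀ : G) ≠ 1 := fun h => hz₀1 (Subtype.ext h)
    have hzc : ∀ s ∈ (S : Subgroup G), s * (z₀ : G) = (z₀ : G) * s :=
      fun s hs => Subgroup.mem_centralizer_iff.1 hzC s hs
    have h1 := charPIn_centralizer_of_mem_center_sylow hG S hzS hzc hz1
    have h2 := charPIn_inf_of_isSubnormal hsn h1
    apply charPIn_of_map G₁.subtype G₁.subtype_injective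
    rw [map_subtype_centralizer_singleton]
    exact h2
  intro R hRp hR1 hpar
  obtain ⟨T, hT⟩ := hpar
  have hRT : R ≤ (T : Subgroup ↥G₁) := le_sylow_of_normalized T hRp hT
  -- a nontrivial element of `R ∩ Z(T)`
  have hRn : (R.subgroupOf (T : Subgroup ↥G₁)).Normal :=
    (Subgroup.normal_subgroupOf_iff_le_normalizer hRT).2 hT
  have hR1' : R.subgroupOf (T : Subgroup ↥G₁) ≠ ⊥ := by
    intro h
    apply hR1
    rw [eq_bot_iff]
    intro x hx
    have hx' : (⟨x, hRT hx⟩ : ↥(T : Subgroup ↥G₁)) ∈ R.subgroupOf (T : Subgroup ↥G₁) :=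
      Subgroup.mem_subgroupOf.2 hx
    rw [h, Subgroup.mem_bot] at hx'
    rw [Subgroup.mem_bot]
    exact congrArg Subtype.val hx'
  obtain ⟨z', hz'R, hz'1, hz'c⟩ := Cfsg.Agent.Helper25.exists_mem_center_of_normal_ne_bot
    T.isPGroup' (R.subgroupOf (T : Subgroup ↥G₁)) hR1'
  have hzR : (z' : ↥G₁) ∈ R := Subgroup.mem_subgroupOf.1 hz'R
  have hzT : (z' : ↥G₁) ∈ (T : Subgroup ↥G₁) := z'.2
  have hz1 : (z' : ↥G₁) ≠ 1 := fun h => hz'1 (Subtype.ext h)
  have hzc : ∀ t ∈ (T : Subgroup ↥G₁), t * (z' : ↥G₁) = (z' : ↥G₁) * t := by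
    intro t ht
    exact congrArg Subtype.val (Subgroup.mem_center_iff.1 hz'c ⟨t, ht⟩)
  -- conjugate `T` to `S₁`
  obtain ⟨g, hg⟩ := MulAction.exists_smul_eq ↥G₁ S₁ T
  have hmem : ∀ x : ↥G₁, x ∈ (T : Subgroup ↥G₁) ↔ g⁻¹ * x * g ∈ (S₁ : Subgroup ↥G₁) := by
    intro x
    rw [← hg]
    exact mem_smul_sylow_iff S₁ g x
  set z₀ : ↥G₁ := g⁻¹ * (z' : ↥G₁) * g with hz₀
  have hz₀S : z₀ ∈ (S₁ : Subgroup ↥G₁) := (hmem _).1 hzT
  have hz₀c : ∀ s ∈ (S₁ : Subgroup ↥G₁), s * z₀ = z₀ * s := by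
    intro s hs
    have hsT : g * s * g⁻¹ ∈ (T : Subgroup ↥G₁) := by
      rw [hmem]
      have : g⁻¹ * (g * s * g⁻¹) * g = s := by group
      rw [this]; exact hs
    have h1 := hzc _ hsT
    calc s * z₀ = g⁻¹ * ((g * s * g⁻¹) * (z' : ↥G₁)) * g := by rw [hz₀]; group
      _ = g⁻¹ * ((z' : ↥G₁) * (g * s * g⁻¹)) * g := by rw [h1]
      _ = z₀ * s := by rw [hz₀]; group
  have hz₀1 : z₀ ≠ 1 := by
    intro h
    apply hz1
    have h2 : (z' : ↥G₁) = g * z₀ * g⁻¹ := by rw [hz₀]; group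
    rw [h2, h, mul_one, mul_inv_cancel]
  have hzz₀ : (z' : ↥G₁) = g * z₀ * g⁻¹ := by rw [hz₀]; group
  have h4 := hkey z₀ hz₀S hz₀c hz₀1
  have h5 : CharPIn p (Subgroup.centralizer ({(z' : ↥G₁)} : Set ↥G₁)) := by
    apply charPIn_of_map (MulAut.conj g⁻¹).toMonoidHom (MulAut.conj g⁻¹).injective
    rw [hzz₀, map_conj_centralizer_singleton]
    exact h4
  have h6 := Cfsg.Agent.Helper31.charPIn_centralizer_of_mem h5 R hRp hzR
  have h7 := Cfsg.Agent.Helper31.charPIn_normalizer_of_centralizer hRp h6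
  exact (charPIn_iff _).1 h7

end main

end Cfsg.Agent.Helper97
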