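/-
Helper97: in a finite solvable irreducible primitive linear group every non-identity element has a fixed
space of dimension at most three quarters of the dimension.
-/
import Mathlib
import Cfsg.Agent.Helper97.ClassTwo
import Cfsg.Agent.Helper97.FixDim
import Cfsg.Agent.Helper97.Clifford3

set_option autoImplicit false

namespace Cfsg.Agent.Helper97

open scoped commutatorElement

/-- A version of `exists_classTwo_selfCentralizing` for a subgroup of an ambient group. -/
theorem exists_classTwo_in_subgroup {Γ : Type*} [Group Γ] (G : Subgroup Γ) [Finite G]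
    [Group.IsSolvable G] :
    ∃ N : Subgroup Γ, N ≤ G ∧ (∀ g ∈ G, ∀ n ∈ N, g * n * g⁻¹ ∈ N) ∧
      (∀ a ∈ N, ∀ b ∈ N, ∀ c ∈ N, ⁅a, b⁆ * c = c * ⁅a, b⁆) ∧
      (∀ g ∈ G, (∀ n ∈ N, g * n = n * g) → g ∈ N) := by
  obtain ⟨N₀, hnorm, hcl, hcent⟩ := exists_classTwo_selfCentralizing (G := G)
  refine ⟨N₀.map G.subtype, ?_, ?_, ?_, ?_⟩
  · rintro _ ⟨n, -, rfl⟩
    exact n.2
  · rintro g hg _ ⟨n, hn, rfl⟩
    refine ⟨⟨g, hg⟩ * n * ⟨g, hg⟩⁻¹, hnorm.conj_mem n hn ⟨g, hg⟩, ?_⟩
    simp
  · rintro _ ⟨a, ha, rfl⟩ _ ⟨b, hb, rfl⟩ _ ⟨c, hc, rfl⟩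
    have h1 : ⁅a, b⁆ ∈ ⁅N₀, N₀⁆ := Subgroup.commutator_mem_commutator ha hb
    have h2 := hcl h1
    rw [Subgroup.mem_centralizer_iff] at h2
    have h3 := h2 c hc
    have h4 := congrArg G.subtype h3
    simp only [map_mul, map_commutatorElement] at h4
    exact h4.symm
  · intro g hg hcomm
    have : (⟨g, hg⟩ : G) ∈ Subgroup.centralizer (N₀ : Set G) := by
      rw [Subgroup.mem_centralizer_iff]
      intro n hn
      apply Subtype.ext
      have := hcomm (n : Γ) ⟨n, hn, rfl⟩
      simpa using this.symm
    exact ⟨⟨g, hg⟩, hcent this, rfl⟩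

variable {F : Type*} [Field F] {V : Type*} [AddCommGroup V] [Module F V]

/-- Fixed-point spaces in primitive solvable linear groups: at most `3/4` of the dimension. -/
theorem four_mul_finrank_fixed_le_of_primitive_solvable [FiniteDimensional F V] [Nontrivial V]
    (G : Subgroup (Module.End F V)ˣ) [Finite G] [Group.IsSolvable G]
    (hirr : UnitsIrreducible G) (hprim : UnitsPrimitive G)
    (g : (Module.End F V)ˣ) (hg : g ∈ G) (hg1 : g ≠ 1) :
    4 * Module.finrank F (Module.End.eigenspace (g : Module.End F V) 1) ≤ 3 * Module.finrank F V := by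
  obtain ⟨N, hNG, hNn, hNcl, hNc⟩ := exists_classTwo_in_subgroup G
  -- the centre of N
  set Z : Subgroup (Module.End F V)ˣ := N ⊓ Subgroup.centralizer (N : Set (Module.End F V)ˣ) with hZ
  have hZn : ∀ g ∈ G, ∀ z ∈ Z, g * z * g⁻¹ ∈ Z := by
    intro g hg z hz
    rw [hZ, Subgroup.mem_inf] at hz ⊢
    refine ⟨hNn g hg z hz.1, ?_⟩
    rw [Subgroup.mem_centralizer_iff]
    intro n hn
    have h1 : g⁻¹ * n * g ∈ N := by
      have := hNn g⁻¹ (G.inv_mem hg) n hn
      simpa using this
    have h2 := (Subgroup.mem_centralizer_iff.mp hz.2) _ h1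
    calc n * (g * z * g⁻¹) = g * ((g⁻¹ * n * g) * z) * g⁻¹ := by group
      _ = g * (z * (g⁻¹ * n * g)) * g⁻¹ := by rw [h2]
      _ = g * z * g⁻¹ * n := by group
  have hZab : ∀ a ∈ Z, ∀ b ∈ Z, a * b = b * a := by
    intro a ha b hb
    rw [hZ, Subgroup.mem_inf] at ha hb
    exact ((Subgroup.mem_centralizer_iff.mp hb.2) a ha.1)
  have hstar : ∀ z ∈ Z, z ≠ 1 → Module.End.eigenspace (z : Module.End F V) 1 = ⊥ :=
    fun z hz hz1 => eigenspace_one_eq_bot_of_abelian_normal G Z hirr hprim hZn hZab z hz hz1
  -- every non-identity element of N fixes at most half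
  have claim2 : ∀ y ∈ N, y ≠ 1 →
      2 * Module.finrank F (Module.End.eigenspace (y : Module.End F V) 1) ≤ Module.finrank F V := by
    intro y hy hy1
    by_cases hyc : y ∈ Subgroup.centralizer (N : Set (Module.End F V)ˣ)
    · have : y ∈ Z := by rw [hZ, Subgroup.mem_inf]; exact ⟨hy, hyc⟩
      rw [hstar y this hy1]
      simp
    · rw [Subgroup.mem_centralizer_iff] at hyc
      push Not at hyc
      obtain ⟨x, hx, hxy⟩ := hyc
      set z : (Module.End F V)ˣ := ⁅y⁻¹, x⁻¹⁆ with hz
      have hzN : z ∈ N := by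
        rw [hz, commutatorElement_def]
        exact N.mul_mem (N.mul_mem (N.mul_mem (N.inv_mem hy) (N.inv_mem hx)) (by simpa using hy))
          (by simpa using hx)
      have hzZ : z ∈ Z := by
        rw [hZ, Subgroup.mem_inf]
        refine ⟨hzN, ?_⟩
        rw [Subgroup.mem_centralizer_iff]
        intro c hc
        exact (hNcl y⁻¹ (N.inv_mem hy) x⁻¹ (N.inv_mem hx) c hc).symm
      have hz1 : z ≠ 1 := by
        intro h
        apply hxy
        rw [hz, commutatorElement_def] at h
        simp only [inv_inv] at h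
        -- y⁻¹ x⁻¹ y x = 1 → x y = y x
        have : y * x = x * y := by
          calc y * x = x * y * (y⁻¹ * x⁻¹ * y * x) := by group
            _ = x * y := by rw [h, mul_one]
        exact this.symm
      have hzfix := hstar z hzZ hz1
      have hyz : y * z = x⁻¹ * y * x := by
        rw [hz, commutatorElement_def]; group
      apply two_mul_finrank_fixed_le (y : Module.End F V) ((y * z : (Module.End F V)ˣ) : Module.End F V)
        ((x⁻¹ : (Module.End F V)ˣ) : Module.End F V) (units_injective x⁻¹)
      · intro v hv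
        rw [hyz, Units.val_mul, Units.val_mul, Module.End.mul_apply, Module.End.mul_apply,
          units_apply_inv_apply, hv]
      · intro v hv hv2
        rw [Units.val_mul, Module.End.mul_apply] at hv2
        have h3 : (z : Module.End F V) v = v := by
          apply units_injective y
          rw [hv2, hv]
        have : v ∈ Module.End.eigenspace (z : Module.End F V) 1 := by
          rw [Module.End.mem_eigenspace_iff, one_smul]; exact h3
        rw [hzfix] at this
        exact (Submodule.mem_bot F).mp this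
  -- the general element
  by_cases hgN : g ∈ N
  · have := claim2 g hgN hg1
    omega
  · have hnc : ¬ ∀ n ∈ N, g * n = n * g := fun h => hgN (hNc g hg h)
    push Not at hnc
    obtain ⟨b, hb, hgb⟩ := hnc
    set y : (Module.End F V)ˣ := g⁻¹ * b * g * b⁻¹ with hy
    have hyN : y ∈ N := by
      have h1 : g⁻¹ * b * g ∈ N := by
        have := hNn g⁻¹ (G.inv_mem hg) b hb
        simpa using this
      exact N.mul_mem h1 (N.inv_mem hb)
    have hy1 : y ≠ 1 := by
      intro h
      apply hgb
      have h' : g⁻¹ * b * g * b⁻¹ = 1 := by rw [← hy]; exact h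
      have h'' : b * g = g * (g⁻¹ * b * g * b⁻¹) * b := by group
      rw [h'', h', mul_one]
    have hyfix := claim2 y hyN hy1
    apply four_mul_finrank_fixed_le (g : Module.End F V) (y : Module.End F V) (b : Module.End F V)
      (units_injective b) _ hyfix
    intro v hv hv2
    rw [hy]
    simp only [Units.val_mul, Module.End.mul_apply, units_inv_apply_apply, hv]
    -- g⁻¹ (b v) = b v since g (b v) = b v
    have : ((g⁻¹ : (Module.End F V)ˣ) : Module.End F V) ((b : Module.End F V) v) = (b : Module.End F V) v := by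
      conv_lhs => rw [← hv2]
      rw [units_inv_apply_apply]
    exact this

end Cfsg.Agent.Helper97
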