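import Cfsg.Agent.Helper45.PronBL3.Defs

/-!
# helper97: leaf (N) of helper45's BL3 farm (#15446; block of helper99's S2225/S2226)
-/

set_option autoImplicit false

namespace Cfsg.Agent.Helper97.Pron

open Matrix Cfsg.Agent.Helper99.Pron Cfsg.Agent.Helper45.Pron

variable {F : Type*} [Field F]

/-- (N) `e = eM a b`, `phi e phi⁻¹ = eM a (-b)` (`phi_conj_val`), so `2 b = 0`, `e = a • 1`, `a ≠ 0`
(`det e = a² ≠ 0`), `l = Units.mk0 a _`. -/
theorem exists_sc_of_phi_conj_eq (h2 : (2 : F) ≠ 0) (e : GL (Fin 2) F)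
    (he : e ∈ (Esub : Subgroup (GL (Fin 2) F))) (h : phi * e * phi⁻¹ = e) :
    ∃ l : Fˣ, e = sc l := by
  obtain ⟨a, b, hab⟩ := he
  have h1 := phi_conj_val e a b hab
  rw [h, hab] at h1
  obtain ⟨_, hb⟩ := eM_inj h1
  have hb0 : b = 0 := by
    have h3 : (2 : F) * b = 0 := by linear_combination hb
    rcases mul_eq_zero.1 h3 with h3 | h3
    · exact absurd h3 h2
    · exact h3
  have ha : a ≠ 0 := by
    have hdet := ((Matrix.isUnit_iff_isUnit_det _).1 e.isUnit).ne_zero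
    rw [hab, det_eM, hb0] at hdet
    intro ha
    apply hdet
    rw [ha]
    ring
  refine ⟨Units.mk0 a ha, Units.ext ?_⟩
  rw [hab, sc_val, hb0, Units.val_mk0, smul_one_eq_eM]

end Cfsg.Agent.Helper97.Pron
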