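import Mathlib

/-! (PT) for helper61's S3616 farm (#9918): the regular dihedral labelling of the nonzero points of
`ZMod p`, `p ≡ 3 (mod 4)`: `pt (r i) = ε ^ i`, `pt (sr i) = -(ε ^ i)⁻¹`, `ε` a generator of the
squares. -/

set_option autoImplicit false

namespace Cfsg.Agent.Helper97.Psl

open Equiv MulAction DihedralGroup

variable {p : ℕ} [Fact p.Prime]

/-- the labelling on the level of units -/
noncomputable def ptU (ε : (ZMod p)ˣ) : DihedralGroup ((p - 1) / 2) → (ZMod p)ˣ
  | r i => ε ^ i.val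
  | sr i => -(ε ^ i.val)⁻¹

/-- (PT) the regular dihedral labelling of the nonzero points, `p ≡ 3 (mod 4)`. -/
theorem exists_pt (hp3 : p % 4 = 3) (hp7 : 7 < p) [NeZero ((p - 1) / 2)]
    (G : Subgroup (Perm (ZMod p))) :
    ∃ ε : (ZMod p)ˣ, IsSquare ε ∧
      ∃ pt : DihedralGroup ((p - 1) / 2) → ↥(SubMulAction.ofStabilizer ↥G (0 : ZMod p)),
        Function.Bijective pt ∧ (pt 1).1 = 1 ∧
        (∀ (j : ZMod ((p - 1) / 2)) (d : DihedralGroup ((p - 1) / 2)),
          (pt (r j * d)).1 = (ε : ZMod p) ^ j.val * (pt d).1) ∧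
        (∀ (j : ZMod ((p - 1) / 2)) (d : DihedralGroup ((p - 1) / 2)),
          (pt (sr j * d)).1 = -((ε : ZMod p) ^ j.val * (pt d).1)⁻¹) := by
  classical
  have _ := hp7
  have hpp : p.Prime := Fact.out
  set e := (p - 1) / 2 with he
  have hp1 : p - 1 = 2 * e := by omega
  have he0 : e ≠ 0 := NeZero.ne e
  -- a generator of the units
  obtain ⟨ω, hω⟩ := IsCyclic.exists_generator (α := (ZMod p)ˣ)
  have hordω : orderOf ω = p - 1 := by
    rw [orderOf_eq_card_of_forall_mem_zpowers hω, Nat.card_eq_fintype_card, ZMod.card_units_eq_totient,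
      Nat.totient_prime hpp]
  set ε : (ZMod p)ˣ := ω ^ 2 with hε
  have hordε : orderOf ε = e := by
    rw [hε, orderOf_pow' ω (by norm_num : (2 : ℕ) ≠ 0), hordω, hp1]
    have : Nat.gcd (2 * e) 2 = 2 := by
      rw [Nat.gcd_comm]
      exact Nat.gcd_eq_left (Dvd.intro _ rfl)
    rw [this, Nat.mul_div_cancel_left e (by norm_num)]
  -- `-1` is not a square
  have hneg : ¬ IsSquare (-1 : (ZMod p)ˣ) := by
    rintro ⟨u, hu⟩
    have h1 : IsSquare (-1 : ZMod p) := by
      refine ⟨(u : ZMod p), ?_⟩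
      have := congrArg (fun v : (ZMod p)ˣ => (v : ZMod p)) hu
      simpa using this
    exact (ZMod.exists_sq_eq_neg_one_iff.mp h1) hp3
  have hsq : ∀ a : ℕ, ε ^ a = ω ^ a * ω ^ a := fun a => by
    rw [hε, ← pow_mul, two_mul, pow_add]
  -- exponent arithmetic
  have hadd : ∀ i j : ZMod e, ε ^ (i + j).val = ε ^ i.val * ε ^ j.val := by
    intro i j
    rw [ZMod.val_add, ← pow_add]
    have h := pow_mod_orderOf ε (i.val + j.val)
    rw [hordε] at h
    exact h
  have hsub : ∀ i j : ZMod e, ε ^ (i - j).val = ε ^ i.val * (ε ^ j.val)⁻¹ := by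
    intro i j
    have := hadd (i - j) j
    rw [sub_add_cancel] at this
    rw [this, mul_assoc, mul_inv_cancel, mul_one]
  have hinjpow : ∀ i j : ZMod e, ε ^ i.val = ε ^ j.val → i = j := by
    intro i j hij
    rw [pow_eq_pow_iff_modEq, hordε] at hij
    apply ZMod.val_injective e
    have hi := ZMod.val_lt i
    have hj := ZMod.val_lt j
    exact Nat.ModEq.eq_of_lt_of_lt hij hi hj
  -- the relations on the level of units
  have hone : ptU ε (1 : DihedralGroup e) = 1 := by
    rw [DihedralGroup.one_def]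
    show ε ^ (0 : ZMod e).val = 1
    rw [ZMod.val_zero, pow_zero]
  have hr : ∀ (j : ZMod e) (d : DihedralGroup e), ptU ε (r j * d) = ε ^ j.val * ptU ε d := by
    intro j d
    cases d with
    | r i =>
      rw [r_mul_r]
      show ε ^ (j + i).val = ε ^ j.val * ε ^ i.val
      exact hadd j i
    | sr i =>
      rw [r_mul_sr]
      show -(ε ^ (i - j).val)⁻¹ = ε ^ j.val * -(ε ^ i.val)⁻¹
      rw [hsub, mul_inv, inv_inv, mul_neg, mul_comm]
  have hs : ∀ (j : ZMod e) (d : DihedralGroup e), ptU ε (sr j * d) = -(ε ^ j.val * ptU ε d)⁻¹ := by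
    intro j d
    cases d with
    | r i =>
      rw [sr_mul_r]
      show -(ε ^ (j + i).val)⁻¹ = -(ε ^ j.val * ε ^ i.val)⁻¹
      rw [hadd]
    | sr i =>
      rw [sr_mul_sr]
      show ε ^ (i - j).val = -(ε ^ j.val * -(ε ^ i.val)⁻¹)⁻¹
      rw [hsub, mul_neg, inv_neg, neg_neg, mul_inv, inv_inv, mul_comm]
  -- injectivity
  have hinj : Function.Injective (ptU ε) := by
    intro d d' hdd
    cases d with
    | r i =>
      cases d' with
      | r i' =>
        have : ε ^ i.val = ε ^ i'.val := hdd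
        rw [hinjpow i i' this]
      | sr i' =>
        exfalso
        have h1 : ε ^ i.val = -(ε ^ i'.val)⁻¹ := hdd
        apply hneg
        refine ⟨ω ^ i.val * ω ^ i'.val, ?_⟩
        have h2 : ε ^ i.val * ε ^ i'.val = -1 := by
          rw [h1, neg_mul, inv_mul_cancel]
        rw [← h2, hsq, hsq]
        exact mul_mul_mul_comm _ _ _ _
    | sr i =>
      cases d' with
      | r i' =>
        exfalso
        have h1 : -(ε ^ i.val)⁻¹ = ε ^ i'.val := hdd
        apply hneg
        refine ⟨ω ^ i.val * ω ^ i'.val, ?_⟩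
        have h2 : ε ^ i.val * ε ^ i'.val = -1 := by
          rw [← h1, mul_neg, mul_inv_cancel]
        rw [← h2, hsq, hsq]
        exact mul_mul_mul_comm _ _ _ _
      | sr i' =>
        have h1 : -(ε ^ i.val)⁻¹ = -(ε ^ i'.val)⁻¹ := hdd
        have h2 : ε ^ i.val = ε ^ i'.val := by
          have := neg_injective h1
          exact inv_injective this
        rw [hinjpow i i' h2]
  -- the labelling of the points
  have hmem : ∀ d : DihedralGroup e,
      ((ptU ε d : (ZMod p)ˣ) : ZMod p) ∈ SubMulAction.ofStabilizer ↥G (0 : ZMod p) := by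
    intro d
    rw [SubMulAction.mem_ofStabilizer_iff]
    exact Units.ne_zero _
  refine ⟨ε, ⟨ω, by rw [hε, sq]⟩, fun d => ⟨((ptU ε d : (ZMod p)ˣ) : ZMod p), hmem d⟩, ?_, ?_, ?_, ?_⟩
  · -- bijective
    apply Function.Injective.bijective_of_nat_card_le
    · intro d d' hdd
      apply hinj
      apply Units.ext
      exact congrArg Subtype.val hdd
    · rw [SubMulAction.nat_card_ofStabilizer_eq, Nat.card_eq_fintype_card, ZMod.card,
        DihedralGroup.nat_card]
      omega
  · show ((ptU ε 1 : (ZMod p)ˣ) : ZMod p) = 1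
    rw [hone, Units.val_one]
  · intro j d
    show ((ptU ε (r j * d) : (ZMod p)ˣ) : ZMod p) = (ε : ZMod p) ^ j.val * ((ptU ε d : (ZMod p)ˣ) : ZMod p)
    rw [hr, Units.val_mul, Units.val_pow_eq_pow_val]
  · intro j d
    show ((ptU ε (sr j * d) : (ZMod p)ˣ) : ZMod p) =
      -((ε : ZMod p) ^ j.val * ((ptU ε d : (ZMod p)ˣ) : ZMod p))⁻¹
    rw [hs, Units.val_neg, Units.val_inv_eq_inv_val, Units.val_mul, Units.val_pow_eq_pow_val]

end Cfsg.Agent.Helper97.Psl
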