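import Mathlib
import Cfsg.Agent.Helper13.QFEDefs

/-! (E2) for helper13's S5977/S5978 farm (#8823): an invertible matrix with `g θ = ± θ g`
normalises `K = F[θ]`. -/

set_option autoImplicit false

namespace Cfsg.Agent.Helper97.QFEE2

open Matrix Cfsg Cfsg.Geo
open Cfsg.Agent.Helper13.QFE

universe u

variable {F : Type u} [Field F] {ι : Type} [Fintype ι] [DecidableEq ι]

/-- (E2) -/
theorem mem_normalizer_of_conj (K : Subalgebra F (Matrix ι ι F)) (θ : Matrix ι ι F) (hθK : θ ∈ K)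
    (hgen : ∀ k ∈ K, ∃ a b : F, k = a • (1 : Matrix ι ι F) + b • θ) (g : GL ι F) (e : F)
    (he : e = 1 ∨ e = -1) (hg : (g : Matrix ι ι F) * θ = e • (θ * (g : Matrix ι ι F))) :
    g ∈ subalgebraNormalizer K := by
  have hee : e * e = 1 := by rcases he with rfl | rfl <;> simp
  have hgi : (g : Matrix ι ι F) * ((g⁻¹ : GL ι F) : Matrix ι ι F) = 1 := by
    rw [← Units.val_mul, mul_inv_cancel, Units.val_one]
  have hig : ((g⁻¹ : GL ι F) : Matrix ι ι F) * (g : Matrix ι ι F) = 1 := by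
    rw [← Units.val_mul, inv_mul_cancel, Units.val_one]
  -- `g θ g⁻¹ = e θ`
  have h1 : (g : Matrix ι ι F) * θ * ((g⁻¹ : GL ι F) : Matrix ι ι F) = e • θ := by
    rw [hg, Matrix.smul_mul, Matrix.mul_assoc, hgi, Matrix.mul_one]
  -- `g⁻¹ θ g = e θ`
  have h2 : ((g⁻¹ : GL ι F) : Matrix ι ι F) * θ * (g : Matrix ι ι F) = e • θ := by
    have h3 : θ * (g : Matrix ι ι F) = e • ((g : Matrix ι ι F) * θ) := by
      rw [hg, smul_smul, hee, one_smul]
    rw [Matrix.mul_assoc, h3, Matrix.mul_smul, ← Matrix.mul_assoc, hig, Matrix.one_mul]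
  have hmemK : ∀ a b : F, a • (1 : Matrix ι ι F) + b • (e • θ) ∈ K := by
    intro a b
    exact K.add_mem (K.smul_mem K.one_mem a) (K.smul_mem (K.smul_mem hθK e) b)
  intro k
  constructor
  · intro hk
    obtain ⟨a, b, rfl⟩ := hgen k hk
    have : (g : Matrix ι ι F) * (a • (1 : Matrix ι ι F) + b • θ) *
        ((g⁻¹ : GL ι F) : Matrix ι ι F) = a • (1 : Matrix ι ι F) + b • (e • θ) := by
      rw [Matrix.mul_add, Matrix.add_mul, Matrix.mul_smul, Matrix.mul_smul, Matrix.smul_mul,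
        Matrix.smul_mul, Matrix.mul_one, hgi, h1]
    rw [this]
    exact hmemK a b
  · intro hk
    obtain ⟨a, b, hab⟩ := hgen _ hk
    have hk' : k = ((g⁻¹ : GL ι F) : Matrix ι ι F) *
        ((g : Matrix ι ι F) * k * ((g⁻¹ : GL ι F) : Matrix ι ι F)) * (g : Matrix ι ι F) := by
      rw [Matrix.mul_assoc, Matrix.mul_assoc, hig, Matrix.mul_one, ← Matrix.mul_assoc, hig,
        Matrix.one_mul]
    rw [hk', hab]
    have : ((g⁻¹ : GL ι F) : Matrix ι ι F) * (a • (1 : Matrix ι ι F) + b • θ) *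
        (g : Matrix ι ι F) = a • (1 : Matrix ι ι F) + b • (e • θ) := by
      rw [Matrix.mul_add, Matrix.add_mul, Matrix.mul_smul, Matrix.mul_smul, Matrix.smul_mul,
        Matrix.smul_mul, Matrix.mul_one, hig, h2]
    rw [this]
    exact hmemK a b

end Cfsg.Agent.Helper97.QFEE2
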