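/-
helper97: case GT of S3905 (for helper11's assembly).  `N ⊴ G` with all `C_G(x)`, `x ∈ N ∖ Z(N)`,
maximal in `G`; `Z(N) ≤ Z(G)`; no noncentral element of `N` is central modulo `Z(N)`; then a minimal
normal subgroup `K` of `G` with `Z(N) < K ≤ N` is abelian.  Proof via Glauberman–Thompson (S0117).
-/
import Cfsg.Agent.Helper11.RelMax.Defs
import Cfsg.Agent.S0117
import Cfsg.Agent.S0086
import Cfsg.Agent.S0132
import Cfsg.Agent.Helper64.PNilp
import Cfsg.Agent.Helper21.ZJe7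

set_option autoImplicit false
set_option linter.unusedSectionVars false
set_option linter.unusedVariables false
set_option linter.style.haveILetI false

namespace Cfsg.Agent.Helper97.RelMaxCaseGT

open Cfsg.Agent.Helper11.RelMax

universe u

/-- in a finite nilpotent group all `p`-subgroups lie in one `p`-subgroup -/
theorem exists_pSub_max {H : Type*} [Group H] [Finite H] (hnil : Group.IsNilpotent H) (p : ℕ)
    [Fact p.Prime] : ∃ R : Subgroup H, IsPGroup p R ∧ ∀ A : Subgroup H, IsPGroup p A → A ≤ R := by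
  obtain ⟨R⟩ : Nonempty (Sylow p H) := inferInstance
  haveI := hnil
  haveI : (R : Subgroup H).Normal := inferInstance
  refine ⟨R, R.2, fun A hA => ?_⟩
  obtain ⟨R', hAR'⟩ := hA.exists_le_sylow
  obtain ⟨g, rfl⟩ := MulAction.exists_smul_eq H R R'
  rwa [Sylow.smul_eq_of_normal] at hAR'

/-- nilpotent groups have normal `p`-complements -/
theorem npc_of_nilpotent' {H : Type*} [Group H] [Finite H] {p : ℕ} [Fact p.Prime]
    (h : Group.IsNilpotent H) : Cfsg.HasNormalPComplement p H := by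
  rw [Cfsg.Agent.Helper78.hasNormalPComplement_iff_frobHyp]
  intro Q hQ g _ hg
  obtain ⟨P, hQP⟩ := hQ.exists_le_sylow
  rw [Subgroup.mem_centralizer_iff]
  intro x hx
  exact Cfsg.Agent.S0132.commute_of_nilpotent_coprime h (P : Subgroup H) P.2 g hg x (hQP hx)

variable {G : Type u} [Group G] [Finite G] {N : Subgroup G} [N.Normal]

theorem caseGT (h : Hyp N) (hB : ZN N ≤ Subgroup.center G)
    (hα : ∀ x ∈ N, x ∉ Subgroup.centralizer (N : Set G) → ∀ g : G, g * x * g⁻¹ * x⁻¹ ∈ ZN N →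
      g * x = x * g)
    (K : Subgroup G) [K.Normal] (hZK : ZN N < K) (hKN : K ≤ N)
    (hmin : ∀ L : Subgroup G, L.Normal → ZN N < L → L ≤ K → L = K)
    (hnab : ∃ a ∈ K, ∃ b ∈ K, a * b ≠ b * a) : False := by
  classical
  set π : G →* G ⧸ ZN N := qz N with hπ
  have hπs : Function.Surjective π := QuotientGroup.mk'_surjective _
  have hπ1 : ∀ g : G, π g = 1 ↔ g ∈ ZN N := fun g => qz_eq_one_iff
  -- (0b)
  have h0b : ∀ k ∈ K, k ∉ ZN N → ∀ g : G, g * k * g⁻¹ * k⁻¹ ∈ ZN N → g * k = k * g := by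
    intro k hk hkZ g hg
    exact hα k (hKN hk) (not_cent_of_not_mem_ZN (hKN hk) hkZ) g hg
  have hcomm : ∀ k ∈ K, k ∉ ZN N → ∀ g : G, π g * π k = π k * π g → g * k = k * g := by
    intro k hk hkZ g hg
    apply h0b k hk hkZ g
    rw [← hπ1]
    have : g * k * g⁻¹ * k⁻¹ = (g * k) * (k * g)⁻¹ := by group
    rw [this, map_mul, map_inv, map_mul, map_mul, hg, mul_inv_cancel]
  -- (0a)
  have hZle : ZN N ≤ K ⊓ Subgroup.centralizer (K : Set G) := by
    refine le_inf hZK.le ?_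
    intro z hz
    rw [Subgroup.mem_centralizer_iff]
    intro k hk
    exact comm_of_mem_ZN hz (hKN hk)
  have h0a : K ⊓ Subgroup.centralizer (K : Set G) = ZN N := by
    by_contra hne
    have hlt : ZN N < K ⊓ Subgroup.centralizer (K : Set G) := lt_of_le_of_ne hZle (Ne.symm hne)
    have hKK := hmin _ inferInstance hlt inf_le_left
    obtain ⟨a, ha, b, hb, hab⟩ := hnab
    apply hab
    have hb' : b ∈ K ⊓ Subgroup.centralizer (K : Set G) := by rw [hKK]; exact hb
    exact Subgroup.mem_centralizer_iff.1 hb'.2 a ha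
  -- the image of `K`
  set Kh : Subgroup (G ⧸ ZN N) := K.map π with hKh
  haveI hKhn : Kh.Normal := Subgroup.Normal.map inferInstance π hπs
  -- `Kh` is nontrivial
  obtain ⟨k₀, hk₀K, hk₀Z⟩ := SetLike.exists_of_lt hZK
  haveI hKhnt : Nontrivial ↥Kh := by
    refine ⟨⟨⟨π k₀, Subgroup.mem_map_of_mem π hk₀K⟩, 1, ?_⟩⟩
    intro heq
    apply hk₀Z
    rw [← hπ1]
    exact congrArg Subtype.val heq
  -- the center of `Kh` is trivial
  have hcen : ∀ c : ↥Kh, c ∈ Subgroup.center ↥Kh → c = 1 := by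
    intro c hc
    obtain ⟨k, hkK, hkc⟩ := Subgroup.mem_map.1 c.2
    by_contra hc1
    have hkZ : k ∉ ZN N := by
      intro hkZ
      apply hc1
      apply Subtype.ext
      rw [← hkc, Subgroup.coe_one]
      exact (hπ1 k).2 hkZ
    have hkcent : k ∈ Subgroup.centralizer (K : Set G) := by
      rw [Subgroup.mem_centralizer_iff]
      intro g hg
      apply hcomm k hkK hkZ g
      have h1 := (Subgroup.mem_center_iff.1 hc) ⟨π g, Subgroup.mem_map_of_mem π hg⟩
      have h2 := congrArg Subtype.val h1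
      simp only [Subgroup.coe_mul] at h2
      rw [hkc]
      exact h2
    apply hkZ
    rw [← h0a]
    exact ⟨hkK, hkcent⟩
  have hnotp : ∀ q : ℕ, Fact q.Prime → ¬ IsPGroup q ↥Kh := by
    intro q hq hP
    haveI := hq
    haveI := hP.center_nontrivial
    obtain ⟨c, hc⟩ := exists_ne (1 : ↥(Subgroup.center ↥Kh))
    apply hc
    apply Subtype.ext
    rw [Subgroup.coe_one]
    exact hcen c.1 c.2
  -- an odd prime dividing `|Kh|`
  obtain ⟨p, hp, hp2, hpdvd⟩ : ∃ p : ℕ, p.Prime ∧ p ≠ 2 ∧ p ∣ Nat.card ↥Kh := by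
    by_contra hno
    push Not at hno
    apply hnotp 2 ⟨Nat.prime_two⟩
    have hcard : Nat.card ↥Kh = 2 ^ (Nat.card ↥Kh).primeFactorsList.length := by
      apply Nat.eq_prime_pow_of_unique_prime_dvd Nat.card_pos.ne'
      intro d hd hdvd
      by_contra hd2
      exact hno d hd hd2 hdvd
    haveI : Fact (Nat.Prime 2) := ⟨Nat.prime_two⟩
    exact IsPGroup.of_card hcard
  haveI hpf : Fact p.Prime := ⟨hp⟩
  -- a Sylow `p`-subgroup of `Kh` and a central element of it
  obtain ⟨P⟩ : Nonempty (Sylow p ↥Kh) := inferInstance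
  have hPne : (P : Subgroup ↥Kh) ≠ ⊥ := P.ne_bot_of_dvd_card hpdvd
  haveI : Nontrivial ↥(P : Subgroup ↥Kh) := (Subgroup.nontrivial_iff_ne_bot _).2 hPne
  haveI := P.2.center_nontrivial
  obtain ⟨c, hc⟩ := exists_ne (1 : ↥(Subgroup.center ↥(P : Subgroup ↥Kh)))
  obtain ⟨z, hzK, hzc⟩ := Subgroup.mem_map.1 (c.1.1.2)
  have hzZ : z ∉ ZN N := by
    intro hzZ
    apply hc
    apply Subtype.ext
    apply Subtype.ext
    apply Subtype.ext
    rw [← hzc]
    simp only [Subgroup.coe_one]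
    exact (hπ1 z).2 hzZ
  have hzN : z ∈ N := hKN hzK
  have hzcN : z ∉ Subgroup.centralizer (N : Set G) := not_cent_of_not_mem_ZN hzN hzZ
  set M : Subgroup G := cz z with hM
  have hMco : IsCoatom M := h z hzN hzcN
  have hZM : ZN N ≤ M := ZN_le_cz hzN
  have hMmem : ∀ g : G, π g * π z = π z * π g → g ∈ M :=
    fun g hg => mem_cz.2 (hcomm z hzK hzZ g hg)
  set S₀ : Subgroup G := K ⊓ M with hS₀
  have hS₀nil : Group.IsNilpotent ↥S₀ := by
    haveI := isNilpotent_inf_cz hB h hzN hzcN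
    have hle : S₀ ≤ N ⊓ cz z := inf_le_inf_right _ hKN
    apply Subgroup.isNilpotent_of_ker_le_center (Subgroup.inclusion hle)
    rw [(MonoidHom.ker_eq_bot_iff _).2 (Subgroup.inclusion_injective hle)]
    exact bot_le
  set Sh : Subgroup (G ⧸ ZN N) := S₀.map π with hSh
  have hShnil : Group.IsNilpotent ↥Sh := by
    haveI := hS₀nil
    exact Group.nilpotent_of_surjective (π.subgroupMap S₀) (π.subgroupMap_surjective S₀)
  have hShK : Sh ≤ Kh := Subgroup.map_mono inf_le_left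
  set PG : Subgroup (G ⧸ ZN N) := (P : Subgroup ↥Kh).map Kh.subtype with hPG
  have hPGp : IsPGroup p ↥PG := P.2.map Kh.subtype
  have hPGK : PG ≤ Kh := by
    rintro _ ⟨x, _, rfl⟩
    exact x.2
  have hPGS : PG ≤ Sh := by
    rintro _ ⟨x, hx, rfl⟩
    obtain ⟨k, hkK, hkx⟩ := Subgroup.mem_map.1 x.2
    have hcomm' : π k * π z = π z * π k := by
      rw [hkx, hzc]
      have h1 := (Subgroup.mem_center_iff.1 c.2) ⟨x, hx⟩
      have h2 := congrArg (fun y : ↥(P : Subgroup ↥Kh) => ((y : ↥Kh) : G ⧸ ZN N)) h1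
      simpa using h2
    exact ⟨k, ⟨hkK, hMmem k hcomm'⟩, hkx⟩
  -- all `p`-subgroups of `Sh` lie in `PG`
  obtain ⟨R, hRp, hRmax⟩ := exists_pSub_max hShnil p
  set RG : Subgroup (G ⧸ ZN N) := R.map Sh.subtype with hRG
  have hRGp : IsPGroup p ↥RG := hRp.map Sh.subtype
  have hRGS : RG ≤ Sh := by
    rintro _ ⟨x, _, rfl⟩
    exact x.2
  have hsub : ∀ A : Subgroup (G ⧸ ZN N), A ≤ Sh → IsPGroup p ↥A → A ≤ RG := by
    intro A hAS hAp a ha
    have h1 : A.subgroupOf Sh ≤ R := hRmax _ (hAp.comap_subtype)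
    exact ⟨⟨a, hAS ha⟩, h1 (Subgroup.mem_subgroupOf.2 ha), rfl⟩
  have hRGeq : RG = PG := by
    have h1 : PG ≤ RG := hsub PG hPGS hPGp
    have h2 : IsPGroup p ↥(RG.subgroupOf Kh) := hRGp.comap_subtype
    have h3 : (P : Subgroup ↥Kh) ≤ RG.subgroupOf Kh := by
      intro x hx
      rw [Subgroup.mem_subgroupOf]
      exact h1 ⟨x, hx, rfl⟩
    have h4 := P.is_maximal' h2 h3
    apply le_antisymm _ h1
    intro r hr
    have hrK : r ∈ Kh := hShK (hRGS hr)
    have h5 : (⟨r, hrK⟩ : ↥Kh) ∈ RG.subgroupOf Kh := Subgroup.mem_subgroupOf.2 hr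
    rw [h4] at h5
    exact ⟨⟨r, hrK⟩, h5, rfl⟩
  -- `M` normalizes `PG`
  have hconjS : ∀ m ∈ M, ∀ s ∈ Sh, π m * s * (π m)⁻¹ ∈ Sh := by
    rintro m hm _ ⟨s, hs, rfl⟩
    refine ⟨m * s * m⁻¹, ⟨?_, ?_⟩, by simp⟩
    · exact (inferInstance : K.Normal).conj_mem s hs.1 m
    · exact M.mul_mem (M.mul_mem hm hs.2) (M.inv_mem hm)
  have hconjP : ∀ m ∈ M, PG.map (MulAut.conj (π m)).toMonoidHom = PG := by
    have hle : ∀ m ∈ M, PG.map (MulAut.conj (π m)).toMonoidHom ≤ PG := by
      intro m hm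
      have h1 : PG.map (MulAut.conj (π m)).toMonoidHom ≤ RG := by
        apply hsub
        · rintro _ ⟨s, hs, rfl⟩
          exact hconjS m hm s (hPGS hs)
        · exact hPGp.map _
      rwa [hRGeq] at h1
    intro m hm
    apply le_antisymm (hle m hm)
    intro y hy
    have h1 := hle m⁻¹ (M.inv_mem hm) ⟨y, hy, rfl⟩
    refine ⟨_, h1, ?_⟩
    simp [MulAut.conj_apply, mul_assoc]
  set Th : Subgroup (G ⧸ ZN N) := Cfsg.centerThompsonOf p PG with hTh
  have hThP : Th ≤ PG := Cfsg.Agent.Helper21.ZJe.centerThompsonOf_le p PG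
  have hPGne : PG ≠ ⊥ := by
    intro hbot
    apply hPne
    rw [eq_bot_iff]
    intro x hx
    have h1 : (x : G ⧸ ZN N) ∈ PG := ⟨x, hx, rfl⟩
    rw [hbot, Subgroup.mem_bot] at h1
    rw [Subgroup.mem_bot]
    exact Subtype.ext h1
  have hThne : Th ≠ ⊥ := Cfsg.Agent.Helper21.ZJe.centerThompsonOf_ne_bot hPGp hPGne
  have hMnorm : ∀ m ∈ M, π m ∈ Subgroup.normalizer (Th : Set (G ⧸ ZN N)) := by
    intro m hm
    have hinj : Function.Injective ((MulAut.conj (π m)).toMonoidHom.comp PG.subtype) :=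
      (MulAut.conj (π m)).injective.comp Subtype.val_injective
    have h1 : Th = Th.map (MulAut.conj (π m)).toMonoidHom := by
      have h0 := Cfsg.Agent.Helper21.ZJe.centerThompsonOf_map p (MulAut.conj (π m)).toMonoidHom PG
        hinj
      rw [hconjP m hm] at h0
      exact h0
    rw [Subgroup.mem_normalizer_iff]
    intro t
    constructor
    · intro ht
      rw [h1]
      exact ⟨t, ht, rfl⟩
    · intro ht
      rw [h1] at ht
      obtain ⟨t', ht', heq⟩ := ht
      have h2 : t' = t := by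
        have h3 : π m * t' * (π m)⁻¹ = π m * t * (π m)⁻¹ := heq
        exact mul_left_cancel (mul_right_cancel h3)
      exact h2 ▸ ht'
  set NT : Subgroup G := (Subgroup.normalizer (Th : Set (G ⧸ ZN N))).comap π with hNT
  have hMNT : M ≤ NT := fun m hm => hMnorm m hm
  rcases hMco.le_iff.1 hMNT with htop | heq
  · -- `Th` is normal in the quotient: then `Kh ≤ Th` is a `p`-group
    have hnorm : Subgroup.normalizer (Th : Set (G ⧸ ZN N)) = ⊤ := by
      rw [eq_top_iff]
      intro q _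
      obtain ⟨g, rfl⟩ := hπs q
      have : g ∈ NT := by rw [htop]; exact Subgroup.mem_top g
      exact this
    haveI hThn : Th.Normal := Subgroup.normalizer_eq_top_iff.mp hnorm
    set T : Subgroup G := K ⊓ Th.comap π with hT
    haveI hTn : T.Normal := inferInstance
    have hmemT : ∀ g : G, g ∈ T ↔ g ∈ K ∧ π g ∈ Th := fun g => Iff.rfl
    have hZT : ZN N < T := by
      refine lt_of_le_of_ne ?_ ?_
      · intro z' hz'
        rw [hmemT, (hπ1 z').2 hz']
        exact ⟨hZK.le hz', Th.one_mem⟩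
      · intro hZT
        obtain ⟨t, ht1⟩ := (Subgroup.ne_bot_iff_exists_ne_one.1 hThne)
        obtain ⟨k, hkK, hkt⟩ := Subgroup.mem_map.1 (hPGK (hThP t.2))
        have hkT : k ∈ T := by
          rw [hmemT, hkt]
          exact ⟨hkK, t.2⟩
        rw [← hZT, ← hπ1, hkt] at hkT
        exact ht1 (Subtype.ext hkT)
    have hTK : T = K := hmin T hTn hZT inf_le_left
    have hKhTh : Kh ≤ Th := by
      rintro _ ⟨k, hkK, rfl⟩
      have : k ∈ T := by rw [hTK]; exact hkK
      exact ((hmemT k).1 this).2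
    exact hnotp p hpf (hPGp.to_le (hKhTh.trans hThP))
  · -- `N(Th) ∩ Kh` is nilpotent: Glauberman-Thompson gives a normal `p`-complement of `Kh`
    set T' : Subgroup ↥Kh := Cfsg.centerThompsonOf p (P : Subgroup ↥Kh) with hT'
    have hThmap : Th = T'.map Kh.subtype :=
      Cfsg.Agent.Helper21.ZJe.centerThompsonOf_map p Kh.subtype (P : Subgroup ↥Kh)
        (Subtype.val_injective.comp Subtype.val_injective)
    set NN : Subgroup ↥Kh := Subgroup.normalizer (T' : Set ↥Kh) with hNN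
    have hNNnorm : ∀ x ∈ NN, (x : G ⧸ ZN N) ∈ Subgroup.normalizer (Th : Set (G ⧸ ZN N)) := by
      intro x hx
      rw [Subgroup.mem_normalizer_iff]
      intro t
      rw [hThmap]
      constructor
      · rintro ⟨t', ht', rfl⟩
        exact ⟨x * t' * x⁻¹, (Subgroup.mem_normalizer_iff.1 hx t').1 ht', by simp⟩
      · rintro ⟨s', hs', heq⟩
        refine ⟨x⁻¹ * s' * x, ?_, ?_⟩
        · show x⁻¹ * s' * x ∈ T'
          rw [Subgroup.mem_normalizer_iff.1 hx (x⁻¹ * s' * x)]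
          have : x * (x⁻¹ * s' * x) * x⁻¹ = s' := by group
          rw [this]; exact hs'
        · have h1 : (Kh.subtype s') = (x : G ⧸ ZN N) * t * (x : G ⧸ ZN N)⁻¹ := heq
          simp only [map_mul, map_inv, Subgroup.subtype_apply] at h1 ⊢
          rw [h1]; group
    have hNNS : NN.map Kh.subtype ≤ Sh := by
      rintro _ ⟨x, hx, rfl⟩
      obtain ⟨k, hkK, hkx⟩ := Subgroup.mem_map.1 x.2
      have hkNT : k ∈ NT := by
        show π k ∈ Subgroup.normalizer (Th : Set (G ⧸ ZN N))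
        rw [hkx]; exact hNNnorm x hx
      rw [heq] at hkNT
      exact ⟨k, ⟨hkK, hkNT⟩, hkx⟩
    have hNNnil : Group.IsNilpotent ↥NN := by
      haveI := hShnil
      haveI h1 : Group.IsNilpotent ↥(NN.map Kh.subtype) := by
        apply Subgroup.isNilpotent_of_ker_le_center (Subgroup.inclusion hNNS)
        rw [(MonoidHom.ker_eq_bot_iff _).2 (Subgroup.inclusion_injective hNNS)]
        exact bot_le
      exact Group.nilpotent_of_mulEquiv (NN.equivMapOfInjective Kh.subtype Subtype.val_injective).symm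
    have hnpc : Cfsg.HasNormalPComplement p ↥Kh :=
      (Cfsg.Agent.S0117.result hp2 P).2 (npc_of_nilpotent' hNNnil)
    obtain ⟨P', Y₀, hYn, hYc⟩ := hnpc
    haveI := hYn
    have hY₀ : ∀ x : ↥Kh, x ∈ Y₀ ↔ Nat.Coprime (orderOf x) p :=
      fun x => Cfsg.Agent.S0086.result P' Y₀ hYc x
    set Y : Subgroup G := K ⊓ (Y₀.map Kh.subtype).comap π with hY
    have hmemY : ∀ g : G, g ∈ Y ↔ g ∈ K ∧ π g ∈ Y₀.map Kh.subtype := fun g => Iff.rfl
    have hmemY₀ : ∀ (q : G ⧸ ZN N) (hq : q ∈ Kh), q ∈ Y₀.map Kh.subtype ↔ (⟨q, hq⟩ : ↥Kh) ∈ Y₀ := by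
      intro q hq
      constructor
      · rintro ⟨y, hy, rfl⟩
        exact hy
      · intro hy
        exact ⟨⟨q, hq⟩, hy, rfl⟩
    haveI hYnorm : Y.Normal := by
      refine ⟨fun g hg x => ?_⟩
      obtain ⟨hgK, hgY⟩ := (hmemY g).1 hg
      have hcK : x * g * x⁻¹ ∈ K := (inferInstance : K.Normal).conj_mem g hgK x
      refine (hmemY _).2 ⟨hcK, ?_⟩
      have hgKh : π g ∈ Kh := Subgroup.mem_map_of_mem π hgK
      have hcKh : π (x * g * x⁻¹) ∈ Kh := Subgroup.mem_map_of_mem π hcK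
      rw [hmemY₀ _ hcKh, hY₀, Subgroup.orderOf_mk]
      rw [hmemY₀ _ hgKh, hY₀, Subgroup.orderOf_mk] at hgY
      have : π (x * g * x⁻¹) = MulAut.conj (π x) (π g) := by
        simp [MulAut.conj_apply]
      rw [this, MulEquiv.orderOf_eq]
      exact hgY
    have hZY : ZN N ≤ Y := by
      intro z' hz'
      rw [hmemY, (hπ1 z').2 hz']
      exact ⟨hZK.le hz', (Y₀.map Kh.subtype).one_mem⟩
    rcases eq_or_lt_of_le hZY with hYZ | hZY'
    · -- `Y₀ = ⊥`: `Kh` is a `p`-group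
      apply hnotp p hpf
      intro x
      obtain ⟨a, b, hb, hn⟩ := Nat.exists_eq_pow_mul_and_not_dvd (orderOf_pos x).ne' p hp.ne_one
      refine ⟨a, ?_⟩
      have hord : orderOf (x ^ p ^ a) = b := by
        rw [orderOf_pow' x (pow_pos hp.pos a).ne', hn, Nat.gcd_eq_right (Dvd.intro _ rfl),
          Nat.mul_div_cancel_left _ (pow_pos hp.pos a)]
      have hmem : x ^ p ^ a ∈ Y₀ := by
        rw [hY₀, hord]
        exact ((Nat.Prime.coprime_iff_not_dvd hp).2 hb).symm
      obtain ⟨k, hkK, hkx⟩ := Subgroup.mem_map.1 (x ^ p ^ a).2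
      have hkY : k ∈ Y := by
        rw [hmemY, hkx]
        exact ⟨hkK, ⟨x ^ p ^ a, hmem, rfl⟩⟩
      rw [← hYZ, ← hπ1, hkx] at hkY
      exact Subtype.ext hkY
    · -- `Y = K`: `p ∤ |Kh|`
      have hYK : Y = K := hmin Y hYnorm hZY' inf_le_left
      obtain ⟨x, hx⟩ := exists_prime_orderOf_dvd_card' p hpdvd
      obtain ⟨k, hkK, hkx⟩ := Subgroup.mem_map.1 x.2
      have hkY : k ∈ Y := by rw [hYK]; exact hkK
      have h1 := ((hmemY k).1 hkY).2
      rw [hkx, hmemY₀ _ x.2, hY₀, hx] at h1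
      exact hp.ne_one ((Nat.coprime_self p).1 h1)

end Cfsg.Agent.Helper97.RelMaxCaseGT
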