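import Cfsg.Agent.Helper97.CentricLG
import Cfsg.Agent.Helper33.ConstrainedSections
import Cfsg.Agent.Helper33.SubTransport
import Cfsg.Agent.Helper33.SingletonControl
import Cfsg.Agent.Helper10.ZJFunctor
import Cfsg.Agent.Helper51.WCFactor
import Cfsg.Agent.Helper97.QdGraph
import Cfsg.Agent.S0664

/-!
# `Z(J)` controls strong fusion in `SL₂(p)`-free subgroups (helper97)

If no section `H/K` of `G` with `H ≤ N` is isomorphic to `SL₂(p)` (`p` odd), then the conjugacy functor
`Z(J(·))` controls strong fusion in the subgroup `N`; via the centric local-global theorem this gives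
Glauberman's theorem that `N_G(Z(J(S)))` controls strong fusion in `S` when `N_G(P)` is `SL₂(p)`-free for
all `Z(S) ≤ P ≤ S`.
-/

set_option autoImplicit false

namespace Cfsg.Agent.Helper97.SL2ZJ

open Cfsg.Agent.Helper33 Subgroup

universe u

/-- `X` is not isomorphic to `Q`. -/
def NotIso (Q : Type*) [Group Q] : ∀ (X : Type u) [Group X], Prop := fun X _ => ¬ Nonempty (X ≃* Q)

theorem isoInvariant_notIso (Q : Type*) [Group Q] : IsoInvariant (NotIso.{u} Q) := by
  intro X Y _ _ e h hf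
  obtain ⟨f⟩ := hf
  exact h ⟨e.trans f⟩

/-- Sections of the subgroup `N` are sections `H/K` of `G` with `H ≤ N`. -/
theorem sectionProp_of_free {G : Type u} [Group G] {Q : Type*} [Group Q] (N : Subgroup G)
    (hfree : ¬ ∃ (H K : Subgroup G) (_ : (K.subgroupOf H).Normal), H ≤ N ∧
      Nonempty ((H ⧸ K.subgroupOf H) ≃* Q)) :
    SectionProp (NotIso.{u} Q) ↥N := by
  intro K' R' hR hf
  obtain ⟨f⟩ := hf
  let K : Subgroup G := K'.map N.subtype
  let R : Subgroup G := R'.map N.subtype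
  let e : ↥K' ≃* ↥K := K'.equivMapOfInjective N.subtype N.subtype_injective
  have he : (R'.subgroupOf K').map e.toMonoidHom = R.subgroupOf K := by
    ext y
    constructor
    · rintro ⟨x, hx, rfl⟩
      have hx' : (x : ↥N) ∈ R' := Subgroup.mem_subgroupOf.mp hx
      rw [Subgroup.mem_subgroupOf]
      exact ⟨(x : ↥N), hx', rfl⟩
    · intro hy
      rw [Subgroup.mem_subgroupOf] at hy
      obtain ⟨r, hr, hry⟩ := hy
      obtain ⟨k, hk, hky⟩ := y.2
      have hkr : k = r := N.subtype_injective (hky.trans hry.symm)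
      refine ⟨⟨k, hk⟩, ?_, ?_⟩
      · show (⟨k, hk⟩ : ↥K') ∈ R'.subgroupOf K'
        rw [Subgroup.mem_subgroupOf]
        show k ∈ R'
        rw [hkr]; exact hr
      · apply Subtype.ext
        exact hky
  have hRn : (R.subgroupOf K).Normal := by
    rw [← he]
    exact Subgroup.Normal.map hR _ e.surjective
  apply hfree
  exact ⟨K, R, hRn, Subgroup.map_subtype_le _,
    ⟨(QuotientGroup.congr (R'.subgroupOf K') (R.subgroupOf K) e he).symm.trans f⟩⟩

/-- A group all of whose sections are not `SL₂(p)` has no section `Qd(p)`. -/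
theorem qdFree_of_sectionProp {Y : Type u} [Group Y] {p : ℕ} [Fact p.Prime]
    (h : SectionProp (NotIso.{u} (Matrix.SpecialLinearGroup (Fin 2) (ZMod p))) Y) :
    ¬ ∃ (K R : Subgroup Y) (_ : (R.subgroupOf K).Normal),
      Nonempty ((K ⧸ R.subgroupOf K) ≃* ↥(Cfsg.qd p)) := by
  rintro ⟨K, R, hR, ⟨e⟩⟩
  let c : ↥(Cfsg.qd p) ≃* ↥(Cfsg.qdOver (ZMod p)) :=
    MulEquiv.subgroupCongr Cfsg.Agent.Helper97.QdGraph.qd_eq_qdOver
  let f : ↥K →* Matrix.SpecialLinearGroup (Fin 2) (ZMod p) :=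
    (Cfsg.Agent.Helper46.qdBlock (F := ZMod p)).comp
      (c.toMonoidHom.comp (e.toMonoidHom.comp (QuotientGroup.mk' (R.subgroupOf K))))
  have hf : Function.Surjective f := by
    intro A
    obtain ⟨g, hg⟩ := Cfsg.Agent.Helper46.qdBlock_surjective (F := ZMod p) A
    obtain ⟨k, hk⟩ := QuotientGroup.mk'_surjective (R.subgroupOf K) (e.symm (c.symm g))
    refine ⟨k, ?_⟩
    show Cfsg.Agent.Helper46.qdBlock (c (e (QuotientGroup.mk' (R.subgroupOf K) k))) = A
    rw [hk]
    simp [hg]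
  let R₃ : Subgroup Y := f.ker.map K.subtype
  have hker : R₃.subgroupOf K = f.ker := by
    show (f.ker.map K.subtype).comap K.subtype = f.ker
    exact Subgroup.comap_map_eq_self_of_injective (Subgroup.subtype_injective _) _
  have hn : (R₃.subgroupOf K).Normal := by
    rw [hker]; infer_instance
  exact @h K R₃ hn ⟨(QuotientGroup.quotientMulEquivOfEq hker).trans
    (QuotientGroup.quotientKerEquivOfSurjective f hf)⟩

section

variable {G : Type u} [Group G] [Finite G] {p : ℕ} [Fact p.Prime]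

/-- A one-element family controlling strong fusion in `H` gives control of strong fusion in `H` by its member. -/
theorem controlsStrongFusionIn_of_familyControls_singleton
    {W : Subgroup G → Subgroup G} (hW : Cfsg.IsConjugacyFunctor p W) {H : Subgroup G}
    (hctl : Cfsg.FamilyControlsStrongFusionIn p {W} H) : Cfsg.ControlsStrongFusionIn p W H := by
  have h𝓦 : ∀ W' ∈ ({W} : Set (Subgroup G → Subgroup G)), Cfsg.IsConjugacyFunctor p W' := by
    intro W' hW'
    rw [Set.mem_singleton_iff] at hW'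
    rw [hW']; exact hW
  obtain ⟨T, hTH, hTp, hTidx, hT⟩ := hctl
  refine ⟨T, hTH, hTp, hTidx, ?_⟩
  intro A h hh hA hhA
  have hgA' : conjR h⁻¹ A ⊆ (T : Set G) := by
    rintro _ ⟨a, ha, rfl⟩
    rw [inv_inv]
    exact hhA ⟨a, ha, rfl⟩
  obtain ⟨g', hch, hag⟩ := reach_of_ctlIn h𝓦 ⟨T, hTH, hTp, hTidx, hT⟩ hTH hTp hTidx
    (H.inv_mem hh) hA hgA'
  have hK : KW ({W} : Set (Subgroup G → Subgroup G)) H T ⊆
      ((H ⊓ Subgroup.normalizer ((W T : Subgroup G) : Set G) : Subgroup G) : Set G) := by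
    rintro z ⟨W', hW', hz⟩
    rw [Set.mem_singleton_iff] at hW'
    rw [hW'] at hz
    exact hz
  have hg'N := hch.mem_of_subset hK
  refine ⟨g'⁻¹, Subgroup.inv_mem _ hg'N, ?_⟩
  intro a ha
  have := hag a ha
  rw [inv_inv] at this ⊢
  exact this

/-- **`Z(J)` controls strong fusion in an `SL₂(p)`-free subgroup** (`p` odd). -/
theorem controlsStrongFusionIn_of_sl2Free (hp : p ≠ 2) (N : Subgroup G)
    (hfree : ¬ ∃ (H K : Subgroup G) (_ : (K.subgroupOf H).Normal), H ≤ N ∧
      Nonempty ((H ⧸ K.subgroupOf H) ≃* Matrix.SpecialLinearGroup (Fin 2) (ZMod p))) :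
    Cfsg.ControlsStrongFusionIn p (Cfsg.inducedFunctor (G := G) Cfsg.Agent.Helper10.ZJF.zjA) N := by
  have h𝓦 : ∀ W' ∈ ({Cfsg.Agent.Helper10.ZJF.zjA} : Set (∀ (Q : Type u) [Group Q], Subgroup Q)),
      Cfsg.IsCharPFunctor.{u} p W' := by
    intro W' hW'
    rw [Set.mem_singleton_iff] at hW'
    rw [hW']; exact Cfsg.Agent.Helper10.ZJF.isCharPFunctor_zjA p
  have hΦ := isoInvariant_notIso.{u} (Matrix.SpecialLinearGroup (Fin 2) (ZMod p))
  have hX : SectionProp (NotIso.{u} (Matrix.SpecialLinearGroup (Fin 2) (ZMod p))) ↥N :=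
    sectionProp_of_free N hfree
  have hsec : SectionProp (CSFProp p {Cfsg.Agent.Helper10.ZJF.zjA}) ↥N := by
    intro K R _ hfin hcon
    have := hfin
    have hY := (hX.subgroup hΦ K).quotient hΦ (R.subgroupOf K)
    have hqd := qdFree_of_sectionProp hY
    obtain ⟨T⟩ : Nonempty (Sylow p (↥K ⧸ R.subgroupOf K)) := inferInstance
    have hn := Cfsg.Agent.S0664.result hp hqd hcon T
    rw [← Cfsg.Agent.Helper10.ZJF.inducedFunctor_zjA] at hn
    show Cfsg.FamilyControlsStrongFusionIn p (FamW {Cfsg.Agent.Helper10.ZJF.zjA} _) ⊤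
    unfold FamW
    rw [Set.image_singleton]
    exact familyControls_singleton_of_normal _ T hn
  have hfam := familyControls_of_constrained_sections h𝓦 _ ↥N rfl hsec
  have hfamG := familyControlsIn_of_subgroup h𝓦 N hfam
  unfold FamW at hfamG
  rw [Set.image_singleton] at hfamG
  exact controlsStrongFusionIn_of_familyControls_singleton
    (isConjugacyFunctor_inducedFunctor (Cfsg.Agent.Helper10.ZJF.isCharPFunctor_zjA p) G) hfamG

/-- **Glauberman**: if `N_G(P)` is `SL₂(p)`-free for all `Z(S) ≤ P ≤ S` (`p` odd), then `N_G(Z(J(S)))`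
controls strong fusion in `S`. -/
theorem ctl_zj_of_sl2Free_local (hp : p ≠ 2) (S : Sylow p G)
    (hfree : ∀ P : Subgroup G, (S : Subgroup G) ⊓ Subgroup.centralizer ((S : Subgroup G) : Set G) ≤ P →
      P ≤ S →
      ¬ ∃ (H K : Subgroup G) (_ : (K.subgroupOf H).Normal), H ≤ Subgroup.normalizer (P : Set G) ∧
        Nonempty ((H ⧸ K.subgroupOf H) ≃* Matrix.SpecialLinearGroup (Fin 2) (ZMod p)))
    (A : Set G) (g : G) (hAS : A ⊆ ((S : Subgroup G) : Set G))
    (hgA : conjR g A ⊆ ((S : Subgroup G) : Set G)) :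
    Ctl (Subgroup.normalizer ((Cfsg.centerThompsonAOf (S : Subgroup G) : Subgroup G) : Set G)) A g := by
  have hW := isConjugacyFunctor_inducedFunctor (Cfsg.Agent.Helper10.ZJF.isCharPFunctor_zjA p) G
  have hZW : ∀ X : Subgroup G, X ≤ (S : Subgroup G) → Cfsg.Agent.Helper97.CLG.ZS S ≤ X →
      Cfsg.Agent.Helper97.CLG.ZS S ≤ Cfsg.inducedFunctor (G := G) Cfsg.Agent.Helper10.ZJF.zjA X := by
    intro X hXS hZX
    rw [Cfsg.Agent.Helper10.ZJF.inducedFunctor_zjA]
    refine le_trans ?_ (Cfsg.Agent.Helper51.WCF.center_le_ZJ X)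
    exact le_inf hZX (le_trans inf_le_right (Subgroup.centralizer_le hXS))
  have hloc : ∀ T : Subgroup G, Cfsg.Agent.Helper97.CLG.ZS S ≤ T →
      Cfsg.IsWellPlaced p (Cfsg.inducedFunctor (G := G) Cfsg.Agent.Helper10.ZJF.zjA) (S : Subgroup G) T →
      Cfsg.ControlsStrongFusionIn p (Cfsg.inducedFunctor (G := G) Cfsg.Agent.Helper10.ZJF.zjA)
        (Subgroup.normalizer ((T : Subgroup G) : Set G)) :=
    fun T hZT hwp => controlsStrongFusionIn_of_sl2Free hp _ (hfree T hZT hwp.1)
  have := Cfsg.Agent.Helper97.CLG.ctl_of_local_above hW S hZW hloc A g hAS hgA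
  rwa [Cfsg.Agent.Helper10.ZJF.inducedFunctor_zjA] at this

end

end Cfsg.Agent.Helper97.SL2ZJ
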