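import Mathlib
import Cfsg.Agent.Helper37.SL2Sylow

set_option autoImplicit false

/-!
# Matrix identities in `SL₂(F)` for the natural-module recognition (helper97)

`OppPair a b`: two "opposite" one-parameter subgroups `a, b : F → SL₂(F)` such that
`w t = a t * b (-t⁻¹) * a t` interchanges them.  Both `(uu, ll)` and `(ll, uu)` are such pairs.
-/

namespace Cfsg.Agent.Helper97.SL2Nat

open Matrix Cfsg.Agent.Helper37.SL2

variable {F : Type*} [Field F]

/-- two opposite one-parameter subgroups of `SL₂(F)` -/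
structure OppPair (a b : F → SpecialLinearGroup (Fin 2) F) : Prop where
  a_add : ∀ s t, a (s + t) = a s * a t
  b_add : ∀ s t, b (s + t) = b s * b t
  w_a : ∀ t r, t ≠ 0 →
    (a t * b (-t⁻¹) * a t) * a r = b (-r / t ^ 2) * (a t * b (-t⁻¹) * a t)
  w_b : ∀ t r, t ≠ 0 →
    (a t * b (-t⁻¹) * a t) * b r = a (-t ^ 2 * r) * (a t * b (-t⁻¹) * a t)

theorem uu_add (s t : F) : uu (s + t) = uu s * uu t :=
  (SpecialLinearGroup.transvection_add _ _ _)

theorem ll_add (s t : F) : ll (s + t) = ll s * ll t :=
  (SpecialLinearGroup.transvection_add _ _ _)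

theorem val_mul (X Y : SpecialLinearGroup (Fin 2) F) : (X * Y).1 = X.1 * Y.1 :=
  Matrix.SpecialLinearGroup.coe_mul X Y

/-- `[0, t; -t⁻¹, 0]` -/
noncomputable def ww (t : F) : SpecialLinearGroup (Fin 2) F := uu t * ll (-t⁻¹) * uu t

theorem ww_val (t : F) (ht : t ≠ 0) : (ww t).1 = !![0, t; -t⁻¹, 0] := by
  unfold ww
  rw [val_mul, val_mul, uu_val, ll_val]
  ext i j
  fin_cases i <;> fin_cases j <;> simp [Matrix.mul_apply, Fin.sum_univ_two, ht]

theorem oppPair_uu_ll : OppPair (uu : F → _) ll where
  a_add := uu_add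
  b_add := ll_add
  w_a := by
    intro t r ht
    apply Subtype.ext
    simp only [val_mul, uu_val, ll_val]
    ext i j
    fin_cases i <;> fin_cases j <;> simp [Matrix.mul_apply, Fin.sum_univ_two]
    all_goals field_simp
    all_goals first | ring1 | simp
  w_b := by
    intro t r ht
    apply Subtype.ext
    simp only [val_mul, uu_val, ll_val]
    ext i j
    fin_cases i <;> fin_cases j <;> simp [Matrix.mul_apply, Fin.sum_univ_two]
    all_goals field_simp
    all_goals first | ring1 | simp

theorem oppPair_ll_uu : OppPair (ll : F → _) uu where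
  a_add := ll_add
  b_add := uu_add
  w_a := by
    intro t r ht
    apply Subtype.ext
    simp only [val_mul, uu_val, ll_val]
    ext i j
    fin_cases i <;> fin_cases j <;> simp [Matrix.mul_apply, Fin.sum_univ_two]
    all_goals field_simp
    all_goals first | ring1 | simp
  w_b := by
    intro t r ht
    apply Subtype.ext
    simp only [val_mul, uu_val, ll_val]
    ext i j
    fin_cases i <;> fin_cases j <;> simp [Matrix.mul_apply, Fin.sum_univ_two]
    all_goals field_simp
    all_goals first | ring1 | simp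

/-- the torus relation: `h(st) = h(s) h(t)` with `h(t) = w(t) w(1)⁻¹ = w(t) w(-1)` -/
theorem ww_mul (s t : F) (hs : s ≠ 0) (ht : t ≠ 0) :
    ww (s * t) = ww s * ww (-1) * ww t := by
  apply Subtype.ext
  rw [val_mul, val_mul, ww_val _ (mul_ne_zero hs ht), ww_val _ hs,
    ww_val _ ht, ww_val _ (neg_ne_zero.2 one_ne_zero)]
  ext i j
  fin_cases i <;> fin_cases j <;> simp [Matrix.mul_apply, Fin.sum_univ_two]
  all_goals field_simp

theorem ww_one_mul_ww_neg_one : ww (1 : F) * ww (-1) = 1 := by
  apply Subtype.ext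
  rw [val_mul, ww_val _ one_ne_zero, ww_val _ (neg_ne_zero.2 one_ne_zero)]
  ext i j
  fin_cases i <;> fin_cases j <;> simp [Matrix.mul_apply, Fin.sum_univ_two]

theorem ww_neg_one_mul_ww_one : ww (-1 : F) * ww 1 = 1 := by
  apply Subtype.ext
  rw [val_mul, ww_val _ one_ne_zero, ww_val _ (neg_ne_zero.2 one_ne_zero)]
  ext i j
  fin_cases i <;> fin_cases j <;> simp [Matrix.mul_apply, Fin.sum_univ_two]

end Cfsg.Agent.Helper97.SL2Nat
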