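import Mathlib
import Cfsg.Agent.Helper97.SL2NatMat

set_option autoImplicit false

/-!
# Opposite unipotent subgroups acting on an abelian group (helper97)

For `a, b : F → SL₂(F)` an `OppPair` acting on an additive group `M`, with `W = C_M(a)`, `W' = C_M(b)`,
`W ∩ W' = 0` and `W + W' = M`: if `y ∈ W'` and `a t y - y ∈ W` for all `t`, then `a t y - y`
lies in the corresponding "second socle" for `b`.
-/

namespace Cfsg.Agent.Helper97.SL2Nat

open Matrix Cfsg.Agent.Helper37.SL2

variable {F : Type*} [Field F] {M : Type*} [AddCommGroup M]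
  [DistribMulAction (SpecialLinearGroup (Fin 2) F) M]

/-- the fixed points of a one-parameter subgroup -/
def fixOf (a : F → SpecialLinearGroup (Fin 2) F) : AddSubgroup M where
  carrier := {m | ∀ t, a t • m = m}
  zero_mem' := fun t => smul_zero _
  add_mem' := by
    intro x y hx hy t
    rw [smul_add, hx t, hy t]
  neg_mem' := by
    intro x hx t
    rw [smul_neg, hx t]

theorem mem_fixOf {a : F → SpecialLinearGroup (Fin 2) F} {m : M} :
    m ∈ fixOf a ↔ ∀ t, a t • m = m := Iff.rfl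

/-- the elements moved into the fixed points: the second socle -/
def secOf (a : F → SpecialLinearGroup (Fin 2) F) : AddSubgroup M where
  carrier := {m | ∀ t, a t • m - m ∈ fixOf a}
  zero_mem' := fun t => by simp [(fixOf a).zero_mem]
  add_mem' := by
    intro x y hx hy t
    have : a t • (x + y) - (x + y) = (a t • x - x) + (a t • y - y) := by rw [smul_add]; abel
    rw [this]
    exact (fixOf a).add_mem (hx t) (hy t)
  neg_mem' := by
    intro x hx t
    have : a t • (-x) - (-x) = -(a t • x - x) := by rw [smul_neg]; abel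
    rw [this]
    exact (fixOf a).neg_mem (hx t)

theorem mem_secOf {a : F → SpecialLinearGroup (Fin 2) F} {m : M} :
    m ∈ secOf a ↔ ∀ t, a t • m - m ∈ fixOf a := Iff.rfl

theorem fixOf_le_secOf (a : F → SpecialLinearGroup (Fin 2) F) :
    (fixOf a : AddSubgroup M) ≤ secOf a := by
  intro x hx t
  rw [hx t, sub_self]
  exact (fixOf a).zero_mem

namespace OppPair

variable {a b : F → SpecialLinearGroup (Fin 2) F} (h : OppPair a b)
include h

theorem a_zero : a 0 = 1 := by
  have := h.a_add 0 0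
  rw [add_zero] at this
  exact (left_eq_mul.1 this)

theorem b_zero : b 0 = 1 := by
  have := h.b_add 0 0
  rw [add_zero] at this
  exact (left_eq_mul.1 this)

theorem a_neg_mul (t : F) : a (-t) * a t = 1 := by
  rw [← h.a_add, neg_add_cancel, h.a_zero]

theorem b_neg_mul (t : F) : b (-t) * b t = 1 := by
  rw [← h.b_add, neg_add_cancel, h.b_zero]

theorem a_comm (s t : F) : a s * a t = a t * a s := by
  rw [← h.a_add, ← h.a_add, add_comm]

theorem b_comm (s t : F) : b s * b t = b t * b s := by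
  rw [← h.b_add, ← h.b_add, add_comm]

/-- `w t` maps `C_M(b)` into `C_M(a)` -/
theorem w_fix_b {t : F} (ht : t ≠ 0) {y : M} (hy : y ∈ fixOf b) :
    (a t * b (-t⁻¹) * a t) • y ∈ fixOf a := by
  intro r
  have h1 := h.w_b t (-r / t ^ 2) ht
  have h2 : -t ^ 2 * (-r / t ^ 2) = r := by field_simp
  rw [h2] at h1
  rw [← mul_smul, ← h1, mul_smul, hy]

/-- `w t` maps `C_M(a)` into `C_M(b)` -/
theorem w_fix_a {t : F} (ht : t ≠ 0) {x : M} (hx : x ∈ fixOf a) :
    (a t * b (-t⁻¹) * a t) • x ∈ fixOf b := by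
  intro s
  have h1 := h.w_a t (-t ^ 2 * s) ht
  have h2 : -(-t ^ 2 * s) / t ^ 2 = s := by field_simp
  rw [h2] at h1
  rw [← mul_smul, ← h1, mul_smul, hx]

/-- `w t` maps the second socle of `a` into that of `b` -/
theorem w_sec_a {t : F} (ht : t ≠ 0) {m : M} (hm : m ∈ secOf a) :
    (a t * b (-t⁻¹) * a t) • m ∈ secOf b := by
  intro s
  have h1 := h.w_a t (-t ^ 2 * s) ht
  have h2 : -(-t ^ 2 * s) / t ^ 2 = s := by field_simp
  rw [h2] at h1
  have h3 : b s • (a t * b (-t⁻¹) * a t) • m - (a t * b (-t⁻¹) * a t) • m =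
      (a t * b (-t⁻¹) * a t) • (a (-t ^ 2 * s) • m - m) := by
    rw [smul_sub, ← mul_smul, ← mul_smul, h1]
  rw [h3]
  exact h.w_fix_a ht (hm _)

/-- the second socle of `b` is `b`-invariant -/
theorem b_smul_mem_sec {m : M} (hm : m ∈ secOf b) (s : F) : b s • m ∈ secOf b := by
  intro r
  have h3 : b r • b s • m - b s • m = b s • (b r • m - m) := by
    rw [smul_sub, ← mul_smul, ← mul_smul, h.b_comm]
  rw [h3, hm r s]
  exact hm r

/-- if `a t m` is `a`-fixed then so is `m` -/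
theorem mem_fix_of_smul_mem {t : F} {m : M} (hm : a t • m ∈ fixOf a) : m ∈ fixOf a := by
  have h1 : a (-t) • a t • m = m := by rw [← mul_smul, h.a_neg_mul, one_smul]
  have h2 := hm (-t)
  rw [h1] at h2
  rw [h2]
  exact hm

/-- **Key lemma.** -/
theorem key (hdisj : ∀ m : M, m ∈ fixOf a → m ∈ fixOf b → m = 0)
    (hsum : ∀ m : M, ∃ x ∈ fixOf a, ∃ y ∈ fixOf b, m = x + y)
    {y : M} (hy : y ∈ fixOf b) (hy2 : y ∈ secOf a) (t : F) :
    a t • y - y ∈ (fixOf a ⊓ secOf b : AddSubgroup M) := by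
  rcases eq_or_ne t 0 with rfl | ht
  · rw [h.a_zero, one_smul, sub_self]
    exact AddSubgroup.zero_mem _
  refine ⟨hy2 t, ?_⟩
  obtain ⟨x₁, hx₁⟩ : ∃ x₁, x₁ = a t • y - y := ⟨_, rfl⟩
  have hx₁W : x₁ ∈ fixOf a := by rw [hx₁]; exact hy2 t
  have hay : a t • y = y + x₁ := by rw [hx₁]; abel
  obtain ⟨x₂, hx₂, y₂, hy₂, h12⟩ := hsum (b (-t⁻¹) • x₁)
  have hw : (a t * b (-t⁻¹) * a t) • y = x₂ + a t • (y + y₂) := by
    rw [mul_smul, mul_smul, hay, smul_add, hy (-t⁻¹), h12, smul_add, smul_add, smul_add, hx₂ t]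
    abel
  have hwW : (a t * b (-t⁻¹) * a t) • y ∈ fixOf a := h.w_fix_b ht hy
  have h3 : a t • (y + y₂) ∈ fixOf a := by
    have : a t • (y + y₂) = (a t * b (-t⁻¹) * a t) • y - x₂ := by rw [hw]; abel
    rw [this]
    exact (fixOf a).sub_mem hwW hx₂
  have h4 : y + y₂ = 0 :=
    hdisj _ (h.mem_fix_of_smul_mem h3) ((fixOf b).add_mem hy hy₂)
  have h5 : b (-t⁻¹) • x₁ = (a t * b (-t⁻¹) * a t) • y - y := by
    rw [hw, h4, smul_zero, add_zero, h12]
    have : y₂ = -y := eq_neg_of_add_eq_zero_right h4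
    rw [this]; abel
  have h6 : x₁ = b (-(-t⁻¹)) • ((a t * b (-t⁻¹) * a t) • y - y) := by
    rw [← h5, ← mul_smul, h.b_neg_mul, one_smul]
  rw [← hx₁, h6]
  apply h.b_smul_mem_sec
  exact (secOf b).sub_mem (h.w_sec_a ht hy2) (fixOf_le_secOf b hy)

end OppPair

end Cfsg.Agent.Helper97.SL2Nat
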