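import Mathlib
import Cfsg.Agent.Helper97.SL2NatCore

set_option autoImplicit false

/-!
# Reduction to the quadratic case with a decomposition (helper97)
-/

namespace Cfsg.Agent.Helper97.SL2Nat

open Matrix Cfsg.Agent.Helper37.SL2

section pgroup

/-- a `p`-group acting on a finite abelian `p`-group fixes a nonzero element modulo any proper
invariant subgroup -/
theorem exists_fixed_mod {p : ℕ} [Fact p.Prime] {P : Type*} [Group P] (hP : IsPGroup p P)
    {M : Type*} [AddCommGroup M] [Finite M] [DistribMulAction P M] {k : ℕ}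
    (hM : Nat.card M = p ^ k) (W : AddSubgroup M) (hW : ∀ (g : P), ∀ m ∈ W, g • m ∈ W)
    (hne : W ≠ ⊤) : ∃ m, m ∉ W ∧ ∀ g : P, g • m - m ∈ W := by
  have hW' : ∀ g : P, W ≤ AddSubgroup.comap (DistribSMul.toAddMonoidHom M g) W :=
    fun g m hm => AddSubgroup.mem_comap.2 (hW g m hm)
  let _ : MulAction P (M ⧸ W) :=
    { smul := fun g => QuotientAddGroup.map W W (DistribSMul.toAddMonoidHom M g) (hW' g)
      one_smul := by
        intro q
        induction q using QuotientAddGroup.induction_on with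
        | H m =>
          change QuotientAddGroup.map W W _ (hW' 1) (m : M ⧸ W) = _
          rw [QuotientAddGroup.map_mk]
          simp
      mul_smul := by
        intro g g' q
        induction q using QuotientAddGroup.induction_on with
        | H m =>
          change QuotientAddGroup.map W W _ (hW' (g * g')) (m : M ⧸ W) =
            QuotientAddGroup.map W W _ (hW' g) (QuotientAddGroup.map W W _ (hW' g') (m : M ⧸ W))
          rw [QuotientAddGroup.map_mk, QuotientAddGroup.map_mk, QuotientAddGroup.map_mk]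
          simp [mul_smul] }
  have hsm : ∀ (g : P) (m : M), g • (m : M ⧸ W) = ((g • m : M) : M ⧸ W) := by
    intro g m
    change QuotientAddGroup.map W W _ (hW' g) (m : M ⧸ W) = _
    rw [QuotientAddGroup.map_mk]
    rfl
  have hcard := AddSubgroup.card_eq_card_quotient_mul_card_addSubgroup W
  have hp : p.Prime := Fact.out
  have hdvd : p ∣ Nat.card (M ⧸ W) := by
    have h1 : Nat.card (M ⧸ W) ∣ p ^ k := by rw [← hM, hcard]; exact dvd_mul_right _ _
    obtain ⟨j, _, hj⟩ := (Nat.dvd_prime_pow hp).1 h1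
    rcases Nat.eq_zero_or_pos j with rfl | hj0
    · exfalso
      apply hne
      rw [← AddSubgroup.index_eq_one]
      rw [pow_zero] at hj
      exact hj
    · rw [hj]
      exact dvd_pow_self p hj0.ne'
  have h0 : (0 : M ⧸ W) ∈ MulAction.fixedPoints P (M ⧸ W) := by
    intro g
    have := hsm g 0
    rw [smul_zero] at this
    exact this
  obtain ⟨q, hq, hq0⟩ := hP.exists_fixed_point_of_prime_dvd_card_of_fixed_point (M ⧸ W) hdvd h0
  induction q using QuotientAddGroup.induction_on with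
  | H m =>
    refine ⟨m, ?_, ?_⟩
    · intro hm
      apply hq0
      exact ((QuotientAddGroup.eq_zero_iff m).2 hm).symm
    · intro g
      have h1 := hq g
      rw [hsm, QuotientAddGroup.eq] at h1
      have h2 : g • m - m = -(-(g • m) + m) := by abel
      rw [h2]
      exact W.neg_mem h1

end pgroup

variable {F : Type*} [Field F] {M : Type*} [AddCommGroup M]
  [DistribMulAction (SpecialLinearGroup (Fin 2) F) M]

/-- induction on the generators `uu t`, `ll t` of `SL₂(F)` -/
theorem sl2_induction (P : SpecialLinearGroup (Fin 2) F → Prop) (hu : ∀ t, P (uu t))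
    (hl : ∀ t, P (ll t)) (hmul : ∀ A B, P A → P B → P (A * B))
    (g : SpecialLinearGroup (Fin 2) F) : P g := by
  refine Matrix.SL2.transvection_induction P ?_ hmul g
  intro i j hij c
  fin_cases i
  · obtain rfl : j = 1 := by fin_cases j <;> tauto
    exact hu c
  · obtain rfl : j = 0 := by fin_cases j <;> tauto
    exact hl c

/-- invariance under the generators gives invariance under the group -/
theorem smul_mem_of_gens (N : AddSubgroup M) (hu : ∀ t, ∀ m ∈ N, (uu t : SpecialLinearGroup (Fin 2) F) • m ∈ N)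
    (hl : ∀ t, ∀ m ∈ N, (ll t : SpecialLinearGroup (Fin 2) F) • m ∈ N)
    (g : SpecialLinearGroup (Fin 2) F) : ∀ m ∈ N, g • m ∈ N := by
  refine sl2_induction (fun g => ∀ m ∈ N, g • m ∈ N) hu hl ?_ g
  intro A B hA hB m hm
  rw [mul_smul]
  exact hA _ (hB _ hm)

/-- the hypotheses: an irreducible nontrivial module -/
structure IrrMod (F : Type*) [Field F] (M : Type*) [AddCommGroup M]
    [DistribMulAction (SpecialLinearGroup (Fin 2) F) M] : Prop where
  irr : ∀ N : AddSubgroup M,
    (∀ (g : SpecialLinearGroup (Fin 2) F), ∀ m ∈ N, g • m ∈ N) → N = ⊥ ∨ N = ⊤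
  nt : ∃ (g : SpecialLinearGroup (Fin 2) F) (m : M), g • m ≠ m

theorem IrrMod.disj (hI : IrrMod F M) (m : M) (h1 : m ∈ fixOf (uu : F → _))
    (h2 : m ∈ fixOf (ll : F → _)) : m = 0 := by
  let N : AddSubgroup M :=
    { carrier := {m | ∀ g : SpecialLinearGroup (Fin 2) F, g • m = m}
      zero_mem' := fun g => smul_zero _
      add_mem' := by
        intro x y hx hy g
        rw [smul_add, hx g, hy g]
      neg_mem' := by
        intro x hx g
        rw [smul_neg, hx g] }
  have hN : ∀ (g : SpecialLinearGroup (Fin 2) F), ∀ m ∈ N, g • m ∈ N := by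
    intro g m hm
    rw [hm g]
    exact hm
  have hmN : m ∈ N := by
    intro g
    refine sl2_induction (fun g => g • m = m) h1 h2 ?_ g
    intro A B hA hB
    rw [mul_smul, hB, hA]
  rcases hI.irr N hN with h | h
  · rw [h, AddSubgroup.mem_bot] at hmN
    exact hmN
  · exfalso
    obtain ⟨g, m', hgm⟩ := hI.nt
    apply hgm
    have : m' ∈ N := by rw [h]; exact AddSubgroup.mem_top _
    exact this g

/-- the outcome of the reduction: a decomposition `M = C_M(U) ⊕ C_M(U⁻)` with quadratic action -/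
structure QuadDecomp (F : Type*) [Field F] (M : Type*) [AddCommGroup M]
    [DistribMulAction (SpecialLinearGroup (Fin 2) F) M] : Prop where
  disj : ∀ m : M, m ∈ fixOf (uu : F → _) → m ∈ fixOf (ll : F → _) → m = 0
  sum : ∀ m : M, ∃ x ∈ fixOf (uu : F → _), ∃ y ∈ fixOf (ll : F → _), m = x + y
  qU : ∀ (t : F) (m : M), uu t • m - m ∈ fixOf (uu : F → _)
  qL : ∀ (s : F) (m : M), ll s • m - m ∈ fixOf (ll : F → _)

section reduction

variable [Fintype F] [Finite M] {p : ℕ} [Fact p.Prime]

/-- the additive group of `F` as a `p`-group acting through `uu` -/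
theorem exists_fixed_mod_uu {n k : ℕ} (hF : Fintype.card F = p ^ n) (hM : Nat.card M = p ^ k)
    (W : AddSubgroup M) (hW : ∀ t : F, ∀ m ∈ W, uu t • m ∈ W) (hne : W ≠ ⊤) :
    ∃ m, m ∉ W ∧ ∀ t : F, uu t • m - m ∈ W := by
  let _ : DistribMulAction (Multiplicative F) M := DistribMulAction.compHom M (uuHom (F := F))
  have hP : IsPGroup p (Multiplicative F) :=
    IsPGroup.of_card (n := n) (by rw [Nat.card_eq_fintype_card, Fintype.card_multiplicative, hF])
  obtain ⟨m, hm, h⟩ :=
    exists_fixed_mod hP hM W (fun g m hm => hW (Multiplicative.toAdd g) m hm) hne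
  exact ⟨m, hm, fun t => h (Multiplicative.ofAdd t)⟩

theorem exists_fixU_ne_zero (hI : IrrMod F M) {n k : ℕ} (hF : Fintype.card F = p ^ n)
    (hM : Nat.card M = p ^ k) : ∃ x₀ : M, x₀ ∈ fixOf (uu : F → _) ∧ x₀ ≠ 0 := by
  have hne : (⊥ : AddSubgroup M) ≠ ⊤ := by
    obtain ⟨g, m, hgm⟩ := hI.nt
    intro h
    have h1 : m ∈ (⊥ : AddSubgroup M) := by rw [h]; exact AddSubgroup.mem_top _
    rw [AddSubgroup.mem_bot] at h1
    apply hgm
    rw [h1, smul_zero]
  obtain ⟨m, hm, h⟩ := exists_fixed_mod_uu hF hM (⊥ : AddSubgroup M)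
    (fun t m hm => by rw [AddSubgroup.mem_bot] at hm ⊢; rw [hm, smul_zero]) hne
  refine ⟨m, ?_, ?_⟩
  · intro t
    have := h t
    rw [AddSubgroup.mem_bot, sub_eq_zero] at this
    exact this
  · intro h0
    apply hm
    rw [h0]
    exact AddSubgroup.zero_mem _

/-- the reference element `w = [0, 1; -1, 0]` -/
noncomputable def w1 (F : Type*) [Field F] : SpecialLinearGroup (Fin 2) F :=
  uu 1 * ll (-(1 : F)⁻¹) * uu 1

/-- **Case A**: quadratic action. -/
theorem quadDecomp_of_quadratic (hI : IrrMod F M) {n k : ℕ} (hF : Fintype.card F = p ^ n)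
    (hM : Nat.card M = p ^ k)
    (hq : ∀ (r s : F) (m : M), uu r • (uu s • m - m) = uu s • m - m) : QuadDecomp F M := by
  have hqU : ∀ (t : F) (m : M), uu t • m - m ∈ fixOf (uu : F → _) := fun t m r => hq r t m
  have hqL : ∀ (s : F) (m : M), ll s • m - m ∈ fixOf (ll : F → _) := by
    intro s m
    have h1 : (w1 F)⁻¹ • m ∈ secOf (uu : F → _) := fun t => hqU t _
    have h2 := (oppPair_uu_ll (F := F)).w_sec_a one_ne_zero h1
    change w1 F • (w1 F)⁻¹ • m ∈ _ at h2
    rw [smul_inv_smul] at h2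
    exact h2 s
  obtain ⟨x₀, hx₀, hx₀0⟩ := exists_fixU_ne_zero hI hF hM
  refine ⟨hI.disj, ?_, hqU, hqL⟩
  let N : AddSubgroup M := fixOf (uu : F → _) ⊔ fixOf (ll : F → _)
  have hN : ∀ (g : SpecialLinearGroup (Fin 2) F), ∀ m ∈ N, g • m ∈ N := by
    intro g
    apply smul_mem_of_gens
    · intro t m hm
      obtain ⟨x, hx, y, hy, rfl⟩ := AddSubgroup.mem_sup.1 hm
      have : uu t • (x + y) = (x + (uu t • y - y)) + y := by rw [smul_add, hx t]; abel
      rw [this]
      exact AddSubgroup.mem_sup.2 ⟨_, (fixOf _).add_mem hx (hqU t y), y, hy, rfl⟩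
    · intro t m hm
      obtain ⟨x, hx, y, hy, rfl⟩ := AddSubgroup.mem_sup.1 hm
      have : ll t • (x + y) = x + ((ll t • x - x) + y) := by rw [smul_add, hy t]; abel
      rw [this]
      exact AddSubgroup.mem_sup.2 ⟨x, hx, _, (fixOf _).add_mem (hqL t x) hy, rfl⟩
  rcases hI.irr N hN with h | h
  · exfalso
    apply hx₀0
    have : x₀ ∈ N := AddSubgroup.mem_sup_left hx₀
    rw [h, AddSubgroup.mem_bot] at this
    exact this
  · intro m
    have : m ∈ N := by rw [h]; exact AddSubgroup.mem_top _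
    obtain ⟨x, hx, y, hy, rfl⟩ := AddSubgroup.mem_sup.1 this
    exact ⟨x, hx, y, hy, rfl⟩

/-- **Case B**: `|M| ≤ |C_M(U)|²`. -/
theorem quadDecomp_of_small (hI : IrrMod F M) {n k : ℕ} (hF : Fintype.card F = p ^ n)
    (hM : Nat.card M = p ^ k)
    (hs : Nat.card M ≤ Nat.card (fixOf (uu : F → _) : AddSubgroup M) ^ 2) : QuadDecomp F M := by
  obtain ⟨x₀, hx₀, hx₀0⟩ := exists_fixU_ne_zero hI hF hM
  have hdisj := hI.disj
  -- `|C_M(U)| ≤ |C_M(U⁻)|`
  have hle : Nat.card (fixOf (uu : F → _) : AddSubgroup M) ≤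
      Nat.card (fixOf (ll : F → _) : AddSubgroup M) := by
    apply Nat.card_le_card_of_injective
      (fun x : (fixOf (uu : F → _) : AddSubgroup M) =>
        (⟨w1 F • x.1, (oppPair_uu_ll (F := F)).w_fix_a one_ne_zero x.2⟩ :
          (fixOf (ll : F → _) : AddSubgroup M)))
    intro x y hxy
    have := congrArg Subtype.val hxy
    simp only at this
    exact Subtype.ext (smul_left_cancel _ this)
  -- the sum map is bijective
  have hinj : Function.Injective
      (fun z : (fixOf (uu : F → _) : AddSubgroup M) × (fixOf (ll : F → _) : AddSubgroup M) =>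
        z.1.1 + z.2.1) := by
    rintro ⟨x, y⟩ ⟨x', y'⟩ hxy
    simp only at hxy
    have h1 : x.1 - x'.1 = y'.1 - y.1 := by
      rw [sub_eq_sub_iff_add_eq_add, hxy, add_comm]
    have h2 : x.1 - x'.1 = 0 := by
      apply hdisj
      · exact (fixOf _).sub_mem x.2 x'.2
      · rw [h1]; exact (fixOf _).sub_mem y'.2 y.2
    have h3 : y'.1 - y.1 = 0 := by rw [← h1, h2]
    rw [sub_eq_zero] at h2 h3
    exact Prod.ext (Subtype.ext h2) (Subtype.ext h3.symm)
  have hbij := hinj.bijective_of_nat_card_le (by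
    rw [Nat.card_prod]
    calc Nat.card M ≤ Nat.card (fixOf (uu : F → _) : AddSubgroup M) ^ 2 := hs
      _ = Nat.card (fixOf (uu : F → _) : AddSubgroup M) *
          Nat.card (fixOf (uu : F → _) : AddSubgroup M) := sq _
      _ ≤ _ := Nat.mul_le_mul_left _ hle)
  have hsum : ∀ m : M, ∃ x ∈ fixOf (uu : F → _), ∃ y ∈ fixOf (ll : F → _), m = x + y := by
    intro m
    obtain ⟨⟨x, y⟩, hxy⟩ := hbij.2 m
    exact ⟨x.1, x.2, y.1, y.2, hxy.symm⟩
  have hdisj' : ∀ m : M, m ∈ fixOf (ll : F → _) → m ∈ fixOf (uu : F → _) → m = 0 :=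
    fun m h1 h2 => hdisj m h2 h1
  have hsum' : ∀ m : M, ∃ x ∈ fixOf (ll : F → _), ∃ y ∈ fixOf (uu : F → _), m = x + y := by
    intro m
    obtain ⟨x, hx, y, hy, rfl⟩ := hsum m
    exact ⟨y, hy, x, hx, add_comm _ _⟩
  -- the invariant subgroup
  let N : AddSubgroup M := (fixOf (uu : F → _) ⊓ secOf (ll : F → _)) ⊔
    (fixOf (ll : F → _) ⊓ secOf (uu : F → _))
  have hN : ∀ (g : SpecialLinearGroup (Fin 2) F), ∀ m ∈ N, g • m ∈ N := by
    intro g
    apply smul_mem_of_gens
    · intro t m hm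
      obtain ⟨x, hx, y, hy, rfl⟩ := AddSubgroup.mem_sup.1 hm
      have : uu t • (x + y) = (x + (uu t • y - y)) + y := by rw [smul_add, hx.1 t]; abel
      rw [this]
      exact AddSubgroup.mem_sup.2 ⟨_, AddSubgroup.add_mem _ hx
        ((oppPair_uu_ll (F := F)).key hdisj hsum hy.1 hy.2 t), y, hy, rfl⟩
    · intro t m hm
      obtain ⟨x, hx, y, hy, rfl⟩ := AddSubgroup.mem_sup.1 hm
      have : ll t • (x + y) = x + ((ll t • x - x) + y) := by rw [smul_add, hy.1 t]; abel
      rw [this]
      exact AddSubgroup.mem_sup.2 ⟨x, hx, _, AddSubgroup.add_mem _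
        ((oppPair_ll_uu (F := F)).key hdisj' hsum' hx.1 hx.2 t) hy, rfl⟩
  -- `N` is not trivial
  have hfixne : (fixOf (uu : F → _) : AddSubgroup M) ≠ ⊤ := by
    intro h
    apply hx₀0
    have h1 : w1 F • x₀ ∈ fixOf (ll : F → _) :=
      (oppPair_uu_ll (F := F)).w_fix_a one_ne_zero hx₀
    have h2 : w1 F • x₀ ∈ fixOf (uu : F → _) := by rw [h]; exact AddSubgroup.mem_top _
    have h3 := hdisj _ h2 h1
    rwa [smul_eq_zero_iff_eq] at h3
  obtain ⟨m, hm, hm2⟩ := exists_fixed_mod_uu hF hM (fixOf (uu : F → _) : AddSubgroup M)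
    (fun t m hm => by rw [hm t]; exact hm) hfixne
  have hNtop : N = ⊤ := by
    rcases hI.irr N hN with h | h
    · exfalso
      obtain ⟨x, hx, y, hy, rfl⟩ := hsum m
      have hy2 : y ∈ secOf (uu : F → _) := by
        have : y = (x + y) - x := by abel
        rw [this]
        exact (secOf _).sub_mem hm2 (fixOf_le_secOf _ hx)
      have hyN : y ∈ N := AddSubgroup.mem_sup_right ⟨hy, hy2⟩
      rw [h, AddSubgroup.mem_bot] at hyN
      apply hm
      rw [hyN, add_zero]
      exact hx
    · exact h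
  have h1 : (fixOf (ll : F → _) : AddSubgroup M) ≤ secOf (uu : F → _) := by
    intro y hy
    have : y ∈ N := by rw [hNtop]; exact AddSubgroup.mem_top _
    obtain ⟨x', hx', y', hy', hxy⟩ := AddSubgroup.mem_sup.1 this
    have h2 : x' = 0 := by
      apply hdisj _ hx'.1
      have : x' = y - y' := by rw [← hxy]; abel
      rw [this]
      exact (fixOf _).sub_mem hy hy'.1
    rw [h2, zero_add] at hxy
    rw [← hxy]
    exact hy'.2
  have h2 : (fixOf (uu : F → _) : AddSubgroup M) ≤ secOf (ll : F → _) := by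
    intro x hx
    have : x ∈ N := by rw [hNtop]; exact AddSubgroup.mem_top _
    obtain ⟨x', hx', y', hy', hxy⟩ := AddSubgroup.mem_sup.1 this
    have h2 : y' = 0 := by
      apply hdisj' _ hy'.1
      have : y' = x - x' := by rw [← hxy]; abel
      rw [this]
      exact (fixOf _).sub_mem hx hx'.1
    rw [h2, add_zero] at hxy
    rw [← hxy]
    exact hx'.2
  refine ⟨hdisj, hsum, ?_, ?_⟩
  · intro t m'
    obtain ⟨x, hx, y, hy, rfl⟩ := hsum m'
    exact (secOf _).add_mem (fixOf_le_secOf _ hx) (h1 hy) t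
  · intro t m'
    obtain ⟨x, hx, y, hy, rfl⟩ := hsum m'
    exact (secOf _).add_mem (h2 hx) (fixOf_le_secOf _ hy) t

end reduction

end Cfsg.Agent.Helper97.SL2Nat
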