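import Mathlib
import Cfsg.Agent.Helper97.SL2NatRed

set_option autoImplicit false

/-!
# The natural module from a quadratic decomposition (helper97)

Given `M = C_M(U) ⊕ C_M(U⁻)` with `[M, U] ≤ C_M(U)` and `[M, U⁻] ≤ C_M(U⁻)` for an irreducible `SL₂(F)`-module
`M`, we construct an equivariant additive isomorphism `F² ≃ M`.
-/

namespace Cfsg.Agent.Helper97.SL2Nat

open Matrix Cfsg.Agent.Helper37.SL2

variable {F : Type*} [Field F] {M : Type*} [AddCommGroup M]
  [DistribMulAction (SpecialLinearGroup (Fin 2) F) M]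

/-- `u(t) - 1` -/
noncomputable def al (t : F) (m : M) : M := (uu t : SpecialLinearGroup (Fin 2) F) • m - m

/-- `u⁻(s) - 1` -/
noncomputable def be (s : F) (m : M) : M := (ll s : SpecialLinearGroup (Fin 2) F) • m - m

theorem uu_smul (t : F) (m : M) : (uu t : SpecialLinearGroup (Fin 2) F) • m = m + al t m := by
  unfold al; abel

theorem ll_smul (t : F) (m : M) : (ll t : SpecialLinearGroup (Fin 2) F) • m = m + be t m := by
  unfold be; abel

theorem al_add_right (t : F) (m m' : M) : al t (m + m') = al t m + al t m' := by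
  unfold al; rw [smul_add]; abel

theorem be_add_right (t : F) (m m' : M) : be t (m + m') = be t m + be t m' := by
  unfold be; rw [smul_add]; abel

theorem al_zero_right (t : F) : al t (0 : M) = 0 := by
  unfold al; rw [smul_zero, sub_zero]

theorem be_zero_right (t : F) : be t (0 : M) = 0 := by
  unfold be; rw [smul_zero, sub_zero]

theorem al_neg_right (t : F) (m : M) : al t (-m) = -al t m := by
  unfold al; rw [smul_neg]; abel

theorem be_neg_right (t : F) (m : M) : be t (-m) = -be t m := by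
  unfold be; rw [smul_neg]; abel

theorem al_zero_left (m : M) : al (0 : F) m = 0 := by
  unfold al
  rw [(oppPair_uu_ll (F := F)).a_zero, one_smul, sub_self]

theorem be_zero_left (m : M) : be (0 : F) m = 0 := by
  unfold be
  rw [(oppPair_uu_ll (F := F)).b_zero, one_smul, sub_self]

theorem al_fix {x : M} (hx : x ∈ fixOf (uu : F → _)) (t : F) : al t x = 0 := by
  unfold al; rw [hx t, sub_self]

theorem be_fix {y : M} (hy : y ∈ fixOf (ll : F → _)) (t : F) : be t y = 0 := by
  unfold be; rw [hy t, sub_self]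

namespace QuadDecomp

variable (hQ : QuadDecomp F M)
include hQ

theorem al_mem (t : F) (m : M) : al t m ∈ fixOf (uu : F → _) := hQ.qU t m

theorem be_mem (t : F) (m : M) : be t m ∈ fixOf (ll : F → _) := hQ.qL t m

theorem al_al (s t : F) (m : M) : al s (al t m) = 0 := al_fix (hQ.al_mem t m) s

theorem be_be (s t : F) (m : M) : be s (be t m) = 0 := be_fix (hQ.be_mem t m) s

theorem al_add_left (s t : F) (m : M) : al (s + t) m = al s m + al t m := by
  have h1 : (uu (s + t) : SpecialLinearGroup (Fin 2) F) • m = m + (al s m + al t m) := by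
    rw [uu_add, mul_smul, uu_smul t m, smul_add, hQ.al_mem t m s, uu_smul s m]
    abel
  unfold al at h1 ⊢
  rw [h1]; abel

theorem be_add_left (s t : F) (m : M) : be (s + t) m = be s m + be t m := by
  have h1 : (ll (s + t) : SpecialLinearGroup (Fin 2) F) • m = m + (be s m + be t m) := by
    rw [ll_add, mul_smul, ll_smul t m, smul_add, hQ.be_mem t m s, ll_smul s m]
    abel
  unfold be at h1 ⊢
  rw [h1]; abel

theorem al_neg_left (t : F) (m : M) : al (-t) m = -al t m := by
  have := hQ.al_add_left (-t) t m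
  rw [neg_add_cancel, al_zero_left] at this
  exact eq_neg_of_add_eq_zero_left this.symm

theorem be_neg_left (t : F) (m : M) : be (-t) m = -be t m := by
  have := hQ.be_add_left (-t) t m
  rw [neg_add_cancel, be_zero_left] at this
  exact eq_neg_of_add_eq_zero_left this.symm

/-- `w(t)` on `C_M(U)` -/
theorem ww_fixU {t : F} (ht : t ≠ 0) {x : M} (hx : x ∈ fixOf (uu : F → _)) :
    al t (be (-t⁻¹) x) = -x ∧ ww t • x = be (-t⁻¹) x := by
  have h1 : ww t • x = (x + al t (be (-t⁻¹) x)) + be (-t⁻¹) x := by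
    unfold ww
    rw [mul_smul, mul_smul, hx t, ll_smul, uu_smul, al_add_right, al_fix hx]
    abel
  have h2 : ww t • x ∈ fixOf (ll : F → _) := (oppPair_uu_ll (F := F)).w_fix_a ht hx
  have h3 : x + al t (be (-t⁻¹) x) = 0 := by
    apply hQ.disj
    · exact (fixOf _).add_mem hx (hQ.al_mem _ _)
    · have : x + al t (be (-t⁻¹) x) = ww t • x - be (-t⁻¹) x := by rw [h1]; abel
      rw [this]
      exact (fixOf _).sub_mem h2 (hQ.be_mem _ _)
  refine ⟨(eq_neg_of_add_eq_zero_right h3), ?_⟩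
  rw [h1, h3, zero_add]

/-- `w(t)` on `C_M(U⁻)` -/
theorem ww_fixL {t : F} (ht : t ≠ 0) {y : M} (hy : y ∈ fixOf (ll : F → _)) :
    be (-t⁻¹) (al t y) = -y ∧ ww t • y = al t y := by
  have h0 : al t (y + (al t y + be (-t⁻¹) (al t y))) = 0 := by
    rw [al_add_right, al_add_right, hQ.al_al, (hQ.ww_fixU ht (hQ.al_mem t y)).1]
    abel
  have h1 : ww t • y = (y + be (-t⁻¹) (al t y)) + al t y := by
    unfold ww
    rw [mul_smul, mul_smul, uu_smul t y, smul_add, hy (-t⁻¹), ll_smul, uu_smul, h0]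
    abel
  have h2 : ww t • y ∈ fixOf (uu : F → _) := (oppPair_uu_ll (F := F)).w_fix_b ht hy
  have h3 : y + be (-t⁻¹) (al t y) = 0 := by
    apply hQ.disj
    · have : y + be (-t⁻¹) (al t y) = ww t • y - al t y := by rw [h1]; abel
      rw [this]
      exact (fixOf _).sub_mem h2 (hQ.al_mem _ _)
    · exact (fixOf _).add_mem hy (hQ.be_mem _ _)
  refine ⟨(eq_neg_of_add_eq_zero_right h3), ?_⟩
  rw [h1, h3, zero_add]

theorem be_inv_al {t : F} (ht : t ≠ 0) {y : M} (hy : y ∈ fixOf (ll : F → _)) :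
    be t⁻¹ (al t y) = y := by
  have := (hQ.ww_fixL ht hy).1
  rw [hQ.be_neg_left, neg_inj] at this
  exact this

theorem al_be_inv {t : F} (ht : t ≠ 0) {x : M} (hx : x ∈ fixOf (uu : F → _)) :
    al t (be t⁻¹ x) = x := by
  have := (hQ.ww_fixU ht hx).1
  rw [hQ.be_neg_left, al_neg_right, neg_inj] at this
  exact this

end QuadDecomp

/-- the scalar action of `F` on `C_M(U)` -/
noncomputable def lam (t : F) (x : M) : M := al t (be (1 : F) x)

namespace QuadDecomp

variable (hQ : QuadDecomp F M)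
include hQ

theorem lam_mem (t : F) (x : M) : lam t x ∈ fixOf (uu : F → _) := hQ.al_mem _ _

theorem lam_add_left (s t : F) (x : M) : lam (s + t) x = lam s x + lam t x :=
  hQ.al_add_left _ _ _

omit hQ in
theorem lam_zero_left (x : M) : lam (0 : F) x = 0 := al_zero_left _

omit hQ in
theorem lam_zero_right (t : F) : lam t (0 : M) = 0 := by
  unfold lam; rw [be_zero_right, al_zero_right]

/-- the torus element `h(t) = w(t) w(-1)` acts on `C_M(U)` as `lam t` -/
theorem hh_smul {t : F} (ht : t ≠ 0) {x : M} (hx : x ∈ fixOf (uu : F → _)) :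
    ww t • ww (-1 : F) • x = lam t x := by
  have h1 : ww (-1 : F) • x = be (1 : F) x := by
    rw [(hQ.ww_fixU (neg_ne_zero.2 one_ne_zero) hx).2]
    congr 1
    rw [inv_neg, inv_one, neg_neg]
  rw [h1, (hQ.ww_fixL ht (hQ.be_mem _ _)).2]
  rfl

theorem lam_mul (s t : F) {x : M} (hx : x ∈ fixOf (uu : F → _)) :
    lam (s * t) x = lam s (lam t x) := by
  rcases eq_or_ne s 0 with rfl | hs
  · rw [zero_mul, lam_zero_left, lam_zero_left]
  rcases eq_or_ne t 0 with rfl | ht
  · rw [mul_zero, lam_zero_left, lam_zero_right]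
  rw [← hQ.hh_smul (mul_ne_zero hs ht) hx, ww_mul s t hs ht, mul_smul, mul_smul,
    hQ.hh_smul ht hx, hQ.hh_smul hs (hQ.lam_mem t x)]

theorem lam_one {x : M} (hx : x ∈ fixOf (uu : F → _)) : lam (1 : F) x = x := by
  have := hQ.al_be_inv one_ne_zero hx
  rw [inv_one] at this
  exact this

theorem be_eq_be_one_lam (r : F) {x : M} (hx : x ∈ fixOf (uu : F → _)) :
    be r x = be (1 : F) (lam r x) := by
  rcases eq_or_ne r 0 with rfl | hr
  · rw [be_zero_left, lam_zero_left, be_zero_right]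
  have h1 : lam r⁻¹ (lam r x) = x := by
    rw [← hQ.lam_mul _ _ hx, inv_mul_cancel₀ hr, hQ.lam_one hx]
  have h2 := hQ.be_inv_al (inv_ne_zero hr) (hQ.be_mem (1 : F) (lam r x))
  rw [inv_inv] at h2
  have h3 : al r⁻¹ (be (1 : F) (lam r x)) = x := h1
  rw [h3] at h2
  exact h2

end QuadDecomp

theorem uu_mulVec (r : F) (c : Fin 2 → F) : (uu r).1 *ᵥ c = ![c 0 + r * c 1, c 1] := by
  rw [uu_val]
  ext i
  fin_cases i <;> simp [Matrix.mulVec, dotProduct, Fin.sum_univ_two]

theorem ll_mulVec (r : F) (c : Fin 2 → F) : (ll r).1 *ᵥ c = ![c 0, r * c 0 + c 1] := by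
  rw [ll_val]
  ext i
  fin_cases i <;> simp [Matrix.mulVec, dotProduct, Fin.sum_univ_two]

/-- the coordinate map `F² → M` -/
noncomputable def phi (x₀ : M) (c : Fin 2 → F) : M :=
  lam (c 0) x₀ + be (1 : F) (lam (c 1) x₀)

namespace QuadDecomp

variable (hQ : QuadDecomp F M)
include hQ

theorem phi_add (x₀ : M) (c c' : Fin 2 → F) : phi x₀ (c + c') = phi x₀ c + phi x₀ c' := by
  unfold phi
  rw [Pi.add_apply, Pi.add_apply, hQ.lam_add_left, hQ.lam_add_left, be_add_right]
  abel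

theorem uu_phi {x₀ : M} (hx₀ : x₀ ∈ fixOf (uu : F → _)) (r : F) (c : Fin 2 → F) :
    (uu r : SpecialLinearGroup (Fin 2) F) • phi x₀ c = phi x₀ ((uu r).1 *ᵥ c) := by
  rw [uu_smul, uu_mulVec]
  unfold phi
  simp only [Matrix.cons_val_zero, Matrix.cons_val_one]
  rw [al_add_right, al_fix (hQ.lam_mem _ _), zero_add,
    show al r (be (1 : F) (lam (c 1) x₀)) = lam r (lam (c 1) x₀) from rfl, ← hQ.lam_mul _ _ hx₀,
    hQ.lam_add_left]
  abel

theorem ll_phi {x₀ : M} (hx₀ : x₀ ∈ fixOf (uu : F → _)) (r : F) (c : Fin 2 → F) :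
    (ll r : SpecialLinearGroup (Fin 2) F) • phi x₀ c = phi x₀ ((ll r).1 *ᵥ c) := by
  rw [ll_smul, ll_mulVec]
  unfold phi
  simp only [Matrix.cons_val_zero, Matrix.cons_val_one]
  rw [be_add_right, hQ.be_be, add_zero, hQ.be_eq_be_one_lam r (hQ.lam_mem _ _),
    ← hQ.lam_mul _ _ hx₀, hQ.lam_add_left, be_add_right]
  abel

theorem smul_phi {x₀ : M} (hx₀ : x₀ ∈ fixOf (uu : F → _)) (g : SpecialLinearGroup (Fin 2) F) :
    ∀ c : Fin 2 → F, g • phi x₀ c = phi x₀ (g.1 *ᵥ c) := by
  refine sl2_induction (fun g => ∀ c : Fin 2 → F, g • phi x₀ c = phi x₀ (g.1 *ᵥ c))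
    (hQ.uu_phi hx₀) (hQ.ll_phi hx₀) ?_ g
  intro A B hA hB c
  rw [mul_smul, hB, hA, val_mul, Matrix.mulVec_mulVec]

theorem lam_eq_zero {x₀ : M} (hx₀ : x₀ ∈ fixOf (uu : F → _)) (h0 : x₀ ≠ 0) {t : F}
    (ht : lam t x₀ = 0) : t = 0 := by
  by_contra hne
  apply h0
  have h1 : lam t⁻¹ (lam t x₀) = x₀ := by
    rw [← hQ.lam_mul _ _ hx₀, inv_mul_cancel₀ hne, hQ.lam_one hx₀]
  rw [ht, lam_zero_right] at h1
  exact h1.symm

theorem phi_eq_zero {x₀ : M} (hx₀ : x₀ ∈ fixOf (uu : F → _)) (h0 : x₀ ≠ 0) {c : Fin 2 → F}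
    (hc : phi x₀ c = 0) : c = 0 := by
  unfold phi at hc
  have h1 : lam (c 0) x₀ = 0 := by
    apply hQ.disj _ (hQ.lam_mem _ _)
    rw [eq_neg_of_add_eq_zero_left hc]
    exact (fixOf _).neg_mem (hQ.be_mem _ _)
  rw [h1, zero_add] at hc
  have h2 : lam (c 1) x₀ = 0 := by
    have := hQ.al_be_inv one_ne_zero (hQ.lam_mem (c 1) x₀)
    rw [inv_one, hc, al_zero_right] at this
    exact this.symm
  ext i
  fin_cases i
  · exact hQ.lam_eq_zero hx₀ h0 h1
  · exact hQ.lam_eq_zero hx₀ h0 h2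

/-- **The natural module.** -/
theorem natural (hI : IrrMod F M) {x₀ : M} (hx₀ : x₀ ∈ fixOf (uu : F → _)) (h0 : x₀ ≠ 0) :
    ∃ Φ : (Fin 2 → F) ≃+ M, ∀ (g : SpecialLinearGroup (Fin 2) F) (v : Fin 2 → F),
      g • Φ v = Φ (g.1 *ᵥ v) := by
  let f : (Fin 2 → F) →+ M := AddMonoidHom.mk' (phi x₀) (hQ.phi_add x₀)
  have hf : ∀ c, f c = phi x₀ c := fun c => rfl
  have hinj : Function.Injective f := by
    rw [injective_iff_map_eq_zero]
    intro c hc
    exact hQ.phi_eq_zero hx₀ h0 hc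
  have hsurj : Function.Surjective f := by
    have hN : ∀ (g : SpecialLinearGroup (Fin 2) F), ∀ m ∈ f.range, g • m ∈ f.range := by
      rintro g m ⟨c, rfl⟩
      exact ⟨g.1 *ᵥ c, (hQ.smul_phi hx₀ g c).symm⟩
    rcases hI.irr f.range hN with h | h
    · exfalso
      apply h0
      have h1 : f ![1, 0] ∈ f.range := ⟨_, rfl⟩
      rw [h, AddSubgroup.mem_bot, hf] at h1
      unfold phi at h1
      simp only [Matrix.cons_val_zero, Matrix.cons_val_one] at h1
      rw [hQ.lam_one hx₀, lam_zero_left, be_zero_right, add_zero] at h1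
      exact h1
    · intro m
      have : m ∈ f.range := by rw [h]; exact AddSubgroup.mem_top _
      exact this
  refine ⟨AddEquiv.ofBijective f ⟨hinj, hsurj⟩, ?_⟩
  intro g v
  exact hQ.smul_phi hx₀ g v

end QuadDecomp

/-- **Abstract recognition theorem.**  An irreducible nontrivial module `M` (a finite abelian `p`-group)
for `SL₂(F)`, `|F| = p ^ n`, on which the upper unitriangular group `U` acts quadratically or with
`|M| ≤ |C_M(U)|²`, is the natural module. -/
theorem natural_of_quadratic_or_small {p : ℕ} [Fact p.Prime] [Fintype F] [Finite M]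
    (hI : IrrMod F M) {n k : ℕ} (hF : Fintype.card F = p ^ n) (hM : Nat.card M = p ^ k)
    (hyp : (∀ (r s : F) (m : M), (uu r : SpecialLinearGroup (Fin 2) F) •
        ((uu s : SpecialLinearGroup (Fin 2) F) • m - m) =
          (uu s : SpecialLinearGroup (Fin 2) F) • m - m) ∨
      Nat.card M ≤ Nat.card (fixOf (uu : F → _) : AddSubgroup M) ^ 2) :
    ∃ Φ : (Fin 2 → F) ≃+ M, ∀ (g : SpecialLinearGroup (Fin 2) F) (v : Fin 2 → F),
      g • Φ v = Φ (g.1 *ᵥ v) := by
  obtain ⟨x₀, hx₀, hx₀0⟩ := exists_fixU_ne_zero hI hF hM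
  rcases hyp with hq | hs
  · exact (quadDecomp_of_quadratic hI hF hM hq).natural hI hx₀ hx₀0
  · exact (quadDecomp_of_small hI hF hM hs).natural hI hx₀ hx₀0

end Cfsg.Agent.Helper97.SL2Nat
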