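import Mathlib
import Cfsg.Agent.Helper97.SL2NatMain

set_option autoImplicit false

/-!
# The natural-module recognition for a group acting by automorphisms (helper97)

`natural_of_mulAut`: multiplicative version of `natural_of_quadratic_or_small`, for a homomorphism
`θ : SL₂(F) →* MulAut A` with `A` a finite abelian `p`-group.
-/

namespace Cfsg.Agent.Helper97.SL2Nat

open Matrix Cfsg.Agent.Helper37.SL2

theorem natural_of_mulAut {A : Type*} [Group A] [Finite A] (hcomm : ∀ a b : A, a * b = b * a)
    {p : ℕ} [Fact p.Prime] {F : Type*} [Field F] [Fintype F]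
    (θ : SpecialLinearGroup (Fin 2) F →* MulAut A) {n k : ℕ} (hF : Fintype.card F = p ^ n)
    (hA : Nat.card A = p ^ k)
    (hirr : ∀ N : Subgroup A, (∀ (g : SpecialLinearGroup (Fin 2) F), ∀ a ∈ N, θ g a ∈ N) →
      N = ⊥ ∨ N = ⊤)
    (hnt : ∃ (g : SpecialLinearGroup (Fin 2) F) (a : A), θ g a ≠ a)
    (hyp : (∀ (r s : F) (a : A), θ (uu r) (θ (uu s) a / a) = θ (uu s) a / a) ∨
      Nat.card A ≤ Nat.card {a : A // ∀ r : F, θ (uu r) a = a} ^ 2) :
    ∃ ψ : A →* Multiplicative (Fin 2 → F), Function.Bijective ψ ∧
      ∀ (g : SpecialLinearGroup (Fin 2) F) (a : A),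
        Multiplicative.toAdd (ψ (θ g a)) = g.1 *ᵥ Multiplicative.toAdd (ψ a) := by
  let _ : AddCommGroup (Additive A) :=
    { (inferInstance : AddGroup (Additive A)) with
      add_comm := fun a b => hcomm (Additive.toMul a) (Additive.toMul b) }
  let _ : DistribMulAction (SpecialLinearGroup (Fin 2) F) (Additive A) :=
    { smul := fun g m => Additive.ofMul (θ g (Additive.toMul m))
      one_smul := fun m => by
        change Additive.ofMul ((θ 1) (Additive.toMul m)) = m
        rw [map_one]; rfl
      mul_smul := fun g h m => by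
        change Additive.ofMul (θ (g * h) (Additive.toMul m)) =
          Additive.ofMul (θ g (θ h (Additive.toMul m)))
        rw [map_mul]; rfl
      smul_zero := fun g => by
        change Additive.ofMul (θ g 1) = 0
        rw [map_one]; rfl
      smul_add := fun g m m' => by
        change Additive.ofMul (θ g (Additive.toMul m * Additive.toMul m')) =
          Additive.ofMul (θ g (Additive.toMul m) * θ g (Additive.toMul m'))
        rw [map_mul] }
  have hsm : ∀ (g : SpecialLinearGroup (Fin 2) F) (m : Additive A),
      g • m = Additive.ofMul (θ g (Additive.toMul m)) := fun _ _ => rfl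
  have hI : IrrMod F (Additive A) := by
    constructor
    · intro N hN
      rcases hirr (AddSubgroup.toSubgroup' N) (fun g a ha => hN g (Additive.ofMul a) ha) with h | h
      · left
        rw [eq_bot_iff]
        intro m hm
        have : Additive.toMul m ∈ AddSubgroup.toSubgroup' N := hm
        rw [h, Subgroup.mem_bot] at this
        rw [AddSubgroup.mem_bot]
        exact this
      · right
        rw [eq_top_iff]
        intro m _
        have : Additive.toMul m ∈ AddSubgroup.toSubgroup' N := by rw [h]; exact Subgroup.mem_top _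
        exact this
    · obtain ⟨g, a, hga⟩ := hnt
      exact ⟨g, Additive.ofMul a, fun h => hga h⟩
  have hM : Nat.card (Additive A) = p ^ k := hA
  have hyp' : (∀ (r s : F) (m : Additive A), (uu r : SpecialLinearGroup (Fin 2) F) •
        ((uu s : SpecialLinearGroup (Fin 2) F) • m - m) =
          (uu s : SpecialLinearGroup (Fin 2) F) • m - m) ∨
      Nat.card (Additive A) ≤ Nat.card (fixOf (uu : F → _) : AddSubgroup (Additive A)) ^ 2 := by
    rcases hyp with h | h
    · left
      intro r s m
      exact h r s (Additive.toMul m)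
    · right
      refine le_trans h (Nat.pow_le_pow_left ?_ 2)
      apply Nat.card_le_card_of_injective
        (fun a : {a : A // ∀ r : F, θ (uu r) a = a} =>
          (⟨Additive.ofMul a.1, fun t => a.2 t⟩ : (fixOf (uu : F → _) : AddSubgroup (Additive A))))
      intro a b hab
      exact Subtype.ext (congrArg Subtype.val hab)
  obtain ⟨Φ, hΦ⟩ := natural_of_quadratic_or_small hI hF hM hyp'
  refine ⟨MonoidHom.mk' (fun a => Multiplicative.ofAdd (Φ.symm (Additive.ofMul a))) ?_, ?_, ?_⟩
  · intro a b
    change Multiplicative.ofAdd (Φ.symm (Additive.ofMul a + Additive.ofMul b)) = _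
    rw [map_add]; rfl
  · constructor
    · intro a b hab
      have h1 : Φ.symm (Additive.ofMul a) = Φ.symm (Additive.ofMul b) := hab
      exact Φ.symm.injective h1
    · intro v
      refine ⟨Additive.toMul (Φ (Multiplicative.toAdd v)), ?_⟩
      change Multiplicative.ofAdd (Φ.symm (Φ (Multiplicative.toAdd v))) = v
      rw [AddEquiv.symm_apply_apply]; rfl
  · intro g a
    change Φ.symm (g • Additive.ofMul a) = g.1 *ᵥ Φ.symm (Additive.ofMul a)
    rw [AddEquiv.symm_apply_eq, ← hΦ, AddEquiv.apply_symm_apply]

end Cfsg.Agent.Helper97.SL2Nat
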