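import Mathlib
import Cfsg.Prelude.Def_Transfer
import Cfsg.Prelude.Def_BaumannBlocks
import Cfsg.Agent.Helper97.SL2NatSub

set_option autoImplicit false

/-!
# Recognition of the natural `SL₂(q)`-module inside a finite group (helper97)

`natural_subgroups`: `G ≅ SL₂(F)`, `|F| = p ^ n`, acting irreducibly and nontrivially by conjugation on
the elementary abelian `p`-subgroup `V`, with `[V, S, S] = 1` or `|V| ≤ |C_V(S)|²` for a Sylow `p`-subgroup
`S` of `G`: then `G` acts on `V` as on the natural module (`Cfsg.ActsAsSL2OnSection F ⊤ G V ⊥`).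
-/

namespace Cfsg.Agent.Helper97.SL2Nat

open Matrix Subgroup Cfsg.Agent.Helper37.SL2
open scoped commutatorElement

theorem natural_subgroups {X : Type*} [Group X] [Finite X] {p : ℕ} [Fact p.Prime]
    (G V : Subgroup X) (hVc : ∀ v ∈ V, ∀ w ∈ V, v * w = w * v) (hVp : ∀ v ∈ V, v ^ p = 1)
    (hGV : G ≤ normalizer (V : Set X)) {F : Type*} [Field F] [Fintype F] (n : ℕ)
    (hF : Fintype.card F = p ^ n) (e : ↥G ≃* SpecialLinearGroup (Fin 2) F)
    (hirr : ∀ U : Subgroup X, U ≤ V → G ≤ normalizer (U : Set X) → U = ⊥ ∨ U = V)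
    (hnt : ⁅V, G⁆ ≠ ⊥) (S : Sylow p ↥G)
    (hyp : ⁅⁅V, (S : Subgroup ↥G).map G.subtype⁆, (S : Subgroup ↥G).map G.subtype⁆ = ⊥ ∨
      Nat.card ↥V ≤ Nat.card ↥(V ⊓ centralizer (((S : Subgroup ↥G).map G.subtype : Subgroup X) :
        Set X)) ^ 2) :
    Cfsg.ActsAsSL2OnSection F ⊤ G V ⊥ := by
  have : CharP F p := charP_of_card_eq_prime_pow hF
  -- move `S` onto the upper unitriangular group
  have hrange : (S : Subgroup ↥G) ≤ e.symm.toMonoidHom.range := by
    intro y _
    exact ⟨e y, e.symm_apply_apply y⟩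
  let R : Sylow p (SpecialLinearGroup (Fin 2) F) :=
    S.comapOfInjective e.symm.toMonoidHom e.symm.injective hrange
  have hR : ∀ x : SpecialLinearGroup (Fin 2) F, x ∈ R ↔ e.symm x ∈ S := by
    intro x
    exact Iff.rfl
  obtain ⟨g, hg⟩ := exists_smul_P0 p R
  let e' : ↥G ≃* SpecialLinearGroup (Fin 2) F := e.trans (MulAut.conj g⁻¹)
  have he' : ∀ y : ↥G, e' y = g⁻¹ * e y * g := by
    intro y
    change MulAut.conj g⁻¹ (e y) = _
    rw [MulAut.conj_apply, inv_inv]
  have hS : ∀ y : ↥G, y ∈ S ↔ e' y ∈ (U0 : Subgroup (SpecialLinearGroup (Fin 2) F)) := by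
    intro y
    rw [he', ← mem_smul_P0 p, hg, hR, e.symm_apply_apply]
  -- the action
  let θ₀ : ↥G →* MulAut ↥V := V.normalizerMonoidHom.comp (Subgroup.inclusion hGV)
  have hθ₀ : ∀ (y : ↥G) (v : ↥V), ((θ₀ y v : ↥V) : X) = (y : X) * v * (y : X)⁻¹ := fun _ _ => rfl
  let θ : SpecialLinearGroup (Fin 2) F →* MulAut ↥V := θ₀.comp e'.symm.toMonoidHom
  have hθ : ∀ (x : SpecialLinearGroup (Fin 2) F) (v : ↥V),
      ((θ x v : ↥V) : X) = ((e'.symm x : ↥G) : X) * v * ((e'.symm x : ↥G) : X)⁻¹ := fun _ _ => rfl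
  have hθe : ∀ (y : ↥G) (v : ↥V), ((θ (e' y) v : ↥V) : X) = (y : X) * v * (y : X)⁻¹ := by
    intro y v
    rw [hθ, e'.symm_apply_apply]
  -- the elements of `S`
  have huS : ∀ r : F, ((e'.symm (uu r) : ↥G) : X) ∈ (S : Subgroup ↥G).map G.subtype := by
    intro r
    refine Subgroup.mem_map.2 ⟨e'.symm (uu r), ?_, rfl⟩
    change e'.symm (uu r) ∈ S
    rw [hS, e'.apply_symm_apply]
    exact uu_mem r
  have hVp' : IsPGroup p ↥V := by
    intro v
    refine ⟨1, ?_⟩
    apply Subtype.ext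
    rw [pow_one]
    exact hVp v.1 v.2
  obtain ⟨k, hk⟩ := IsPGroup.iff_card.1 hVp'
  -- irreducibility
  have hirr' : ∀ N : Subgroup ↥V,
      (∀ (x : SpecialLinearGroup (Fin 2) F), ∀ a ∈ N, θ x a ∈ N) → N = ⊥ ∨ N = ⊤ := by
    intro N hN
    have hU : G ≤ normalizer ((N.map V.subtype : Subgroup X) : Set X) := by
      intro y hy
      rw [Subgroup.mem_normalizer_iff]
      intro h
      constructor
      · rintro ⟨a, ha, rfl⟩
        refine ⟨θ (e' ⟨y, hy⟩) a, hN _ a ha, ?_⟩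
        exact hθe ⟨y, hy⟩ a
      · rintro ⟨a, ha, hah⟩
        refine ⟨θ (e' (⟨y, hy⟩ : ↥G)⁻¹) a, hN _ a ha, ?_⟩
        change ((θ (e' (⟨y, hy⟩ : ↥G)⁻¹) a : ↥V) : X) = h
        rw [hθe]
        change ((⟨y, hy⟩ : ↥G)⁻¹ : ↥G).1 * (V.subtype a) * (((⟨y, hy⟩ : ↥G)⁻¹ : ↥G).1)⁻¹ = h
        rw [hah]
        simp only [InvMemClass.coe_inv]
        group
    rcases hirr (N.map V.subtype) (Subgroup.map_subtype_le N) hU with h | h
    · left
      exact (Subgroup.map_eq_bot_iff_of_injective N V.subtype_injective).1 h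
    · right
      rw [eq_top_iff]
      intro a _
      have : (a : X) ∈ N.map V.subtype := by rw [h]; exact a.2
      obtain ⟨b, hb, hba⟩ := this
      have : b = a := Subtype.ext hba
      rw [← this]
      exact hb
  -- nontriviality
  have hnt' : ∃ (x : SpecialLinearGroup (Fin 2) F) (a : ↥V), θ x a ≠ a := by
    by_contra hcon
    push Not at hcon
    apply hnt
    rw [Subgroup.commutator_eq_bot_iff_le_centralizer]
    intro v hv
    rw [Subgroup.mem_centralizer_iff]
    intro y hy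
    have h1 := congrArg Subtype.val (hcon (e' ⟨y, hy⟩) ⟨v, hv⟩)
    rw [hθe] at h1
    change y * v * y⁻¹ = v at h1
    calc y * v = (y * v * y⁻¹) * y := by group
      _ = v * y := by rw [h1]
  -- the hypothesis
  have hyp' : (∀ (r s : F) (a : ↥V), θ (uu r) (θ (uu s) a / a) = θ (uu s) a / a) ∨
      Nat.card ↥V ≤ Nat.card {a : ↥V // ∀ r : F, θ (uu r) a = a} ^ 2 := by
    rcases hyp with h | h
    · left
      intro r s a
      apply Subtype.ext
      rw [hθ]
      have hc : ((θ (uu s) a / a : ↥V) : X) = ⁅((e'.symm (uu s) : ↥G) : X), (a : X)⁆ := by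
        rw [Subgroup.coe_div, hθ, commutatorElement_def, div_eq_mul_inv]
      rw [hc]
      have h1 : ⁅((e'.symm (uu s) : ↥G) : X), (a : X)⁆ ∈
          ⁅V, (S : Subgroup ↥G).map G.subtype⁆ := by
        rw [Subgroup.commutator_comm]
        exact Subgroup.commutator_mem_commutator (huS s) a.2
      have h2 : ⁅((e'.symm (uu r) : ↥G) : X), ⁅((e'.symm (uu s) : ↥G) : X), (a : X)⁆⁆ ∈
          ⁅⁅V, (S : Subgroup ↥G).map G.subtype⁆, (S : Subgroup ↥G).map G.subtype⁆ := by
        rw [Subgroup.commutator_comm]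
        exact Subgroup.commutator_mem_commutator (huS r) h1
      rw [h, Subgroup.mem_bot, commutatorElement_def] at h2
      exact mul_inv_eq_one.1 h2
    · right
      refine le_trans h (Nat.pow_le_pow_left ?_ 2)
      apply Nat.card_le_card_of_injective
        (fun v : ↥(V ⊓ centralizer (((S : Subgroup ↥G).map G.subtype : Subgroup X) : Set X)) =>
          (⟨⟨v.1, v.2.1⟩, fun r => by
            apply Subtype.ext
            rw [hθ]
            have h1 := (Subgroup.mem_centralizer_iff.1 v.2.2) _ (huS r)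
            change ((e'.symm (uu r) : ↥G) : X) * v.1 * ((e'.symm (uu r) : ↥G) : X)⁻¹ = v.1
            rw [h1]
            group⟩ : {a : ↥V // ∀ r : F, θ (uu r) a = a}))
      intro a b hab
      have := congrArg (fun z : {a : ↥V // ∀ r : F, θ (uu r) a = a} => ((z.1 : ↥V) : X)) hab
      exact Subtype.ext this
  obtain ⟨ψ, hψb, hψ⟩ := natural_of_mulAut
    (fun a b : ↥V => Subtype.ext (hVc a.1 a.2 b.1 b.2)) θ hF hk hirr' hnt' hyp'
  -- assemble
  refine ⟨hGV, bot_le, e'.toMonoidHom, ψ, ?_, hψb.2, ?_, ?_⟩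
  · exact MonoidHom.range_eq_top.2 e'.surjective
  · intro u
    rw [Subgroup.mem_bot]
    constructor
    · intro h
      have : u = 1 := hψb.1 (by rw [h, map_one])
      rw [this]; rfl
    · intro h
      have : u = 1 := Subtype.ext h
      rw [this, map_one]
  · intro y u
    refine ⟨θ (e' y) u, hθe y u, ?_⟩
    exact hψ (e' y) u

end Cfsg.Agent.Helper97.SL2Nat
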