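import Mathlib
import Cfsg.Agent.Helper89.TT59Defs

/-!
# (S3) for S5559 (helper97 for helper89, board #8609): the case `|K| = 6`
-/

set_option autoImplicit false
set_option linter.unusedSectionVars false
set_option linter.unusedVariables false
set_option linter.style.haveILetI false

namespace Cfsg.Agent.Helper97.TT59

open Cfsg.Agent.Helper89.TT59

/-- (S3) the case `|K| = 6` -/
theorem iso_perm_three {K : Type*} [Group K] [Finite K] {P : Subgroup K} {d : K} (hS : Setup P d)
    (h6 : Nat.card K = 6) : Nonempty (K ≃* Equiv.Perm (Fin 3)) := by
  classical
  have hd1 : d ≠ 1 := fun h => hS.dP (h ▸ P.one_mem)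
  have hdinv : d⁻¹ = d := inv_eq_of_mul_eq_one_right hS.dd
  have hord : orderOf d = 2 := by
    have h2 : d ^ 2 = 1 := by rw [pow_two]; exact hS.dd
    exact orderOf_eq_prime h2 hd1
  set H : Subgroup K := Subgroup.zpowers d with hH
  have hHcard : Nat.card H = 2 := by rw [hH, Nat.card_zpowers, hord]
  have hidx : H.index = 3 := by
    have h1 : H.index * Nat.card H = Nat.card K := Subgroup.index_mul_card H
    rw [hHcard, h6] at h1
    omega
  have hcard3 : Nat.card (K ⧸ H) = 3 := by rw [← Subgroup.index_eq_card]; exact hidx
  -- elements of `H`
  have hHmem : ∀ k ∈ H, k = 1 ∨ k = d := by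
    intro k hk
    obtain ⟨n, rfl⟩ := Subgroup.mem_zpowers_iff.1 hk
    rcases Int.emod_two_eq_zero_or_one n with h | h
    · left
      have : n = 2 * (n / 2) := by omega
      rw [this, zpow_mul, zpow_ofNat, pow_two, hS.dd, one_zpow]
    · right
      have : n = 2 * (n / 2) + 1 := by omega
      rw [this, zpow_add, zpow_mul, zpow_ofNat, pow_two, hS.dd, one_zpow, one_mul, zpow_one]
  -- `d` is not central
  have hnc : ¬ ∀ g : K, g * d * g⁻¹ ∈ H := by
    intro hall
    have hcent : ∀ g : K, g * d = d * g := by
      intro g
      rcases hHmem _ (hall g) with h | h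
      · exfalso
        apply hd1
        calc d = g⁻¹ * (g * d * g⁻¹) * g := by group
          _ = 1 := by rw [h]; group
      · calc g * d = g * d * g⁻¹ * g := by group
          _ = d * g := by rw [h]
    -- all inverted elements are trivial
    have hInv : ∀ s ∈ Inv P d, s = 1 := by
      intro s hs
      have h3 := hS.pow_three hs
      have h1 : d * s * d = s := by
        rw [← hcent s, mul_assoc, hS.dd, mul_one]
      have h2 : s = s⁻¹ := h1.symm.trans hs.2
      have h4 : s * s = 1 := by
        calc s * s = s * s⁻¹ := by rw [← h2]
          _ = 1 := mul_inv_cancel s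
      calc s = s ^ 3 * (s * s)⁻¹ := by group
        _ = 1 := by rw [h3, h4]; group
    have hPbot : P = ⊥ := by
      rw [← hS.gen, Subgroup.closure_eq_bot_iff]
      intro s hs
      exact hInv s hs
    -- then `K` has at most two elements
    have hK : ∀ k : K, k = 1 ∨ k = d := by
      intro k
      rcases hS.top k with h | h
      · left
        rw [hPbot, Subgroup.mem_bot] at h
        exact h
      · right
        rw [hPbot, Subgroup.mem_bot] at h
        calc k = d⁻¹ * (d * k) := by group
          _ = d := by rw [h, mul_one, hdinv]
    have hle : Nat.card K ≤ Nat.card Bool := by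
      apply Nat.card_le_card_of_injective (fun k : K => decide (k = 1))
      intro a b hab
      have hab' : decide (a = 1) = decide (b = 1) := hab
      by_cases ha : a = 1
      · have : decide (b = 1) = true := by rw [← hab']; exact decide_eq_true ha
        rw [ha, of_decide_eq_true this]
      · have hb : b ≠ 1 := by
          intro hb
          have : decide (a = 1) = true := by rw [hab']; exact decide_eq_true hb
          exact ha (of_decide_eq_true this)
        rcases hK a with h | h
        · exact absurd h ha
        · rcases hK b with h' | h'
          · exact absurd h' hb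
          · rw [h, h']
    rw [Nat.card_eq_fintype_card (α := Bool), Fintype.card_bool, h6] at hle
    omega
  -- the action on the cosets of `H` is faithful
  let φ : K →* Equiv.Perm (K ⧸ H) := MulAction.toPermHom K (K ⧸ H)
  have hinj : Function.Injective φ := by
    rw [injective_iff_map_eq_one]
    intro k hk
    have hkker : k ∈ φ.ker := hk
    rw [← Subgroup.normalCore_eq_ker] at hkker
    rcases hHmem k (Subgroup.normalCore_le H hkker) with h | h
    · exact h
    · exfalso
      apply hnc
      intro g
      rw [← h]
      exact hkker g
  have hbij : Function.Bijective φ := by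
    apply hinj.bijective_of_nat_card_le
    rw [Nat.card_perm, hcard3, h6]
    decide
  let e : K ⧸ H ≃ Fin 3 := (Finite.equivFin (K ⧸ H)).trans (finCongr hcard3)
  exact ⟨(MulEquiv.ofBijective φ hbij).trans e.permCongrHom⟩

end Cfsg.Agent.Helper97.TT59
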