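import Mathlib
import Cfsg.Agent.Helper99.UNdDefs
import Cfsg.Agent.Helper38.PGUExist
import Cfsg.Agent.Helper13.SubInvD

/-!
# Common lemmas for the pieces (T2), (T3), (T4), (T8) of S5954 (helper97 for helper99, board #7815)
-/

set_option autoImplicit false
set_option linter.unusedSectionVars false
set_option linter.unusedVariables false

namespace Cfsg.Agent.Helper97.UNdTLib

open Matrix Polynomial
open Cfsg.Agent.Helper99.UNd
open Cfsg.Agent.Helper43.GUPrime (utilde utilde_mul utilde_pow utilde_one)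

variable {F : Type*} [Field F]

/-- `utilde` of a linear polynomial -/
theorem utilde_X_sub_C' (bar : F →+* F) (d : F) (hd : bar d ≠ 0) :
    utilde bar (X - C d : F[X]) = X - C (bar d)⁻¹ := by
  have h := Cfsg.Agent.Helper38.PGU.star_X_pow_sub_C (K := F) one_pos (bar d) hd
  unfold utilde
  rw [Polynomial.map_sub, Polynomial.map_X, Polynomial.map_C]
  rwa [pow_one] at h

/-- `utilde` swaps `X - lam` and `X + lam` when `lam` has norm `-1` -/
theorem utilde_swap {q : ℕ} (bar : F →+* F) (hbar : ∀ x, bar x = x ^ q) (lam : F)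
    (hlam : lam ^ (q + 1) = -1) :
    utilde bar (X - C lam : F[X]) = X + C lam ∧ utilde bar (X + C lam : F[X]) = X - C lam := by
  have hl0 : lam ≠ 0 := by
    intro h
    rw [h, zero_pow (Nat.succ_ne_zero q)] at hlam
    exact one_ne_zero (neg_eq_zero.1 hlam.symm)
  have hb : bar lam = lam ^ q := hbar lam
  have h1 : lam * lam ^ q = -1 := by rw [← pow_succ']; exact hlam
  have hbl : bar lam ≠ 0 := by rw [hb]; exact pow_ne_zero _ hl0
  have hinv : (bar lam)⁻¹ = -lam := by
    rw [hb]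
    apply inv_eq_of_mul_eq_one_left
    linear_combination -h1
  constructor
  · rw [utilde_X_sub_C' bar lam hbl, hinv, C_neg, sub_neg_eq_add]
  · have h3 : (X + C lam : F[X]) = X - C (-lam) := by rw [C_neg, sub_neg_eq_add]
    rw [h3, utilde_X_sub_C' bar (-lam) (by rw [map_neg]; exact neg_ne_zero.2 hbl), map_neg,
      inv_neg, hinv, neg_neg]

/-- `utilde` fixes `X - 1` and `X + 1` -/
theorem utilde_fix_one (bar : F →+* F) :
    utilde bar (X - C 1 : F[X]) = X - C 1 ∧ utilde bar (X + C 1 : F[X]) = X + C 1 := by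
  constructor
  · rw [utilde_X_sub_C' bar 1 (by rw [map_one]; exact one_ne_zero), map_one, inv_one]
  · have h3 : (X + C 1 : F[X]) = X - C (-1) := by rw [C_neg, sub_neg_eq_add]
    rw [h3, utilde_X_sub_C' bar (-1) (by rw [map_neg, map_one]; exact neg_ne_zero.2 one_ne_zero),
      map_neg, map_one, inv_neg, inv_one]

/-- a product of two-valued terms -/
theorem prod_ite_const {M : Type*} [CommMonoid M] {ι : Type*} [Fintype ι] (p : ι → Prop)
    [DecidablePred p] (x y : M) :
    ∏ i, (if p i then x else y) =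
      x ^ (Finset.univ.filter p).card * y ^ (Fintype.card ι - (Finset.univ.filter p).card) := by
  classical
  rw [Finset.prod_ite, Finset.prod_const, Finset.prod_const]
  congr 2
  have := Finset.card_filter_add_card_filter_not (s := (Finset.univ : Finset ι)) p
  rw [Finset.card_univ] at this
  omega

/-- the characteristic polynomial and determinant of a matrix whose square is the scalar `c²` -/
theorem charpoly_of_sq {n : ℕ} (h2 : (2 : F) ≠ 0) (A : Matrix (Fin n) (Fin n) F)
    (c : F) (hc : c ≠ 0) (hA : A * A = (c * c) • (1 : Matrix (Fin n) (Fin n) F)) :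
    ∃ a, a ≤ n ∧ A.charpoly = (X + C c) ^ a * (X - C c) ^ (n - a) ∧
      A.det = (-c) ^ a * c ^ (n - a) := by
  classical
  rcases Nat.eq_zero_or_pos n with rfl | hn
  · refine ⟨0, le_rfl, ?_, ?_⟩
    · rw [Matrix.charpoly_isEmpty]; simp
    · rw [Matrix.det_isEmpty]; simp
  have hYY : (c⁻¹ • A) * (c⁻¹ • A) = 1 := by
    rw [Matrix.smul_mul, Matrix.mul_smul, smul_smul, hA, smul_smul]
    have : c⁻¹ * c⁻¹ * (c * c) = 1 := by field_simp
    rw [this, one_smul]
  obtain ⟨t, P, hPdet, hP⟩ := Cfsg.Agent.Helper13.SubInv.exists_conj_dmat h2 hn (c⁻¹ • A) hYY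
  set D : Matrix (Fin n) (Fin n) F :=
    Matrix.diagonal (fun i : Fin n => if (i : ℕ) < t then -c else c) with hD
  have hcD : c • Cfsg.Agent.Helper13.SubInv.dmat n t F = D := by
    unfold Cfsg.Agent.Helper13.SubInv.dmat
    rw [hD]
    ext i j
    by_cases hij : i = j
    · subst hij
      rw [Matrix.smul_apply, Matrix.diagonal_apply_eq, Matrix.diagonal_apply_eq, smul_eq_mul]
      split_ifs <;> ring
    · rw [Matrix.smul_apply, Matrix.diagonal_apply_ne _ hij, Matrix.diagonal_apply_ne _ hij,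
        smul_zero]
  have hconj : (P⁻¹ : GL (Fin n) F).val * A * P.val = D := by
    rw [← hcD, ← hP, Matrix.mul_smul, Matrix.smul_mul, smul_smul, mul_inv_cancel₀ hc, one_smul]
  have hch : A.charpoly = D.charpoly := by
    rw [← hconj, Matrix.coe_units_inv]
    exact (Matrix.charpoly_units_conj' P A).symm
  have hdet : A.det = D.det := by
    rw [← hconj]
    exact (Matrix.det_units_conj' P A).symm
  refine ⟨(Finset.univ.filter (fun i : Fin n => (i : ℕ) < t)).card, ?_, ?_, ?_⟩
  · calc (Finset.univ.filter (fun i : Fin n => (i : ℕ) < t)).card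
        ≤ (Finset.univ : Finset (Fin n)).card := Finset.card_filter_le _ _
      _ = n := by rw [Finset.card_univ, Fintype.card_fin]
  · rw [hch, hD, Matrix.charpoly_diagonal]
    have h3 : ∀ i : Fin n, (X - C (if (i : ℕ) < t then -c else c) : F[X]) =
        if (i : ℕ) < t then (X + C c) else (X - C c) := by
      intro i
      split_ifs
      · rw [C_neg, sub_neg_eq_add]
      · rfl
    rw [Finset.prod_congr rfl (fun i _ => h3 i), prod_ite_const, Fintype.card_fin]
  · rw [hdet, hD, Matrix.det_diagonal, prod_ite_const, Fintype.card_fin]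

/-- products of `USplit`s -/
theorem usplit_mul (bar : F →+* F) {m₁ m₂ : ℕ} {f g : F[X]} (hf : USplit bar m₁ f)
    (hg : USplit bar m₂ g) : USplit bar (m₁ + m₂) (f * g) := by
  obtain ⟨f₁, f₂, hf₁, hf₂, hd₁, hu₁, hu₂, rfl⟩ := hf
  obtain ⟨g₁, g₂, hg₁, hg₂, he₁, hv₁, hv₂, rfl⟩ := hg
  refine ⟨f₁ * g₁, f₂ * g₂, hf₁.mul hg₁, hf₂.mul hg₂, ?_, ?_, ?_, by ring⟩
  · rw [hf₁.natDegree_mul hg₁, hd₁, he₁]
  · rw [utilde_mul, hu₁, hv₁]
  · rw [utilde_mul, hu₂, hv₂]

/-- powers of a `utilde`-invariant monic polynomial split -/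
theorem usplit_pow (bar : F →+* F) (G : F[X]) (hG : G.Monic) (hu : utilde bar G = G)
    (k j : ℕ) (hj : j ≤ k) : USplit bar (j * G.natDegree) (G ^ k) := by
  refine ⟨G ^ j, G ^ (k - j), hG.pow j, hG.pow (k - j), ?_, ?_, ?_, ?_⟩
  · rw [hG.natDegree_pow]
  · rw [utilde_pow, hu]
  · rw [utilde_pow, hu]
  · rw [← pow_add, Nat.add_sub_cancel' hj]

/-- an element of norm `-1` is nonzero -/
theorem ne_zero_of_norm {q : ℕ} (lam : F) (hlam : lam ^ (q + 1) = -1) : lam ≠ 0 := by
  intro h
  rw [h, zero_pow (Nat.succ_ne_zero q)] at hlam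
  exact one_ne_zero (neg_eq_zero.1 hlam.symm)

/-- if `2 ≠ 0` in a field of `q ^ 2` elements then `q` is odd -/
theorem odd_of_two_ne_zero [Fintype F] (q : ℕ) (hF : Fintype.card F = q ^ 2)
    (h2 : (2 : F) ≠ 0) : Odd q := by
  by_contra hodd
  rw [Nat.not_odd_iff_even] at hodd
  apply h2
  obtain ⟨p, hp⟩ := CharP.exists F
  obtain ⟨k, hpk, hk⟩ := FiniteField.card F p
  have h2q : 2 ∣ q ^ 2 := Dvd.dvd.pow (even_iff_two_dvd.1 hodd) two_ne_zero
  rw [← hF, hk] at h2q
  have h2p : 2 ∣ p := Nat.Prime.dvd_of_dvd_pow Nat.prime_two h2q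
  have hp2 : p = 2 := ((Nat.prime_dvd_prime_iff_eq Nat.prime_two hpk).1 h2p).symm
  subst hp2
  have := CharP.cast_eq_zero F 2
  simpa using this

/-- a 2-adic divisibility fact -/
theorem two_mul_gcd_dvd (a N : ℕ) (ha : a ≠ 0) (hN : N ≠ 0)
    (h : padicValNat 2 a < padicValNat 2 N) : 2 * Nat.gcd a N ∣ N := by
  obtain ⟨t, ht⟩ := Nat.gcd_dvd_right a N
  set g := Nat.gcd a N with hg
  rcases Nat.even_or_odd t with ⟨t', ht'⟩ | hodd
  · exact ⟨t', by
      calc N = g * t := ht
        _ = 2 * g * t' := by rw [ht']; ring⟩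
  · exfalso
    have h2e : 2 ^ padicValNat 2 N ∣ g * t := by
      rw [← ht]
      exact pow_padicValNat_dvd
    have hcop : Nat.Coprime (2 ^ padicValNat 2 N) t :=
      Nat.Coprime.pow_left _ (Nat.coprime_two_left.2 hodd)
    have h3 : 2 ^ padicValNat 2 N ∣ g := hcop.dvd_of_dvd_mul_right h2e
    have h4 : 2 ^ padicValNat 2 N ∣ a := h3.trans (Nat.gcd_dvd_left a N)
    have h5 := (padicValNat_dvd_iff_le ha).1 h4
    omega

end Cfsg.Agent.Helper97.UNdTLib
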