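import Mathlib
import Cfsg.Agent.Helper99.UNdDefs
import Cfsg.Agent.Helper97.UNdTLib

/-!
# (T2) for S5954 (helper97 for helper99, board #7815): norm-one elements are squares
-/

set_option autoImplicit false
set_option linter.unusedSectionVars false
set_option linter.unusedVariables false

namespace Cfsg.Agent.Helper97.UNdT2

open Matrix Polynomial
open Cfsg.Agent.Helper99.UNd
open Cfsg.Agent.Helper97.UNdTLib

variable {F : Type*} [Field F]

/-- (T2) norm-one elements are squares -/
theorem exists_sq_root [Fintype F] {q : ℕ} (hF : Fintype.card F = q ^ 2) (h2 : (2 : F) ≠ 0)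
    (z : F) (hz : z ^ (q + 1) = 1) :
    ∃ lam : F, lam * lam = z ∧ (lam ^ (q + 1) = 1 ∨ lam ^ (q + 1) = -1) := by
  have hq : Odd q := odd_of_two_ne_zero q hF h2
  obtain ⟨s, hs⟩ := hq
  have hz0 : z ≠ 0 := by
    intro h
    rw [h, zero_pow (Nat.succ_ne_zero q)] at hz
    exact zero_ne_one hz
  have hchar : ringChar F ≠ 2 := by
    intro h
    have : CharP F 2 := (ringChar.eq_iff).1 h
    apply h2
    have := CharP.cast_eq_zero F 2
    simpa using this
  have hcard : Fintype.card F / 2 = (q + 1) * s := by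
    rw [hF, hs]
    have : (2 * s + 1) ^ 2 = 2 * ((2 * s + 1 + 1) * s) + 1 := by ring
    rw [this]
    omega
  have hsq : IsSquare z := by
    rw [FiniteField.isSquare_iff hchar hz0, hcard, pow_mul, hz, one_pow]
  obtain ⟨lam, hl⟩ := hsq
  refine ⟨lam, hl.symm, ?_⟩
  have h3 : lam ^ (q + 1) * lam ^ (q + 1) = 1 := by
    rw [← mul_pow, ← hl, hz]
  exact mul_self_eq_one_iff.1 h3

end Cfsg.Agent.Helper97.UNdT2
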