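import Mathlib
import Cfsg.Agent.Helper99.UNdDefs
import Cfsg.Agent.Helper97.UNdTLib

/-!
# (T3) for S5954 (helper97 for helper99, board #7815): involutions split in every degree
-/

set_option autoImplicit false
set_option linter.unusedSectionVars false
set_option linter.unusedVariables false

namespace Cfsg.Agent.Helper97.UNdT3

open Matrix Polynomial
open Cfsg.Agent.Helper99.UNd
open Cfsg.Agent.Helper43.GUPrime (utilde)
open Cfsg.Agent.Helper97.UNdTLib

variable {F : Type*} [Field F]

/-- (T3) involutions split in every degree -/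
theorem usplit_of_sq_eq_one (bar : F →+* F) (h2 : (2 : F) ≠ 0) {n m : ℕ} (hmn : m ≤ n)
    (A : Matrix (Fin n) (Fin n) F) (hA : A ^ 2 = 1) : USplit bar m A.charpoly := by
  have hAA : A * A = ((1 : F) * 1) • (1 : Matrix (Fin n) (Fin n) F) := by
    rw [← pow_two, hA, mul_one, one_smul]
  obtain ⟨a, han, hch, -⟩ := charpoly_of_sq h2 A 1 one_ne_zero hAA
  rw [hch]
  obtain ⟨hm1, hp1⟩ := utilde_fix_one (F := F) bar
  have h1 := usplit_pow bar (X + C 1) (monic_X_add_C 1) hp1 a (min m a) (min_le_right _ _)
  have h2' := usplit_pow bar (X - C 1) (monic_X_sub_C 1) hm1 (n - a) (m - min m a) (by omega)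
  have h3 := usplit_mul bar h1 h2'
  rw [natDegree_X_add_C, natDegree_X_sub_C, mul_one, mul_one] at h3
  have e : min m a + (m - min m a) = m := by omega
  rwa [e] at h3

end Cfsg.Agent.Helper97.UNdT3
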