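import Mathlib
import Cfsg.Agent.Helper99.UNdDefs
import Cfsg.Agent.Helper97.UNdTLib

/-!
# (T8) for S5954 (helper97 for helper99, board #7815): no odd-degree `utilde`-invariant factor in
the non-square case
-/

set_option autoImplicit false
set_option linter.unusedSectionVars false
set_option linter.unusedVariables false

namespace Cfsg.Agent.Helper97.UNdT8

open Matrix Polynomial
open Cfsg.Agent.Helper99.UNd
open Cfsg.Agent.Helper43.GUPrime (utilde utilde_mul utilde_pow)
open Cfsg.Agent.Helper97.UNdTLib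

variable {F : Type*} [Field F]

/-- root multiplicity of `(X - lam)^i (X + lam)^j` at `lam` -/
theorem rootMultiplicity_pair (h2 : (2 : F) ≠ 0) (lam : F) (hl0 : lam ≠ 0) (i j : ℕ) :
    rootMultiplicity lam ((X - C lam : F[X]) ^ i * (X + C lam) ^ j) = i := by
  have hne : ((X - C lam : F[X]) ^ i * (X + C lam) ^ j) ≠ 0 :=
    mul_ne_zero (pow_ne_zero _ (X_sub_C_ne_zero lam))
      (pow_ne_zero _ (monic_X_add_C lam).ne_zero)
  rw [rootMultiplicity_mul hne, rootMultiplicity_X_sub_C_pow]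
  have hnr : ¬ IsRoot ((X + C lam : F[X]) ^ j) lam := by
    rw [IsRoot.def, eval_pow, eval_add, eval_X, eval_C]
    apply pow_ne_zero
    intro h
    have : (2 : F) * lam = 0 := by linear_combination h
    rcases mul_eq_zero.1 this with h | h
    · exact h2 h
    · exact hl0 h
  rw [rootMultiplicity_eq_zero hnr, add_zero]

/-- (T8) no odd-degree `utilde`-invariant factor in the non-square case -/
theorem not_usplit_sq [Fintype F] {q : ℕ} (hF : Fintype.card F = q ^ 2)
    (bar : F →+* F) (hbar : ∀ x, bar x = x ^ q) (h2 : (2 : F) ≠ 0) (lam : F)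
    (hlam : lam ^ (q + 1) = -1) (k m : ℕ) (hm : Odd m) :
    ¬ USplit bar m ((X ^ 2 - C (lam * lam) : F[X]) ^ k) := by
  rintro ⟨f₁, f₂, hf₁, hf₂, hd, hu₁, hu₂, hf⟩
  obtain ⟨hsw1, hsw2⟩ := utilde_swap bar hbar lam hlam
  have hl0 : lam ≠ 0 := ne_zero_of_norm lam hlam
  have hadd : (X + C lam : F[X]) = X - C (-lam) := by rw [C_neg, sub_neg_eq_add]
  have hfac : (X ^ 2 - C (lam * lam) : F[X]) = (X - C lam) * (X + C lam) := by
    rw [C_mul]; ring
  have hdvd : f₁ ∣ (X - C lam) ^ k * (X + C lam) ^ k := by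
    rw [← mul_pow, ← hfac, hf]
    exact dvd_mul_right _ _
  obtain ⟨a₁, a₂, h₁, h₂, he⟩ := exists_dvd_and_dvd_of_dvd_mul hdvd
  obtain ⟨i, hi, hai⟩ := (dvd_prime_pow (prime_X_sub_C lam) k).1 h₁
  have hp2 : Prime (X + C lam : F[X]) := by rw [hadd]; exact prime_X_sub_C (-lam)
  obtain ⟨j, hj, haj⟩ := (dvd_prime_pow hp2 k).1 h₂
  have hassoc : Associated f₁ ((X - C lam) ^ i * (X + C lam) ^ j) := by
    rw [he]
    exact hai.mul_mul haj
  have hmon : ((X - C lam : F[X]) ^ i * (X + C lam) ^ j).Monic :=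
    ((monic_X_sub_C lam).pow i).mul ((monic_X_add_C lam).pow j)
  have hf₁eq : f₁ = (X - C lam) ^ i * (X + C lam) ^ j :=
    eq_of_monic_of_associated hf₁ hmon hassoc
  have hut : utilde bar f₁ = (X - C lam) ^ j * (X + C lam) ^ i := by
    rw [hf₁eq, utilde_mul, utilde_pow, utilde_pow, hsw1, hsw2, mul_comm]
  have hij : i = j := by
    have e1 := rootMultiplicity_pair h2 lam hl0 i j
    have e2 := rootMultiplicity_pair h2 lam hl0 j i
    rw [← hf₁eq] at e1
    rw [← hut, hu₁] at e2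
    rw [← e1, e2]
  have hdeg : f₁.natDegree = i + j := by
    rw [hf₁eq, ((monic_X_sub_C lam).pow i).natDegree_mul ((monic_X_add_C lam).pow j),
      (monic_X_sub_C lam).natDegree_pow, (monic_X_add_C lam).natDegree_pow, natDegree_X_sub_C,
      natDegree_X_add_C, mul_one, mul_one]
  rw [hd, ← hij] at hdeg
  obtain ⟨s, hs⟩ := hm
  omega

end Cfsg.Agent.Helper97.UNdT8
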