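import Mathlib
import Cfsg.Agent.Helper99.UNdDefs
import Cfsg.Agent.Helper97.UNdTLib
import Cfsg.Agent.Helper97.UNdT8

/-!
# (T4) for S5954 (helper97 for helper99, board #7815): the non-square case
-/

set_option autoImplicit false
set_option linter.unusedSectionVars false
set_option linter.unusedVariables false

namespace Cfsg.Agent.Helper97.UNdT4

open Matrix Polynomial
open Cfsg.Agent.Helper99.UNd
open Cfsg.Agent.Helper43.GUPrime (utilde utilde_mul utilde_pow)
open Cfsg.Agent.Helper97.UNdTLib
open Cfsg.Agent.Helper97.UNdT8 (rootMultiplicity_pair)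

variable {F : Type*} [Field F]

/-- (T4) the non-square case -/
theorem usplit_of_sq_nonsquare [Fintype F] {q : ℕ} (hF : Fintype.card F = q ^ 2)
    (bar : F →+* F) (hbar : ∀ x, bar x = x ^ q) (h2 : (2 : F) ≠ 0) {n m : ℕ} (hmn : m ≤ n)
    (A : Matrix (Fin n) (Fin n) F) (hu : utilde bar A.charpoly = A.charpoly) (hdet : A.det = 1)
    (lam : F) (hlam : lam ^ (q + 1) = -1)
    (hAsq : A ^ 2 = (lam * lam) • (1 : Matrix (Fin n) (Fin n) F))
    (hcond : Odd n ∨ Even m ∨ (padicValNat 2 n ≤ padicValNat 2 (q + 1) ∧ q % 4 = 3)) :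
    USplit bar m A.charpoly := by
  have hl0 : lam ≠ 0 := ne_zero_of_norm lam hlam
  obtain ⟨a, han, hch, hdetA⟩ := charpoly_of_sq h2 A lam hl0 (by rw [← pow_two]; exact hAsq)
  obtain ⟨hsw1, hsw2⟩ := utilde_swap bar hbar lam hlam
  have hu' : (X - C lam : F[X]) ^ a * (X + C lam) ^ (n - a) =
      (X - C lam) ^ (n - a) * (X + C lam) ^ a := by
    rw [hch, utilde_mul, utilde_pow, utilde_pow, hsw1, hsw2] at hu
    rw [hu, mul_comm]
  have hna : a = n - a := by
    have e1 := rootMultiplicity_pair h2 lam hl0 a (n - a)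
    have e2 := rootMultiplicity_pair h2 lam hl0 (n - a) a
    rw [hu'] at e1
    omega
  have hn2 : n = 2 * a := by omega
  -- the quadratic factor
  set G : F[X] := (X + C lam) * (X - C lam) with hG
  have hGm : G.Monic := (monic_X_add_C lam).mul (monic_X_sub_C lam)
  have hGu : utilde bar G = G := by
    rw [hG, utilde_mul, hsw1, hsw2, mul_comm]
  have hGd : G.natDegree = 2 := by
    rw [hG, (monic_X_add_C lam).natDegree_mul (monic_X_sub_C lam), natDegree_X_add_C,
      natDegree_X_sub_C]
  have hchG : A.charpoly = G ^ a := by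
    rw [hch, ← hna, hG, mul_pow]
  have heven : Even m → USplit bar m A.charpoly := by
    rintro ⟨s, hs⟩
    have h3 := usplit_pow bar G hGm hGu a s (by omega)
    rw [hGd] at h3
    have e : s * 2 = m := by omega
    rw [e, ← hchG] at h3
    exact h3
  rcases hcond with hodd | hev | ⟨hv, hq4⟩
  · exfalso
    rw [hn2] at hodd
    exact (Nat.not_odd_iff_even.2 (even_two_mul a)) hodd
  · exact heven hev
  · by_cases hev : Even m
    · exact heven hev
    · exfalso
      have hmodd : Odd m := Nat.not_even_iff_odd.1 hev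
      have hm1 : 1 ≤ m := by
        obtain ⟨s, hs⟩ := hmodd
        omega
      have ha0 : a ≠ 0 := by omega
      -- the element `w = -(lam²)`
      set w : F := -(lam * lam) with hw
      have hwa : w ^ a = 1 := by
        rw [← hdet, hdetA, ← hna, ← mul_pow, hw]
        congr 1
        ring
      obtain ⟨u, hu4⟩ : ∃ u, q + 1 = 4 * u := ⟨(q + 1) / 4, by omega⟩
      have hw2 : w ^ 2 = lam ^ 4 := by rw [hw]; ring
      have hl4 : lam ^ (4 * u) = -1 := by rw [← hu4]; exact hlam
      have hwq : w ^ (q + 1) = 1 := by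
        have : 4 * u = 2 * (2 * u) := by ring
        rw [hu4, this, pow_mul, hw2, ← pow_mul, show 4 * (2 * u) = (4 * u) * 2 by ring, pow_mul,
          hl4]
        ring
      have hwh : w ^ (2 * u) = -1 := by
        rw [pow_mul, hw2, ← pow_mul, hl4]
      -- 2-adic valuations
      have hva : padicValNat 2 n = padicValNat 2 a + 1 := by
        rw [hn2, padicValNat.mul two_ne_zero ha0, padicValNat_self, add_comm]
      have hlt : padicValNat 2 a < padicValNat 2 (q + 1) := by omega
      have hdvd := two_mul_gcd_dvd a (q + 1) ha0 (Nat.succ_ne_zero q) hlt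
      have hwg : w ^ Nat.gcd a (q + 1) = 1 := pow_gcd_eq_one.2 ⟨hwa, hwq⟩
      obtain ⟨t, ht⟩ := hdvd
      have h2u : 2 * u = Nat.gcd a (q + 1) * t := by
        have : 2 * (2 * u) = 2 * (Nat.gcd a (q + 1) * t) := by
          rw [← mul_assoc 2 (Nat.gcd a (q + 1)) t, ← ht, hu4]; ring
        omega
      have hone : w ^ (2 * u) = 1 := by
        rw [h2u, pow_mul, hwg, one_pow]
      rw [hone] at hwh
      apply h2
      have : (2 : F) = 1 - (-1) := by ring
      rw [this, ← hwh]
      ring

end Cfsg.Agent.Helper97.UNdT4
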